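import Mathlib
import Cfsg.Prelude.Def_Characters
import Cfsg.Prelude.Def_Perm

/-!
# Permutation characters and intertwining maps

Basic facts relating `Cfsg.permRep`, the permutation character `g ↦ |fix g|`,
`Cfsg.classInner` and the space of intertwining maps.
-/

set_option autoImplicit false

namespace Cfsg.Agent.PermutationGroups.PermChar

open Representation Module

section General

variable {G V W : Type*} [Group G] [AddCommGroup V] [Module ℂ V] [FiniteDimensional ℂ V]
  [AddCommGroup W] [Module ℂ W] [FiniteDimensional ℂ W]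

open scoped ComplexOrder in
/-- the character at the inverse is the complex conjugate -/
theorem char_inv_eq_conj [Finite G] (ρ : Representation ℂ G V) (g : G) :
    ρ.character g⁻¹ = (starRingEnd ℂ) (ρ.character g) := by
  classical
  cases nonempty_fintype G
  let b := Module.finBasis ℂ V
  let M : G → Matrix (Fin (finrank ℂ V)) (Fin (finrank ℂ V)) ℂ := fun h => LinearMap.toMatrix b b (ρ h)
  have hM : ∀ x y, M (x * y) = M x * M y := by
    intro x y
    simp only [M, map_mul]
    exact LinearMap.toMatrix_mul b (ρ x) (ρ y)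
  have hM1 : M 1 = 1 := by simp [M]
  have htr : ∀ x, ρ.character x = (M x).trace := by
    intro x
    exact LinearMap.trace_eq_matrix_trace ℂ b (ρ x)
  let H : Matrix (Fin (finrank ℂ V)) (Fin (finrank ℂ V)) ℂ := ∑ h : G, (M h).conjTranspose * M h
  have hH : H.PosDef := by
    have h1 : H = 1 + ∑ h ∈ Finset.univ.erase (1 : G), (M h).conjTranspose * M h := by
      have := Finset.add_sum_erase Finset.univ (fun h : G => (M h).conjTranspose * M h)
        (Finset.mem_univ (1 : G))
      simp only [H]
      rw [← this, hM1]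
      simp
    rw [h1]
    refine Matrix.PosDef.one.add_posSemidef ?_
    exact Matrix.posSemidef_sum _ (fun h _ => Matrix.posSemidef_conjTranspose_mul_self (M h))
  have hU : IsUnit H := hH.isUnit
  have key : (M g).conjTranspose * H * M g = H := by
    simp only [H]
    rw [Finset.mul_sum, Finset.sum_mul]
    refine Fintype.sum_equiv (_root_.Equiv.mulRight g) _ _ (fun h => ?_)
    simp only [_root_.Equiv.coe_mulRight, hM, Matrix.conjTranspose_mul, Matrix.mul_assoc]
  have key2 : (M g).conjTranspose * H = H * M g⁻¹ := by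
    have h2 : M g * M g⁻¹ = 1 := by rw [← hM, mul_inv_cancel, hM1]
    calc (M g).conjTranspose * H = (M g).conjTranspose * H * (M g * M g⁻¹) := by rw [h2, mul_one]
      _ = ((M g).conjTranspose * H * M g) * M g⁻¹ := by simp only [Matrix.mul_assoc]
      _ = H * M g⁻¹ := by rw [key]
  have hdet : IsUnit H.det := (Matrix.isUnit_iff_isUnit_det H).mp hU
  have key3 : (M g).conjTranspose = H * M g⁻¹ * H⁻¹ := by
    rw [← key2, Matrix.mul_assoc, Matrix.mul_nonsing_inv _ hdet, mul_one]
  have h4 : (starRingEnd ℂ) (ρ.character g) = (M g).conjTranspose.trace := by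
    rw [htr g, Matrix.trace_conjTranspose]; rfl
  rw [h4, key3, Matrix.trace_mul_comm, ← Matrix.mul_assoc, Matrix.nonsing_inv_mul _ hdet, one_mul,
    htr]

/-- the inner product of two characters is the dimension of the space of intertwining maps -/
theorem classInner_eq_finrank [Fintype G] (ρ : Representation ℂ G V) (σ : Representation ℂ G W) :
    Cfsg.classInner σ.character ρ.character = (finrank ℂ (ρ.IntertwiningMap σ) : ℂ) := by
  classical
  have : (Nat.card G : ℂ) ≠ 0 := by exact_mod_cast Nat.card_pos.ne'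
  let _ : Invertible (Nat.card G : ℂ) := invertibleOfNonzero this
  rw [← card_inv_mul_sum_char_mul_char_eq_finrank ρ σ]
  unfold Cfsg.classInner
  congr 1
  refine Finset.sum_congr rfl (fun g _ => ?_)
  rw [char_inv_eq_conj]

/-- an equivalence of representations induces an order isomorphism between the lattices of
subrepresentations -/
noncomputable def subrepOrderIso {ρ : Representation ℂ G V} {σ : Representation ℂ G W}
    (E : ρ.Equiv σ) : Subrepresentation ρ ≃o Subrepresentation σ where
  toFun S := ⟨S.toSubmodule.map E.toLinearEquiv.toLinearMap, by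
    rintro g _ ⟨v, hv, rfl⟩
    exact ⟨ρ g v, S.apply_mem_toSubmodule g hv, E.toIntertwiningMap.isIntertwining ρ σ g v⟩⟩
  invFun S := ⟨S.toSubmodule.map E.symm.toLinearEquiv.toLinearMap, by
    rintro g _ ⟨v, hv, rfl⟩
    exact ⟨σ g v, S.apply_mem_toSubmodule g hv,
      E.symm.toIntertwiningMap.isIntertwining σ ρ g v⟩⟩
  left_inv S := by
    apply Subrepresentation.toSubmodule_injective
    ext v
    constructor
    · rintro ⟨_, ⟨w, hw, rfl⟩, rfl⟩
      have : E.symm (E w) = w := E.symm_apply_apply w
      change E.symm (E w) ∈ _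
      rw [this]
      exact hw
    · intro hv
      exact ⟨E v, ⟨v, hv, rfl⟩, E.symm_apply_apply v⟩
  right_inv S := by
    apply Subrepresentation.toSubmodule_injective
    ext v
    constructor
    · rintro ⟨_, ⟨w, hw, rfl⟩, rfl⟩
      have : E (E.symm w) = w := E.apply_symm_apply w
      change E (E.symm w) ∈ _
      rw [this]
      exact hw
    · intro hv
      exact ⟨E.symm v, ⟨v, hv, rfl⟩, E.apply_symm_apply v⟩
  map_rel_iff' := by
    intro S T
    constructor
    · intro h v hv
      have h1 : E v ∈ (⟨T.toSubmodule.map E.toLinearEquiv.toLinearMap, by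
        rintro g _ ⟨v, hv, rfl⟩
        exact ⟨ρ g v, T.apply_mem_toSubmodule g hv, E.toIntertwiningMap.isIntertwining ρ σ g v⟩⟩ :
          Subrepresentation σ) := h ⟨v, hv, rfl⟩
      obtain ⟨w, hw, hwv⟩ := h1
      have : w = v := E.toLinearEquiv.injective hwv
      rw [← this]
      exact hw
    · rintro h _ ⟨v, hv, rfl⟩
      exact ⟨v, h hv, rfl⟩

omit [FiniteDimensional ℂ V] [FiniteDimensional ℂ W] in
theorem irreducible_of_equiv {ρ : Representation ℂ G V} {σ : Representation ℂ G W}
    (E : ρ.Equiv σ) (h : ρ.IsIrreducible) : σ.IsIrreducible :=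
  ((subrepOrderIso E).isSimpleOrder_iff).mp h

/-- any finite-dimensional representation is equivalent to one on a coordinate space -/
theorem exists_coord (ρ : Representation ℂ G V) :
    ∃ σ : Representation ℂ G (Fin (finrank ℂ V) → ℂ), Nonempty (ρ.Equiv σ) := by
  classical
  let e : V ≃ₗ[ℂ] (Fin (finrank ℂ V) → ℂ) := (Module.finBasis ℂ V).equivFun
  refine ⟨
    { toFun := fun g => e.conj (ρ g)
      map_one' := by
        refine LinearMap.ext (fun v => ?_)
        simp [LinearEquiv.conj_apply]
      map_mul' := by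
        intro x y
        rw [map_mul]
        refine LinearMap.ext (fun v => ?_)
        simp [LinearEquiv.conj_apply] }, ⟨Representation.Equiv.mk e ?_⟩⟩
  intro g
  refine LinearMap.ext (fun v => ?_)
  change e (ρ g v) = e.conj (ρ g) (e v)
  simp [LinearEquiv.conj_apply]

/-- an irreducible representation on any finite-dimensional space gives an irreducible
character in the sense of `Cfsg.IsIrrCharacter` -/
theorem isIrr_of_rep (ρ : Representation ℂ G V) (hρ : ρ.IsIrreducible) :
    Cfsg.IsIrrCharacter G ρ.character := by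
  obtain ⟨σ, ⟨E⟩⟩ := exists_coord ρ
  exact ⟨_, σ, irreducible_of_equiv E hρ, (char_iso E).symm⟩

theorem isCharacter_of_rep (ρ : Representation ℂ G V) :
    Cfsg.IsCharacter G ρ.character := by
  obtain ⟨σ, ⟨E⟩⟩ := exists_coord ρ
  exact ⟨_, σ, (char_iso E).symm⟩

omit [FiniteDimensional ℂ V] [FiniteDimensional ℂ W] in
/-- Maschke: a nonzero intertwining map out of an irreducible representation has a retraction -/
theorem exists_retraction [Finite G] {ρ : Representation ℂ G V} {σ : Representation ℂ G W}
    (hρ : ρ.IsIrreducible) (φ : ρ.IntertwiningMap σ) (hφ : φ ≠ 0) :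
    ∃ ψ : σ.IntertwiningMap ρ, ∀ v, ψ (φ v) = v := by
  have hinj : Function.Injective φ := (IsIrreducible.injective_or_eq_zero φ).resolve_right hφ
  have : NeZero (Nat.card G : ℂ) := ⟨by exact_mod_cast Nat.card_pos.ne'⟩
  obtain ⟨g, hg⟩ := MonoidAlgebra.exists_leftInverse_of_injective
    (IntertwiningMap.equivLinearMapAsModule ρ σ φ) (LinearMap.ker_eq_bot.mpr hinj)
  refine ⟨(IntertwiningMap.equivLinearMapAsModule σ ρ).symm g, fun v => ?_⟩
  exact congrArg (fun f => f v) hg

omit [FiniteDimensional ℂ W] in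
theorem irreducible_toRepresentation {σ : Representation ℂ G W} {S : Subrepresentation σ}
    (hS : IsAtom S) : S.toRepresentation.IsIrreducible := by
  have hne : (⊥ : Subrepresentation S.toRepresentation) ≠ ⊤ := by
    intro h
    apply hS.1
    rw [eq_bot_iff]
    intro v hv
    have h1 : (⟨v, hv⟩ : S.toSubmodule) ∈ (⊤ : Subrepresentation S.toRepresentation) := trivial
    rw [← h] at h1
    have h2 : (⟨v, hv⟩ : S.toSubmodule) = 0 := h1
    have h3 : v = 0 := congrArg Subtype.val h2
    rw [h3]
    exact Submodule.zero_mem _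
  refine { exists_pair_ne := ⟨⊥, ⊤, hne⟩, eq_bot_or_eq_top := fun A => ?_ }
  let A' : Subrepresentation σ := ⟨A.toSubmodule.map S.toSubmodule.subtype, by
    rintro g _ ⟨v, hv, rfl⟩
    exact ⟨S.toRepresentation g v, A.apply_mem_toSubmodule g hv, rfl⟩⟩
  have hA' : A' ≤ S := by
    rintro _ ⟨v, hv, rfl⟩
    exact v.2
  rcases hS.le_iff.mp hA' with h | h
  · left
    rw [eq_bot_iff]
    intro v hv
    have h1 : (v : W) ∈ A' := ⟨v, hv, rfl⟩
    rw [h] at h1
    have h2 : (v : W) = 0 := h1
    have h3 : v = 0 := Subtype.ext h2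
    rw [h3]
    exact Submodule.zero_mem _
  · right
    rw [eq_top_iff]
    intro v _
    have h1 : (v : W) ∈ A' := by rw [h]; exact v.2
    obtain ⟨w, hw, hwv⟩ := h1
    have h3 : w = v := Subtype.ext hwv
    rw [← h3]
    exact hw

/-- the inclusion of a subrepresentation, as an intertwining map -/
def subInclusion {σ : Representation ℂ G W} (S : Subrepresentation σ) :
    S.toRepresentation.IntertwiningMap σ where
  toLinearMap := S.toSubmodule.subtype
  isIntertwining' _ := rfl

omit [FiniteDimensional ℂ W] in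
theorem subInclusion_apply {σ : Representation ℂ G W} (S : Subrepresentation σ)
    (v : S.toSubmodule) : subInclusion S v = (v : W) := rfl

omit [FiniteDimensional ℂ W] in
/-- a nonzero intertwining map is nonzero on some irreducible subrepresentation -/
theorem exists_irreducible_ne_zero [Finite G] {U : Type*} [AddCommGroup U] [Module ℂ U]
    {σ : Representation ℂ G W} {τ : Representation ℂ G U} (T : σ.IntertwiningMap τ) (hT : T ≠ 0) :
    ∃ S : Subrepresentation σ, S.toRepresentation.IsIrreducible ∧ T.comp (subInclusion S) ≠ 0 := by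
  by_contra hcon
  push Not at hcon
  apply hT
  have : NeZero (Nat.card G : ℂ) := ⟨by exact_mod_cast Nat.card_pos.ne'⟩
  have htop := IsSemisimpleModule.sSup_simples_eq_top (MonoidAlgebra ℂ G) σ.asModule
  have hker : sSup {m : Submodule (MonoidAlgebra ℂ G) σ.asModule | IsSimpleModule (MonoidAlgebra ℂ G) m}
      ≤ LinearMap.ker (IntertwiningMap.equivLinearMapAsModule σ τ T) := by
    apply sSup_le
    intro m hm
    have hm' : IsAtom m := isSimpleModule_iff_isAtom.mp hm
    let S : Subrepresentation σ := Subrepresentation.subrepresentationSubmoduleOrderIso.symm m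
    have hS : IsAtom S :=
      (Subrepresentation.subrepresentationSubmoduleOrderIso.symm.isAtom_iff m).mpr hm'
    have h0 := hcon S (irreducible_toRepresentation hS)
    intro v hv
    have hvS : v ∈ S.toSubmodule := hv
    have h1 : (T.comp (subInclusion S)) ⟨v, hvS⟩ = 0 := by rw [h0]; rfl
    exact h1
  rw [htop] at hker
  ext v
  have hv : (σ.asModuleEquiv.symm v) ∈
      LinearMap.ker (IntertwiningMap.equivLinearMapAsModule σ τ T) := hker Submodule.mem_top
  exact hv

/-- Schur -/
theorem schur {ρ : Representation ℂ G V} (hρ : ρ.IsIrreducible) (T : ρ.IntertwiningMap ρ) :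
    ∃ c : ℂ, ∀ v, T v = c • v := by
  obtain ⟨c, hc⟩ := (IsIrreducible.algebraMap_intertwiningMap_bijective_of_isAlgClosed (ρ := ρ)).2 T
  refine ⟨c, fun v => ?_⟩
  rw [← hc]
  rfl

omit [FiniteDimensional ℂ V] in
theorem exists_ne_zero_vec {ρ : Representation ℂ G V} (hρ : ρ.IsIrreducible) : ∃ v : V, v ≠ 0 := by
  by_contra hcon
  push Not at hcon
  apply (bot_ne_top : (⊥ : Subrepresentation ρ) ≠ ⊤)
  ext v
  rw [hcon v]
  exact ⟨fun _ => trivial, fun _ => Submodule.zero_mem _⟩

omit [FiniteDimensional ℂ W] in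
/-- if the endomorphism ring of `σ` is commutative then every irreducible occurs at most once -/
theorem finrank_le_one_of_comm [Finite G] {ρ : Representation ℂ G V} {σ : Representation ℂ G W}
    (hρ : ρ.IsIrreducible)
    (hcomm : ∀ S T : σ.IntertwiningMap σ, ∀ w, S (T w) = T (S w))
    (φ₁ φ₂ : ρ.IntertwiningMap σ) (h₁ : φ₁ ≠ 0) : ∃ c : ℂ, c • φ₁ = φ₂ := by
  obtain ⟨ψ₁, hψ₁⟩ := exists_retraction hρ φ₁ h₁
  obtain ⟨c, hc⟩ := schur hρ (ψ₁.comp φ₂)
  refine ⟨c, ?_⟩
  by_contra hne
  have hφ' : φ₂ - c • φ₁ ≠ 0 := by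
    intro h
    exact hne (sub_eq_zero.mp h).symm
  obtain ⟨ψ', hψ'⟩ := exists_retraction hρ _ hφ'
  have h0 : ∀ v, ψ₁ ((φ₂ - c • φ₁) v) = 0 := by
    intro v
    have h2 : (φ₂ - c • φ₁) v = φ₂ v - c • φ₁ v := rfl
    rw [h2, map_sub, map_smul, hψ₁]
    have h3 : ψ₁ (φ₂ v) = c • v := hc v
    rw [h3, sub_self]
  obtain ⟨v, hv⟩ := exists_ne_zero_vec hρ
  apply hv
  have h4 := hcomm (φ₁.comp ψ') ((φ₂ - c • φ₁).comp ψ₁) (φ₁ v)
  have h5 : (φ₁.comp ψ') (((φ₂ - c • φ₁).comp ψ₁) (φ₁ v)) = φ₁ v := by
    change φ₁ (ψ' ((φ₂ - c • φ₁) (ψ₁ (φ₁ v)))) = φ₁ v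
    rw [hψ₁, hψ']
  have h6 : ((φ₂ - c • φ₁).comp ψ₁) ((φ₁.comp ψ') (φ₁ v)) = (φ₂ - c • φ₁) (ψ' (φ₁ v)) := by
    change (φ₂ - c • φ₁) (ψ₁ (φ₁ (ψ' (φ₁ v)))) = _
    rw [hψ₁]
  rw [h5, h6] at h4
  have h7 := congrArg ψ₁ h4
  rw [hψ₁, h0] at h7
  exact h7

/-- if every irreducible constituent occurs once then the endomorphism ring is commutative -/
theorem comm_of_mult_free [Finite G] {σ : Representation ℂ G W}
    (h : ∀ S : Subrepresentation σ, S.toRepresentation.IsIrreducible →
      finrank ℂ (S.toRepresentation.IntertwiningMap σ) ≤ 1) :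
    ∀ S T : σ.IntertwiningMap σ, ∀ w, S (T w) = T (S w) := by
  intro S T w
  by_contra hne
  have hU : S.comp T - T.comp S ≠ 0 := by
    intro h0
    apply hne
    have h1 : (S.comp T - T.comp S) w = 0 := by rw [h0]; rfl
    exact sub_eq_zero.mp h1
  obtain ⟨A, hA, hAne⟩ := exists_irreducible_ne_zero _ hU
  apply hAne
  have hι : subInclusion A ≠ 0 := by
    intro h0
    apply hAne
    rw [h0]
    ext v
    change (S.comp T - T.comp S) 0 = 0
    exact map_zero _
  have hfr : finrank ℂ (A.toRepresentation.IntertwiningMap σ) = 1 := by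
    refine le_antisymm (h A hA) ?_
    rw [Nat.one_le_iff_ne_zero]
    intro h0
    have := Module.finrank_zero_iff.mp h0
    exact hι (Subsingleton.elim _ _)
  have hspan := (finrank_eq_one_iff_of_nonzero' (subInclusion A) hι).mp hfr
  obtain ⟨c, hc⟩ := hspan (S.comp (subInclusion A))
  obtain ⟨d, hd⟩ := hspan (T.comp (subInclusion A))
  ext v
  have hc' : ∀ v, S (subInclusion A v) = c • subInclusion A v := fun v =>
    (congrArg (fun f => f v) hc).symm
  have hd' : ∀ v, T (subInclusion A v) = d • subInclusion A v := fun v =>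
    (congrArg (fun f => f v) hd).symm
  change S (T (subInclusion A v)) - T (S (subInclusion A v)) = 0
  rw [hd', hc', map_smul, map_smul, hc', hd', smul_comm, sub_self]

end General

section Perm

variable {G Ω : Type*} [Group G] [Fintype Ω] [MulAction G Ω]

omit [Fintype Ω] in
theorem permRep_apply (g : G) (f : Ω → ℂ) (x : Ω) :
    Cfsg.permRep ℂ G Ω g f x = f (g⁻¹ • x) := rfl

omit [Fintype Ω] in
theorem permRep_single [DecidableEq Ω] (g : G) (a : Ω) (c : ℂ) :
    Cfsg.permRep ℂ G Ω g (Pi.single a c) = Pi.single (g • a) c := by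
  funext x
  rw [permRep_apply]
  by_cases h : x = g • a
  · subst h
    simp
  · rw [Pi.single_eq_of_ne h, Pi.single_eq_of_ne]
    intro h2
    apply h
    rw [← h2, smul_inv_smul]

/-- the character of the permutation representation counts fixed points -/
theorem permRep_character (g : G) :
    (Cfsg.permRep ℂ G Ω).character g = (Nat.card (MulAction.fixedBy Ω g) : ℂ) := by
  classical
  have h1 : (Cfsg.permRep ℂ G Ω).character g
      = (LinearMap.toMatrix (Pi.basisFun ℂ Ω) (Pi.basisFun ℂ Ω) (Cfsg.permRep ℂ G Ω g)).trace :=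
    LinearMap.trace_eq_matrix_trace ℂ (Pi.basisFun ℂ Ω) _
  rw [h1, Matrix.trace]
  have h2 : ∀ x : Ω, (LinearMap.toMatrix (Pi.basisFun ℂ Ω) (Pi.basisFun ℂ Ω)
      (Cfsg.permRep ℂ G Ω g)).diag x = if g • x = x then 1 else 0 := by
    intro x
    rw [Matrix.diag_apply, LinearMap.toMatrix_apply]
    simp only [Pi.basisFun_apply, Pi.basisFun_repr]
    rw [permRep_single, Pi.single_apply]
    simp only [eq_comm]
  simp only [h2]
  rw [Finset.sum_boole]
  congr 1
  rw [Nat.card_eq_fintype_card, Fintype.card_subtype]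
  rfl

theorem permChar_eq :
    (fun g : G => (Nat.card (MulAction.fixedBy Ω g) : ℂ)) = (Cfsg.permRep ℂ G Ω).character := by
  funext g
  exact (permRep_character g).symm

theorem classInner_permChar [Fintype G] {V : Type*} [AddCommGroup V] [Module ℂ V]
    [FiniteDimensional ℂ V] (ρ : Representation ℂ G V) :
    Cfsg.classInner (fun g : G => (Nat.card (MulAction.fixedBy Ω g) : ℂ)) ρ.character
      = (finrank ℂ (ρ.IntertwiningMap (Cfsg.permRep ℂ G Ω)) : ℂ) := by
  rw [permChar_eq, classInner_eq_finrank]

/-- an irreducible representation occurs in the permutation representation iff its multiplicity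
`classInner` is nonzero -/
theorem exists_intertwining_of_classInner_ne_zero [Fintype G] {V : Type*} [AddCommGroup V]
    [Module ℂ V] [FiniteDimensional ℂ V] (ρ : Representation ℂ G V)
    (h : Cfsg.classInner (fun g : G => (Nat.card (MulAction.fixedBy Ω g) : ℂ)) ρ.character ≠ 0) :
    ∃ φ : ρ.IntertwiningMap (Cfsg.permRep ℂ G Ω), φ ≠ 0 := by
  rw [classInner_permChar] at h
  by_contra hcon
  push Not at hcon
  apply h
  have : Subsingleton (ρ.IntertwiningMap (Cfsg.permRep ℂ G Ω)) :=
    ⟨fun a b => by rw [hcon a, hcon b]⟩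
  rw [Module.finrank_zero_of_subsingleton, Nat.cast_zero]

/-- expansion of a linear map on functions in the standard basis -/
theorem linearMap_apply_eq_sum [DecidableEq Ω] {V : Type*} [AddCommGroup V] [Module ℂ V]
    (T : (Ω → ℂ) →ₗ[ℂ] V) (f : Ω → ℂ) : T f = ∑ b, f b • T (Pi.single b 1) := by
  conv_lhs => rw [← Finset.univ_sum_single f]
  rw [map_sum]
  refine Finset.sum_congr rfl (fun b _ => ?_)
  rw [← map_smul]
  congr 1
  rw [← Pi.single_smul, smul_eq_mul, mul_one]

omit [Fintype Ω] in
/-- the matrix entries of an endomorphism of the permutation representation are constant on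
orbitals -/
theorem intertwining_entry [DecidableEq Ω]
    (T : (Cfsg.permRep ℂ G Ω).IntertwiningMap (Cfsg.permRep ℂ G Ω)) (g : G) (a b : Ω) :
    T (Pi.single (g • b) 1) (g • a) = T (Pi.single b 1) a := by
  rw [← permRep_single g b (1 : ℂ), T.isIntertwining, permRep_apply, inv_smul_smul]

/-- the endomorphism of the permutation representation with a given invariant kernel -/
noncomputable def kernelMap (K : Ω → Ω → ℂ) (hK : ∀ (g : G) (x y : Ω), K (g • x) (g • y) = K x y) :
    (Cfsg.permRep ℂ G Ω).IntertwiningMap (Cfsg.permRep ℂ G Ω) where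
  toLinearMap :=
    { toFun := fun f x => ∑ y, K x y * f y
      map_add' := by
        intro f h
        funext x
        simp only [Pi.add_apply, mul_add, Finset.sum_add_distrib]
      map_smul' := by
        intro c f
        funext x
        simp only [Pi.smul_apply, smul_eq_mul, RingHom.id_apply, Finset.mul_sum]
        refine Finset.sum_congr rfl (fun y _ => ?_)
        ring }
  isIntertwining' := by
    intro g
    refine LinearMap.ext (fun f => ?_)
    funext x
    change ∑ y, K x y * f (g⁻¹ • y) = ∑ y, K (g⁻¹ • x) y * f y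
    refine Fintype.sum_equiv (MulAction.toPerm g⁻¹) _ _ (fun y => ?_)
    change K x y * f (g⁻¹ • y) = K (g⁻¹ • x) (g⁻¹ • y) * f (g⁻¹ • y)
    rw [hK]

theorem kernelMap_apply (K : Ω → Ω → ℂ)
    (hK : ∀ (g : G) (x y : Ω), K (g • x) (g • y) = K x y) (f : Ω → ℂ) (x : Ω) :
    kernelMap K hK f x = ∑ y, K x y * f y := rfl

theorem kernelMap_single [DecidableEq Ω] (K : Ω → Ω → ℂ)
    (hK : ∀ (g : G) (x y : Ω), K (g • x) (g • y) = K x y) (x y : Ω) :
    kernelMap K hK (Pi.single y 1) x = K x y := by
  rw [kernelMap_apply, Finset.sum_eq_single y]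
  · rw [Pi.single_eq_same, mul_one]
  · intro b _ hb
    rw [Pi.single_eq_of_ne hb, mul_zero]
  · intro h
    exact absurd (Finset.mem_univ y) h

end Perm

end Cfsg.Agent.PermutationGroups.PermChar
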