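import Mathlib.GroupTheory.SpecificGroups.Quaternion
import Mathlib.SetTheory.Cardinal.Finite
import Mathlib.Tactic

set_option autoImplicit false

namespace Cfsg.Agent.PermutationGroups.AutQuaternion

open QuaternionGroup

/-- the candidate homomorphism sending the standard generators to `x`, `y` -/
def cand (x y : QuaternionGroup 2) : QuaternionGroup 2 → QuaternionGroup 2
  | a i => x ^ i.val
  | xa i => y * x ^ i.val

/-- pairs of generators of order four -/
def good (x y : QuaternionGroup 2) : Bool :=
  decide (x * x = a 2 ∧ y * y = a 2 ∧ x * y = a 2 * (y * x))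

theorem card_good :
    Fintype.card {z : QuaternionGroup 2 × QuaternionGroup 2 // good z.1 z.2 = true} = 24 := by
  decide +kernel

theorem cand_mul : ∀ x y : QuaternionGroup 2, good x y = true →
    ∀ g h : QuaternionGroup 2, cand x y (g * h) = cand x y g * cand x y h := by
  decide +kernel

theorem cand_inj : ∀ x y : QuaternionGroup 2, good x y = true →
    ∀ g h : QuaternionGroup 2, cand x y g = cand x y h → g = h := by
  decide +kernel

theorem cand_one : ∀ x y : QuaternionGroup 2, cand x y 1 = 1 := by
  decide +kernel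

theorem eq_two : ∀ x : QuaternionGroup 2, x * x = 1 → x ≠ 1 → x = a 2 := by
  decide +kernel

theorem map_a_two (φ : MulAut (QuaternionGroup 2)) : φ (a 2) = a 2 := by
  apply eq_two
  · rw [← map_mul]
    have : (a 2 : QuaternionGroup 2) * a 2 = 1 := by decide
    rw [this, map_one]
  · intro h
    have : (a 2 : QuaternionGroup 2) = 1 := (MulEquiv.map_eq_one_iff φ).1 h
    exact absurd this (by decide)

theorem good_map (φ : MulAut (QuaternionGroup 2)) : good (φ (a 1)) (φ (xa 0)) = true := by
  unfold good
  rw [decide_eq_true_iff]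
  refine ⟨?_, ?_, ?_⟩
  · rw [← map_mul]
    have : (a 1 : QuaternionGroup 2) * a 1 = a 2 := by decide
    rw [this, map_a_two]
  · rw [← map_mul]
    have : (xa 0 : QuaternionGroup 2) * xa 0 = a 2 := by decide
    rw [this, map_a_two]
  · rw [← map_mul, ← map_mul]
    have : (a 1 : QuaternionGroup 2) * xa 0 = a 2 * (xa 0 * a 1) := by decide
    rw [this, map_mul, map_a_two]

theorem eq_cand (φ : MulAut (QuaternionGroup 2)) (g : QuaternionGroup 2) :
    φ g = cand (φ (a 1)) (φ (xa 0)) g := by
  rcases g with i | i
  · change φ (a i) = φ (a 1) ^ i.val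
    rw [← map_pow]
    congr 1
    revert i
    decide
  · change φ (xa i) = φ (xa 0) * φ (a 1) ^ i.val
    rw [← map_pow, ← map_mul]
    congr 1
    revert i
    decide

/-- The quaternion group of order 8 has 24 automorphisms. -/
theorem card_mulAut : Nat.card (MulAut (QuaternionGroup 2)) = 24 := by
  rw [← card_good, ← Nat.card_eq_fintype_card]
  refine Nat.card_congr (Equiv.ofBijective
    (fun φ : MulAut (QuaternionGroup 2) => ⟨(φ (a 1), φ (xa 0)), good_map φ⟩) ⟨?_, ?_⟩)
  · intro φ ψ h
    have h1 : (φ (a 1), φ (xa 0)) = (ψ (a 1), ψ (xa 0)) := congrArg Subtype.val h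
    rw [Prod.mk.injEq] at h1
    ext g
    rw [eq_cand φ, eq_cand ψ, h1.1, h1.2]
  · rintro ⟨⟨x, y⟩, h⟩
    have hinj : Function.Injective (cand x y) := fun g g' => cand_inj x y h g g'
    have hbij : Function.Bijective (cand x y) := Finite.injective_iff_bijective.1 hinj
    refine ⟨MulEquiv.ofBijective
      ({ toFun := cand x y, map_one' := cand_one x y, map_mul' := cand_mul x y h } :
        QuaternionGroup 2 →* QuaternionGroup 2) hbij, ?_⟩
    apply Subtype.ext
    change (x ^ (1 : ZMod 4).val, y * x ^ (0 : ZMod 4).val) = (x, y)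
    have h1 : (1 : ZMod 4).val = 1 := rfl
    have h0 : (0 : ZMod 4).val = 0 := rfl
    rw [h1, h0, pow_one, pow_zero, mul_one]

end Cfsg.Agent.PermutationGroups.AutQuaternion
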