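import Cfsg.Agent.PermutationGroups.IrrSum

/-!
# Degrees of the constituents of a permutation character and the subdegrees

If `f` divides the degree of each non-principal constituent of the permutation character of a
transitive group, then `f` divides each non-trivial subdegree.
-/

set_option autoImplicit false

namespace Cfsg.Agent.PermutationGroups.Subdegree
open Cfsg Representation PermChar IrrSum Matrix

theorem dvd_of_isIntegral {f : ℕ} {k : ℤ} {z : ℂ} (h : (k : ℂ) = f * z) (hz : IsIntegral ℤ z) :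
    (f : ℤ) ∣ k := by
  by_cases hf : f = 0
  · subst hf
    simp only [Nat.cast_zero, zero_mul] at h
    rw [Int.cast_eq_zero.mp h]
    exact dvd_zero _
  · have hf' : (f : ℂ) ≠ 0 := Nat.cast_ne_zero.mpr hf
    have h1 : z = algebraMap ℚ ℂ ((k : ℚ) / f) := by
      rw [eq_comm, map_div₀, map_intCast, map_natCast, h]
      field_simp
    rw [h1, isIntegral_algebraMap_iff (algebraMap ℚ ℂ).injective] at hz
    obtain ⟨n, hn⟩ := IsIntegrallyClosed.isIntegral_iff.mp hz
    refine ⟨n, ?_⟩
    have hf'' : (f : ℚ) ≠ 0 := Nat.cast_ne_zero.mpr hf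
    have : (k : ℚ) = ((f * n : ℤ) : ℚ) := by
      rw [eq_intCast] at hn
      push_cast
      rw [hn]
      field_simp
    exact_mod_cast this

section general

variable {G : Type*} [Group G] [Fintype G]

theorem classInner_one_eq_finrank {W : Type*}
    [AddCommGroup W] [Module ℂ W] [FiniteDimensional ℂ W] (σ : Representation ℂ G W) :
    classInner σ.character (fun _ => 1) = (Module.finrank ℂ (invariants σ) : ℂ) := by
  have : Invertible (Nat.card G : ℂ) := invertibleOfNonzero (by
    simp [Nat.card_eq_fintype_card])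
  rw [← card_inv_mul_sum_char_eq_finrank, classInner]
  simp

theorem classInner_sum_left {ι : Type*} (s : Finset ι) (φ : ι → G → ℂ) (ψ : G → ℂ) :
    classInner (∑ i ∈ s, φ i) ψ = ∑ i ∈ s, classInner (φ i) ψ := by
  simp only [classInner, Finset.sum_apply, Finset.sum_mul, ← Finset.mul_sum]
  rw [Finset.sum_comm]

theorem classInner_nsmul_left (n : ℕ) (φ ψ : G → ℂ) :
    classInner (n • φ) ψ = n * classInner φ ψ := by
  simp only [classInner, Pi.smul_apply, nsmul_eq_mul, Finset.mul_sum]
  exact Finset.sum_congr rfl fun g _ => by ring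

theorem classInner_finsupp_sum (m : IrrCharacter G →₀ ℕ) (ψ : IrrCharacter G) :
    classInner (m.sum (fun ψ n => n • (ψ : G → ℂ))) (ψ : G → ℂ) = m ψ := by
  classical
  rw [Finsupp.sum, classInner_sum_left]
  simp only [classInner_nsmul_left]
  by_cases h : ψ ∈ m.support
  · rw [Finset.sum_eq_single_of_mem ψ h]
    · rw [classInner_irr ψ.2 ψ.2]; simp
    · intro b _ hb
      rw [classInner_irr b.2 ψ.2, if_neg (fun h => hb (Subtype.ext h)), mul_zero]
  · rw [Finset.sum_eq_zero]
    · rw [Finsupp.notMem_support_iff.mp h]; simp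
    · intro b hb
      rw [classInner_irr b.2 ψ.2, if_neg, mul_zero]
      rintro h'
      exact h ((Subtype.ext h' : b = ψ) ▸ hb)

omit [Fintype G] in
theorem finrank_intertwiningMap_ne_zero {V W : Type*} [AddCommGroup V] [Module ℂ V]
    [FiniteDimensional ℂ V] [AddCommGroup W] [Module ℂ W] [FiniteDimensional ℂ W]
    {ρ : Representation ℂ G V} {σ : Representation ℂ G W} (φ : IntertwiningMap ρ σ) (hφ : φ ≠ 0) :
    Module.finrank ℂ (IntertwiningMap ρ σ) ≠ 0 := by
  have : 0 < Module.finrank ℂ (IntertwiningMap ρ σ) :=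
    Module.finrank_pos_iff_exists_ne_zero.mpr ⟨φ, hφ⟩
  exact this.ne'

omit [Fintype G] in
theorem exists_ne_zero {V W : Type*} [AddCommGroup V] [Module ℂ V] 
    [AddCommGroup W] [Module ℂ W] 
    {ρ : Representation ℂ G V} {σ : Representation ℂ G W}
    (h : Module.finrank ℂ (IntertwiningMap ρ σ) ≠ 0) : ∃ φ : IntertwiningMap ρ σ, φ ≠ 0 := by
  by_contra h'
  push Not at h'
  have : Subsingleton (IntertwiningMap ρ σ) := ⟨fun a b => by rw [h' a, h' b]⟩
  exact h Module.finrank_zero_of_subsingleton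

end general

section perm

variable {G : Type*} [Group G] [Fintype G] {Ω : Type*} [Fintype Ω] [MulAction G Ω]

/-- A subrepresentation of the permutation representation without non-zero fixed vectors
has dimension divisible by `f`. -/
theorem dvd_finrank_of_invariants (f : ℕ)
    (hf : ∀ χ : G → ℂ, Cfsg.IsIrrCharacter G χ → χ ≠ (fun _ => 1) →
      Cfsg.classInner (fun g : G => (Nat.card (MulAction.fixedBy Ω g) : ℂ)) χ ≠ 0 →
      ∃ m : ℕ, χ 1 = (f : ℂ) * m)
    (U : Subrepresentation (permRep ℂ G Ω))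
    (hU : ∀ v ∈ U, (∀ g, permRep ℂ G Ω g v = v) → v = 0) :
    f ∣ Module.finrank ℂ U.toSubmodule := by
  classical
  obtain ⟨m, hm⟩ := exists_sum_irr (isCharacter_of_rep U.toRepresentation)
  have h1 : ∀ ψ : IrrCharacter G, classInner U.toRepresentation.character (ψ : G → ℂ) = m ψ := by
    intro ψ
    rw [hm, classInner_finsupp_sum]
  have h2 : ∀ ψ ∈ m.support, ∃ k : ℕ, (ψ : G → ℂ) 1 = (f : ℂ) * k := by
    intro ψ hψ
    have hmψ : m ψ ≠ 0 := Finsupp.mem_support_iff.mp hψ
    refine hf ψ ψ.2 ?_ ?_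
    · intro h
      have := h1 ψ
      rw [h, classInner_one_eq_finrank] at this
      have h3 : Module.finrank ℂ (invariants U.toRepresentation) ≠ 0 := by
        rw [Nat.cast_inj] at this
        rw [this]; exact hmψ
      apply h3
      rw [Submodule.finrank_eq_zero, eq_bot_iff]
      intro v hv
      rw [mem_invariants] at hv
      rw [Submodule.mem_bot]
      apply Subtype.ext
      apply hU _ v.2
      intro g
      exact congrArg Subtype.val (hv g)
    · obtain ⟨n, ρ, hρ, hρψ⟩ := ψ.2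
      have h4 := h1 ψ
      rw [← hρψ, classInner_eq_finrank, Nat.cast_inj] at h4
      obtain ⟨φ, hφ⟩ := exists_ne_zero (ρ := ρ) (σ := U.toRepresentation) (by omega)
      have h6 : classInner (permRep ℂ G Ω).character (ψ : G → ℂ) ≠ 0 := by
        rw [← hρψ, classInner_eq_finrank, Nat.cast_ne_zero]
        apply finrank_intertwiningMap_ne_zero ((subInclusion U).comp φ)
        intro h
        apply hφ
        refine IntertwiningMap.ext (LinearMap.ext fun v => Subtype.ext ?_)
        exact congrArg (fun F : IntertwiningMap ρ (permRep ℂ G Ω) => F v) h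
      convert h6 using 2
      funext g
      rw [permRep_character]
  choose! k hk using h2
  have h3 : (Module.finrank ℂ U.toSubmodule : ℂ) = ((f * ∑ ψ ∈ m.support, m ψ * k ψ : ℕ) : ℂ) := by
    rw [← Representation.char_one U.toRepresentation, hm, Finsupp.sum, Finset.sum_apply]
    push_cast
    rw [Finset.mul_sum]
    refine Finset.sum_congr rfl fun ψ hψ => ?_
    rw [Pi.smul_apply, hk ψ hψ, nsmul_eq_mul]
    ring
  exact ⟨_, Nat.cast_injective h3⟩

variable [MulAction.IsPretransitive G Ω]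

omit [Fintype G] [Fintype Ω] in
theorem eq_of_fixed (v : Ω → ℂ) (hv : ∀ g, permRep ℂ G Ω g v = v) (x y : Ω) : v x = v y := by
  obtain ⟨g, hg⟩ := MulAction.exists_smul_eq G x y
  rw [← hg]
  conv_rhs => rw [← hv g]
  rw [permRep_apply, inv_smul_smul]

/-- Subrepresentation containing the constants. -/
theorem dvd_finrank_sub_one (f : ℕ)
    (hf : ∀ χ : G → ℂ, Cfsg.IsIrrCharacter G χ → χ ≠ (fun _ => 1) →
      Cfsg.classInner (fun g : G => (Nat.card (MulAction.fixedBy Ω g) : ℂ)) χ ≠ 0 →
      ∃ m : ℕ, χ 1 = (f : ℂ) * m) (a : Ω)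
    (U : Subrepresentation (permRep ℂ G Ω)) (hU : (fun _ => 1) ∈ U) :
    ∃ k, Module.finrank ℂ U.toSubmodule = f * k + 1 := by
  classical
  have hcard : (Fintype.card Ω : ℂ) ≠ 0 := by
    have : Nonempty Ω := ⟨a⟩
    simp [Fintype.card_ne_zero]
  have h1 : f ∣ Module.finrank ℂ (U ⊓ permSumZero ℂ G Ω).toSubmodule := by
    apply dvd_finrank_of_invariants f hf
    rintro v ⟨_, hv⟩ hg
    have hv' : ∑ x, v x = 0 := hv
    funext x
    have : ∑ y, v y = ∑ y : Ω, v x := Finset.sum_congr rfl fun y _ => eq_of_fixed v hg y x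
    rw [hv', Finset.sum_const, Finset.card_univ, nsmul_eq_mul, eq_comm, mul_eq_zero] at this
    exact this.resolve_left hcard
  obtain ⟨k, hk⟩ := h1
  refine ⟨k, ?_⟩
  rw [← hk]
  -- use the rank-nullity for the sum functional on U
  let L : U.toSubmodule →ₗ[ℂ] ℂ :=
    { toFun := fun v => ∑ x, (v : Ω → ℂ) x
      map_add' := fun v w => by simp [Finset.sum_add_distrib]
      map_smul' := fun c v => by simp [Finset.mul_sum] }
  have hL : Function.Surjective L := by
    intro c
    refine ⟨(c / Fintype.card Ω) • ⟨_, hU⟩, ?_⟩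
    rw [map_smul]
    change (c / Fintype.card Ω) • (∑ x : Ω, (1 : ℂ)) = c
    simp [hcard]
  have h2 := LinearMap.finrank_range_add_finrank_ker L
  rw [LinearMap.range_eq_top.mpr hL, finrank_top, Module.finrank_self] at h2
  have h3 : Module.finrank ℂ (LinearMap.ker L) = Module.finrank ℂ (U ⊓ permSumZero ℂ G Ω).toSubmodule := by
    apply LinearEquiv.finrank_eq
    refine LinearEquiv.ofBijective
      { toFun := fun v => ⟨v.1.1, v.1.2, LinearMap.mem_ker.mp v.2⟩
        map_add' := fun v w => rfl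
        map_smul' := fun c v => rfl } ⟨?_, ?_⟩
    · intro v w h
      exact Subtype.ext (Subtype.ext (congrArg (fun z => (z.1 : Ω → ℂ)) h))
    · rintro ⟨v, hv1, hv2⟩
      exact ⟨⟨⟨v, hv1⟩, LinearMap.mem_ker.mpr hv2⟩, rfl⟩
  rw [← h3]; omega

theorem dvd_of_matrix (f : ℕ)
    (hf : ∀ χ : G → ℂ, Cfsg.IsIrrCharacter G χ → χ ≠ (fun _ => 1) →
      Cfsg.classInner (fun g : G => (Nat.card (MulAction.fixedBy Ω g) : ℂ)) χ ≠ 0 →
      ∃ m : ℕ, χ 1 = (f : ℂ) * m) (a : Ω) [DecidableEq Ω]
    (A : Matrix Ω Ω ℤ) (hA : ∀ (g : G) x y, A (g • x) (g • y) = A x y) (k : ℤ)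
    (hk : ∀ x, ∑ y, A x y = k) (htr : A.trace = 0) : (f : ℤ) ∣ k := by
  classical
  set B : Matrix Ω Ω ℂ := A.map (Int.castRingHom ℂ) with hB
  set φ : Module.End ℂ (Ω → ℂ) := Matrix.toLin' B with hφ
  have hcomm : ∀ g, Commute φ (permRep ℂ G Ω g) := by
    intro g
    apply LinearMap.ext
    intro v
    funext x
    change (B *ᵥ (permRep ℂ G Ω g v)) x = (B *ᵥ v) (g⁻¹ • x)
    rw [Matrix.mulVec, Matrix.mulVec, dotProduct, dotProduct]
    refine Fintype.sum_equiv (MulAction.toPerm g⁻¹) _ _ fun y => ?_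
    change B x y * v (g⁻¹ • y) = B (g⁻¹ • x) (g⁻¹ • y) * v (g⁻¹ • y)
    congr 1
    rw [hB, Matrix.map_apply, Matrix.map_apply, hA]
  let E : ℂ → Subrepresentation (permRep ℂ G Ω) := fun μ =>
    ⟨φ.maxGenEigenspace μ, fun g v hv =>
      Module.End.mapsTo_maxGenEigenspace_of_comm (hcomm g) μ hv⟩
  have hone : (fun _ => 1) ∈ E k := by
    change (fun _ => 1) ∈ φ.maxGenEigenspace (k : ℂ)
    apply Module.End.mem_maxGenEigenspace _ _ _ |>.mpr
    refine ⟨1, ?_⟩
    rw [pow_one, LinearMap.sub_apply]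
    funext x
    change (B *ᵥ fun _ => 1) x - (k : ℂ) • (1 : ℂ) = 0
    rw [Matrix.mulVec, dotProduct]
    simp only [mul_one, smul_eq_mul, hB, Matrix.map_apply]
    rw [← map_sum, hk]
    simp
  have hE : ∀ μ : ℂ, Module.finrank ℂ (E μ).toSubmodule = B.charpoly.rootMultiplicity μ := by
    intro μ
    rw [← Matrix.charpoly_toLin']
    exact LinearMap.finrank_maxGenEigenspace_eq φ μ
  have hc : ∀ μ : ℂ, ∃ c : ℕ, B.charpoly.rootMultiplicity μ = f * c + if μ = k then 1 else 0 := by
    intro μ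
    rw [← hE]
    by_cases hμ : μ = k
    · rw [if_pos hμ]
      exact dvd_finrank_sub_one f hf a (E μ) (hμ ▸ hone)
    · rw [if_neg hμ]
      obtain ⟨c, hc⟩ := dvd_finrank_of_invariants f hf (E μ) (by
        intro v hv hg
        have h1 : v = v a • (fun _ => (1 : ℂ)) := by
          funext x
          rw [Pi.smul_apply, smul_eq_mul, mul_one]
          exact eq_of_fixed v hg x a
        have h2 : v ∈ φ.maxGenEigenspace (k : ℂ) := by
          rw [h1]
          exact Submodule.smul_mem _ _ hone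
        have h3 : Disjoint (φ.maxGenEigenspace μ) (φ.maxGenEigenspace (k : ℂ)) :=
          Module.End.disjoint_genEigenspace φ hμ _ _
        exact Submodule.disjoint_def.mp h3 v hv h2)
      exact ⟨c, by rw [hc, add_zero]⟩
  choose c hc using hc
  have hint : ∀ μ ∈ B.charpoly.roots.toFinset, IsIntegral ℤ μ := by
    intro μ hμ
    rw [Multiset.mem_toFinset, Polynomial.mem_roots (Matrix.charpoly_monic B).ne_zero, hB,
      Matrix.charpoly_map] at hμ
    refine ⟨A.charpoly, Matrix.charpoly_monic A, ?_⟩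
    rw [Polynomial.IsRoot.def, Polynomial.eval_map] at hμ
    exact hμ
  have hk_mem : (k : ℂ) ∈ B.charpoly.roots.toFinset := by
    rw [Multiset.mem_toFinset, ← Multiset.count_pos, Polynomial.count_roots, hc, if_pos rfl]
    omega
  have htrB : B.trace = 0 := by
    have : B.trace = ((A.trace : ℤ) : ℂ) := by
      simp [Matrix.trace, hB]
    rw [this, htr, Int.cast_zero]
  rw [Matrix.trace_eq_sum_roots_charpoly, Finset.sum_multiset_count] at htrB
  have h1 : (k : ℂ) = f * (-∑ μ ∈ B.charpoly.roots.toFinset, (c μ : ℂ) * μ) := by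
    have h2 : ∑ μ ∈ B.charpoly.roots.toFinset, B.charpoly.roots.count μ • μ =
        f * (∑ μ ∈ B.charpoly.roots.toFinset, (c μ : ℂ) * μ) + k := by
      have h3 : (k : ℂ) = ∑ μ ∈ B.charpoly.roots.toFinset, if μ = k then μ else 0 := by
        rw [Finset.sum_ite_eq' _ (k : ℂ) (fun μ => μ), if_pos hk_mem]
      conv_rhs => rw [h3, Finset.mul_sum, ← Finset.sum_add_distrib]
      refine Finset.sum_congr rfl fun μ _ => ?_
      rw [Polynomial.count_roots, hc, nsmul_eq_mul]
      push_cast
      split_ifs <;> ring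
    rw [h2] at htrB
    linear_combination htrB
  have h2 : IsIntegral ℤ (-∑ μ ∈ B.charpoly.roots.toFinset, (c μ : ℂ) * μ) := by
    refine IsIntegral.neg (IsIntegral.sum _ fun μ hμ => IsIntegral.mul ?_ (hint μ hμ))
    simpa using isIntegral_algebraMap (R := ℤ) (A := ℂ) (x := (c μ : ℤ))
  exact dvd_of_isIntegral h1 h2

/-- `S0715`. -/
theorem dvd_subdegree (f : ℕ)
    (hf : ∀ χ : G → ℂ, Cfsg.IsIrrCharacter G χ → χ ≠ (fun _ => 1) →
      Cfsg.classInner (fun g : G => (Nat.card (MulAction.fixedBy Ω g) : ℂ)) χ ≠ 0 →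
      ∃ m : ℕ, χ 1 = (f : ℂ) * m) (a b : Ω) (hab : b ≠ a) :
    f ∣ Nat.card (MulAction.orbit (MulAction.stabilizer G a) b) := by
  classical
  let A : Matrix Ω Ω ℤ := fun x y => if ∃ g : G, g • a = x ∧ g • b = y then 1 else 0
  have hA : ∀ (g : G) x y, A (g • x) (g • y) = A x y := by
    intro g x y
    have : (∃ h : G, h • a = g • x ∧ h • b = g • y) ↔ ∃ h : G, h • a = x ∧ h • b = y := by
      constructor
      · rintro ⟨h, h1, h2⟩
        exact ⟨g⁻¹ * h, by rw [mul_smul, h1, inv_smul_smul], by rw [mul_smul, h2, inv_smul_smul]⟩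
      · rintro ⟨h, h1, h2⟩
        exact ⟨g * h, by rw [mul_smul, h1], by rw [mul_smul, h2]⟩
    simp only [A, this]
  have hk : ∀ x, ∑ y, A x y = (Nat.card (MulAction.orbit (MulAction.stabilizer G a) b) : ℤ) := by
    intro x
    obtain ⟨g, rfl⟩ := MulAction.exists_smul_eq G a x
    have h1 : ∑ y, A (g • a) y = ∑ y, A a y := by
      rw [← Equiv.sum_comp (MulAction.toPerm g) (fun y => A (g • a) y)]
      exact Finset.sum_congr rfl fun y _ => hA g a y
    rw [h1]
    simp only [A]
    rw [Finset.sum_boole, Nat.card_eq_fintype_card, ← Fintype.card_subtype]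
    congr 1
    apply Fintype.card_congr
    refine Equiv.subtypeEquivRight fun y => ?_
    rw [MulAction.mem_orbit_iff]
    constructor
    · rintro ⟨g, h1, h2⟩
      exact ⟨⟨g, h1⟩, h2⟩
    · rintro ⟨⟨g, h1⟩, h2⟩
      exact ⟨g, h1, h2⟩
  have htr : A.trace = 0 := by
    refine Finset.sum_eq_zero fun x _ => ?_
    change (if _ then (1 : ℤ) else 0) = 0
    rw [if_neg]
    rintro ⟨g, h1, h2⟩
    exact hab (MulAction.injective g (h2.trans h1.symm))
  exact_mod_cast dvd_of_matrix f hf a A hA _ hk htr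

end perm

end Cfsg.Agent.PermutationGroups.Subdegree
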