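import Mathlib
import Cfsg.Agent.PermutationGroups.PSLPerm

/-!
Recognition of `PSL(2, q)`, `q` odd, among permutation groups of the projective line: it is enough
that the group contains the translations, that the stabiliser of `0` and `∞` consists of the
multiplications by the elements of a subgroup of index two, and is inverted by an involution
swapping `0` and `∞`.
-/

set_option autoImplicit false

namespace Cfsg.Agent.PermutationGroups.PSLRecogPerm

open Matrix OnePoint Cfsg.Agent.PermutationGroups.PSLPerm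

section

variable {K : Type*} [Field K] [Fintype K]

/-- The elements of a subgroup of index two of the multiplicative group are squares. -/
theorem exists_sq_of_mem {S : Subgroup Kˣ} (hS : S.index = 2) {s : Kˣ} (hs : s ∈ S) :
    ∃ r : Kˣ, s = r ^ 2 := by
  classical
  let f : Kˣ →* Kˣ := powMonoidHom 2
  have hle : f.range ≤ S := by
    rintro _ ⟨r, rfl⟩
    exact Subgroup.sq_mem_of_index_two hS r
  have hker : Nat.card f.ker ≤ 2 := by
    have hsub : (f.ker : Set Kˣ) ⊆ {1, -1} := by
      intro x hx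
      have hx' : x ^ 2 = 1 := hx
      have hx'' : (x : K) * x = 1 := by
        have := congrArg (Units.val) hx'
        rw [pow_two] at this
        exact this
      rcases mul_self_eq_one_iff.mp hx'' with h | h
      · left
        exact Units.ext h
      · right
        exact Units.ext h
    have h1 := Set.ncard_le_ncard hsub (Set.toFinite _)
    have h2 : ({1, -1} : Set Kˣ).ncard ≤ 2 := by
      refine (Set.ncard_insert_le _ _).trans ?_
      simp
    have h3 : Nat.card f.ker = (f.ker : Set Kˣ).ncard := rfl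
    omega
  have h1 : Nat.card f.range * Nat.card f.ker = Nat.card Kˣ := by
    have := Subgroup.index_ker f
    rw [← this, Subgroup.index_mul_card]
  have h2 : Nat.card S * S.index = Nat.card Kˣ := Subgroup.card_mul_index S
  have h4 : Nat.card S ≤ Nat.card f.range := by
    rw [hS] at h2
    have h5 : Nat.card f.range * Nat.card f.ker ≤ Nat.card f.range * 2 :=
      Nat.mul_le_mul_left _ hker
    omega
  have h5 : f.range = S := Subgroup.eq_of_le_of_card_ge hle h4
  rw [← h5] at hs
  obtain ⟨r, hr⟩ := hs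
  exact ⟨r, hr.symm⟩

/-- A subgroup `S` of index two containing `-1` has an element `y` with `1 - y` outside
`S ∪ {0}`. -/
theorem exists_mem_one_sub_notMem {S : Subgroup Kˣ} (hS : S.index = 2) (hneg : -1 ∈ S) :
    ∃ y ∈ S, ∃ z : Kˣ, z ∉ S ∧ (z : K) = 1 - y := by
  classical
  by_contra hcon
  push Not at hcon
  have hcon' : ∀ y ∈ S, ∀ z : Kˣ, (z : K) = 1 - y → z ∈ S := by
    intro y hy z hz
    by_contra hzS
    exact hcon y hy z hzS hz
  let W : AddSubgroup K :=
    { carrier := {x | x = 0 ∨ ∃ s ∈ S, (s : K) = x}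
      zero_mem' := Or.inl rfl
      neg_mem' := by
        rintro x (rfl | ⟨s, hs, rfl⟩)
        · left; simp
        · right
          exact ⟨-1 * s, S.mul_mem hneg hs, by simp⟩
      add_mem' := by
        rintro x y (rfl | ⟨s, hs, rfl⟩) (rfl | ⟨t, ht, rfl⟩)
        · left; simp
        · right; exact ⟨t, ht, by simp⟩
        · right; exact ⟨s, hs, by simp⟩
        · by_cases h0 : (s : K) + t = 0
          · left; exact h0
          · right
            have h1 : -1 * t * s⁻¹ ∈ S := S.mul_mem (S.mul_mem hneg ht) (S.inv_mem hs)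
            have hs0 : (s : K) ≠ 0 := s.ne_zero
            have h2 : (1 : K) - ((-1 * t * s⁻¹ : Kˣ) : K) = ((s : K) + t) / s := by
              simp only [Units.val_mul, Units.val_neg, Units.val_one, Units.val_inv_eq_inv_val]
              field_simp
              ring
            have h3 : ((s : K) + t) / s ≠ 0 := div_ne_zero h0 hs0
            have h4 := hcon' _ h1 (Units.mk0 _ h3) (by rw [Units.val_mk0, h2])
            refine ⟨Units.mk0 _ h3 * s, S.mul_mem h4 hs, ?_⟩
            rw [Units.val_mul, Units.val_mk0]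
            field_simp }
  have hW : Nat.card W = Nat.card S + 1 := by
    have e : Option S ≃ W :=
      { toFun := fun o => match o with
          | Option.none => ⟨0, Or.inl rfl⟩
          | Option.some s => ⟨((s : Kˣ) : K), Or.inr ⟨s, s.2, rfl⟩⟩
        invFun := fun w => if h : (w : K) = 0 then Option.none else
          Option.some ⟨Units.mk0 w h, by
            rcases w.2 with h' | ⟨s, hs, hs'⟩
            · exact absurd h' h
            · have : Units.mk0 (w : K) h = s := Units.ext hs'.symm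
              rw [this]; exact hs⟩
        left_inv := by
          rintro (_ | ⟨s, hs⟩)
          · simp
          · simp
        right_inv := by
          rintro ⟨w, hw⟩
          by_cases h : w = 0
          · simp [h]
          · simp [h] }
    rw [← Nat.card_congr e, Finite.card_option]
  have h1 : Nat.card W ∣ Nat.card K := AddSubgroup.card_addSubgroup_dvd_card W
  have h2 : Nat.card S * S.index = Nat.card Kˣ := Subgroup.card_mul_index S
  have h3 : Nat.card Kˣ = Nat.card K - 1 := by
    rw [Nat.card_units]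
  have h4 : 0 < Nat.card S := Nat.card_pos
  have h5 : 0 < Nat.card K := Nat.card_pos
  rw [hS] at h2
  rw [hW] at h1
  have h6 : Nat.card K = 2 * Nat.card S + 1 := by omega
  rw [h6] at h1
  have h7 : Nat.card S + 1 ∣ 1 := by
    have h8 : Nat.card S + 1 ∣ 2 * (Nat.card S + 1) := Dvd.intro_left 2 rfl
    have h9 : 2 * (Nat.card S + 1) = (2 * Nat.card S + 1) + 1 := by ring
    rw [h9] at h8
    exact (Nat.dvd_add_right h1).mp h8
  have h8 := Nat.le_of_dvd one_pos h7
  omega

omit [Fintype K] in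
/-- A nonzero finite point as a unit. -/
theorem exists_unit {x : OnePoint K} (h1 : x ≠ ∞) (h0 : x ≠ ((0 : K) : OnePoint K)) :
    ∃ u : Kˣ, x = ((u : K) : OnePoint K) := by
  obtain ⟨y, rfl⟩ := OnePoint.ne_infty_iff_exists.mp h1
  have hy : y ≠ 0 := fun h => h0 (by rw [h])
  exact ⟨Units.mk0 y hy, rfl⟩

/-- Recognition of `PSL(2, K)`. -/
theorem nonempty_mulEquiv_psl' [DecidableEq K] (A : Subgroup (Equiv.Perm (OnePoint K)))
    (S : Subgroup Kˣ) (hS : S.index = 2)
    (hN : ∀ c : K, ∃ σ ∈ A, σ ∞ = ∞ ∧ ∀ x : K, σ (x : OnePoint K) = ((x + c : K) : OnePoint K))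
    (hH1 : ∀ s ∈ S, ∃ σ ∈ A, σ ∞ = ∞ ∧
      ∀ x : K, σ (x : OnePoint K) = (((s : K) * x : K) : OnePoint K))
    (hH2 : ∀ σ ∈ A, σ ∞ = ∞ → σ ((0 : K) : OnePoint K) = ((0 : K) : OnePoint K) →
      ∃ s ∈ S, ∀ x : K, σ (x : OnePoint K) = (((s : K) * x : K) : OnePoint K))
    (t : Equiv.Perm (OnePoint K)) (htA : t ∈ A) (htinf : t ∞ = ((0 : K) : OnePoint K))
    (ht2 : t * t = 1)
    (hinv : ∀ σ ∈ A, σ ∞ = ∞ → σ ((0 : K) : OnePoint K) = ((0 : K) : OnePoint K) →
      t * σ * t⁻¹ = σ⁻¹) :
    Nonempty (A ≃* Matrix.ProjectiveSpecialLinearGroup (Fin 2) K) := by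
  have htt : ∀ x, t (t x) = x := fun x => by rw [← Equiv.Perm.mul_apply, ht2]; rfl
  have ht0 : t ((0 : K) : OnePoint K) = ∞ := by rw [← htinf, htt]
  have hne_inf : ∀ u : Kˣ, ((u : K) : OnePoint K) ≠ ((0 : K) : OnePoint K) := fun u h =>
    u.ne_zero (OnePoint.coe_eq_coe.mp h)
  have hex : ∀ u : Kˣ, ∃ v : Kˣ, t ((u : K) : OnePoint K) = ((v : K) : OnePoint K) := by
    intro u
    refine exists_unit ?_ ?_
    · intro h
      exact hne_inf u (t.injective (h.trans ht0.symm))
    · intro h
      exact OnePoint.coe_ne_infty _ (t.injective (h.trans htinf.symm))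
  choose f hf using hex
  have hff : ∀ u, f (f u) = u := by
    intro u
    have h1 := htt ((u : K) : OnePoint K)
    rw [hf, hf] at h1
    exact Units.ext (OnePoint.coe_eq_coe.mp h1)
  -- multiplications
  have hfs : ∀ s ∈ S, ∀ u, f (s * u) = s⁻¹ * f u := by
    intro s hs u
    obtain ⟨σ, hσA, hσ1, hσ2⟩ := hH1 s hs
    have h1 := hinv σ hσA hσ1 (by rw [hσ2, mul_zero])
    have h2 : σ (t (σ ((u : K) : OnePoint K))) = t ((u : K) : OnePoint K) := by
      have h3 : t * σ = σ⁻¹ * t := by rw [← h1]; group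
      have h4 : t (σ ((u : K) : OnePoint K)) = σ⁻¹ (t ((u : K) : OnePoint K)) := by
        rw [← Equiv.Perm.mul_apply, h3, Equiv.Perm.mul_apply]
      rw [h4, ← Equiv.Perm.mul_apply, mul_inv_cancel]
      rfl
    rw [hσ2, ← Units.val_mul, hf, hf, hσ2, ← Units.val_mul] at h2
    have h5 := Units.ext (OnePoint.coe_eq_coe.mp h2)
    rw [← h5]
    group
  obtain ⟨e, he⟩ : ∃ e : Kˣ, e ∉ S := by
    by_contra hcon
    push Not at hcon
    have : S = ⊤ := by
      rw [eq_top_iff]
      intro x _
      exact hcon x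
    rw [this] at hS
    simp at hS
  have hmul : ∀ {a b : Kˣ}, a * b ∈ S ↔ (a ∈ S ↔ b ∈ S) := fun {a b} =>
    Subgroup.mul_mem_iff_of_index_two hS
  have hinvS : ∀ {a : Kˣ}, a⁻¹ ∈ S ↔ a ∈ S := fun {a} => S.inv_mem_iff
  obtain ⟨c₁, hc₁⟩ : ∃ c, c = f 1 := ⟨_, rfl⟩
  obtain ⟨c₂, hc₂⟩ : ∃ c, c = e * f e := ⟨_, rfl⟩
  have hf1 : ∀ x ∈ S, f x = x⁻¹ * c₁ := by
    intro x hx
    have := hfs x hx 1
    rw [mul_one] at this
    rw [this, hc₁]
  have hf2 : ∀ x, x ∉ S → f x = x⁻¹ * c₂ := by
    intro x hx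
    have h1 : x * e⁻¹ ∈ S := by
      rw [hmul, hinvS]
      exact ⟨fun h => absurd h hx, fun h => absurd h he⟩
    have := hfs _ h1 e
    rw [inv_mul_cancel_right] at this
    rw [this, hc₂, mul_inv, inv_inv, mul_assoc]
  -- the structure equation
  obtain ⟨μ, hμ, hE1, hE2⟩ : ∃ μ ∈ S,
      (∀ y : Kˣ, (f y : K) + f (-1) = 0 → (μ : K) * y = -c₁) ∧
      (∀ y z w : Kˣ, (z : K) = f y + f (-1) → (w : K) = f z + 1 → (μ : K) * y = f w - c₁) := by
    obtain ⟨σ₁, h1A, h11, h12⟩ := hN 1
    obtain ⟨σ₂, h2A, h21, h22⟩ := hN (f (-1))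
    obtain ⟨σ₃, h3A, h31, h32⟩ := hN (-c₁)
    have hg : ∀ x, (σ₃ * (t * (σ₁ * (t * (σ₂ * t))))) x = σ₃ (t (σ₁ (t (σ₂ (t x))))) :=
      fun x => rfl
    have hginf : σ₃ (t (σ₁ (t (σ₂ (t ∞))))) = ∞ := by
      rw [htinf, h22, zero_add, hf, hff, h12]
      simp only [Units.val_neg, Units.val_one, neg_add_cancel]
      rw [ht0, h31]
    have hg0 : σ₃ (t (σ₁ (t (σ₂ (t ((0 : K) : OnePoint K)))))) = ((0 : K) : OnePoint K) := by
      rw [ht0, h21, htinf, h12, zero_add]
      have : t ((1 : K) : OnePoint K) = ((c₁ : K) : OnePoint K) := by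
        have := hf 1
        rw [← hc₁] at this
        exact this
      rw [this, h32, add_neg_cancel]
    obtain ⟨μ, hμ, hμ'⟩ := hH2 (σ₃ * (t * (σ₁ * (t * (σ₂ * t)))))
      (A.mul_mem h3A (A.mul_mem htA (A.mul_mem h1A (A.mul_mem htA (A.mul_mem h2A htA)))))
      hginf hg0
    refine ⟨μ, hμ, ?_, ?_⟩
    · intro y hy
      have h1 := hμ' y
      rw [hg, hf, h22, hy, ht0, h11, htinf, h32, zero_add] at h1
      exact (OnePoint.coe_eq_coe.mp h1).symm
    · intro y z w hz hw
      have h1 := hμ' y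
      rw [hg, hf, h22, ← hz, hf, h12, ← hw, hf, h32, ← sub_eq_add_neg] at h1
      exact (OnePoint.coe_eq_coe.mp h1).symm
  obtain ⟨c, hc, hcf⟩ : ∃ c : Kˣ, -1 * c ∈ S ∧ ∀ x, f x = x⁻¹ * c := by
    by_cases hneg : (-1 : Kˣ) ∈ S
    · -- `-1 ∈ S`
      have h1 : f (-1) = -1 * c₁ := by
        rw [hf1 _ hneg]
        simp
      have h3 := hE1 1 (by rw [h1, ← hc₁]; simp)
      have hμ1 : μ = -1 * c₁ := by
        apply Units.ext
        simpa using h3
      have hc₁S : c₁ ∈ S := by
        rw [hμ1, hmul] at hμ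
        exact hμ.mp hneg
      have hc₂S : c₂ ∈ S := by
        by_contra hc₂S
        have h4 : f e = e⁻¹ * c₂ := hf2 e he
        have h5 : e⁻¹ * c₂ ∈ S := by
          rw [hmul, hinvS]
          exact ⟨fun h => absurd h he, fun h => absurd h hc₂S⟩
        have h6 := hff e
        rw [h4, hf1 _ h5] at h6
        have h7 : c₁ = c₂ := by
          have h8 : (e⁻¹ * c₂)⁻¹ * c₁ = e * (c₂⁻¹ * c₁) := by
            rw [mul_inv, inv_inv, mul_assoc]
          rw [h8] at h6
          have h9 : c₂⁻¹ * c₁ = 1 := mul_left_cancel (h6.trans (mul_one e).symm)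
          exact (inv_mul_eq_one.mp h9).symm
        exact hc₂S (h7 ▸ hc₁S)
      obtain ⟨y, hy, v, hv, hvy⟩ := exists_mem_one_sub_notMem hS hneg
      -- `z = c₁ (1 - y) / y`
      have hy0 : (y : K) ≠ 0 := y.ne_zero
      have hv0 : (v : K) ≠ 0 := v.ne_zero
      have hc0 : (c₁ : K) ≠ 0 := c₁.ne_zero
      have hzS : c₁ * v * y⁻¹ ∉ S := by
        rw [hmul, hmul, hinvS]
        intro h
        exact hv ((h.mpr hy).mp hc₁S)
      have hfz : f (c₁ * v * y⁻¹) = (c₁ * v * y⁻¹)⁻¹ * c₂ := hf2 _ hzS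
      have hz : ((c₁ * v * y⁻¹ : Kˣ) : K) = f y + f (-1) := by
        rw [hf1 y hy, h1]
        simp only [Units.val_mul, Units.val_neg, Units.val_one, Units.val_inv_eq_inv_val]
        rw [hvy]
        field_simp
        ring
      have hcvS : c₁ * v ∉ S := by
        rw [hmul]
        intro h
        exact hv (h.mp hc₁S)
      have hfw : f (c₁ * v) = (c₁ * v)⁻¹ * c₂ := hf2 _ hcvS
      -- `w = f (c₁ v)`, by the structure equation
      have hw : (f (c₁ * v) : K) = f (c₁ * v * y⁻¹) + 1 := by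
        by_cases hw0 : (f (c₁ * v * y⁻¹) : K) + 1 = 0
        · exfalso
          have h4 : f (c₁ * v * y⁻¹) = -1 := by
            apply Units.ext
            simp only [Units.val_neg, Units.val_one]
            linear_combination hw0
          have h5 : c₁ * v * y⁻¹ = f (-1) := by rw [← h4, hff]
          rw [h5, h1] at hzS
          exact hzS (S.mul_mem hneg hc₁S)
        · have h4 := hE2 y (c₁ * v * y⁻¹) (Units.mk0 _ hw0) hz (Units.val_mk0 _)
          have h5 : f (Units.mk0 _ hw0) = c₁ * v := by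
            apply Units.ext
            rw [Units.val_mul]
            have h6 : (μ : K) = -c₁ := by rw [hμ1]; simp
            rw [h6] at h4
            rw [hvy]
            linear_combination -h4
          have h7 := congrArg f h5
          rw [hff] at h7
          rw [← h7, Units.val_mk0]
      have hcc : c₁ = c₂ := by
        rw [hfw, hfz] at hw
        simp only [Units.val_mul, Units.val_inv_eq_inv_val] at hw
        have h4 : (c₂ : K) = c₂ * y + c₁ * v := by
          field_simp at hw
          linear_combination hw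
        have h5 : (v : K) * c₁ = v * c₂ := by
          rw [hvy] at h4 ⊢
          linear_combination -h4
        exact Units.ext (mul_left_cancel₀ hv0 h5)
      refine ⟨c₁, S.mul_mem hneg hc₁S, fun x => ?_⟩
      by_cases hx : x ∈ S
      · exact hf1 x hx
      · rw [hf2 x hx, hcc]
    · -- `-1 ∉ S`
      have h1 : f (-1) = -1 * c₂ := by
        rw [hf2 _ hneg]
        simp
      have h3 := hE1 (f c₂) (by rw [h1, hff]; simp)
      have hμ1 : μ * f c₂ = -1 * c₁ := by
        apply Units.ext
        simpa using h3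
      by_cases hc₂S : c₂ ∈ S
      · exfalso
        rw [hf1 _ hc₂S] at hμ1
        have h4 : μ = -1 * c₂ := by
          have h5 : μ * c₂⁻¹ * c₁ = -1 * c₁ := by rw [mul_assoc]; exact hμ1
          have h6 := mul_right_cancel h5
          rw [← h6, inv_mul_cancel_right]
        rw [h4, hmul] at hμ
        exact hneg (hμ.mpr hc₂S)
      · have h4 : f c₂ = 1 := by rw [hf2 _ hc₂S, inv_mul_cancel]
        rw [h4, mul_one] at hμ1
        have hc₁S : c₁ ∉ S := by
          rw [hμ1, hmul] at hμ
          exact fun h => hneg (hμ.mpr h)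
        have hcc : c₁ = c₂ := by
          have h5 : f c₁ = 1 := by rw [hc₁, hff]
          rw [hf2 _ hc₁S] at h5
          exact inv_mul_eq_one.mp h5
        refine ⟨c₁, hμ1 ▸ hμ, fun x => ?_⟩
        by_cases hx : x ∈ S
        · exact hf1 x hx
        · rw [hf2 x hx, hcc]
  obtain ⟨r, hr⟩ := exists_sq_of_mem hS hc
  have hr' : (c : K) = -((r : K) ^ 2) := by
    have := congrArg Units.val hr
    simp only [Units.val_mul, Units.val_neg, Units.val_one, Units.val_pow_eq_pow_val] at this
    linear_combination -this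
  refine nonempty_mulEquiv_psl A hN ⟨r, r.ne_zero, t, htA, htinf, ht0, ?_⟩ ?_ ?_
  · intro x hx
    have h1 := hf (Units.mk0 x hx)
    rw [Units.val_mk0] at h1
    rw [h1, hcf, Units.val_mul, Units.val_inv_eq_inv_val, Units.val_mk0, hr']
    congr 1
    field_simp
  · intro x hx
    obtain ⟨σ, hσ, h1, h2⟩ := hH1 ((Units.mk0 x hx) ^ 2) (Subgroup.sq_mem_of_index_two hS _)
    exact ⟨σ, hσ, h1, h2⟩
  · intro σ hσ h1 h2
    obtain ⟨s, hs, h3⟩ := hH2 σ hσ h1 h2
    obtain ⟨r, rfl⟩ := exists_sq_of_mem hS hs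
    exact ⟨r, r.ne_zero, h3⟩

end

end Cfsg.Agent.PermutationGroups.PSLRecogPerm
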