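import Mathlib
import Cfsg.Prelude.Def_LieExceptional

/-!
Elementary theory of doubly transitive groups with trivial three-point stabilisers and two-point
stabilisers of even order: counting of involutions, the abelian Frobenius kernel of a point
stabiliser.
-/

set_option autoImplicit false

namespace Cfsg.Agent.PermutationGroups.ZassenhausEven

open MulAction

/-- three-point stabilisers are trivial -/
def ThreeTrivial (G Ω : Type*) [Group G] [MulAction G Ω] : Prop :=
  ∀ g : G, ∀ a b c : Ω, a ≠ b → b ≠ c → a ≠ c → g • a = a → g • b = b → g • c = c → g = 1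

/-- every two-point stabiliser contains an involution -/
def TwoInv (G Ω : Type*) [Group G] [MulAction G Ω] : Prop :=
  ∀ x y : Ω, x ≠ y → ∃ u : G, u ≠ 1 ∧ u * u = 1 ∧ u • x = x ∧ u • y = y

section

variable {G Ω : Type*} [Group G] [MulAction G Ω]

/-- Product of two involutions of the stabiliser of `x` with distinct further fixed points. -/
theorem eq_of_smul_eq (h3 : ThreeTrivial G Ω) {u v : G} {x y z w : Ω} (hu : u ≠ 1)
    (hu2 : u * u = 1) (hv : v ≠ 1) (hv2 : v * v = 1) (hux : u • x = x) (hvx : v • x = x)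
    (huy : u • y = y) (hvz : v • z = z) (hyx : y ≠ x) (hzx : z ≠ x) (hyz : y ≠ z)
    (hw : u • w = v • w) : w = x := by
  by_contra hwx
  have huu : ∀ t : Ω, u • u • t = t := fun t => by rw [← mul_smul, hu2, one_smul]
  have hvv : ∀ t : Ω, v • v • t = t := fun t => by rw [← mul_smul, hv2, one_smul]
  by_cases hww : u • w = w
  · -- `w` is fixed by `u` and `v`
    have h1 : w = y := by
      by_contra hne
      exact hu (h3 u x y w hyx.symm (Ne.symm hne) (Ne.symm hwx) hux huy hww)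
    have h2 : w = z := by
      by_contra hne
      exact hv (h3 v x z w hzx.symm (Ne.symm hne) (Ne.symm hwx) hvx hvz (hw ▸ hww))
    exact hyz (h1.symm.trans h2)
  · have hne : u • w ≠ x := by
      intro h
      apply hwx
      have := huu w
      rw [h, hux] at this
      exact this.symm
    have h1 : (v * u) = 1 := by
      refine h3 (v * u) x w (u • w) (Ne.symm hwx) (Ne.symm hww) (Ne.symm hne) ?_ ?_ ?_
      · rw [mul_smul, hux, hvx]
      · rw [mul_smul, hw, hvv]
      · rw [mul_smul, huu, hw]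
    have huv : u = v := by
      have : v * (v * u) = v * 1 := by rw [h1]
      rw [← mul_assoc, hv2, one_mul, mul_one] at this
      exact this
    subst huv
    exact hu (h3 u x y z hyx.symm hyz (Ne.symm hzx) hux huy hvz)

/-- For `p, q ≠ x` some involution fixing `x` and another point maps `p` to `q`. -/
theorem exists_invol_map [Finite Ω] (h3 : ThreeTrivial G Ω) (hI : TwoInv G Ω) {x p q : Ω}
    (hp : p ≠ x) (hq : q ≠ x) :
    ∃ y : Ω, ∃ u : G, y ≠ x ∧ u ≠ 1 ∧ u * u = 1 ∧ u • x = x ∧ u • y = y ∧ u • p = q := by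
  classical
  have hI' : ∀ y : {y : Ω // y ≠ x}, ∃ u : G, u ≠ 1 ∧ u * u = 1 ∧ u • x = x ∧ u • (y : Ω) = y :=
    fun y => hI x y (Ne.symm y.2)
  choose u hu1 hu2 hux huy using hI'
  let f : {y : Ω // y ≠ x} → {y : Ω // y ≠ x} := fun y =>
    ⟨u y • p, fun h => hp (smul_left_cancel (u y) (h.trans (hux y).symm))⟩
  have hf : Function.Injective f := by
    intro y z hyz
    by_contra hne
    have h := congrArg Subtype.val hyz
    exact hp (eq_of_smul_eq h3 (hu1 y) (hu2 y) (hu1 z) (hu2 z) (hux y) (hux z) (huy y) (huy z)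
      y.2 z.2 (fun h => hne (Subtype.ext h)) h)
  obtain ⟨y, hy⟩ := (Finite.injective_iff_surjective.mp hf) ⟨q, hq⟩
  exact ⟨y, u y, y.2, hu1 y, hu2 y, hux y, huy y, congrArg Subtype.val hy⟩

/-- For a third point `x` there is an involution fixing `x` and swapping `a, b`. -/
theorem exists_swap_fix [Finite Ω] (h3 : ThreeTrivial G Ω) (hI : TwoInv G Ω) {a b x : Ω}
    (hxa : x ≠ a) (hxb : x ≠ b) :
    ∃ t : G, t * t = 1 ∧ t • x = x ∧ t • a = b ∧ t • b = a := by
  obtain ⟨y, u, -, -, hu2, hux, -, hup⟩ := exists_invol_map h3 hI (Ne.symm hxa) (Ne.symm hxb)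
  refine ⟨u, hu2, hux, hup, ?_⟩
  rw [← hup, ← mul_smul, hu2, one_smul]

/-- The elements swapping `a` and `b` and fixing a further point. -/
def swapFix (G : Type*) {Ω : Type*} [Group G] [MulAction G Ω] (a b : Ω) : Set G :=
  {t | t • a = b ∧ t • b = a ∧ ∃ x, x ≠ a ∧ x ≠ b ∧ t • x = x}

/-- The elements swapping `a` and `b`. -/
def swapSet (G : Type*) {Ω : Type*} [Group G] [MulAction G Ω] (a b : Ω) : Set G :=
  {t | t • a = b ∧ t • b = a}

theorem swapFix_subset (a b : Ω) : swapFix G a b ⊆ swapSet G a b := fun _ h => ⟨h.1, h.2.1⟩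

theorem sq_eq_one_of_mem_swapFix (h3 : ThreeTrivial G Ω) {a b : Ω} (hab : a ≠ b) {t : G}
    (ht : t ∈ swapFix G a b) : t * t = 1 := by
  obtain ⟨h1, h2, x, hxa, hxb, hx⟩ := ht
  refine h3 (t * t) a b x hab (Ne.symm hxb) (Ne.symm hxa) ?_ ?_ ?_
  · rw [mul_smul, h1, h2]
  · rw [mul_smul, h2, h1]
  · rw [mul_smul, hx, hx]

theorem card_le_two_mul_swapFix [Finite G] [Finite Ω] (h3 : ThreeTrivial G Ω) (hI : TwoInv G Ω)
    {a b : Ω} (hab : a ≠ b) : Nat.card Ω - 2 ≤ 2 * Nat.card (swapFix G a b) := by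
  classical
  have := Fintype.ofFinite Ω
  have := Fintype.ofFinite G
  have hex : ∀ x : Ω, ∃ t : G, x ≠ a → x ≠ b → t ∈ swapFix G a b ∧ t • x = x := by
    intro x
    by_cases hxa : x = a
    · exact ⟨1, fun h => absurd hxa h⟩
    by_cases hxb : x = b
    · exact ⟨1, fun _ h => absurd hxb h⟩
    obtain ⟨t, -, h2, h3', h4⟩ := exists_swap_fix h3 hI hxa hxb
    exact ⟨t, fun _ _ => ⟨⟨h3', h4, x, hxa, hxb, h2⟩, h2⟩⟩
  choose t ht using hex
  let S : Finset Ω := (Finset.univ.erase a).erase b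
  have hS : S.card = Fintype.card Ω - 2 := by
    rw [Finset.card_erase_of_mem (Finset.mem_erase.mpr ⟨hab.symm, Finset.mem_univ _⟩),
      Finset.card_erase_of_mem (Finset.mem_univ _), Finset.card_univ]
    omega
  have hmem : ∀ x ∈ S, x ≠ a ∧ x ≠ b := by
    intro x hx
    rw [Finset.mem_erase, Finset.mem_erase] at hx
    exact ⟨hx.2.1, hx.1⟩
  have h1 : S.card ≤ 2 * (S.image t).card := by
    refine Finset.card_le_mul_card_image (s := S) (f := t) 2 ?_
    intro g hg
    obtain ⟨x, hx, rfl⟩ := Finset.mem_image.mp hg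
    by_contra hcon
    push Not at hcon
    obtain ⟨p, q, r, hp, hq, hr, hpq, hpr, hqr⟩ := Finset.two_lt_card_iff.mp hcon
    simp only [Finset.mem_filter] at hp hq hr
    have hp' := ht p (hmem p hp.1).1 (hmem p hp.1).2
    have hq' := ht q (hmem q hq.1).1 (hmem q hq.1).2
    have hr' := ht r (hmem r hr.1).1 (hmem r hr.1).2
    have e1 : t x • p = p := by rw [← hp.2]; exact hp'.2
    have e2 : t x • q = q := by rw [← hq.2]; exact hq'.2
    have e3 : t x • r = r := by rw [← hr.2]; exact hr'.2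
    have h1 := h3 (t x) p q r hpq hqr hpr e1 e2 e3
    have hx' := (ht x (hmem x hx).1 (hmem x hx).2).1.1
    rw [h1, one_smul] at hx'
    exact hab hx'
  have h2 : (S.image t).card ≤ Nat.card (swapFix G a b) := by
    rw [Nat.card_coe_set_eq, ← Set.ncard_coe_finset]
    refine Set.ncard_le_ncard ?_ (Set.toFinite _)
    intro g hg
    obtain ⟨x, hx, rfl⟩ := Finset.mem_image.mp (Finset.mem_coe.mp hg)
    exact (ht x (hmem x hx).1 (hmem x hx).2).1
  rw [Nat.card_eq_fintype_card, ← hS]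
  omega

theorem card_swapSet [Finite G] {a b : Ω} {s : G} (hs : s ∈ swapSet G a b) :
    Nat.card (swapSet G a b) = Nat.card ↥(stabilizer G a ⊓ stabilizer G b) := by
  refine (Nat.card_congr ?_).symm
  refine ⟨fun h => ⟨s * h, ?_, ?_⟩, fun t => ⟨s⁻¹ * t, ?_⟩, ?_, ?_⟩
  · rw [mul_smul, h.2.1, hs.1]
  · rw [mul_smul, h.2.2, hs.2]
  · refine ⟨?_, ?_⟩
    · change (s⁻¹ * (t : G)) • a = a
      rw [mul_smul, t.2.1, inv_smul_eq_iff, hs.1]
    · change (s⁻¹ * (t : G)) • b = b
      rw [mul_smul, t.2.2, inv_smul_eq_iff, hs.2]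
  · intro h
    apply Subtype.ext
    simp
  · intro h
    apply Subtype.ext
    simp

theorem exists_mem_swapSet (h2 : IsMultiplyPretransitive G Ω 2) {a b : Ω} (hab : a ≠ b) :
    ∃ s : G, s ∈ swapSet G a b := by
  obtain ⟨g, h1, h2⟩ := is_two_pretransitive_iff.mp h2 hab hab.symm
  exact ⟨g, h1, h2⟩

/-- The inequality `n - 1 ≤ 2 d` (this is S0741). -/
theorem card_sub_two_le [Finite G] [Finite Ω] (h2 : IsMultiplyPretransitive G Ω 2)
    (h3 : ThreeTrivial G Ω) (hI : TwoInv G Ω) {a b : Ω} (hab : a ≠ b) :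
    Nat.card Ω - 2 ≤ 2 * Nat.card ↥(stabilizer G a ⊓ stabilizer G b) := by
  obtain ⟨s, hs⟩ := exists_mem_swapSet h2 hab
  rw [← card_swapSet hs]
  refine (card_le_two_mul_swapFix h3 hI hab).trans (Nat.mul_le_mul_left 2 ?_)
  exact Nat.card_mono (Set.toFinite _) (swapFix_subset a b)

theorem swapFix_eq_swapSet [Finite G] [Finite Ω] (h2 : IsMultiplyPretransitive G Ω 2)
    (h3 : ThreeTrivial G Ω) (hI : TwoInv G Ω) {a b : Ω} (hab : a ≠ b)
    (hd : 2 * Nat.card ↥(stabilizer G a ⊓ stabilizer G b) ≤ Nat.card Ω - 2) :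
    swapFix G a b = swapSet G a b := by
  obtain ⟨s, hs⟩ := exists_mem_swapSet h2 hab
  rw [← card_swapSet hs] at hd
  have h1 := hd.trans (card_le_two_mul_swapFix h3 hI hab)
  refine Set.eq_of_subset_of_ncard_le (swapFix_subset a b) ?_ (Set.toFinite _)
  rw [Nat.card_coe_set_eq, Nat.card_coe_set_eq] at h1
  omega

/-- If `2 d ≤ n - 1` every element swapping `a` and `b` is an involution. -/
theorem swap_sq [Finite G] [Finite Ω] (h2 : IsMultiplyPretransitive G Ω 2)
    (h3 : ThreeTrivial G Ω) (hI : TwoInv G Ω) {a b : Ω} (hab : a ≠ b)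
    (hd : 2 * Nat.card ↥(stabilizer G a ⊓ stabilizer G b) ≤ Nat.card Ω - 2)
    {t : G} (hta : t • a = b) (htb : t • b = a) : t * t = 1 := by
  have : t ∈ swapSet G a b := ⟨hta, htb⟩
  rw [← swapFix_eq_swapSet h2 h3 hI hab hd] at this
  exact sq_eq_one_of_mem_swapFix h3 hab this

/-- If `2 d ≤ n - 1` every element swapping `a` and `b` inverts the two-point stabiliser. -/
theorem swap_conj [Finite G] [Finite Ω] (h2 : IsMultiplyPretransitive G Ω 2)
    (h3 : ThreeTrivial G Ω) (hI : TwoInv G Ω) {a b : Ω} (hab : a ≠ b)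
    (hd : 2 * Nat.card ↥(stabilizer G a ⊓ stabilizer G b) ≤ Nat.card Ω - 2)
    {t : G} (hta : t • a = b) (htb : t • b = a) {h : G}
    (hh : h ∈ stabilizer G a ⊓ stabilizer G b) : t * h * t⁻¹ = h⁻¹ := by
  have h1 := swap_sq h2 h3 hI hab hd hta htb
  have h4 : (t * h) * (t * h) = 1 := by
    refine swap_sq h2 h3 hI hab hd ?_ ?_
    · rw [mul_smul, hh.1, hta]
    · rw [mul_smul, hh.2, htb]
  have h5 : t⁻¹ = t := inv_eq_of_mul_eq_one_left h1
  rw [h5, eq_inv_iff_mul_eq_one, mul_assoc, ]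
  rw [← mul_assoc] at h4
  rw [← h4]
  group

/-- The set of elements of the stabiliser of `a` which are trivial or have no further fixed
point. -/
def kerSet (G : Type*) {Ω : Type*} [Group G] [MulAction G Ω] (a : Ω) : Set G :=
  {g | g • a = a ∧ ∀ x, x ≠ a → g • x = x → g = 1}

theorem mem_kerSet_iff {a : Ω} {g : G} :
    g ∈ kerSet G a ↔ g • a = a ∧ ∀ x, x ≠ a → g • x = x → g = 1 := Iff.rfl

/-- Burnside counting: the kernel set has `|Ω| - 1` elements. -/
theorem card_kerSet [Finite G] [Finite Ω] (h2 : IsMultiplyPretransitive G Ω 2)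
    (h3 : ThreeTrivial G Ω) {a b : Ω} (hab : a ≠ b) : Nat.card (kerSet G a) = Nat.card Ω - 1 := by
  classical
  have := Fintype.ofFinite Ω
  have := Fintype.ofFinite G
  let A := stabilizer G a
  let Ω' := SubMulAction.ofStabilizer G a
  have hpre : IsPretransitive G Ω := isPretransitive_of_is_two_pretransitive
  have htr : IsPretransitive A Ω' := by
    rw [← is_one_pretransitive_iff]
    exact (SubMulAction.ofStabilizer.isMultiplyPretransitive (a := a)).mp h2
  have hn : Nonempty Ω' := ⟨⟨b, hab.symm⟩⟩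
  have hB := sum_card_fixedBy_eq_card_orbits_mul_card_group A Ω'
  have horb : Fintype.card (Quotient (orbitRel A Ω')) = 1 := by
    rw [Fintype.card_eq_one_iff_nonempty_unique]
    exact (pretransitive_iff_unique_quotient_of_nonempty A Ω').mp htr
  rw [horb, one_mul] at hB
  let K' : Finset A := Finset.univ.filter (fun g : A => (g : G) ∈ kerSet G a)
  have hc : ∀ g : A, (Fintype.card (fixedBy Ω' g) : ℤ) =
      1 - (if g ∈ K' then 1 else 0) + (if g = 1 then (Fintype.card Ω' : ℤ) else 0) := by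
    intro g
    by_cases hg : g = 1
    · subst hg
      have h1 : (1 : A) ∈ K' := by
        simp only [K', Finset.mem_filter, Finset.mem_univ, true_and]
        exact ⟨one_smul _ _, fun _ _ _ => rfl⟩
      have h4 : Fintype.card (fixedBy Ω' (1 : A)) = Fintype.card Ω' := by
        refine Fintype.card_congr ?_
        rw [fixedBy_one_eq_univ]
        exact Equiv.Set.univ _
      rw [if_pos h1, if_pos rfl, h4]
      ring
    · have hg' : (g : G) ≠ 1 := fun h => hg (Subtype.ext h)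
      rw [if_neg hg, add_zero]
      by_cases hK : g ∈ K'
      · rw [if_pos hK, sub_self, Nat.cast_eq_zero, Fintype.card_eq_zero_iff]
        constructor
        rintro ⟨x, hx⟩
        simp only [K', Finset.mem_filter, Finset.mem_univ, true_and] at hK
        exact hg' (hK.2 x x.2 (congrArg Subtype.val hx))
      · rw [if_neg hK, sub_zero, Nat.cast_eq_one, Fintype.card_eq_one_iff]
        have : ∃ x : Ω, x ≠ a ∧ (g : G) • x = x := by
          by_contra hcon
          push Not at hcon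
          apply hK
          simp only [K', Finset.mem_filter, Finset.mem_univ, true_and]
          exact ⟨g.2, fun x hx h => absurd h (hcon x hx)⟩
        obtain ⟨x, hxa, hx⟩ := this
        refine ⟨⟨⟨x, hxa⟩, Subtype.ext hx⟩, ?_⟩
        rintro ⟨⟨y, hya⟩, hy⟩
        apply Subtype.ext
        apply Subtype.ext
        change y = x
        by_contra hne
        exact hg' (h3 g a y x (Ne.symm hya) hne (Ne.symm hxa) g.2 (congrArg Subtype.val hy) hx)
  have hsum : (∑ g : A, (Fintype.card (fixedBy Ω' g) : ℤ)) = Fintype.card A := by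
    exact_mod_cast hB
  rw [Finset.sum_congr rfl (fun g _ => hc g), Finset.sum_add_distrib, Finset.sum_sub_distrib,
    Finset.sum_const, Finset.card_univ, Finset.sum_ite_mem, Finset.sum_ite_eq'] at hsum
  simp only [Finset.univ_inter, Finset.sum_const, nsmul_eq_mul, mul_one, Finset.mem_univ,
    if_true] at hsum
  have h5 : K'.card = Fintype.card Ω' := by
    have : (K'.card : ℤ) = Fintype.card Ω' := by linarith
    exact_mod_cast this
  have h6 : Nat.card (kerSet G a) = K'.card := by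
    rw [← Fintype.card_coe, ← Nat.card_eq_fintype_card]
    refine Nat.card_congr ⟨fun g => ⟨⟨g, g.2.1⟩, ?_⟩, fun g => ⟨g, ?_⟩, fun _ => rfl, fun _ => rfl⟩
    · simp only [K', Finset.mem_filter, Finset.mem_univ, true_and]
      exact g.2
    · have := g.2
      simp only [K', Finset.mem_filter, Finset.mem_univ, true_and] at this
      exact this
  have h7 : Nat.card Ω' + 1 = Nat.card Ω := SubMulAction.nat_card_ofStabilizer_add_one_eq G a
  rw [h6, h5, ← Nat.card_eq_fintype_card]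
  omega

theorem inv_mem_kerSet {a : Ω} {g : G} (hg : g ∈ kerSet G a) : g⁻¹ ∈ kerSet G a := by
  refine ⟨by rw [inv_smul_eq_iff]; exact hg.1.symm, fun x hx h => ?_⟩
  rw [inv_smul_eq_iff] at h
  rw [hg.2 x hx h.symm, inv_one]

theorem one_mem_kerSet {a : Ω} : (1 : G) ∈ kerSet G a := ⟨one_smul _ _, fun _ _ _ => rfl⟩

theorem conj_mem_kerSet {a : Ω} {g h : G} (hg : g ∈ kerSet G a) (hh : h • a = a) :
    h * g * h⁻¹ ∈ kerSet G a := by
  have hh' : h⁻¹ • a = a := by rw [inv_smul_eq_iff, hh]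
  refine ⟨by rw [mul_smul, mul_smul, hh', hg.1, hh], fun x hx h' => ?_⟩
  rw [mul_smul, mul_smul, ← eq_inv_smul_iff] at h'
  have hne : h⁻¹ • x ≠ a := by
    intro h''
    apply hx
    rw [inv_smul_eq_iff, hh] at h''
    exact h''
  rw [hg.2 _ hne h']
  group

/-- The kernel set consists of the products of two chosen involutions. -/
theorem exists_eq_mul [Finite G] [Finite Ω] (h2 : IsMultiplyPretransitive G Ω 2)
    (h3 : ThreeTrivial G Ω) {a b : Ω} (hab : a ≠ b) (u : Ω → G)
    (hu : ∀ y, y ≠ a → u y ≠ 1 ∧ u y * u y = 1 ∧ u y • a = a ∧ u y • y = y) :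
    ∀ g ∈ kerSet G a, ∃ y, y ≠ a ∧ g = u y * u b := by
  classical
  have := Fintype.ofFinite Ω
  have := Fintype.ofFinite G
  have hmem : ∀ y, y ≠ a → u y * u b ∈ kerSet G a := by
    intro y hy
    refine ⟨by rw [mul_smul, (hu b hab.symm).2.2.1, (hu y hy).2.2.1], fun x hx h => ?_⟩
    by_cases hyb : y = b
    · subst hyb
      exact (hu y hy).2.1
    · exfalso
      apply hx
      refine eq_of_smul_eq h3 (hu y hy).1 (hu y hy).2.1 (hu b hab.symm).1 (hu b hab.symm).2.1
        (hu y hy).2.2.1 (hu b hab.symm).2.2.1 (hu y hy).2.2.2 (hu b hab.symm).2.2.2 hy hab.symm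
        hyb ?_
      rw [mul_smul] at h
      have h' : u y • u y • u b • x = u y • x := by rw [h]
      rw [← mul_smul, (hu y hy).2.1, one_smul] at h'
      exact h'.symm
  let f : {y : Ω // y ≠ a} → kerSet G a := fun y => ⟨u y * u b, hmem y y.2⟩
  have hf : Function.Injective f := by
    rintro ⟨y, hy⟩ ⟨z, hz⟩ hyz
    apply Subtype.ext
    change y = z
    by_contra hne
    have h1 : u y * u b = u z * u b := congrArg Subtype.val hyz
    have h4 : u y = u z := mul_right_cancel h1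
    exact (hu y hy).1 (h3 (u y) a y z (Ne.symm hy) hne (Ne.symm hz) (hu y hy).2.2.1
      (hu y hy).2.2.2 (by rw [h4]; exact (hu z hz).2.2.2))
  have hcard : Nat.card {y : Ω // y ≠ a} = Nat.card (kerSet G a) := by
    rw [card_kerSet h2 h3 hab]
    have h7 := SubMulAction.nat_card_ofStabilizer_add_one_eq G a
    have h8 : Nat.card {y : Ω // y ≠ a} = Nat.card (SubMulAction.ofStabilizer G a) := rfl
    omega
  have hsurj : Function.Surjective f := by
    have := (Nat.bijective_iff_injective_and_card f).mpr ⟨hf, hcard⟩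
    exact this.2
  intro g hg
  obtain ⟨y, hy⟩ := hsurj ⟨g, hg⟩
  exact ⟨y, y.2, (congrArg Subtype.val hy).symm⟩

theorem exists_choice (hI : TwoInv G Ω) (a : Ω) : ∃ u : Ω → G,
    ∀ y, y ≠ a → u y ≠ 1 ∧ u y * u y = 1 ∧ u y • a = a ∧ u y • y = y := by
  have : ∀ y, ∃ u : G, y ≠ a → u ≠ 1 ∧ u * u = 1 ∧ u • a = a ∧ u • y = y := by
    intro y
    by_cases hy : y = a
    · exact ⟨1, fun h => absurd hy h⟩
    · obtain ⟨u, hu⟩ := hI a y (Ne.symm hy)
      exact ⟨u, fun _ => hu⟩
  choose u hu using this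
  exact ⟨u, hu⟩

/-- The kernel set is closed under multiplication. -/
theorem mul_mem_kerSet [Finite G] [Finite Ω] (h2 : IsMultiplyPretransitive G Ω 2)
    (h3 : ThreeTrivial G Ω) (hI : TwoInv G Ω) {a b : Ω} (hab : a ≠ b) {g h : G}
    (hg : g ∈ kerSet G a) (hh : h ∈ kerSet G a) : g * h ∈ kerSet G a := by
  obtain ⟨u, hu⟩ := exists_choice hI a
  obtain ⟨y, hy, rfl⟩ := exists_eq_mul h2 h3 hab u hu g hg
  obtain ⟨z, hz, hz'⟩ := exists_eq_mul h2 h3 hab u hu h⁻¹ (inv_mem_kerSet hh)
  have hinv : ∀ y, y ≠ a → (u y)⁻¹ = u y := fun y hy =>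
    inv_eq_of_mul_eq_one_left (hu y hy).2.1
  have hh' : h = u b * u z := by
    rw [← inv_inv h, hz', mul_inv_rev, hinv b hab.symm, hinv z hz]
  have h4 : u y * u b * h = u y * u z := by
    rw [hh', mul_assoc, ← mul_assoc (u b), (hu b hab.symm).2.1, one_mul]
  rw [h4]
  refine ⟨by rw [mul_smul, (hu z hz).2.2.1, (hu y hy).2.2.1], fun x hx h => ?_⟩
  by_cases hyz : y = z
  · subst hyz
    exact (hu y hy).2.1
  · exfalso
    apply hx
    refine eq_of_smul_eq h3 (hu y hy).1 (hu y hy).2.1 (hu z hz).1 (hu z hz).2.1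
      (hu y hy).2.2.1 (hu z hz).2.2.1 (hu y hy).2.2.2 (hu z hz).2.2.2 hy hz hyz ?_
    rw [mul_smul] at h
    have h' : u y • u y • u z • x = u y • x := by rw [h]
    rw [← mul_smul, (hu y hy).2.1, one_smul] at h'
    exact h'.symm

/-- An involution fixing `a` and `b` inverts the kernel set. -/
theorem invol_conj_kerSet [Finite G] [Finite Ω] (h2 : IsMultiplyPretransitive G Ω 2)
    (h3 : ThreeTrivial G Ω) (hI : TwoInv G Ω) {a b : Ω} (hab : a ≠ b) {v : G} (hv1 : v ≠ 1)
    (hv2 : v * v = 1) (hva : v • a = a) (hvb : v • b = b) {g : G} (hg : g ∈ kerSet G a) :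
    v * g * v⁻¹ = g⁻¹ := by
  classical
  obtain ⟨u, hu⟩ := exists_choice hI a
  let u' : Ω → G := fun y => if y = b then v else u y
  have hu' : ∀ y, y ≠ a → u' y ≠ 1 ∧ u' y * u' y = 1 ∧ u' y • a = a ∧ u' y • y = y := by
    intro y hy
    by_cases hyb : y = b
    · subst hyb
      simp only [u', if_true]
      exact ⟨hv1, hv2, hva, hvb⟩
    · simp only [u', if_neg hyb]
      exact hu y hy
  obtain ⟨y, hy, hy'⟩ := exists_eq_mul h2 h3 hab u' hu' g hg
  have hb : u' b = v := by simp [u']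
  rw [hb] at hy'
  have h4 : g * v = u' y := by rw [hy', mul_assoc, hv2, mul_one]
  have h5 : (g * v) * (g * v) = 1 := by rw [h4]; exact (hu' y hy).2.1
  have h6 : v⁻¹ = v := inv_eq_of_mul_eq_one_left hv2
  rw [h6, eq_inv_iff_mul_eq_one]
  have h7 : g * (v * g * v * g) * g⁻¹ = 1 := by
    have : g * (v * g * v * g) * g⁻¹ = (g * v) * (g * v) := by group
    rw [this, h5]
  have h8 : v * g * v * g = g⁻¹ * (g * (v * g * v * g) * g⁻¹) * g := by group
  rw [h8, h7]
  group

/-- The Frobenius kernel of the stabiliser of `a`. -/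
def kernel [Finite G] [Finite Ω] (h2 : IsMultiplyPretransitive G Ω 2)
    (h3 : ThreeTrivial G Ω) (hI : TwoInv G Ω) {a b : Ω} (hab : a ≠ b) : Subgroup G where
  carrier := kerSet G a
  mul_mem' := mul_mem_kerSet h2 h3 hI hab
  one_mem' := one_mem_kerSet
  inv_mem' := inv_mem_kerSet

theorem mem_kernel_iff [Finite G] [Finite Ω] (h2 : IsMultiplyPretransitive G Ω 2)
    (h3 : ThreeTrivial G Ω) (hI : TwoInv G Ω) {a b : Ω} (hab : a ≠ b) {g : G} :
    g ∈ kernel h2 h3 hI hab ↔ g ∈ kerSet G a := Iff.rfl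

/-- Existence of the abelian Frobenius kernel. -/
theorem exists_kernel [Finite G] [Finite Ω] (h2 : IsMultiplyPretransitive G Ω 2)
    (h3 : ThreeTrivial G Ω) (hI : TwoInv G Ω) {a b : Ω} (hab : a ≠ b) :
    ∃ F : Subgroup G, (F : Set G) = kerSet G a ∧ F ≤ stabilizer G a ∧
      (F.subgroupOf (stabilizer G a)).Normal ∧ (∀ u ∈ F, ∀ v ∈ F, u * v = v * u) ∧
      (∀ y z : Ω, y ≠ a → z ≠ a → ∃! u : F, (u : G) • y = z) ∧
      Nat.card F = Nat.card Ω - 1 := by
  let F := kernel h2 h3 hI hab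
  have hF : ∀ g, g ∈ F ↔ g ∈ kerSet G a := fun g => Iff.rfl
  have hcard : Nat.card F = Nat.card Ω - 1 := card_kerSet h2 h3 hab
  refine ⟨F, rfl, fun g hg => hg.1, ⟨?_⟩, ?_, ?_, hcard⟩
  · rintro ⟨n, hn⟩ hn' ⟨g, hg⟩
    rw [Subgroup.mem_subgroupOf] at hn' ⊢
    exact conj_mem_kerSet hn' hg
  · intro g hg h hh
    obtain ⟨v, hv1, hv2, hva, hvb⟩ := hI a b hab
    have e1 := invol_conj_kerSet h2 h3 hI hab hv1 hv2 hva hvb hg
    have e2 := invol_conj_kerSet h2 h3 hI hab hv1 hv2 hva hvb hh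
    have e3 := invol_conj_kerSet h2 h3 hI hab hv1 hv2 hva hvb (mul_mem_kerSet h2 h3 hI hab hg hh)
    have e4 : v * (g * h) * v⁻¹ = g⁻¹ * h⁻¹ := by
      rw [← e1, ← e2]; group
    rw [e3] at e4
    have e5 : (h * g)⁻¹ = (g * h)⁻¹ := by rw [e4, mul_inv_rev]
    exact (inv_injective e5).symm
  · intro y z hy hz
    have hinj : ∀ y, y ≠ a → ∀ g ∈ F, ∀ h ∈ F, g • y = h • y → g = h := by
      intro y hy g hg h hh hgh
      have h4 : h⁻¹ * g ∈ F := F.mul_mem (F.inv_mem hh) hg
      have h5 : (h⁻¹ * g) • y = y := by rw [mul_smul, hgh, inv_smul_smul]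
      have h6 : h⁻¹ * g = 1 := h4.2 y hy h5
      exact (inv_mul_eq_one.mp h6).symm
    have hFa : ∀ g ∈ F, ∀ y, y ≠ a → g • y ≠ a := by
      intro g hg y hy h
      exact hy (smul_left_cancel g (h.trans hg.1.symm))
    let f : F → {y : Ω // y ≠ a} := fun g => ⟨(g : G) • y, hFa g g.2 y hy⟩
    have hf : Function.Injective f := by
      intro g h hgh
      exact Subtype.ext (hinj y hy g g.2 h h.2 (congrArg Subtype.val hgh))
    have hcard' : Nat.card F = Nat.card {y : Ω // y ≠ a} := by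
      rw [hcard]
      have h7 := SubMulAction.nat_card_ofStabilizer_add_one_eq G a
      have h8 : Nat.card {y : Ω // y ≠ a} = Nat.card (SubMulAction.ofStabilizer G a) := rfl
      omega
    obtain ⟨g, hg⟩ := ((Nat.bijective_iff_injective_and_card f).mpr ⟨hf, hcard'⟩).2 ⟨z, hz⟩
    refine ⟨g, congrArg Subtype.val hg, ?_⟩
    intro h hh
    exact hf (hg ▸ Subtype.ext hh)

/-- Translation: in a Zassenhaus group with two-point stabilisers of even order. -/
theorem threeTrivial_of_zassenhaus (hZ : Cfsg.IsZassenhausGroup G Ω) : ThreeTrivial G Ω :=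
  hZ.2.2.1

theorem twoInv_of_even [Finite G] (h2 : IsMultiplyPretransitive G Ω 2) {a b : Ω} (hab : a ≠ b)
    (heven : Even (Nat.card ↥(stabilizer G a ⊓ stabilizer G b))) : TwoInv G Ω := by
  have : Fact (Nat.Prime 2) := ⟨Nat.prime_two⟩
  obtain ⟨v, hv⟩ := exists_prime_orderOf_dvd_card' (G := ↥(stabilizer G a ⊓ stabilizer G b)) 2
    heven.two_dvd
  have hv1 : (v : G) ≠ 1 := by
    intro h
    have : v = 1 := Subtype.ext h
    rw [this, orderOf_one] at hv
    omega
  have hv2 : (v : G) * v = 1 := by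
    have := pow_orderOf_eq_one v
    rw [hv, pow_two] at this
    exact congrArg Subtype.val this
  intro x y hxy
  obtain ⟨g, hga, hgb⟩ := is_two_pretransitive_iff.mp h2 hab hxy
  have e1 : g⁻¹ • x = a := by rw [inv_smul_eq_iff, hga]
  have e2 : g⁻¹ • y = b := by rw [inv_smul_eq_iff, hgb]
  refine ⟨g * v * g⁻¹, ?_, ?_, ?_, ?_⟩
  · intro h
    apply hv1
    have : (v : G) = g⁻¹ * (g * v * g⁻¹) * g := by group
    rw [this, h]; group
  · have : g * v * g⁻¹ * (g * v * g⁻¹) = g * (v * v) * g⁻¹ := by group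
    rw [this, hv2]; group
  · rw [mul_smul, mul_smul, e1, v.2.1, hga]
  · rw [mul_smul, mul_smul, e2, v.2.2, hgb]

end

end Cfsg.Agent.PermutationGroups.ZassenhausEven
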