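import Mathlib
import Cfsg.Agent.PermutationGroups.FieldCoord
import Cfsg.Agent.PermutationGroups.PSLRecogPerm
import Cfsg.Agent.PermutationGroups.ZassenhausEven

/-!
Recognition of `PSL(2, q)`, `q` odd: a faithful action with trivial three-point stabilisers, an
abelian regular normal subgroup `F` of the stabiliser of `a`, a two-point stabiliser `H` of order
`(q - 1) / 2`, inverted by an involution swapping `a` and `b`.
-/

set_option autoImplicit false

namespace Cfsg.Agent.PermutationGroups.PSLRecog

open MulAction OnePoint Cfsg.Agent.PermutationGroups.ZassenhausEven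

section

variable {G Ω : Type*} [Group G] [MulAction G Ω]

/-- The regular subgroup has `|Ω| - 1` elements. -/
theorem card_of_regular [Finite Ω] {a b : Ω} (hab : a ≠ b) (F : Subgroup G)
    (hFle : F ≤ stabilizer G a)
    (hreg : ∀ y z : Ω, y ≠ a → z ≠ a → ∃! u : F, (u : G) • y = z) :
    Nat.card F + 1 = Nat.card Ω := by
  have h7 : Nat.card (SubMulAction.ofStabilizer G a) + 1 = Nat.card Ω :=
    SubMulAction.nat_card_ofStabilizer_add_one_eq G a
  rw [← h7]
  congr 1
  have hne : ∀ u : F, (u : G) • b ≠ a := fun u h =>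
    hab (smul_left_cancel (u : G) ((hFle u.2).trans h.symm))
  refine Nat.card_congr (Equiv.ofBijective (fun u : F => (⟨(u : G) • b, hne u⟩ :
    SubMulAction.ofStabilizer G a)) ⟨?_, ?_⟩)
  · intro u v huv
    have h1 : (u : G) • b = (v : G) • b := congrArg Subtype.val huv
    obtain ⟨w, -, hw⟩ := hreg b ((v : G) • b) hab.symm (hne v)
    rw [hw u h1, hw v rfl]
  · rintro ⟨z, hz⟩
    obtain ⟨w, hw, -⟩ := hreg b z hab.symm hz
    exact ⟨w, Subtype.ext hw⟩

/-- Coordinates: the abelian regular normal subgroup of the stabiliser of `a` is the additive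
group of a field, on which `H = G_{a,b}` acts by multiplications, when `|H| = (q-1)/2` and `H` is
commutative. -/
theorem exists_coord [Finite G] [Finite Ω] (h3 : ThreeTrivial G Ω) {a b : Ω}
    (hab : a ≠ b) (F : Subgroup G) (hFle : F ≤ stabilizer G a)
    (hFn : ∀ h ∈ stabilizer G a, ∀ u ∈ F, h * u * h⁻¹ ∈ F)
    (hFab : ∀ u ∈ F, ∀ v ∈ F, u * v = v * u)
    (hreg : ∀ y z : Ω, y ≠ a → z ≠ a → ∃! u : F, (u : G) • y = z)
    (hΩ : 2 < Nat.card Ω) (hH : Nat.card Ω ≤ 2 * Nat.card ↥(stabilizer G a ⊓ stabilizer G b) + 2)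
    (hHc : ∀ x y : ↥(stabilizer G a ⊓ stabilizer G b), x * y = y * x) :
    ∃ (K : Type) (_ : Field K) (_ : Fintype K) (τ : Multiplicative K →* G)
      (ρ : ↥(stabilizer G a ⊓ stabilizer G b) →* Kˣ),
      Function.Injective τ ∧ τ.range = F ∧ Function.Injective ρ ∧
      ∀ (h : ↥(stabilizer G a ⊓ stabilizer G b)) (x : K),
        (h : G) * τ (Multiplicative.ofAdd x) * (h : G)⁻¹ =
          τ (Multiplicative.ofAdd ((ρ h : K) * x)) := by
  classical
  letI : CommGroup F := { (inferInstance : Group F) with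
    mul_comm := fun u v => Subtype.ext (hFab u u.2 v v.2) }
  let H := stabilizer G a ⊓ stabilizer G b
  have hcard := card_of_regular hab F hFle hreg
  have hHa : ∀ h : H, (h : G) ∈ stabilizer G a := fun h => h.2.1
  -- the key fact: elements of `H` commuting with a non-identity element of `F`
  have hfp : ∀ h : H, ∀ w : F, w ≠ 1 → (h : G) * w * (h : G)⁻¹ = w → h = 1 := by
    intro h w hw hc
    have hwb : (w : G) • b ≠ b := by
      intro h1
      obtain ⟨u, -, hu⟩ := hreg b b hab.symm hab.symm
      apply hw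
      rw [hu w h1, hu 1 (one_smul G b)]
    have hwa : (w : G) • b ≠ a := fun h =>
      hab (smul_left_cancel (w : G) ((hFle w.2).trans h.symm))
    apply Subtype.ext
    refine h3 h a b ((w : G) • b) hab (Ne.symm hwb) (Ne.symm hwa) h.2.1 h.2.2 ?_
    have h1 : (h : G) * w = w * h := by
      have := congrArg (fun x => x * (h : G)) hc
      simpa using this
    rw [← mul_smul, h1, mul_smul, h.2.2]
  let φ : H →* AddMonoid.End (Additive F) :=
    { toFun := fun h =>
        { toFun := fun k => Additive.ofMul ⟨(h : G) * (Additive.toMul k : F) * (h : G)⁻¹,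
            hFn h (hHa h) _ (Additive.toMul k).2⟩
          map_zero' := by
            apply Additive.toMul.injective
            apply Subtype.ext
            simp
          map_add' := by
            intro x y
            apply Additive.toMul.injective
            apply Subtype.ext
            simp }
      map_one' := by
        refine DFunLike.ext _ _ fun k => ?_
        apply Additive.toMul.injective
        apply Subtype.ext
        change ((1 : H) : G) * (Additive.toMul k : F) * ((1 : H) : G)⁻¹ = (Additive.toMul k : F)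
        simp
      map_mul' := by
        intro h h'
        refine DFunLike.ext _ _ fun k => ?_
        apply Additive.toMul.injective
        apply Subtype.ext
        change ((h * h' : H) : G) * (Additive.toMul k : F) * ((h * h' : H) : G)⁻¹ =
          (h : G) * ((h' : G) * (Additive.toMul k : F) * (h' : G)⁻¹) * (h : G)⁻¹
        rw [Subgroup.coe_mul]
        group }
  have hφ : ∀ (h : H) (k : Additive F),
      ((Additive.toMul (φ h k) : F) : G) = (h : G) * (Additive.toMul k : F) * (h : G)⁻¹ :=
    fun h k => rfl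
  have hnt : Nontrivial (Additive F) := by
    have h1 : 1 < Nat.card (Additive F) := by
      have : Nat.card (Additive F) = Nat.card F := Nat.card_congr Additive.toMul
      omega
    exact (Finite.one_lt_card_iff_nontrivial).mp h1
  have hirr : ∀ W : AddSubgroup (Additive F), (∀ h : H, ∀ w ∈ W, φ h w ∈ W) →
      W = ⊥ ∨ W = ⊤ := by
    intro W hW
    by_cases hbot : W = ⊥
    · exact Or.inl hbot
    right
    obtain ⟨⟨w, hw⟩, hw0'⟩ := AddSubgroup.ne_bot_iff_exists_ne_zero.mp hbot
    have hw0 : w ≠ 0 := fun h => hw0' (Subtype.ext h)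
    have hw1 : (Additive.toMul (w : Additive F) : F) ≠ 1 := fun h => hw0 (by
      rw [← Additive.toMul.injective.eq_iff, h]; rfl)
    -- the injection of `Option H` into `W`
    let ι : Option H → W := fun o => match o with
      | Option.none => 0
      | Option.some h => ⟨φ h w, hW h w hw⟩
    have hι0 : ∀ h : H, φ h w ≠ 0 := by
      intro h h0
      have h1 : (h : G) * (Additive.toMul (w : Additive F) : F) * (h : G)⁻¹ = 1 := by
        rw [← hφ, h0]; rfl
      apply hw1
      apply Subtype.ext
      have h2 : ((Additive.toMul (w : Additive F) : F) : G) =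
        (h : G)⁻¹ * ((h : G) * (Additive.toMul (w : Additive F) : F) * (h : G)⁻¹) * h := by group
      rw [h2, h1]; simp
    have hι : Function.Injective ι := by
      rintro (_ | h) (_ | h') heq
      · rfl
      · exact absurd (congrArg Subtype.val heq).symm (hι0 h')
      · exact absurd (congrArg Subtype.val heq) (hι0 h)
      · have h1 : φ h w = φ h' w := congrArg Subtype.val heq
        have h2 : (h : G) * (Additive.toMul (w : Additive F) : F) * (h : G)⁻¹ =
            (h' : G) * (Additive.toMul (w : Additive F) : F) * (h' : G)⁻¹ := by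
          rw [← hφ, ← hφ, h1]
        have h4 : h'⁻¹ * h = 1 := by
          refine hfp (h'⁻¹ * h) _ hw1 ?_
          have : ((h'⁻¹ * h : H) : G) * (Additive.toMul (w : Additive F) : F) *
              ((h'⁻¹ * h : H) : G)⁻¹ = (h' : G)⁻¹ *
              ((h : G) * (Additive.toMul (w : Additive F) : F) * (h : G)⁻¹) * h' := by
            simp [mul_assoc]
          rw [this, h2]
          group
        rw [inv_mul_eq_one.mp h4]
    have h5 : Nat.card H + 1 ≤ Nat.card W := by
      rw [← Finite.card_option]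
      exact Nat.card_le_card_of_injective ι hι
    have h6 : Nat.card W ∣ Nat.card (Additive F) := AddSubgroup.card_addSubgroup_dvd_card W
    have h7 : Nat.card (Additive F) = Nat.card F := Nat.card_congr Additive.toMul
    obtain ⟨k, hk⟩ := h6
    have h8 : k = 1 := by
      have hpos : 0 < Nat.card (Additive F) := Nat.card_pos
      have hH' : Nat.card Ω ≤ 2 * Nat.card H + 2 := hH
      rcases Nat.lt_or_ge k 2 with hk2 | hk2
      · interval_cases k
        · omega
        · rfl
      · exfalso
        have : Nat.card W * 2 ≤ Nat.card W * k := Nat.mul_le_mul_left _ hk2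
        omega
    rw [h8, mul_one] at hk
    exact AddSubgroup.eq_top_of_card_eq W hk.symm
  obtain ⟨K, hK, hK', e, ρ, hρ⟩ := FieldCoord.exists_field_coord hHc φ hirr
  let τ : Multiplicative K →* G :=
    { toFun := fun x => ((Additive.toMul (e (Multiplicative.toAdd x)) : F) : G)
      map_one' := by simp
      map_mul' := by
        intro x y
        simp }
  have hτ : ∀ x : K, τ (Multiplicative.ofAdd x) = ((Additive.toMul (e x) : F) : G) :=
    fun x => rfl
  have hmain : ∀ (h : H) (x : K), (h : G) * τ (Multiplicative.ofAdd x) * (h : G)⁻¹ =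
          τ (Multiplicative.ofAdd ((ρ h : K) * x)) := by
    intro h x
    rw [hτ, hτ, ← hρ, hφ]
  refine ⟨K, hK, hK', τ, ρ, ?_, ?_, ?_, hmain⟩
  · intro x y hxy
    have h1 : e (Multiplicative.toAdd x) = e (Multiplicative.toAdd y) :=
      Additive.toMul.injective (Subtype.ext hxy)
    exact Multiplicative.toAdd.injective (e.injective h1)
  · ext g
    constructor
    · rintro ⟨x, rfl⟩
      exact (Additive.toMul (e (Multiplicative.toAdd x)) : F).2
    · intro hg
      refine ⟨Multiplicative.ofAdd (e.symm (Additive.ofMul ⟨g, hg⟩)), ?_⟩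
      rw [hτ, AddEquiv.apply_symm_apply]
      rfl
  · rw [injective_iff_map_eq_one]
    intro h hh
    obtain ⟨x, hx⟩ := exists_ne (0 : Additive F)
    refine hfp h (Additive.toMul x) (fun h0 => hx ?_) ?_
    · rw [← Additive.toMul.injective.eq_iff, h0]; rfl
    · have := hmain h (e.symm x)
      rw [hh, Units.val_one, one_mul, hτ, AddEquiv.apply_symm_apply] at this
      exact this

/-- The projective line model: a bijection `ψ : OnePoint K ≃ Ω` and the transported permutation
representation `θ`. -/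
theorem exists_model [FaithfulSMul G Ω] {a b : Ω} (hab : a ≠ b) (F : Subgroup G)
    (hFle : F ≤ stabilizer G a)
    (hreg : ∀ y z : Ω, y ≠ a → z ≠ a → ∃! u : F, (u : G) • y = z)
    {K : Type*} [Field K] (τ : Multiplicative K →* G) (hτ : Function.Injective τ)
    (hτF : τ.range = F) :
    ∃ (ψ : OnePoint K ≃ Ω) (θ : G →* Equiv.Perm (OnePoint K)), Function.Injective θ ∧
      ψ ∞ = a ∧ (∀ x : K, ψ (x : OnePoint K) = τ (Multiplicative.ofAdd x) • b) ∧
      (∀ g x, ψ (θ g x) = g • ψ x) ∧
      (∀ c : K, θ (τ (Multiplicative.ofAdd c)) ∞ = ∞ ∧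
        ∀ x : K, θ (τ (Multiplicative.ofAdd c)) (x : OnePoint K) = ((x + c : K) : OnePoint K)) := by
  classical
  have hτa : ∀ x, τ x • a = a := fun x => hFle (hτF ▸ ⟨x, rfl⟩ : τ x ∈ F)
  have hne : ∀ x, τ x • b ≠ a := fun x h => hab (smul_left_cancel (τ x) ((hτa x).trans h.symm))
  let f : OnePoint K → Ω := fun x => x.elim a (fun y => τ (Multiplicative.ofAdd y) • b)
  have hfinf : f ∞ = a := rfl
  have hfcoe : ∀ x : K, f (x : OnePoint K) = τ (Multiplicative.ofAdd x) • b := fun x => rfl
  have hinj : Function.Injective f := by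
    intro x y hxy
    induction x using OnePoint.rec with
    | infty =>
      induction y using OnePoint.rec with
      | infty => rfl
      | coe y => exact absurd hxy.symm (hne _)
    | coe x =>
      induction y using OnePoint.rec with
      | infty => exact absurd hxy (hne _)
      | coe y =>
        rw [hfcoe, hfcoe] at hxy
        obtain ⟨u, -, hu⟩ := hreg b _ hab.symm (hne (Multiplicative.ofAdd y))
        have h1 := hu ⟨_, (hτF ▸ ⟨_, rfl⟩ : τ (Multiplicative.ofAdd x) ∈ F)⟩ hxy
        have h2 := hu ⟨_, (hτF ▸ ⟨_, rfl⟩ : τ (Multiplicative.ofAdd y) ∈ F)⟩ rfl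
        have h3 := hτ (congrArg Subtype.val (h1.trans h2.symm))
        rw [Multiplicative.ofAdd.injective h3]
  have hsurj : Function.Surjective f := by
    intro z
    by_cases hz : z = a
    · exact ⟨∞, hz.symm⟩
    · obtain ⟨⟨u, hu⟩, huz, -⟩ := hreg b z hab.symm hz
      rw [← hτF] at hu
      obtain ⟨x, rfl⟩ := hu
      exact ⟨((Multiplicative.toAdd x : K) : OnePoint K), huz⟩
  let ψ : OnePoint K ≃ Ω := Equiv.ofBijective f ⟨hinj, hsurj⟩
  let θ : G →* Equiv.Perm (OnePoint K) :=
    ((ψ.symm.permCongrHom : Equiv.Perm Ω ≃* Equiv.Perm (OnePoint K)) :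
      Equiv.Perm Ω →* Equiv.Perm (OnePoint K)).comp (toPermHom G Ω)
  have hθ : ∀ g x, θ g x = ψ.symm (g • ψ x) := fun g x => rfl
  have hθ' : ∀ g x, ψ (θ g x) = g • ψ x := fun g x => by rw [hθ, Equiv.apply_symm_apply]
  refine ⟨ψ, θ, ?_, hfinf, hfcoe, hθ', ?_⟩
  · rw [injective_iff_map_eq_one]
    intro g hg
    apply FaithfulSMul.eq_of_smul_eq_smul (α := Ω)
    intro w
    have h1 := hθ' g (ψ.symm w)
    rw [hg, Equiv.apply_symm_apply] at h1
    rw [← h1, one_smul, Equiv.Perm.one_apply, Equiv.apply_symm_apply]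
  · intro c
    constructor
    · apply ψ.injective
      rw [hθ']
      exact hτa _
    · intro x
      apply ψ.injective
      rw [hθ']
      change τ (Multiplicative.ofAdd c) • τ (Multiplicative.ofAdd x) • b =
        τ (Multiplicative.ofAdd (x + c)) • b
      rw [add_comm, ofAdd_add, map_mul, mul_smul]

/-- Recognition of `PSL(2, q)`, `q` odd. -/
theorem recog [Finite G] [Finite Ω] [FaithfulSMul G Ω] (h3 : ThreeTrivial G Ω) {a b : Ω}
    (hab : a ≠ b) (F : Subgroup G) (hFle : F ≤ stabilizer G a)
    (hFn : (F.subgroupOf (stabilizer G a)).Normal)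
    (hFab : ∀ u ∈ F, ∀ v ∈ F, u * v = v * u)
    (hreg : ∀ y z : Ω, y ≠ a → z ≠ a → ∃! u : F, (u : G) • y = z)
    (hH : Nat.card Ω = 2 * Nat.card ↥(stabilizer G a ⊓ stabilizer G b) + 2)
    (s : G) (hs2 : s * s = 1) (hsa : s • a = b)
    (hinv : ∀ h ∈ stabilizer G a ⊓ stabilizer G b, s * h * s⁻¹ = h⁻¹) :
    ∃ (K : Type) (_ : Field K) (_ : Fintype K), Fintype.card K + 1 = Nat.card Ω ∧
      ringChar K ≠ 2 ∧ Nonempty (G ≃* Matrix.ProjectiveSpecialLinearGroup (Fin 2) K) := by
  classical
  have hHpos : 0 < Nat.card ↥(stabilizer G a ⊓ stabilizer G b) := Nat.card_pos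
  have hFn' : ∀ h ∈ stabilizer G a, ∀ u ∈ F, h * u * h⁻¹ ∈ F := by
    intro h hh u hu
    exact Subgroup.mem_subgroupOf.mp
      (hFn.conj_mem ⟨u, hFle hu⟩ (Subgroup.mem_subgroupOf.mpr hu) ⟨h, hh⟩)
  have hHc : ∀ x y : ↥(stabilizer G a ⊓ stabilizer G b), x * y = y * x := by
    intro x y
    apply Subtype.ext
    have h1 := hinv x x.2
    have h2 := hinv y y.2
    have h3 := hinv (x * y) (Subgroup.mul_mem _ x.2 y.2)
    have h4 : s * ((x : G) * y) * s⁻¹ = (x : G)⁻¹ * (y : G)⁻¹ := by rw [← h1, ← h2]; group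
    rw [h3] at h4
    have h5 : ((y : G) * x)⁻¹ = ((x : G) * y)⁻¹ := by rw [h4, mul_inv_rev]
    exact (inv_injective h5).symm
  obtain ⟨K, hK, hK', τ, ρ, hτ, hτF, hρ, hmain⟩ :=
    exists_coord h3 hab F hFle hFn' hFab hreg (by omega) (by omega) hHc
  obtain ⟨ψ, θ, hθ, hψinf, hψ, hθψ, hθτ⟩ := exists_model hab F hFle hreg τ hτ hτF
  have hcardF := card_of_regular hab F hFle hreg
  have hcardK : Nat.card K = Nat.card F := by
    rw [← hτF]
    exact Nat.card_congr (Multiplicative.ofAdd.trans (MonoidHom.ofInjective hτ).toEquiv)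
  have hψ0 : ψ ((0 : K) : OnePoint K) = b := by
    rw [hψ, ofAdd_zero, map_one, one_smul]
  have hθH : ∀ (h : ↥(stabilizer G a ⊓ stabilizer G b)), θ h ∞ = ∞ ∧
      ∀ x : K, θ h (x : OnePoint K) = (((ρ h : K) * x : K) : OnePoint K) := by
    intro h
    constructor
    · apply ψ.injective
      rw [hθψ, hψinf]
      exact h.2.1
    · intro x
      apply ψ.injective
      rw [hθψ, hψ, hψ, ← hmain, mul_smul, mul_smul]
      congr 2
      rw [eq_inv_smul_iff]
      exact h.2.2
  have hS : ρ.range.index = 2 := by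
    have h1 : Nat.card ρ.range * ρ.range.index = Nat.card Kˣ := Subgroup.card_mul_index _
    have h2 : Nat.card ρ.range = Nat.card ↥(stabilizer G a ⊓ stabilizer G b) :=
      (Nat.card_congr (MonoidHom.ofInjective hρ).toEquiv).symm
    have h4 : Nat.card Kˣ = Nat.card K - 1 := Nat.card_units K
    rw [h2, h4, hcardK] at h1
    have h5 : Nat.card F - 1 = Nat.card ↥(stabilizer G a ⊓ stabilizer G b) * 2 := by omega
    rw [h5] at h1
    exact Nat.eq_of_mul_eq_mul_left hHpos h1
  have hstab : ∀ g, θ g ∞ = ∞ → θ g ((0 : K) : OnePoint K) = ((0 : K) : OnePoint K) →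
      g ∈ stabilizer G a ⊓ stabilizer G b := by
    intro g h1 h2
    refine ⟨?_, ?_⟩
    · have := hθψ g ∞
      rw [h1, hψinf] at this
      exact this.symm
    · have := hθψ g ((0 : K) : OnePoint K)
      rw [h2, hψ0] at this
      exact this.symm
  have hfinal : Nonempty (θ.range ≃* Matrix.ProjectiveSpecialLinearGroup (Fin 2) K) := by
    refine PSLRecogPerm.nonempty_mulEquiv_psl' θ.range ρ.range hS ?_ ?_ ?_ (θ s) ⟨s, rfl⟩ ?_ ?_ ?_
    · intro c
      exact ⟨_, ⟨_, rfl⟩, hθτ c⟩
    · rintro _ ⟨h, rfl⟩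
      exact ⟨_, ⟨h, rfl⟩, hθH h⟩
    · rintro _ ⟨g, rfl⟩ h1 h2
      have hg := hstab g h1 h2
      exact ⟨_, ⟨⟨g, hg⟩, rfl⟩, (hθH ⟨g, hg⟩).2⟩
    · apply ψ.injective
      rw [hθψ, hψinf, hψ0, hsa]
    · rw [← map_mul, hs2, map_one]
    · rintro _ ⟨g, rfl⟩ h1 h2
      rw [← map_mul, ← map_inv, ← map_mul, hinv g (hstab g h1 h2), map_inv]
  obtain ⟨e⟩ := hfinal
  refine ⟨K, hK, hK', ?_, ?_, ⟨(MonoidHom.ofInjective hθ).trans e⟩⟩
  · rw [← Nat.card_eq_fintype_card, hcardK]
    exact hcardF
  · intro h2
    have h4 := FiniteField.even_card_iff_char_two.mp h2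
    rw [← Nat.card_eq_fintype_card, hcardK] at h4
    omega

end

end Cfsg.Agent.PermutationGroups.PSLRecog
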