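import Mathlib

/-!
Counting lemma for an involutory automorphism `σ` of a finite group `X` with exactly two fixed
points `1, t`: if `B` is a subgroup of order 4 and exponent 2, all conjugates of `t` lie in `B`.
-/

set_option autoImplicit false

namespace Cfsg.Agent.PermutationGroups.InvertHalf

open Finset

/-- `x⁻¹ σ(x)` is inverted by `σ`. -/
theorem map_inv_mul {X : Type*} [Group X] {σ : X →* X} (hσ : ∀ x, σ (σ x) = x) (x : X) :
    σ (x⁻¹ * σ x) = (x⁻¹ * σ x)⁻¹ := by
  rw [map_mul, map_inv, hσ, mul_inv_rev, inv_inv]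

theorem fiber_eq {X : Type*} [Group X] {σ : X →* X} {t : X}
    (ht : ∀ x, σ x = x ↔ x = 1 ∨ x = t) (x y : X) :
    x⁻¹ * σ x = y⁻¹ * σ y ↔ y = x ∨ y = t * x := by
  have h1 : x⁻¹ * σ x = y⁻¹ * σ y ↔ σ (y * x⁻¹) = y * x⁻¹ := by
    rw [map_mul, map_inv]
    constructor
    · intro h
      have : σ y = y * (x⁻¹ * σ x) := by rw [h]; group
      rw [this]; group
    · intro h
      have : σ y = y * x⁻¹ * σ x := by rw [← h]; group
      rw [this]; group
  rw [h1, ht, mul_inv_eq_one, mul_inv_eq_iff_eq_mul]

/-- Main counting lemma. -/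
theorem conj_mem {X : Type*} [Group X] [Finite X] (σ : X →* X) (hσ : ∀ x, σ (σ x) = x) {t : X}
    (ht1 : t ≠ 1) (ht : ∀ x, σ x = x ↔ x = 1 ∨ x = t) (B : Subgroup X) (hB4 : Nat.card B = 4)
    (hB2 : ∀ b ∈ B, b * b = 1) (x : X) : x⁻¹ * t * x ∈ B := by
  classical
  have := Fintype.ofFinite X
  let f : X → X := fun x => x⁻¹ * σ x
  let K : Finset X := Finset.univ.image f
  let χ : X → ℤ := fun x => if x ∈ K then 1 else 0
  have hfib : ∀ k ∈ K, (Finset.univ.filter (fun x => f x = k)).card = 2 := by
    intro k hk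
    obtain ⟨x, -, rfl⟩ := Finset.mem_image.mp hk
    have : (Finset.univ.filter (fun y => f y = f x)) = {x, t * x} := by
      ext y
      simp only [Finset.mem_filter, Finset.mem_univ, true_and, Finset.mem_insert,
        Finset.mem_singleton]
      rw [eq_comm, fiber_eq ht]
    rw [this, Finset.card_pair]
    intro h
    exact ht1 (mul_eq_right.mp h.symm)
  have hsum : ∀ φ : X → ℤ, ∑ x, φ (f x) = 2 * ∑ k, χ k * φ k := by
    intro φ
    rw [Finset.sum_comp φ f, Finset.mul_sum]
    have h2 : ∀ k, 2 * (χ k * φ k) = if k ∈ K then 2 * φ k else 0 := by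
      intro k
      by_cases hk : k ∈ K <;> simp [χ, hk]
    rw [Finset.sum_congr rfl (fun k _ => h2 k), Finset.sum_ite_mem, Finset.univ_inter]
    refine Finset.sum_congr rfl fun k hk => ?_
    rw [hfib k hk]
    simp
  -- `m g` is the number of `k ∈ K` with `g k ∈ K`
  let m : X → ℤ := fun g => ∑ k, χ k * χ (g * k)
  have hχf : ∀ x, χ (f x) = 1 := fun x => by
    have : f x ∈ K := Finset.mem_image_of_mem f (Finset.mem_univ x)
    simp [χ, this]
  have hcard : (Fintype.card X : ℤ) = 2 * ∑ k, χ k := by
    have := hsum (fun _ => 1)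
    simpa using this
  have hχχ : ∀ k, χ k * χ k = χ k := fun k => by
    by_cases hk : k ∈ K <;> simp [χ, hk]
  -- upper bound
  have hupper : ∀ g : X, g ≠ 1 → g * g = 1 →
      2 * m g ≤ ∑ x, (if x * g * x⁻¹ = t then (1 : ℤ) else 0) := by
    intro g hg1 hg2
    have : 2 * m g = ∑ x, χ (g * f x) := (hsum (fun k => χ (g * k))).symm
    rw [this]
    refine Finset.sum_le_sum fun x _ => ?_
    by_cases hk : g * f x ∈ K
    · have h1 : χ (g * f x) = 1 := by simp [χ, hk]
      rw [h1]
      obtain ⟨y, -, hy⟩ := Finset.mem_image.mp hk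
      have h2 : σ (g * f x) = (g * f x)⁻¹ := by rw [← hy]; exact map_inv_mul hσ y
      have h3 : σ (f x) = (f x)⁻¹ := map_inv_mul hσ x
      have hg' : g⁻¹ = g := inv_eq_of_mul_eq_one_left hg2
      have h2' : σ g * (f x)⁻¹ = (f x)⁻¹ * g := by
        have h6 : σ g * σ (f x) = (g * f x)⁻¹ := by rw [← map_mul]; exact h2
        have h7 : (g * f x)⁻¹ = (f x)⁻¹ * g⁻¹ := mul_inv_rev _ _
        rw [h3, h7, hg'] at h6
        exact h6
      have h4 : σ g = (f x)⁻¹ * g * f x := by rw [← h2', inv_mul_cancel_right]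
      have h5 : σ (x * g * x⁻¹) = x * g * x⁻¹ := by
        rw [map_mul, map_mul, map_inv, h4]
        simp only [f]
        group
      rw [ht] at h5
      rcases h5 with h5 | h5
      · exfalso
        apply hg1
        have : g = x⁻¹ * (x * g * x⁻¹) * x := by group
        rw [this, h5]; group
      · rw [if_pos h5]
    · have h1 : χ (g * f x) = 0 := by simp [χ, hk]
      rw [h1]
      split_ifs <;> norm_num
  -- the function `v x = #{b ∈ B | b x ∈ K}`
  let v : X → ℤ := fun x => ∑ b : B, χ ((b : X) * x)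
  have hcB : Fintype.card B = 4 := by rw [← Nat.card_eq_fintype_card, hB4]
  have hv1 : ∑ x, v x = 4 * ∑ k, χ k := by
    simp only [v]
    rw [Finset.sum_comm]
    have : ∀ b : B, ∑ x, χ ((b : X) * x) = ∑ k, χ k := fun b =>
      Equiv.sum_comp (Equiv.mulLeft (b : X)) χ
    rw [Finset.sum_congr rfl (fun b _ => this b), Finset.sum_const, Finset.card_univ, hcB]
    simp
  have hv2 : ∑ x, v x * v x = 4 * ∑ g : B, m g := by
    have h1 : ∀ x, v x * v x = ∑ b : B, ∑ c : B, χ ((b : X) * x) * χ ((c : X) * x) := by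
      intro x
      rw [Finset.sum_mul_sum]
    rw [Finset.sum_congr rfl (fun x _ => h1 x), Finset.sum_comm]
    have h2 : ∀ b : B, ∑ x, ∑ c : B, χ ((b : X) * x) * χ ((c : X) * x) = ∑ g : B, m g := by
      intro b
      rw [Finset.sum_comm]
      have h3 : ∀ c : B, ∑ x, χ ((b : X) * x) * χ ((c : X) * x) = m ((c * b⁻¹ : B) : X) := by
        intro c
        have := Equiv.sum_comp (Equiv.mulLeft (b : X))
          (fun k => χ k * χ (((c * b⁻¹ : B) : X) * k))
        simp only [m]
        rw [← this]
        refine Finset.sum_congr rfl fun x _ => ?_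
        simp only [Equiv.coe_mulLeft, Subgroup.coe_mul, Subgroup.coe_inv]
        congr 2
        group
      rw [Finset.sum_congr rfl (fun c _ => h3 c)]
      exact Equiv.sum_comp (Equiv.mulRight b⁻¹) (fun g : B => m (g : X))
    rw [Finset.sum_congr rfl (fun b _ => h2 b), Finset.sum_const, Finset.card_univ, hcB]
    simp
  have hsq : 0 ≤ ∑ x, (v x - 2) * (v x - 2) := Finset.sum_nonneg fun x _ => mul_self_nonneg _
  have hexp : ∑ x, (v x - 2) * (v x - 2) = ∑ x, v x * v x - 4 * ∑ x, v x
      + 4 * Fintype.card X := by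
    have h1 : ∀ x, (v x - 2) * (v x - 2) = v x * v x - 4 * v x + 4 := fun x => by ring
    rw [Finset.sum_congr rfl (fun x _ => h1 x), Finset.sum_add_distrib, Finset.sum_sub_distrib,
      ← Finset.mul_sum, Finset.sum_const, Finset.card_univ]
    simp [mul_comm]
  have hm1 : m 1 = ∑ k, χ k := by
    simp only [m, one_mul]
    exact Finset.sum_congr rfl fun k _ => hχχ k
  have hsplit : ∑ g : B, m g = m 1 + ∑ g ∈ (Finset.univ : Finset B).erase 1, m g := by
    rw [← Finset.add_sum_erase Finset.univ (fun g : B => m (g : X)) (Finset.mem_univ (1 : B))]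
    rfl
  have hlow : (Fintype.card X : ℤ) ≤ 2 * ∑ g ∈ (Finset.univ : Finset B).erase 1, m g := by
    rw [hexp, hv1, hv2, hsplit, hm1] at hsq
    linarith
  have hup : 2 * ∑ g ∈ (Finset.univ : Finset B).erase 1, m g ≤
      ∑ x, (if x⁻¹ * t * x ∈ B then (1 : ℤ) else 0) := by
    rw [Finset.mul_sum]
    calc ∑ g ∈ (Finset.univ : Finset B).erase 1, 2 * m g
        ≤ ∑ g ∈ (Finset.univ : Finset B).erase 1,
            ∑ x, (if x * (g : X) * x⁻¹ = t then (1 : ℤ) else 0) := by
          refine Finset.sum_le_sum fun g hg => ?_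
          refine hupper g (fun h => ?_) (hB2 g g.2)
          exact (Finset.mem_erase.mp hg).1 (Subtype.ext h)
      _ = ∑ x, ∑ g ∈ (Finset.univ : Finset B).erase 1,
            (if x * (g : X) * x⁻¹ = t then (1 : ℤ) else 0) := Finset.sum_comm
      _ ≤ ∑ x, (if x⁻¹ * t * x ∈ B then (1 : ℤ) else 0) := by
          refine Finset.sum_le_sum fun x _ => ?_
          by_cases hx : x⁻¹ * t * x ∈ B
          · rw [if_pos hx]
            have h1 : ∀ g : B, (if x * (g : X) * x⁻¹ = t then (1 : ℤ) else 0)
                = if g = ⟨x⁻¹ * t * x, hx⟩ then 1 else 0 := by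
              intro g
              have : x * (g : X) * x⁻¹ = t ↔ g = ⟨x⁻¹ * t * x, hx⟩ := by
                rw [Subtype.ext_iff]
                constructor
                · intro h
                  change (g : X) = x⁻¹ * t * x
                  rw [← h]; group
                · intro h
                  change (g : X) = x⁻¹ * t * x at h
                  rw [h]; group
              simp only [this]
            rw [Finset.sum_congr rfl (fun g _ => h1 g), Finset.sum_ite_eq']
            split_ifs <;> norm_num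
          · rw [if_neg hx]
            refine Finset.sum_nonpos fun g _ => ?_
            rw [if_neg]
            intro h
            apply hx
            have : x⁻¹ * t * x = g := by rw [← h]; group
            rw [this]
            exact g.2
  have hall : ∑ x : X, (if x⁻¹ * t * x ∈ B then (1 : ℤ) else 0)
      = ((Finset.univ.filter (fun x => x⁻¹ * t * x ∈ B)).card : ℤ) := by
    rw [Finset.sum_boole]
  rw [hall] at hup
  have hge : Fintype.card X ≤ (Finset.univ.filter (fun x => x⁻¹ * t * x ∈ B)).card := by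
    exact_mod_cast hlow.trans hup
  have heq : Finset.univ.filter (fun x => x⁻¹ * t * x ∈ B) = Finset.univ := by
    apply Finset.eq_univ_of_card
    exact le_antisymm (Finset.card_le_univ _) hge
  have := Finset.mem_univ x
  rw [← heq, Finset.mem_filter] at this
  exact this.2

end Cfsg.Agent.PermutationGroups.InvertHalf
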