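import Mathlib
import Cfsg.Agent.Solvable.UniqueOrderP
import Cfsg.Agent.PermutationGroups.InvertHalf

/-!
Finite groups with a unique involution `j` and an involutory automorphism `σ` fixing only `1, j`,
without subgroups of index 2.
-/

set_option autoImplicit false

namespace Cfsg.Agent.PermutationGroups.NoIndexTwo

open Subgroup

/-- cyclic Sylow 2-subgroup and even order: there is a subgroup of index 2 -/
theorem exists_index_two_of_isCyclic {H : Type*} [Group H] [Finite H] (P : Sylow 2 H)
    (hP : IsCyclic P) (h2 : 2 ∣ Nat.card H) : ∃ N : Subgroup H, N.index = 2 := by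
  have : Fact (Nat.Prime 2) := ⟨Nat.prime_two⟩
  have hmin : (Nat.card H).minFac = 2 := (Nat.minFac_eq_two_iff _).mpr h2
  have hcomp := IsCyclic.isComplement' hmin hP
  set τ := MonoidHom.transferSylow P (IsCyclic.normalizer_le_centralizer hmin hP) with hτ
  have hi : τ.ker.index = Nat.card P := hcomp.symm.index_eq_card
  have hsurj : Function.Surjective τ := by
    have h1 := Subgroup.index_ker τ
    rw [hi] at h1
    have h3 : τ.range = ⊤ := by
      apply Subgroup.eq_top_of_card_eq
      exact h1.symm
    exact MonoidHom.range_eq_top.mp h3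
  obtain ⟨k, hk⟩ := (IsPGroup.iff_card.mp P.isPGroup')
  have hk0 : k ≠ 0 := by
    rintro rfl
    have : 2 ∣ Nat.card P := by
      have := P.dvd_card_of_dvd_card h2
      exact this
    rw [hk] at this
    norm_num at this
  obtain ⟨k, rfl⟩ := Nat.exists_eq_succ_of_ne_zero hk0
  obtain ⟨K, hK⟩ := Sylow.exists_subgroup_card_pow_prime (G := P) 2 (n := k)
    (by rw [hk]; exact pow_dvd_pow 2 (Nat.le_succ k))
  refine ⟨K.comap τ, ?_⟩
  rw [Subgroup.index_comap_of_surjective K hsurj]
  have h1 := K.index_mul_card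
  rw [hK, hk, pow_succ, mul_comm] at h1
  exact Nat.eq_of_mul_eq_mul_left (pow_pos (by norm_num) k) h1

/-- In a group without subgroups of index 2 subgroups of index 3 are normal. -/
theorem normal_of_index_three {H : Type*} [Group H] (hno : ∀ N : Subgroup H, N.index ≠ 2)
    (N : Subgroup H) (hN : N.index = 3) : N.Normal := by
  classical
  have hfin : Finite (H ⧸ N) := by
    apply Nat.finite_of_card_ne_zero
    have : Nat.card (H ⧸ N) = 3 := hN
    omega
  have := Fintype.ofFinite (H ⧸ N)
  have hc : Fintype.card (H ⧸ N) = 3 := by rw [← Nat.card_eq_fintype_card]; exact hN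
  set φ := MulAction.toPermHom H (H ⧸ N) with hφ
  have hsign : ∀ h : H, Equiv.Perm.sign (φ h) = 1 := by
    by_contra hcon
    push Not at hcon
    obtain ⟨h, hh⟩ := hcon
    set ψ : H →* ℤˣ := Equiv.Perm.sign.comp φ with hψ
    apply hno ψ.ker
    rw [Subgroup.index_ker]
    have h1 : Nat.card ψ.range ∣ Nat.card ℤˣ := Subgroup.card_subgroup_dvd_card _
    have h2 : Nat.card ℤˣ = 2 := by simp
    rw [h2] at h1
    rcases (Nat.dvd_prime Nat.prime_two).mp h1 with h3 | h3
    · exfalso
      have h4 : ψ.range = ⊥ := Subgroup.card_eq_one.mp h3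
      apply hh
      have : ψ h ∈ ψ.range := ⟨h, rfl⟩
      rw [h4, Subgroup.mem_bot] at this
      exact this
    · exact h3
  have hle : φ.range ≤ alternatingGroup (H ⧸ N) := by
    rintro _ ⟨h, rfl⟩
    exact Equiv.Perm.mem_alternatingGroup.mpr (hsign h)
  have hdvd : Nat.card φ.range ∣ 3 := by
    have h1 := Subgroup.card_dvd_of_le hle
    have h2 : Nat.card (alternatingGroup (H ⧸ N)) = 3 := by
      have : Nontrivial (H ⧸ N) := by
        rw [← Fintype.one_lt_card_iff_nontrivial]; omega
      rw [nat_card_alternatingGroup, Nat.card_eq_fintype_card, hc]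
      rfl
    rwa [h2] at h1
  have hker : N.normalCore = φ.ker := Subgroup.normalCore_eq_ker N
  have hcore : N.normalCore.index ∣ 3 := by
    rw [hker, Subgroup.index_ker]
    exact hdvd
  have hrel := Subgroup.relIndex_mul_index (Subgroup.normalCore_le N)
  rw [hN] at hrel
  have hrel1 : N.normalCore.relIndex N = 1 := by
    rw [← hrel] at hcore
    have h5 : N.normalCore.relIndex N * 3 ∣ 1 * 3 := by simpa using hcore
    exact Nat.dvd_one.mp (Nat.dvd_of_mul_dvd_mul_right (by norm_num) h5)
  have : N = N.normalCore := le_antisymm (Subgroup.relIndex_eq_one.mp hrel1) (Subgroup.normalCore_le N)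
  rw [this]
  infer_instance

/-- A finite group with a unique involution and no subgroup of index 2 contains a quaternion group
of order 8. -/
theorem exists_quaternion {H : Type*} [Group H] [Finite H] (hno : ∀ N : Subgroup H, N.index ≠ 2)
    {j : H} (hj : j ≠ 1) (hjj : j * j = 1) (huniq : ∀ x : H, x * x = 1 → x = 1 ∨ x = j) :
    ∃ u v : H, u * u = j ∧ v * v = j ∧ v * u * v⁻¹ = u⁻¹ := by
  have : Fact (Nat.Prime 2) := ⟨Nat.prime_two⟩
  have hoj : orderOf j = 2 := orderOf_eq_prime (by rw [pow_two, hjj]) hj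
  have h2 : 2 ∣ Nat.card H := by rw [← hoj]; exact orderOf_dvd_natCard j
  obtain ⟨P⟩ : Nonempty (Sylow 2 H) := inferInstance
  have hU : Cfsg.Agent.Solvable.UniqueOrderP.UniqueP 2 P := by
    intro x y hx hx2 hy2
    have e1 : ∀ z : P, z ^ 2 = 1 → z = 1 ∨ (z : H) = j := by
      intro z hz
      have : (z : H) * z = 1 := by
        rw [pow_two] at hz
        exact congrArg Subtype.val hz
      rcases huniq z this with h | h
      · exact Or.inl (Subtype.ext h)
      · exact Or.inr h
    rcases e1 y hy2 with h | h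
    · rw [h]; exact one_mem _
    · rcases e1 x hx2 with h' | h'
      · exact absurd h' hx
      · have : y = x := Subtype.ext (h.trans h'.symm)
        rw [this]
        exact mem_zpowers x
  rcases Cfsg.Agent.Solvable.UniqueOrderP.cyclic_or_quaternion P.isPGroup' hU with hP | ⟨-, m, hm, ⟨e⟩⟩
  · obtain ⟨N, hN⟩ := exists_index_two_of_isCyclic P hP h2
    exact absurd hN (hno N)
  · obtain ⟨m, rfl⟩ := Nat.exists_eq_succ_of_ne_zero hm
    let a : QuaternionGroup (2 ^ (m + 1)) := QuaternionGroup.a ((2 ^ m : ℕ) : ZMod (2 * 2 ^ (m + 1)))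
    let b : QuaternionGroup (2 ^ (m + 1)) := QuaternionGroup.xa 0
    have haa : a * a = QuaternionGroup.a ((2 ^ (m + 1) : ℕ) : ZMod (2 * 2 ^ (m + 1))) := by
      simp only [a]
      rw [QuaternionGroup.a_mul_a]
      congr 1
      push_cast
      ring
    have hbb : b * b = QuaternionGroup.a ((2 ^ (m + 1) : ℕ) : ZMod (2 * 2 ^ (m + 1))) := by
      simp only [b]
      rw [QuaternionGroup.xa_mul_xa]
      congr 1
      simp
    have hne : a * a ≠ 1 := by
      rw [haa]
      intro h
      have h1 : (QuaternionGroup.a ((2 ^ (m + 1) : ℕ) : ZMod (2 * 2 ^ (m + 1)))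
        : QuaternionGroup (2 ^ (m + 1))) = QuaternionGroup.a 0 := h
      rw [QuaternionGroup.a.injEq, ZMod.natCast_eq_zero_iff] at h1
      have := Nat.le_of_dvd (by positivity) h1
      have : 0 < 2 ^ (m + 1) := by positivity
      omega
    have hba : b * a = a⁻¹ * b := by
      have : a⁻¹ = QuaternionGroup.a (-((2 ^ m : ℕ) : ZMod (2 * 2 ^ (m + 1)))) := rfl
      rw [this]
      simp only [a, b]
      rw [QuaternionGroup.xa_mul_a, QuaternionGroup.a_mul_xa]
      congr 1
      simp
    have key : ∀ z : QuaternionGroup (2 ^ (m + 1)), z * z = 1 → z ≠ 1 →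
        ((e.symm z : P) : H) = j := by
      intro z hz hz1
      have h1 : (e.symm z) * (e.symm z) = 1 := by rw [← map_mul, hz, map_one]
      rcases huniq _ (congrArg Subtype.val h1) with h | h
      · exfalso
        apply hz1
        have : e.symm z = 1 := Subtype.ext h
        rw [← e.symm.map_one] at this
        exact e.symm.injective this
      · exact h
    have hsq : ((2 ^ (m + 1) : ℕ) : ZMod (2 * 2 ^ (m + 1))) + ((2 ^ (m + 1) : ℕ) : ZMod _) = 0 := by
      rw [← Nat.cast_add, ZMod.natCast_eq_zero_iff]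
      exact ⟨1, by ring⟩
    have hj' : ((e.symm (a * a) : P) : H) = j := by
      apply key _ _ hne
      rw [haa, QuaternionGroup.a_mul_a, hsq]
      rfl
    refine ⟨(e.symm a : P), (e.symm b : P), ?_, ?_, ?_⟩
    · rw [← hj', map_mul]; rfl
    · rw [← hj', haa, ← hbb, map_mul]; rfl
    · rw [mul_inv_eq_iff_eq_mul]
      have := congrArg (fun z => ((e.symm z : P) : H)) hba
      simpa using this

/-- explicit four-group -/
theorem exists_four {X : Type*} [Group X] {a b : X} (ha : a * a = 1) (hb : b * b = 1)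
    (hab : a * b = b * a) (ha1 : a ≠ 1) (hb1 : b ≠ 1) (hne : a ≠ b) :
    ∃ B : Subgroup X, Nat.card B = 4 ∧ (∀ x, x ∈ B ↔ x = 1 ∨ x = a ∨ x = b ∨ x = a * b) := by
  classical
  have ha' : a⁻¹ = a := inv_eq_of_mul_eq_one_left ha
  have hb' : b⁻¹ = b := inv_eq_of_mul_eq_one_left hb
  have e1 : a * (a * b) = b := by rw [← mul_assoc, ha, one_mul]
  have e2 : b * (a * b) = a := by rw [hab, ← mul_assoc, hb, one_mul]
  have e3 : a * b * a = b := by rw [mul_assoc, ← hab, e1]
  have e4 : a * b * b = a := by rw [mul_assoc, hb, mul_one]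
  have e5 : a * b * (a * b) = 1 := by rw [mul_assoc, e2, ha]
  let B : Subgroup X :=
    { carrier := {x | x = 1 ∨ x = a ∨ x = b ∨ x = a * b}
      mul_mem' := by
        rintro x y (rfl | rfl | rfl | rfl) (rfl | rfl | rfl | rfl) <;>
          simp [ha, hb, e1, e2, e3, e4, e5, ← hab]
      one_mem' := Or.inl rfl
      inv_mem' := by
        rintro x (rfl | rfl | rfl | rfl) <;> simp [ha', hb', ← hab] }
  refine ⟨B, ?_, fun x => Iff.rfl⟩
  have : (B : Set X) = ({1, a, b, a * b} : Finset X) := by
    ext x
    simp [B]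
  have h2 : Nat.card B = (B : Set X).ncard := rfl
  rw [h2, this, Set.ncard_coe_finset]
  have n1 : a * b ≠ 1 := by
    intro h
    apply hne
    have := mul_eq_one_iff_eq_inv.mp h
    rw [hb'] at this
    exact this
  have n2 : a * b ≠ a := fun h => hb1 (mul_eq_left.mp h)
  have n3 : a * b ≠ b := fun h => ha1 (mul_eq_right.mp h)
  rw [Finset.card_insert_of_notMem, Finset.card_insert_of_notMem, Finset.card_insert_of_notMem,
    Finset.card_singleton]
  · simpa using n3.symm
  · simp only [Finset.mem_insert, Finset.mem_singleton, not_or]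
    exact ⟨hne, n2.symm⟩
  · simp only [Finset.mem_insert, Finset.mem_singleton, not_or]
    exact ⟨ha1.symm, hb1.symm, n1.symm⟩

end Cfsg.Agent.PermutationGroups.NoIndexTwo
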