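import Mathlib
import Cfsg.Agent.PermutationGroups.NoIndexTwo

/-!
Finite groups `H` without subgroups of index 2 having a unique involution `j` and an involutory
automorphism `σ` fixing only `1, j`: `H` has a quaternion subgroup `⟨u, v⟩` whose centraliser has
index 12.
-/

set_option autoImplicit false

namespace Cfsg.Agent.PermutationGroups.NoIndexTwoMain

open Subgroup Cfsg.Agent.PermutationGroups.NoIndexTwo

/-- Structure theorem. -/
theorem exists_index_twelve {H : Type*} [Group H] [Finite H]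
    (hno : ∀ N : Subgroup H, N.index ≠ 2) {j : H} (hj : j ≠ 1) (hjj : j * j = 1)
    (huniq : ∀ x : H, x * x = 1 → x = 1 ∨ x = j) (σ : H →* H) (hσ : ∀ x, σ (σ x) = x)
    (hfix : ∀ x, σ x = x ↔ x = 1 ∨ x = j) :
    ∃ u v : H, u * u = j ∧ v * v = j ∧ v * u * v⁻¹ = u⁻¹ ∧
      (∀ h : H, (h * u * h⁻¹ * u⁻¹) ^ 4 = 1) ∧ (∀ h : H, (h * v * h⁻¹ * v⁻¹) ^ 4 = 1) ∧
      Nat.card H = 12 * Nat.card (centralizer ({u, v} : Set H)) := by
  classical
  obtain ⟨u, v, hu, hv, huv⟩ := exists_quaternion hno hj hjj huniq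
  -- `j` is central
  have hjc : ∀ h : H, h * j * h⁻¹ = j := by
    intro h
    rcases huniq (h * j * h⁻¹) (by
      have : h * j * h⁻¹ * (h * j * h⁻¹) = h * (j * j) * h⁻¹ := by group
      rw [this, hjj]; group) with h1 | h1
    · exfalso
      apply hj
      have : j = h⁻¹ * (h * j * h⁻¹) * h := by group
      rw [this, h1]; group
    · exact h1
  have hjc' : ∀ h : H, h * j = j * h := fun h => by
    have := hjc h
    rwa [mul_inv_eq_iff_eq_mul] at this
  have hjinv : j⁻¹ = j := inv_eq_of_mul_eq_one_left hjj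
  let Z : Subgroup H := zpowers j
  have hmZ : ∀ x, x ∈ Z ↔ x = 1 ∨ x = j := by
    intro x
    constructor
    · rintro ⟨k, rfl⟩
      rcases Int.even_or_odd' k with ⟨m, rfl | rfl⟩
      · left
        change j ^ (2 * m) = 1
        rw [zpow_mul, zpow_two, hjj, one_zpow]
      · right
        change j ^ (2 * m + 1) = j
        rw [zpow_add, zpow_mul, zpow_two, hjj, one_zpow, one_mul, zpow_one]
    · rintro (rfl | rfl)
      · exact one_mem _
      · exact mem_zpowers _
  have hZn : Z.Normal := by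
    refine ⟨fun n hn g => ?_⟩
    rw [hmZ] at hn ⊢
    rcases hn with rfl | rfl
    · left; group
    · right; exact hjc g
  let π : H →* H ⧸ Z := QuotientGroup.mk' Z
  have hπsurj : Function.Surjective π := QuotientGroup.mk'_surjective Z
  have hπ1 : ∀ x, π x = 1 ↔ x = 1 ∨ x = j := by
    intro x
    rw [← hmZ]
    exact QuotientGroup.eq_one_iff x
  have hπ : ∀ x y, π x = π y ↔ x = y ∨ x = j * y := by
    intro x y
    rw [← mul_inv_eq_one, ← map_inv, ← map_mul, hπ1, mul_inv_eq_one, mul_inv_eq_iff_eq_mul]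
  have hσj : σ j = j := (hfix j).mpr (Or.inr rfl)
  let σ' : H ⧸ Z →* H ⧸ Z := QuotientGroup.map Z Z σ (by
    intro x hx
    rw [Subgroup.mem_comap]
    rw [hmZ] at hx ⊢
    rcases hx with rfl | rfl
    · left; exact map_one σ
    · right; exact hσj)
  have hσ'π : ∀ x, σ' (π x) = π (σ x) := fun x => rfl
  have hσ'σ' : ∀ x, σ' (σ' x) = x := by
    intro x
    obtain ⟨x, rfl⟩ := hπsurj x
    rw [hσ'π, hσ'π, hσ]
  -- the quotient has even order
  have hou : orderOf u = 4 := by
    have : u ^ 2 ^ (1 + 1) = 1 := by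
      have e : u ^ 2 ^ (1 + 1) = (u * u) * (u * u) := by
        norm_num [pow_succ]
        group
      rw [e, hu, hjj]
    have h2 : ¬ u ^ 2 ^ 1 = 1 := by
      rw [pow_one, pow_two, hu]; exact hj
    have := orderOf_eq_prime_pow h2 this
    simpa using this
  have hoj : orderOf j = 2 := orderOf_eq_prime (by rw [pow_two, hjj]) hj
  have heven : 2 ∣ Nat.card (H ⧸ Z) := by
    have h4 : 4 ∣ Nat.card H := by rw [← hou]; exact orderOf_dvd_natCard u
    have hc := Z.index_mul_card
    have hcZ : Nat.card Z = 2 := by rw [Nat.card_zpowers, hoj]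
    rw [hcZ] at hc
    change 2 ∣ Z.index
    omega
  -- an element `i` with `σ i = j i`
  obtain ⟨i, hi⟩ : ∃ i, σ i = j * i := by
    by_contra hcon
    push Not at hcon
    have hall : ∀ x : H ⧸ Z, σ' x = x ↔ x = 1 := by
      intro x
      constructor
      · intro hx
        obtain ⟨x, rfl⟩ := hπsurj x
        rw [hσ'π, hπ] at hx
        rcases hx with hx | hx
        · rw [hπ1]; exact (hfix x).mp hx
        · exact absurd hx (hcon x)
      · rintro rfl
        exact map_one σ'
    have := Fintype.ofFinite (H ⧸ Z)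
    let f : Function.End (H ⧸ Z) := fun x => σ' x
    have hf : f ^ 2 ^ 1 = 1 := by
      rw [pow_one, pow_two]
      funext x
      exact hσ'σ' x
    have hmod := Equiv.Perm.card_fixedPoints_modEq (α := H ⧸ Z) (f := f) (p := 2) (n := 1) hf
    have hone : Fintype.card (Function.fixedPoints f) = 1 := by
      rw [Fintype.card_eq_one_iff]
      refine ⟨⟨1, map_one σ'⟩, ?_⟩
      rintro ⟨y, hy⟩
      exact Subtype.ext ((hall y).mp hy)
    rw [Nat.card_eq_fintype_card] at heven
    rw [hone] at hmod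
    unfold Nat.ModEq at hmod
    omega
  have hi1 : ¬ (i = 1 ∨ i = j) := by
    intro h
    have := (hfix i).mpr h
    rw [hi] at this
    exact hj (mul_eq_right.mp this)
  set t := π i with ht
  have ht1 : t ≠ 1 := by rw [ht, Ne, hπ1]; exact hi1
  have hfix' : ∀ x, σ' x = x ↔ x = 1 ∨ x = t := by
    intro x
    obtain ⟨x, rfl⟩ := hπsurj x
    rw [hσ'π, hπ, hπ1, ht, hπ]
    constructor
    · rintro (h | h)
      · exact Or.inl ((hfix x).mp h)
      · right
        have h1 : σ (x * i⁻¹) = x * i⁻¹ := by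
          rw [map_mul, map_inv, h, hi, mul_inv_rev, hjinv]
          calc j * x * (i⁻¹ * j) = j * (x * i⁻¹ * j) := by group
            _ = j * (j * (x * i⁻¹)) := by rw [hjc' (x * i⁻¹)]
            _ = x * i⁻¹ := by rw [← mul_assoc, hjj, one_mul]
        rcases (hfix _).mp h1 with h2 | h2
        · left; exact mul_inv_eq_one.mp h2
        · right; exact mul_inv_eq_iff_eq_mul.mp h2
    · rintro ((rfl | rfl) | (rfl | rfl))
      · left; exact map_one σ
      · left; exact hσj
      · right; exact hi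
      · right
        rw [map_mul, hσj, hi]
  -- the four-group
  set a := π u with ha
  set b := π v with hb
  have hπj : π j = 1 := (hπ1 j).mpr (Or.inr rfl)
  have haa : a * a = 1 := by rw [ha, ← map_mul, hu, hπj]
  have hbb : b * b = 1 := by rw [hb, ← map_mul, hv, hπj]
  have hvu : v * u = u⁻¹ * v := by rw [← huv]; group
  have huinv : u⁻¹ = j * u := by
    rw [inv_eq_iff_mul_eq_one, ← mul_assoc, hjc', mul_assoc, hu, hjj]
  have hab : a * b = b * a := by
    rw [ha, hb, ← map_mul, ← map_mul, hπ]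
    right
    rw [hvu, huinv, ← mul_assoc, ← mul_assoc, hjj, one_mul]
  have hnot : ∀ {x : H}, x * x = j → ¬ (x = 1 ∨ x = j) := by
    rintro x hx (rfl | rfl)
    · rw [one_mul] at hx; exact hj hx.symm
    · rw [hjj] at hx; exact hj hx.symm
  have ha1 : a ≠ 1 := by rw [ha, Ne, hπ1]; exact hnot hu
  have hb1 : b ≠ 1 := by rw [hb, Ne, hπ1]; exact hnot hv
  -- `u` and `v` do not commute
  have hcom : u * v ≠ v * u := by
    intro h
    rw [hvu] at h
    have h1 : u = u⁻¹ := mul_right_cancel h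
    have h2 : u * u = 1 := by
      nth_rewrite 2 [h1]
      exact mul_inv_cancel u
    rw [hu] at h2
    exact hj h2
  have hne : a ≠ b := by
    rw [ha, hb, Ne, hπ]
    rintro (h | h)
    · exact hcom (by rw [h])
    · apply hcom
      rw [h, mul_assoc, ← mul_assoc v, hjc', mul_assoc]
  obtain ⟨B, hB4, hB⟩ := exists_four haa hbb hab ha1 hb1 hne
  have hB2 : ∀ x ∈ B, x * x = 1 := by
    intro x hx
    rw [hB] at hx
    rcases hx with rfl | rfl | rfl | rfl
    · exact one_mul 1
    · exact haa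
    · exact hbb
    · have : a * b * (a * b) = (a * a) * (b * b) := by
        rw [mul_assoc, ← mul_assoc b, ← hab, mul_assoc a b b, ← mul_assoc]
      rw [this, haa, hbb, one_mul]
  have hBcomm : ∀ x ∈ B, ∀ y ∈ B, x * y = y * x := by
    intro x hx y hy
    have h1 := hB2 (x * y) (B.mul_mem hx hy)
    have h2 : x⁻¹ = x := inv_eq_of_mul_eq_one_left (hB2 x hx)
    have h3 : y⁻¹ = y := inv_eq_of_mul_eq_one_left (hB2 y hy)
    have h4 : (x * y)⁻¹ = x * y := inv_eq_of_mul_eq_one_left h1
    rw [mul_inv_rev, h2, h3] at h4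
    exact h4.symm
  have hconj := InvertHalf.conj_mem σ' hσ'σ' ht1 hfix' B hB4 hB2
  have hconj' : ∀ x, x * t * x⁻¹ ∈ B := by
    intro x
    have := hconj x⁻¹
    simpa using this
  have htB : t ∈ B := by simpa using hconj 1
  -- the normaliser of `⟨i⟩`
  let ψ : H →* ConjAct (H ⧸ Z) := (ConjAct.toConjAct : (H ⧸ Z) ≃* ConjAct (H ⧸ Z)).toMonoidHom.comp π
  have hψ : Function.Surjective ψ := by
    intro x
    obtain ⟨y, hy⟩ := hπsurj (ConjAct.ofConjAct x)
    exact ⟨y, by
      change ConjAct.toConjAct (π y) = x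
      rw [hy]; exact ConjAct.toConjAct_ofConjAct x⟩
  let N : Subgroup H := (MulAction.stabilizer (ConjAct (H ⧸ Z)) t).comap ψ
  have hmN : ∀ h, h ∈ N ↔ π h * t * (π h)⁻¹ = t := by
    intro h
    exact Iff.rfl
  have horb : ∀ x, x ∈ MulAction.orbit (ConjAct (H ⧸ Z)) t ↔ ∃ g : H, π g * t * (π g)⁻¹ = x := by
    intro x
    constructor
    · rintro ⟨y, rfl⟩
      obtain ⟨g, hg⟩ := hψ y
      refine ⟨g, ?_⟩
      rw [← hg]
      rfl
    · rintro ⟨g, rfl⟩
      exact ⟨ψ g, rfl⟩
  have hsub : MulAction.orbit (ConjAct (H ⧸ Z)) t ⊆ ({a, b, a * b} : Finset (H ⧸ Z)) := by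
    intro x hx
    obtain ⟨g, rfl⟩ := (horb x).mp hx
    have h1 := hconj' (π g)
    rw [hB] at h1
    rcases h1 with h1 | h1
    · exfalso
      apply ht1
      have : t = (π g)⁻¹ * (π g * t * (π g)⁻¹) * π g := by group
      rw [this, h1]; group
    · simpa using h1
  have hNidx : N.index = (MulAction.orbit (ConjAct (H ⧸ Z)) t).ncard := by
    rw [Subgroup.index_comap_of_surjective _ hψ, MulAction.index_stabilizer]
  have hcard3 : (({a, b, a * b} : Finset (H ⧸ Z)) : Set (H ⧸ Z)).ncard ≤ 3 := by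
    rw [Set.ncard_coe_finset]
    exact Finset.card_le_three
  have hNle : N.index ≤ 3 := by
    rw [hNidx]
    exact (Set.ncard_le_ncard hsub (Set.toFinite _)).trans hcard3
  have hN0 : N.index ≠ 0 := Subgroup.index_ne_zero_of_finite
  have hN2 := hno N
  have hN1 : N.index ≠ 1 := by
    intro h1
    rw [Subgroup.index_eq_one] at h1
    have hall : ∀ h : H, h * i * h⁻¹ = i ∨ h * i * h⁻¹ = j * i := by
      intro h
      have : h ∈ N := by rw [h1]; exact mem_top h
      rw [hmN, ht, ← map_inv, ← map_mul, ← map_mul, hπ] at this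
      exact this
    -- `i` is central
    have hcen : ∀ h : H, h * i * h⁻¹ = i := by
      by_contra hcon
      push Not at hcon
      obtain ⟨h₀, hh₀⟩ := hcon
      have hh₀' := (hall h₀).resolve_left hh₀
      apply hno (centralizer {i})
      rw [Subgroup.index_eq_two_iff]
      refine ⟨h₀, fun h => ?_⟩
      have hm : ∀ g : H, g ∈ centralizer ({i} : Set H) ↔ g * i * g⁻¹ = i := by
        intro g
        rw [Subgroup.mem_centralizer_singleton_iff, mul_inv_eq_iff_eq_mul]
      rw [hm, hm]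
      have e1 : h * h₀ * i * (h * h₀)⁻¹ = j * (h * i * h⁻¹) := by
        have : h * h₀ * i * (h * h₀)⁻¹ = h * (h₀ * i * h₀⁻¹) * h⁻¹ := by group
        rw [this, hh₀', ← mul_assoc, hjc']
        group
      rw [e1]
      rcases hall h with h2 | h2
      · rw [h2]
        right
        exact ⟨rfl, fun h3 => hj (mul_eq_right.mp h3)⟩
      · rw [h2, ← mul_assoc, hjj, one_mul]
        left
        exact ⟨rfl, fun h3 => hj (mul_eq_right.mp h3)⟩
    have hcen' : ∀ x : H, π x = t → ∀ h : H, h * x = x * h := by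
      intro x hx h
      have h3 := hcen h
      rw [mul_inv_eq_iff_eq_mul] at h3
      rw [ht, hπ] at hx
      rcases hx with rfl | rfl
      · exact h3
      · rw [← mul_assoc, hjc', mul_assoc, h3, mul_assoc]
    rw [hB] at htB
    rcases htB with h2 | h2 | h2 | h2
    · exact ht1 h2
    · exact hcom (hcen' u h2.symm v).symm
    · exact hcom (hcen' v h2.symm u)
    · have h3 := hcen' (u * v) (by rw [map_mul]; exact h2.symm) u
      rw [mul_assoc] at h3
      exact hcom (mul_left_cancel h3)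
  have hN3 : N.index = 3 := by omega
  have hNn : N.Normal := normal_of_index_three hno N hN3
  have horbeq : MulAction.orbit (ConjAct (H ⧸ Z)) t = ({a, b, a * b} : Finset (H ⧸ Z)) := by
    refine Set.eq_of_subset_of_ncard_le hsub ?_ (Set.toFinite _)
    rw [← hNidx, hN3]
    exact hcard3
  -- elements of `N` centralise `a` and `b`
  have hNc : ∀ x ∈ MulAction.orbit (ConjAct (H ⧸ Z)) t, ∀ h ∈ N, π h * x * (π h)⁻¹ = x := by
    intro x hx h hh
    obtain ⟨g, rfl⟩ := (horb x).mp hx
    have h1 : g⁻¹ * h * g ∈ N := by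
      have := hNn.conj_mem h hh g⁻¹
      simpa using this
    rw [hmN, map_mul, map_mul, map_inv] at h1
    have h2 : π h * (π g * t * (π g)⁻¹) * (π h)⁻¹
        = π g * ((π g)⁻¹ * π h * π g * t * ((π g)⁻¹ * π h * π g)⁻¹) * (π g)⁻¹ := by group
    rw [h2, h1]
  have haorb : a ∈ MulAction.orbit (ConjAct (H ⧸ Z)) t := by rw [horbeq]; simp
  have hborb : b ∈ MulAction.orbit (ConjAct (H ⧸ Z)) t := by rw [horbeq]; simp
  have hNu : ∀ h ∈ N, h * u * h⁻¹ = u ∨ h * u * h⁻¹ = j * u := by
    intro h hh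
    have := hNc a haorb h hh
    rwa [ha, ← map_inv, ← map_mul, ← map_mul, hπ] at this
  have hNv : ∀ h ∈ N, h * v * h⁻¹ = v ∨ h * v * h⁻¹ = j * v := by
    intro h hh
    have := hNc b hborb h hh
    rwa [hb, ← map_inv, ← map_mul, ← map_mul, hπ] at this
  have haB : a ∈ B := by rw [hB]; simp
  have hbB : b ∈ B := by rw [hB]; simp
  have hmemN : ∀ h : H, π h * a * (π h)⁻¹ = a → π h * b * (π h)⁻¹ = b → h ∈ N := by
    intro h h1 h2
    rw [hmN]
    rw [mul_inv_eq_iff_eq_mul] at h1 h2 ⊢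
    rw [hB] at htB
    rcases htB with h3 | h3 | h3 | h3
    · exact absurd h3 ht1
    · rw [h3, h1]
    · rw [h3, h2]
    · rw [h3, ← mul_assoc, h1, mul_assoc, h2, mul_assoc]
  have huN : u ∈ N := by
    rw [hmN, mul_inv_eq_iff_eq_mul]
    exact hBcomm a haB t htB
  have hvN : v ∈ N := by
    rw [hmN, mul_inv_eq_iff_eq_mul]
    exact hBcomm b hbB t htB
  -- the chain of subgroups
  let M : Subgroup H := N ⊓ centralizer {u}
  let C : Subgroup H := centralizer {u, v}
  have hmC : ∀ h, h ∈ C ↔ h * u * h⁻¹ = u ∧ h * v * h⁻¹ = v := by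
    intro h
    rw [mul_inv_eq_iff_eq_mul, mul_inv_eq_iff_eq_mul]
    constructor
    · intro hh
      rw [Subgroup.mem_centralizer_iff] at hh
      exact ⟨(hh u (by simp)).symm, (hh v (by simp)).symm⟩
    · rintro ⟨h1, h2⟩
      rw [Subgroup.mem_centralizer_iff]
      rintro x (rfl | rfl)
      · exact h1.symm
      · exact h2.symm
  have hmM : ∀ h, h ∈ M ↔ h ∈ N ∧ h * u * h⁻¹ = u := by
    intro h
    rw [Subgroup.mem_inf, Subgroup.mem_centralizer_singleton_iff, mul_inv_eq_iff_eq_mul]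
  have hCM : C ≤ M := by
    intro h hh
    rw [hmC] at hh
    rw [hmM]
    refine ⟨?_, hh.1⟩
    apply hmemN
    · rw [ha, ← map_inv, ← map_mul, ← map_mul, hh.1]
    · rw [hb, ← map_inv, ← map_mul, ← map_mul, hh.2]
  have hMN : M ≤ N := inf_le_left
  have hju : j * u ≠ u := fun h3 => hj (mul_eq_right.mp h3)
  have hjv : j * v ≠ v := fun h3 => hj (mul_eq_right.mp h3)
  have hMN2 : M.relIndex N = 2 := by
    rw [Subgroup.relIndex, Subgroup.index_eq_two_iff]
    refine ⟨⟨v, hvN⟩, ?_⟩
    rintro ⟨h, hh⟩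
    rw [Subgroup.mem_subgroupOf, Subgroup.mem_subgroupOf, hmM, hmM]
    change Xor (h * v ∈ N ∧ h * v * u * (h * v)⁻¹ = u) (h ∈ N ∧ h * u * h⁻¹ = u)
    have e1 : h * v * u * (h * v)⁻¹ = j * (h * u * h⁻¹) := by
      have : h * v * u * (h * v)⁻¹ = h * (v * u * v⁻¹) * h⁻¹ := by group
      rw [this, huv, huinv, ← mul_assoc, hjc']
      group
    rw [e1]
    have hhv : h * v ∈ N := N.mul_mem hh hvN
    rcases hNu h hh with h2 | h2
    · rw [h2]
      right
      exact ⟨⟨hh, rfl⟩, fun h3 => hju h3.2⟩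
    · rw [h2, ← mul_assoc, hjj, one_mul]
      left
      exact ⟨⟨hhv, rfl⟩, fun h3 => hju h3.2⟩
  have huvu : u * v * u⁻¹ = j * v := by
    rw [mul_inv_eq_iff_eq_mul, mul_assoc, hvu, ← mul_assoc, huinv, ← mul_assoc, hjj, one_mul]
  have huM : u ∈ M := by rw [hmM]; exact ⟨huN, by group⟩
  have hCM2 : C.relIndex M = 2 := by
    rw [Subgroup.relIndex, Subgroup.index_eq_two_iff]
    refine ⟨⟨u, huM⟩, ?_⟩
    rintro ⟨h, hh⟩
    rw [Subgroup.mem_subgroupOf, Subgroup.mem_subgroupOf, hmC, hmC]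
    change Xor (h * u * u * (h * u)⁻¹ = u ∧ h * u * v * (h * u)⁻¹ = v)
      (h * u * h⁻¹ = u ∧ h * v * h⁻¹ = v)
    rw [hmM] at hh
    have e1 : h * u * v * (h * u)⁻¹ = j * (h * v * h⁻¹) := by
      have : h * u * v * (h * u)⁻¹ = h * (u * v * u⁻¹) * h⁻¹ := by group
      rw [this, huvu, ← mul_assoc, hjc']
      group
    have e2 : h * u * u * (h * u)⁻¹ = u := by
      have : h * u * u * (h * u)⁻¹ = h * u * h⁻¹ := by group
      rw [this, hh.2]
    rw [e1, e2, hh.2]
    rcases hNv h hh.1 with h2 | h2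
    · rw [h2]
      right
      exact ⟨⟨rfl, rfl⟩, fun h3 => hjv h3.2⟩
    · rw [h2, ← mul_assoc, hjj, one_mul]
      left
      exact ⟨⟨rfl, rfl⟩, fun h3 => hjv h3.2⟩
  have hCidx : C.index = 12 := by
    rw [← Subgroup.relIndex_mul_index (hCM.trans hMN), ← Subgroup.relIndex_mul_relIndex C M N hCM hMN,
      hCM2, hMN2, hN3]
  have hfour : ∀ x : H, π x ∈ B → x ^ 4 = 1 := by
    intro x hx
    have h1 := hB2 _ hx
    rw [← map_mul, hπ1] at h1
    have h2 : x ^ 4 = (x * x) * (x * x) := by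
      simp only [pow_succ, pow_zero, one_mul, mul_assoc]
    rw [h2]
    rcases h1 with h1 | h1
    · rw [h1, one_mul]
    · rw [h1, hjj]
  have horbB : ∀ x ∈ MulAction.orbit (ConjAct (H ⧸ Z)) t, ∀ y, y * x * y⁻¹ * x⁻¹ ∈ B := by
    intro x hx y
    obtain ⟨g, rfl⟩ := (horb x).mp hx
    have h1 : π g * t * (π g)⁻¹ ∈ B := hconj' _
    have h2 : y * (π g * t * (π g)⁻¹) * y⁻¹ ∈ B := by
      have := hconj' (y * π g)
      have h3 : y * (π g * t * (π g)⁻¹) * y⁻¹ = y * π g * t * (y * π g)⁻¹ := by group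
      rw [h3]; exact this
    exact B.mul_mem h2 (B.inv_mem h1)
  refine ⟨u, v, hu, hv, huv, ?_, ?_, ?_⟩
  · intro h
    apply hfour
    have := horbB a haorb (π h)
    simpa [ha] using this
  · intro h
    apply hfour
    have := horbB b hborb (π h)
    simpa [hb] using this
  · have := C.index_mul_card
    rw [hCidx] at this
    exact this.symm

end Cfsg.Agent.PermutationGroups.NoIndexTwoMain
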