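import Mathlib
import Cfsg.Agent.PermutationGroups.TwoTransitiveNormal

/-!
A finite abelian group `V` of odd order with a group `H` acting regularly on its nonzero elements.
If `u, v ∈ H` generate a quaternion group of order 8 with central involution `-1` and `C` is a
subgroup commuting with `u` and `v`, then `|V| = Q ^ 2` and `|C|` divides `Q - 1`.
-/

set_option autoImplicit false

namespace Cfsg.Agent.PermutationGroups.QuatModule

variable {V : Type*} [AddCommGroup V]

/-- an odd order group in which `2 • x = 0` implies `x = 0` -/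
theorem two_nsmul_eq_zero [Finite V] (hodd : Odd (Nat.card V)) {x : V} (hx : 2 • x = 0) :
    x = 0 := by
  have h1 : addOrderOf x ∣ 2 := addOrderOf_dvd_of_nsmul_eq_zero hx
  have h2 : addOrderOf x ∣ Nat.card V := addOrderOf_dvd_natCard x
  have h3 : addOrderOf x ∣ 1 := by
    have := Nat.dvd_gcd h1 h2
    rwa [(Nat.coprime_two_left.mpr hodd : Nat.gcd 2 (Nat.card V) = 1)] at this
  exact AddMonoid.addOrderOf_eq_one_iff.mp (Nat.dvd_one.mp h3)

/-- Splitting of `V` with respect to an involutory endomorphism `x` and an endomorphism `k`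
anticommuting with `x`. -/
theorem card_eq_sq [Finite V] (hodd : Odd (Nat.card V)) (x k : AddMonoid.End V)
    (hx : x * x = 1) (hk : k * k = -1) (hxk : x * k = -(k * x)) :
    Nat.card V = (Nat.card {w : V // x w = w}) ^ 2 := by
  have hxx : ∀ w, x (x w) = w := fun w => DFunLike.congr_fun hx w
  have hkk : ∀ w, k (k w) = -w := fun w => DFunLike.congr_fun hk w
  have hxk' : ∀ w, x (k w) = -(k (x w)) := fun w => DFunLike.congr_fun hxk w
  -- the doubling map is bijective
  have hinj2 : Function.Injective (fun w : V => 2 • w) := by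
    intro a b hab
    have : 2 • (a - b) = 0 := by
      rw [nsmul_sub]
      exact sub_eq_zero.mpr hab
    exact sub_eq_zero.mp (two_nsmul_eq_zero hodd this)
  have hsurj2 : Function.Surjective (fun w : V => 2 • w) :=
    Finite.injective_iff_surjective.mp hinj2
  let P := {w : V // x w = w}
  let M := {w : V // x w = -w}
  have e1 : P ≃ M := by
    refine ⟨fun w => ⟨k w, ?_⟩, fun w => ⟨-(k w), ?_⟩, ?_, ?_⟩
    · rw [hxk', w.2]
    · rw [map_neg, hxk', w.2, map_neg]
      simp
    · intro w
      apply Subtype.ext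
      simp [hkk]
    · intro w
      apply Subtype.ext
      simp [hkk]
  let f : P × M → V := fun p => p.1 + p.2
  have hf : Function.Bijective f := by
    constructor
    · rintro ⟨⟨a, ha⟩, ⟨b, hb⟩⟩ ⟨⟨c, hc⟩, ⟨d, hd⟩⟩ h
      have h1 : a + b = c + d := h
      have h2 : a - b = c - d := by
        have := congrArg x h1
        rw [map_add, map_add, ha, hb, hc, hd] at this
        simpa [sub_eq_add_neg] using this
      have h3 : a = c := by
        apply hinj2
        change 2 • a = 2 • c
        have e1 : 2 • a = (a + b) + (a - b) := by rw [two_nsmul]; abel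
        have e2 : 2 • c = (c + d) + (c - d) := by rw [two_nsmul]; abel
        rw [e1, e2, h1, h2]
      subst h3
      have h4 : b = d := add_left_cancel h1
      subst h4
      rfl
    · intro w
      obtain ⟨w', hw'⟩ := hsurj2 w
      have hw' : 2 • w' = w := hw'
      refine ⟨(⟨w' + x w', ?_⟩, ⟨w' - x w', ?_⟩), ?_⟩
      · rw [map_add, hxx, add_comm]
      · rw [map_sub, hxx]; abel
      · change w' + x w' + (w' - x w') = w
        rw [← hw', two_nsmul]; abel
  have hc := Nat.card_congr (Equiv.ofBijective f hf)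
  rw [Nat.card_prod, ← Nat.card_congr e1] at hc
  rw [← hc, pow_two]

/-- A subgroup `C` acting freely on the nonzero elements and commuting with `x`. -/
theorem card_dvd [Finite V] {H : Type*} [Group H] [Finite H] (ρ : H →* AddMonoid.End V)
    (hfree : ∀ (h : H) (w : V), w ≠ 0 → ρ h w = w → h = 1) (C : Subgroup H)
    (x : AddMonoid.End V) (hC : ∀ c ∈ C, ρ c * x = x * ρ c) :
    Nat.card C ∣ Nat.card {w : V // x w = w} - 1 := by
  classical
  let W := {w : V // x w = w ∧ w ≠ 0}
  have hinj : ∀ (h : H) (w : V), w ≠ 0 → ρ h w ≠ 0 := by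
    intro h w hw h0
    apply hw
    have : ρ h⁻¹ (ρ h w) = w := by
      have : ρ h⁻¹ * ρ h = 1 := by rw [← map_mul]; simp
      exact DFunLike.congr_fun this w
    rw [← this, h0, map_zero]
  let _ : MulAction C W :=
    { smul := fun c w => ⟨ρ c w, by
        have := DFunLike.congr_fun (hC c c.2) (w : V)
        change ρ c (x w) = x (ρ c w) at this
        rw [← this, w.2.1], hinj _ _ w.2.2⟩
      one_smul := fun w => Subtype.ext (by
        change ρ ((1 : C) : H) w = w
        simp)
      mul_smul := fun c d w => Subtype.ext (by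
        change ρ ((c * d : C) : H) w = ρ c (ρ d w)
        simp) }
  have hdvd : Nat.card C ∣ Nat.card W := by
    refine TwoTransitiveNormal.dvd_card_of_index_stabilizer_eq (G := C) (X := W) ?_
    intro w
    have : MulAction.stabilizer C w = ⊥ := by
      rw [eq_bot_iff]
      intro c hc
      rw [MulAction.mem_stabilizer_iff] at hc
      have h1 : ρ c w = w := congrArg Subtype.val hc
      rw [Subgroup.mem_bot]
      exact Subtype.ext (hfree c w w.2.2 h1)
    rw [this, Subgroup.index_bot]
  have hW : Nat.card W = Nat.card {w : V // x w = w} - 1 := by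
    have := Fintype.ofFinite V
    rw [Nat.card_eq_fintype_card, Nat.card_eq_fintype_card, Fintype.card_subtype,
      Fintype.card_subtype]
    have : (Finset.univ.filter (fun w : V => x w = w ∧ w ≠ 0)) =
        (Finset.univ.filter (fun w : V => x w = w)).erase 0 := by
      ext w
      simp [and_comm]
    rw [this, Finset.card_erase_of_mem (by simp)]
  rwa [← hW]

/-- Main statement. -/
theorem exists_sq [Finite V] [Nontrivial V] {H : Type*} [Group H] [Finite H]
    (ρ : H →* AddMonoid.End V) (hodd : Odd (Nat.card V))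
    (htrans : ∀ v w : V, v ≠ 0 → w ≠ 0 → ∃ h : H, ρ h v = w)
    (hfree : ∀ (h : H) (w : V), w ≠ 0 → ρ h w = w → h = 1) {u v j : H}
    (hj : ρ j = -1) (hu : u * u = j) (hv : v * v = j) (huv : v * u * v⁻¹ = u⁻¹)
    (C : Subgroup H) (hCu : ∀ c ∈ C, c * u = u * c) (hCv : ∀ c ∈ C, c * v = v * c) :
    ∃ Q : ℕ, Nat.card V = Q ^ 2 ∧ Nat.card C ∣ Q - 1 := by
  -- the exponent is an odd prime
  have hcard1 : Nat.card V ≠ 1 := by
    have := Finite.one_lt_card (α := V)
    omega
  obtain ⟨p, hp, hpV⟩ := Nat.exists_prime_and_dvd hcard1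
  have : Fact p.Prime := ⟨hp⟩
  obtain ⟨w₀, hw₀⟩ := exists_prime_addOrderOf_dvd_card' (G := V) p hpV
  have hw₀0 : w₀ ≠ 0 := by
    intro h
    rw [h, addOrderOf_zero] at hw₀
    exact hp.one_lt.ne hw₀
  have hpw₀ : p • w₀ = 0 := by rw [← hw₀]; exact addOrderOf_nsmul_eq_zero w₀
  have hpw : ∀ w : V, p • w = 0 := by
    intro w
    by_cases hw : w = 0
    · rw [hw, nsmul_zero]
    · obtain ⟨h, hh⟩ := htrans w₀ w hw₀0 hw
      rw [← hh, ← map_nsmul, hpw₀, map_zero]
  obtain ⟨a, b, -, -, hab⟩ := Nat.sq_add_sq_zmodEq p (-1)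
  obtain ⟨c, hc⟩ : ∃ c : ℤ, (a : ℤ) ^ 2 + (b : ℤ) ^ 2 = -1 + p * c := by
    obtain ⟨c, hc⟩ := hab.symm.dvd
    exact ⟨c, by linarith⟩
  have hpR : ((p : ℤ) : AddMonoid.End V) = 0 := by
    ext w
    rw [AddMonoid.End.intCast_apply, natCast_zsmul, hpw]
    rfl
  have hsum : ((a : ℤ) : AddMonoid.End V) ^ 2 + ((b : ℤ) : AddMonoid.End V) ^ 2 = -1 := by
    have := congrArg (fun z : ℤ => (z : AddMonoid.End V)) hc
    simp only [Int.cast_add, Int.cast_pow, Int.cast_neg, Int.cast_one, Int.cast_mul] at this
    rw [this, hpR, zero_mul, add_zero]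
  set I := ρ u with hI
  set J := ρ v with hJ
  have hII : I * I = -1 := by rw [hI, ← map_mul, hu, hj]
  have hJJ : J * J = -1 := by rw [hJ, ← map_mul, hv, hj]
  have hJI : J * I = -(I * J) := by
    have h1 : v * u = u⁻¹ * v := by rw [← huv]; group
    have h2 : u⁻¹ = j * u := by
      rw [inv_eq_iff_mul_eq_one, ← hu]
      have h3 : j * j = 1 := by
        apply hfree (j * j) w₀ hw₀0
        rw [map_mul, hj]
        simp
      rw [← hu] at h3
      rw [← h3]
      group
    rw [hJ, hI, ← map_mul, h1, h2, map_mul, map_mul, hj]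
    simp
  set x : AddMonoid.End V := ((a : ℤ) : AddMonoid.End V) * I + ((b : ℤ) : AddMonoid.End V) * J
    with hx
  set k := I * J with hk
  have hcomA : ∀ (z : ℤ) (y : AddMonoid.End V), (z : AddMonoid.End V) * y = y * (z : _) :=
    fun z y => (Int.cast_commute z y).eq
  have hkk : k * k = -1 := by
    rw [hk]
    calc I * J * (I * J) = I * (J * I) * J := by noncomm_ring
      _ = -1 := by rw [hJI]; calc I * (-(I * J)) * J = -((I * I) * (J * J)) := by noncomm_ring
                    _ = -1 := by rw [hII, hJJ]; noncomm_ring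
  have hxx : x * x = 1 := by
    have hA := hcomA (a : ℤ)
    have hB := hcomA (b : ℤ)
    set A : AddMonoid.End V := ((a : ℤ) : AddMonoid.End V) with hAdef
    set B : AddMonoid.End V := ((b : ℤ) : AddMonoid.End V) with hBdef
    have e1 : A * I * (A * I) = A ^ 2 * (I * I) := by
      calc A * I * (A * I) = A * (I * A) * I := by noncomm_ring
        _ = A * (A * I) * I := by rw [← hA I]
        _ = A ^ 2 * (I * I) := by noncomm_ring
    have e2 : B * J * (B * J) = B ^ 2 * (J * J) := by
      calc B * J * (B * J) = B * (J * B) * J := by noncomm_ring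
        _ = B * (B * J) * J := by rw [← hB J]
        _ = B ^ 2 * (J * J) := by noncomm_ring
    have e3 : A * I * (B * J) = A * B * (I * J) := by
      calc A * I * (B * J) = A * (I * B) * J := by noncomm_ring
        _ = A * (B * I) * J := by rw [← hB I]
        _ = A * B * (I * J) := by noncomm_ring
    have e4 : B * J * (A * I) = A * B * (J * I) := by
      calc B * J * (A * I) = B * (J * A) * I := by noncomm_ring
        _ = B * (A * J) * I := by rw [← hA J]
        _ = (B * A) * (J * I) := by noncomm_ring
        _ = A * B * (J * I) := by rw [← hA B]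
    calc x * x = A * I * (A * I) + A * I * (B * J) + B * J * (A * I) + B * J * (B * J) := by
          rw [hx]; noncomm_ring
      _ = 1 := by
          rw [e1, e2, e3, e4, hII, hJJ, hJI]
          calc A ^ 2 * -1 + A * B * (I * J) + A * B * -(I * J) + B ^ 2 * -1
              = -(A ^ 2 + B ^ 2) := by noncomm_ring
            _ = 1 := by rw [hsum]; simp
  have hxk : x * k = -(k * x) := by
    have hA := hcomA (a : ℤ)
    have hB := hcomA (b : ℤ)
    set A : AddMonoid.End V := ((a : ℤ) : AddMonoid.End V) with hAdef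
    set B : AddMonoid.End V := ((b : ℤ) : AddMonoid.End V) with hBdef
    have e1 : k * x = A * (k * I) + B * (k * J) := by
      calc k * x = k * A * I + k * B * J := by rw [hx]; noncomm_ring
        _ = A * k * I + B * k * J := by rw [← hA k, ← hB k]
        _ = A * (k * I) + B * (k * J) := by noncomm_ring
    have e2 : x * k = A * (I * k) + B * (J * k) := by rw [hx]; noncomm_ring
    have e3 : k * I = -(I * k) := by
      rw [hk]
      calc I * J * I = I * (J * I) := by noncomm_ring
        _ = -(I * (I * J)) := by rw [hJI]; noncomm_ring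
    have e4 : k * J = -(J * k) := by
      rw [hk]
      calc I * J * J = -(-(I * J)) * J := by noncomm_ring
        _ = -((J * I) * J) := by rw [← hJI]; noncomm_ring
        _ = -(J * (I * J)) := by noncomm_ring
    rw [e1, e2, e3, e4]
    noncomm_ring
  refine ⟨Nat.card {w : V // x w = w}, card_eq_sq hodd x k hxx hkk hxk, ?_⟩
  refine card_dvd ρ hfree C x ?_
  intro c hc
  have h1 : ρ c * I = I * ρ c := by rw [hI, ← map_mul, hCu c hc, map_mul]
  have h2 : ρ c * J = J * ρ c := by rw [hJ, ← map_mul, hCv c hc, map_mul]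
  rw [hx, mul_add, add_mul, ← mul_assoc, ← mul_assoc, ← hcomA, ← hcomA, mul_assoc, mul_assoc,
    h1, h2, mul_assoc, mul_assoc]

end Cfsg.Agent.PermutationGroups.QuatModule
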