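import Mathlib
import Cfsg.Agent.PermutationGroups.ZassenhausEven

/-!
Sharply 3-transitive groups: pointwise form of the hypotheses, counting of elements of order 3.
-/

set_option autoImplicit false

namespace Cfsg.Agent.PermutationGroups.SharpThree

open MulAction Cfsg.Agent.PermutationGroups.ZassenhausEven

variable {G α : Type*} [Group G] [MulAction G α]

/-- three-point stabilisers are trivial, from the statement about embeddings of `Fin 3` -/
theorem threeTrivial (hsharp : ∀ x : Fin 3 ↪ α, stabilizer G x = ⊥) : ThreeTrivial G α := by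
  intro g a b c hab hbc hac ha hb hc
  have hinj : Function.Injective ![a, b, c] := by
    intro i j hij
    fin_cases i <;> fin_cases j <;> simp_all
  have : g ∈ stabilizer G (⟨![a, b, c], hinj⟩ : Fin 3 ↪ α) := by
    rw [mem_stabilizer_iff]
    ext i
    fin_cases i <;> simp [ha, hb, hc]
  rw [hsharp, Subgroup.mem_bot] at this
  exact this

/-- triple transitivity in pointwise form -/
theorem exists_smul_eq (h3 : IsMultiplyPretransitive G α 3) {a b c a' b' c' : α}
    (hab : a ≠ b) (hbc : b ≠ c) (hac : a ≠ c) (hab' : a' ≠ b') (hbc' : b' ≠ c') (hac' : a' ≠ c') :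
    ∃ g : G, g • a = a' ∧ g • b = b' ∧ g • c = c' := by
  have hinj : Function.Injective ![a, b, c] := by
    intro i j hij
    fin_cases i <;> fin_cases j <;> simp_all
  have hinj' : Function.Injective ![a', b', c'] := by
    intro i j hij
    fin_cases i <;> fin_cases j <;> simp_all
  obtain ⟨g, hg⟩ := h3.exists_smul_eq (⟨![a, b, c], hinj⟩ : Fin 3 ↪ α) ⟨![a', b', c'], hinj'⟩
  refine ⟨g, ?_, ?_, ?_⟩
  · simpa using DFunLike.congr_fun hg 0
  · simpa using DFunLike.congr_fun hg 1
  · simpa using DFunLike.congr_fun hg 2

/-- a nontrivial element fixes at most two points -/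
theorem card_fixed_le_two [Fintype α] [DecidableEq α] (h3 : ThreeTrivial G α) {g : G}
    (hg : g ≠ 1) : (Finset.univ.filter (fun x : α => g • x = x)).card ≤ 2 := by
  by_contra h
  push Not at h
  obtain ⟨a, b, c, ha, hb, hc, hab, hac, hbc⟩ := Finset.two_lt_card_iff.mp h
  simp only [Finset.mem_filter, Finset.mem_univ, true_and] at ha hb hc
  exact hg (h3 g a b c hab hbc hac ha hb hc)

theorem card_fixed_modEq_three [Fintype α] [DecidableEq α] {g : G} (hg : g ^ 3 = 1) :
    Fintype.card α ≡ (Finset.univ.filter (fun x : α => g • x = x)).card [MOD 3] := by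
  have hp : Fact (Nat.Prime 3) := ⟨Nat.prime_three⟩
  have h := Equiv.Perm.card_fixedPoints_modEq (α := α)
    (f := (MulAction.toEndHom (M := G) (α := α)) g) (p := 3) (n := 1)
    (by rw [pow_one, ← map_pow, hg, map_one])
  refine h.trans ?_
  rw [Fintype.card_of_subtype (Finset.univ.filter (fun x : α => g • x = x))]
  intro x
  simp only [Finset.mem_filter, Finset.mem_univ, true_and]
  exact Iff.rfl

open Finset in
/-- If some two-point stabiliser of a group with trivial three-point stabilisers contains an
element of order 3, every element of order 3 has exactly two fixed points. -/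
theorem card_fixed_eq_two [Fintype α] [DecidableEq α] (h3 : ThreeTrivial G α)
    {a b : α} (hab : a ≠ b) {w : G} (hw : w ≠ 1) (hw3 : w ^ 3 = 1) (hwa : w • a = a)
    (hwb : w • b = b) {g : G} (hg : g ≠ 1) (hg3 : g ^ 3 = 1) :
    (Finset.univ.filter (fun x : α => g • x = x)).card = 2 := by
  have h1 := card_fixed_modEq_three (α := α) hw3
  have h2 := card_fixed_modEq_three (α := α) hg3
  have h4 := card_fixed_le_two h3 hw
  have h5 := card_fixed_le_two h3 hg
  have h6 : 2 ≤ (Finset.univ.filter (fun x : α => w • x = x)).card := by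
    rw [← Finset.card_pair hab]
    apply Finset.card_le_card
    intro x hx
    simp only [Finset.mem_insert, Finset.mem_singleton] at hx
    simp only [Finset.mem_filter, Finset.mem_univ, true_and]
    rcases hx with rfl | rfl
    · exact hwa
    · exact hwb
  have h7 := h1.symm.trans h2
  unfold Nat.ModEq at h7
  omega

open Finset in
/-- In a doubly transitive group with trivial three-point stabilisers, a two-point stabiliser has
at most two elements of order 3. -/
theorem card_order_three_le [Fintype α] [DecidableEq α] [Fintype G] [DecidableEq G]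
    (h2 : IsMultiplyPretransitive G α 2) (h3 : ThreeTrivial G α) (hn : 3 ≤ Fintype.card α)
    {a b : α} (hab : a ≠ b) :
    (Finset.univ.filter (fun g : G => g ≠ 1 ∧ g ^ 3 = 1 ∧ g • a = a ∧ g • b = b)).card ≤ 2 := by
  by_cases hex : ∃ w : G, w ≠ 1 ∧ w ^ 3 = 1 ∧ w • a = a ∧ w • b = b
  swap
  · push Not at hex
    rw [Finset.filter_eq_empty_iff.mpr]
    · simp
    · rintro g - ⟨h1, h2, h3, h4⟩
      exact hex g h1 h2 h3 h4
  obtain ⟨w, hw, hw3, hwa, hwb⟩ := hex
  set n := Fintype.card α with hn'
  set O : Finset G := Finset.univ.filter (fun g : G => g ≠ 1 ∧ g ^ 3 = 1) with hO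
  have hmO : ∀ g, g ∈ O ↔ g ≠ 1 ∧ g ^ 3 = 1 := fun g => by simp [hO]
  have hfix : ∀ g ∈ O, (Finset.univ.filter (fun x : α => g • x = x)).card = 2 := by
    intro g hg
    rw [hmO] at hg
    exact card_fixed_eq_two h3 hab hw hw3 hwa hwb hg.1 hg.2
  -- first count: pairs `(g, x)` with `g x ≠ x`
  have hc1 : O.card * (n - 2) ≤ n * (n - 1) * (n - 2) := by
    have hT : (O.sigma (fun g => Finset.univ.filter (fun x : α => ¬ g • x = x))).card
        = O.card * (n - 2) := by
      rw [Finset.card_sigma, Finset.sum_const_nat (m := n - 2)]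
      intro g hg
      have := Finset.card_filter_add_card_filter_not (s := (Finset.univ : Finset α))
        (fun x : α => g • x = x)
      rw [hfix g hg, Finset.card_univ] at this
      omega
    have hE : Fintype.card (Fin 3 ↪ α) = n * (n - 1) * (n - 2) := by
      rw [Fintype.card_embedding_eq, Fintype.card_fin, ← hn']
      simp [Nat.descFactorial]
      ring
    rw [← hT, ← hE, ← Finset.card_univ, ← Finset.card_attach]
    have hcyc : ∀ p ∈ O.sigma (fun g => Finset.univ.filter (fun x : α => ¬ g • x = x)),
        Function.Injective ![p.2, p.1 • p.2, p.1 • p.1 • p.2] := by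
      rintro ⟨g, x⟩ hp
      simp only [Finset.mem_sigma, Finset.mem_filter, Finset.mem_univ, true_and] at hp
      obtain ⟨hg, hx⟩ := hp
      rw [hmO] at hg
      have h1 : g • x ≠ g • g • x := fun h => hx (smul_left_cancel g h).symm
      have h2 : x ≠ g • g • x := by
        intro h
        apply hx
        have : (g ^ 3) • x = x := by rw [hg.2, one_smul]
        rw [pow_succ, pow_two, mul_smul, mul_smul] at this
        have h4 : g • g • g • x = g • x := by rw [← h]
        rw [this] at h4
        exact h4.symm
      intro i j hij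
      fin_cases i <;> fin_cases j <;> simp_all [eq_comm]
    refine Finset.card_le_card_of_injOn
      (fun p => (⟨![p.1.2, p.1.1 • p.1.2, p.1.1 • p.1.1 • p.1.2], hcyc p.1 p.2⟩ : Fin 3 ↪ α))
      (fun _ _ => Finset.mem_univ _) ?_
    rintro ⟨⟨g, x⟩, hp⟩ - ⟨⟨g', x'⟩, hp'⟩ - hpp
    have e0 : x = x' := by simpa using DFunLike.congr_fun hpp 0
    have e1 : g • x = g' • x' := by simpa using DFunLike.congr_fun hpp 1
    have e2 : g • g • x = g' • g' • x' := by simpa using DFunLike.congr_fun hpp 2
    subst e0
    have hp0 := hp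
    simp only [Finset.mem_sigma, Finset.mem_filter, Finset.mem_univ, true_and] at hp hp'
    obtain ⟨hg, hx⟩ := hp
    obtain ⟨hg', hx'⟩ := hp'
    rw [hmO] at hg hg'
    have h1 : g • x ≠ g • g • x := fun h => hx (smul_left_cancel g h).symm
    have h2 : x ≠ g • g • x := by
      intro h
      apply hx
      have : (g ^ 3) • x = x := by rw [hg.2, one_smul]
      rw [pow_succ, pow_two, mul_smul, mul_smul] at this
      have h4 : g • g • g • x = g • x := by rw [← h]
      rw [this] at h4
      exact h4.symm
    have hgg : g'⁻¹ * g = 1 := by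
      refine h3 _ x (g • x) (g • g • x) (fun h => hx h.symm) h1 h2 ?_ ?_ ?_
      · rw [mul_smul, e1, inv_smul_smul]
      · rw [mul_smul, e2, inv_smul_smul, e1]
      · have e3 : g • g • g • x = g' • g' • g' • x := by
          have h5 : (g ^ 3) • x = (g' ^ 3) • x := by rw [hg.2, hg'.2]
          simpa [pow_succ, mul_smul] using h5
        rw [mul_smul, e3, inv_smul_smul, e2]
    have : g = g' := (inv_mul_eq_one.mp hgg).symm
    subst this
    rfl
  have hOle : O.card ≤ n * (n - 1) := by
    have : 0 < n - 2 := by omega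
    exact Nat.le_of_mul_le_mul_right hc1 this
  -- second count
  set c := (Finset.univ.filter (fun g : G => g ≠ 1 ∧ g ^ 3 = 1 ∧ g • a = a ∧ g • b = b)).card
    with hc
  have hconst : ∀ p ∈ (Finset.univ : Finset α).offDiag,
      (O.filter (fun g => g • p.1 = p.1 ∧ g • p.2 = p.2)).card = c := by
    rintro ⟨x, y⟩ hp
    rw [Finset.mem_offDiag] at hp
    obtain ⟨t, hta, htb⟩ := is_two_pretransitive_iff.mp h2 hab hp.2.2
    change t • a = x at hta
    change t • b = y at htb
    rw [hc]
    symm
    refine Finset.card_bij' (fun g _ => t * g * t⁻¹) (fun g _ => t⁻¹ * g * t) ?_ ?_ ?_ ?_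
    · intro g hg
      simp only [Finset.mem_filter, Finset.mem_univ, true_and] at hg
      rw [Finset.mem_filter, hmO]
      refine ⟨⟨?_, ?_⟩, ?_, ?_⟩
      · intro h
        apply hg.1
        have : g = t⁻¹ * (t * g * t⁻¹) * t := by group
        rw [this, h]; group
      · rw [conj_pow, hg.2.1]; group
      · change (t * g * t⁻¹) • x = x
        rw [mul_smul, mul_smul, ← hta, inv_smul_smul, hg.2.2.1]
      · change (t * g * t⁻¹) • y = y
        rw [mul_smul, mul_smul, ← htb, inv_smul_smul, hg.2.2.2]
    · intro g hg
      rw [Finset.mem_filter, hmO] at hg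
      obtain ⟨⟨hg1, hg2⟩, hg3, hg4⟩ := hg
      simp only [Finset.mem_filter, Finset.mem_univ, true_and]
      have hg3' : g • x = x := hg3
      have hg4' : g • y = y := hg4
      refine ⟨?_, ?_, ?_, ?_⟩
      · intro h
        apply hg1
        have : g = t * (t⁻¹ * g * t) * t⁻¹ := by group
        rw [this, h]; group
      · have : t⁻¹ * g * t = t⁻¹ * g * (t⁻¹)⁻¹ := by group
        rw [this, conj_pow, hg2]; group
      · rw [mul_smul, mul_smul, hta, hg3', inv_smul_eq_iff, hta]
      · rw [mul_smul, mul_smul, htb, hg4', inv_smul_eq_iff, htb]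
    · intro g _
      group
    · intro g _
      group
  have hdc := Finset.sum_card_bipartiteAbove_eq_sum_card_bipartiteBelow
    (s := O) (t := (Finset.univ : Finset α).offDiag)
    (fun (g : G) (p : α × α) => g • p.1 = p.1 ∧ g • p.2 = p.2)
  have hR : ∑ p ∈ (Finset.univ : Finset α).offDiag,
      (Finset.bipartiteBelow (fun (g : G) (p : α × α) => g • p.1 = p.1 ∧ g • p.2 = p.2) O p).card
        = n * (n - 1) * c := by
    rw [Finset.sum_const_nat (m := c)]
    · rw [Finset.offDiag_card, Finset.card_univ, ← hn', Nat.mul_sub, mul_one]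
    · intro p hp
      exact hconst p hp
  have hL : ∑ g ∈ O,
      (Finset.bipartiteAbove (fun (g : G) (p : α × α) => g • p.1 = p.1 ∧ g • p.2 = p.2)
        (Finset.univ : Finset α).offDiag g).card = O.card * 2 := by
    rw [Finset.sum_const_nat (m := 2)]
    intro g hg
    have : Finset.bipartiteAbove (fun (g : G) (p : α × α) => g • p.1 = p.1 ∧ g • p.2 = p.2)
        (Finset.univ : Finset α).offDiag g
        = (Finset.univ.filter (fun x : α => g • x = x)).offDiag := by
      ext ⟨x, y⟩
      simp only [Finset.bipartiteAbove, Finset.mem_filter, Finset.mem_offDiag, Finset.mem_univ,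
        true_and]
      tauto
    rw [this, Finset.offDiag_card, hfix g hg]
  rw [hR, hL] at hdc
  have hpos : 0 < n * (n - 1) := Nat.mul_pos (by omega) (by omega)
  have : n * (n - 1) * c ≤ n * (n - 1) * 2 := by
    rw [← hdc]
    exact Nat.mul_le_mul_right 2 hOle
  exact Nat.le_of_mul_le_mul_left this hpos

/-- In a doubly transitive group with trivial three-point stabilisers, a two-point stabiliser has
at most one subgroup of order 3. -/
theorem eq_of_card_eq_three [Finite α] [Finite G] (h2 : IsMultiplyPretransitive G α 2)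
    (h3 : ThreeTrivial G α) (hn : 3 ≤ Nat.card α) {a b : α} (hab : a ≠ b) (A B : Subgroup G)
    (hA : A ≤ stabilizer G a ⊓ stabilizer G b) (hB : B ≤ stabilizer G a ⊓ stabilizer G b)
    (hA3 : Nat.card A = 3) (hB3 : Nat.card B = 3) : A = B := by
  classical
  have := Fintype.ofFinite α
  have := Fintype.ofFinite G
  rw [Nat.card_eq_fintype_card] at hn
  have hle := card_order_three_le h2 h3 hn hab
  set S := (Finset.univ.filter (fun g : G => g ≠ 1 ∧ g ^ 3 = 1 ∧ g • a = a ∧ g • b = b)) with hS
  have key : ∀ C : Subgroup G, C ≤ stabilizer G a ⊓ stabilizer G b → Nat.card C = 3 →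
      ∀ g : G, g ∈ C ↔ g = 1 ∨ g ∈ S := by
    intro C hC hC3
    have hsub : (Finset.univ.filter (fun g : G => g ∈ C)).erase 1 ⊆ S := by
      intro g hg
      rw [Finset.mem_erase, Finset.mem_filter] at hg
      obtain ⟨hg1, -, hgC⟩ := hg
      rw [hS, Finset.mem_filter]
      refine ⟨Finset.mem_univ _, hg1, ?_, (hC hgC).1, (hC hgC).2⟩
      have := pow_card_eq_one' (x := (⟨g, hgC⟩ : C))
      rw [hC3] at this
      exact congrArg Subtype.val this
    have hcard : ((Finset.univ.filter (fun g : G => g ∈ C)).erase 1).card = 2 := by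
      rw [Finset.card_erase_of_mem (by simp [C.one_mem])]
      have : (Finset.univ.filter (fun g : G => g ∈ C)).card = Nat.card C := by
        rw [Nat.card_eq_fintype_card, Fintype.card_subtype]
      rw [this, hC3]
    have heq := Finset.eq_of_subset_of_card_le hsub (by rw [hcard]; exact hle)
    intro g
    rw [← heq]
    simp only [Finset.mem_erase, Finset.mem_filter, Finset.mem_univ, true_and]
    constructor
    · intro h
      by_cases h1 : g = 1
      · exact Or.inl h1
      · exact Or.inr ⟨h1, h⟩
    · rintro (rfl | h)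
      · exact C.one_mem
      · exact h.2
  ext g
  rw [key A hA hA3, key B hB hB3]

end Cfsg.Agent.PermutationGroups.SharpThree
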