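import Mathlib
import Cfsg.Agent.PermutationGroups.SharpThree
import Cfsg.Agent.PermutationGroups.QuatModule
import Cfsg.Agent.PermutationGroups.NoIndexTwoMain

/-!
Sharply 3-transitive groups of even degree: structure of the two-point stabiliser `H`
(unique involution, the swapping involution `s` centralises only `{1, j}` in `H`, `H` has a
subgroup of index 2 invariant under `s`).
-/

set_option autoImplicit false

namespace Cfsg.Agent.PermutationGroups.SharpThreeIndexTwo

open MulAction Cfsg.Agent.PermutationGroups.ZassenhausEven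
open Cfsg.Agent.PermutationGroups.SharpThree

/-- an index 2 subgroup invariant under an involutory automorphism -/
theorem exists_invariant {H : Type*} [Group H] (σ : H →* H) (hσ : ∀ x, σ (σ x) = x)
    (N : Subgroup H) (hN : N.index = 2) : ∃ M : Subgroup H, M.index = 2 ∧ ∀ x ∈ M, σ x ∈ M := by
  by_cases hinv : ∀ x ∈ N, σ x ∈ N
  · exact ⟨N, hN, hinv⟩
  have hmul : ∀ x y : H, x * y ∈ N ↔ (x ∈ N ↔ y ∈ N) := fun x y =>
    Subgroup.mul_mem_iff_of_index_two hN
  let M : Subgroup H :=
    { carrier := {x | x ∈ N ↔ σ x ∈ N}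
      mul_mem' := by
        intro x y hx hy
        change x * y ∈ N ↔ σ (x * y) ∈ N
        change x ∈ N ↔ σ x ∈ N at hx
        change y ∈ N ↔ σ y ∈ N at hy
        rw [map_mul, hmul, hmul, hx, hy]
      one_mem' := by
        change (1 : H) ∈ N ↔ σ 1 ∈ N
        rw [map_one]
      inv_mem' := by
        intro x hx
        change x⁻¹ ∈ N ↔ σ x⁻¹ ∈ N
        change x ∈ N ↔ σ x ∈ N at hx
        rw [map_inv, N.inv_mem_iff, N.inv_mem_iff, hx] }
  have hmM : ∀ x, x ∈ M ↔ (x ∈ N ↔ σ x ∈ N) := fun x => Iff.rfl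
  refine ⟨M, ?_, ?_⟩
  · push Not at hinv
    obtain ⟨x₀, hx₀, hx₀'⟩ := hinv
    rw [Subgroup.index_eq_two_iff]
    refine ⟨x₀, fun b => ?_⟩
    rw [hmM, hmM, map_mul, hmul, hmul, Xor]
    tauto
  · intro x hx
    rw [hmM] at hx ⊢
    rw [hσ]
    exact hx.symm

variable {G α : Type*} [Group G] [Finite G] [MulAction G α] [Finite α]

omit [Finite G] in
/-- The two-point stabiliser of a sharply 3-transitive group is regular on the other points. -/
theorem card_two_point (h3 : IsMultiplyPretransitive G α 3) (hT : ThreeTrivial G α) {a b c : α}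
    (hab : a ≠ b) (hac : a ≠ c) (hbc : b ≠ c) :
    Nat.card ↥(stabilizer G a ⊓ stabilizer G b) = Nat.card α - 2 := by
  classical
  have := Fintype.ofFinite α
  have e : ↥(stabilizer G a ⊓ stabilizer G b) ≃ {x : α // x ≠ a ∧ x ≠ b} := by
    refine Equiv.ofBijective (fun h => ⟨(h : G) • c, ?_, ?_⟩) ⟨?_, ?_⟩
    · intro h'
      have : (h : G) • a = a := h.2.1
      exact hac (smul_left_cancel (h : G) (this.trans h'.symm))
    · intro h'
      have : (h : G) • b = b := h.2.2
      exact hbc (smul_left_cancel (h : G) (this.trans h'.symm))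
    · intro g h hgh
      have h1 : (g : G) • c = (h : G) • c := congrArg Subtype.val hgh
      have hga : (g : G) • a = a := g.2.1
      have hgb : (g : G) • b = b := g.2.2
      have hha : (h : G) • a = a := h.2.1
      have hhb : (h : G) • b = b := h.2.2
      have h2 : (h : G)⁻¹ * g = 1 := by
        refine hT _ a b c hab hbc hac ?_ ?_ ?_
        · rw [mul_smul, hga, inv_smul_eq_iff, hha]
        · rw [mul_smul, hgb, inv_smul_eq_iff, hhb]
        · rw [mul_smul, h1, inv_smul_smul]
      exact Subtype.ext (inv_mul_eq_one.mp h2).symm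
    · rintro ⟨x, hxa, hxb⟩
      obtain ⟨g, hga, hgb, hgc⟩ := SharpThree.exists_smul_eq h3 hab hbc hac hab (Ne.symm hxb)
        (Ne.symm hxa)
      exact ⟨⟨g, hga, hgb⟩, Subtype.ext hgc⟩
  rw [Nat.card_congr e, Nat.card_eq_fintype_card, Nat.card_eq_fintype_card, Fintype.card_subtype]
  have : (Finset.univ.filter (fun x : α => x ≠ a ∧ x ≠ b)) = (Finset.univ.erase a).erase b := by
    ext x
    simp [and_comm]
  rw [this, Finset.card_erase_of_mem (by simp [hab.symm]), Finset.card_erase_of_mem (by simp),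
    Finset.card_univ]
  omega

/-- uniqueness of the involution in a two-point stabiliser -/
theorem involution_unique (h2 : IsMultiplyPretransitive G α 2) (hT : ThreeTrivial G α)
    (hI : TwoInv G α) {a b c : α} (hab : a ≠ b) (hac : a ≠ c) (hbc : b ≠ c) {x y : G}
    (hx : x ≠ 1) (hxx : x * x = 1) (hxa : x • a = a) (hxb : x • b = b)
    (hy : y ≠ 1) (hyy : y * y = 1) (hya : y • a = a) (hyb : y • b = b) : x = y := by
  obtain ⟨F, hF, -, -, -, hreg, -⟩ := exists_kernel h2 hT hI hab
  obtain ⟨u, hu, -⟩ := hreg b c hab.symm hac.symm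
  have huk : (u : G) ∈ kerSet G a := by rw [← hF]; exact u.2
  have e1 := invol_conj_kerSet h2 hT hI hab hx hxx hxa hxb huk
  have e2 := invol_conj_kerSet h2 hT hI hab hy hyy hya hyb huk
  have hx' : x⁻¹ = x := inv_eq_of_mul_eq_one_left hxx
  have hy' : y⁻¹ = y := inv_eq_of_mul_eq_one_left hyy
  have hcom : (y * x) * (u : G) = u * (y * x) := by
    have e3 : y * x * u * (y * x)⁻¹ = u := by
      have : y * x * u * (y * x)⁻¹ = y * (x * u * x⁻¹) * y⁻¹ := by group
      rw [this, e1]
      have : y * (u : G)⁻¹ * y⁻¹ = (y * u * y⁻¹)⁻¹ := by group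
      rw [this, e2, inv_inv]
    rwa [mul_inv_eq_iff_eq_mul] at e3
  have h1 : y * x = 1 := by
    refine hT _ a b c hab hbc hac ?_ ?_ ?_
    · rw [mul_smul, hxa, hya]
    · rw [mul_smul, hxb, hyb]
    · rw [← hu, ← mul_smul, hcom, mul_smul, mul_smul, hxb, hyb]
  have := mul_eq_one_iff_inv_eq.mp h1
  rw [hy'] at this
  exact this.symm

/-- The arithmetic contradiction. -/
theorem arith {n Q c : ℕ} (h1 : n - 1 = Q ^ 2) (h2 : n - 2 = 12 * c) (hc : 0 < c) (h3 : 3 ∣ c)
    (hdvd : c ∣ Q - 1) : False := by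
  obtain ⟨m, hm⟩ := hdvd
  obtain ⟨d, rfl⟩ := h3
  have hQ : Q = 3 * d * m + 1 := by
    have : Q ≠ 0 := by
      rintro rfl
      simp at h1
      omega
    omega
  have h4 : Q ^ 2 = 12 * (3 * d) + 1 := by omega
  rw [hQ] at h4
  have hd : 0 < d := by omega
  have h5 : d * (m * (3 * d * m + 2)) = d * 12 := by nlinarith
  have h6 : m * (3 * d * m + 2) = 12 := Nat.eq_of_mul_eq_mul_left hd h5
  have hm0 : m ≠ 0 := by
    rintro rfl
    simp at h6
  have hm3 : m < 3 := by
    by_contra hcon
    push Not at hcon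
    nlinarith [Nat.mul_le_mul hcon (le_refl 3), Nat.mul_pos hd (Nat.pos_of_ne_zero hm0)]
  interval_cases m
  · exact hm0 rfl
  · omega
  · omega

/-- Conjugation by `s` on the two-point stabiliser. -/
def conjHom {a b : α} {s : G} (hsa : s • a = b) (hsb : s • b = a) :
    ↥(stabilizer G a ⊓ stabilizer G b) →* ↥(stabilizer G a ⊓ stabilizer G b) where
  toFun h := ⟨s * h * s⁻¹, by
    have h1 : (h : G) • a = a := h.2.1
    have h2 : (h : G) • b = b := h.2.2
    have h3 : s⁻¹ • a = b := by rw [inv_smul_eq_iff, hsb]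
    have h4 : s⁻¹ • b = a := by rw [inv_smul_eq_iff, hsa]
    refine ⟨?_, ?_⟩
    · change (s * h * s⁻¹) • a = a
      rw [mul_smul, mul_smul, h3, h2, hsb]
    · change (s * h * s⁻¹) • b = b
      rw [mul_smul, mul_smul, h4, h1, hsa]⟩
  map_one' := Subtype.ext (by simp)
  map_mul' x y := Subtype.ext (by simp [mul_assoc])

omit [Finite G] [Finite α] in
theorem coe_conjHom {a b : α} {s : G} (hsa : s • a = b) (hsb : s • b = a)
    (h : ↥(stabilizer G a ⊓ stabilizer G b)) : (conjHom hsa hsb h : G) = s * h * s⁻¹ := rfl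

/-- The main theorem: the two-point stabiliser of a sharply 3-transitive group of even degree at
least 6 has a subgroup of index 2 which is invariant under conjugation by `s`. -/
theorem exists_index_two (h3 : IsMultiplyPretransitive G α 3) (h2 : IsMultiplyPretransitive G α 2)
    (hT : ThreeTrivial G α) (heven : Even (Nat.card α)) (h6 : 6 ≤ Nat.card α) {a b c : α}
    (hab : a ≠ b) (hac : a ≠ c) (hbc : b ≠ c) {s : G} (hsa : s • a = b) (hsb : s • b = a)
    (hsc : s • c = c) :
    ∃ M : Subgroup ↥(stabilizer G a ⊓ stabilizer G b), M.index = 2 ∧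
      ∀ x ∈ M, conjHom hsa hsb x ∈ M := by
  classical
  have hcard := card_two_point h3 hT hab hac hbc
  have hHeven : Even (Nat.card ↥(stabilizer G a ⊓ stabilizer G b)) := by
    rw [hcard, Nat.even_sub (by omega)]
    simp [heven]
  have hI : TwoInv G α := twoInv_of_even h2 hab hHeven
  have hss : s * s = 1 := by
    refine hT _ a b c hab hbc hac ?_ ?_ ?_
    · rw [mul_smul, hsa, hsb]
    · rw [mul_smul, hsb, hsa]
    · rw [mul_smul, hsc, hsc]
  have hsinv : s⁻¹ = s := inv_eq_of_mul_eq_one_left hss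
  set H : Subgroup G := stabilizer G a ⊓ stabilizer G b with hH
  set σ : H →* H := conjHom hsa hsb with hσdef
  have hσc : ∀ x : H, (σ x : G) = s * x * s⁻¹ := fun x => rfl
  have hσ : ∀ x, σ (σ x) = x := by
    intro x
    apply Subtype.ext
    rw [hσc, hσc]
    have : s * (s * (x : G) * s⁻¹) * s⁻¹ = (s * s) * x * (s * s)⁻¹ := by group
    rw [this, hss]
    group
  obtain ⟨j₀, hj₀1, hj₀2, hj₀a, hj₀b⟩ := hI a b hab
  let j : H := ⟨j₀, hj₀a, hj₀b⟩
  have hfixH : ∀ x : H, (x : G) • a = a ∧ (x : G) • b = b := fun x => ⟨x.2.1, x.2.2⟩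
  have hj : j ≠ 1 := fun h => hj₀1 (congrArg Subtype.val h)
  have hjj : j * j = 1 := Subtype.ext hj₀2
  have huniq : ∀ x : H, x * x = 1 → x = 1 ∨ x = j := by
    intro x hx
    by_cases hx1 : x = 1
    · exact Or.inl hx1
    · right
      apply Subtype.ext
      refine involution_unique h2 hT hI hab hac hbc (fun h => hx1 (Subtype.ext h))
        (congrArg Subtype.val hx) (hfixH x).1 (hfixH x).2 hj₀1 hj₀2 hj₀a hj₀b
  -- the fixed points of `σ`
  have hs1 : s ≠ 1 := by
    rintro rfl
    rw [one_smul] at hsa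
    exact hab hsa
  have hσj : σ j = j := by
    rcases huniq (σ j) (by rw [← map_mul, hjj, map_one]) with h | h
    · exfalso
      apply hj
      rw [← hσ j, h, map_one]
    · exact h
  have hcomm : ∀ x : H, σ x = x → s * (x : G) = x * s := by
    intro x hx
    have := congrArg Subtype.val hx
    rw [hσc] at this
    rwa [mul_inv_eq_iff_eq_mul] at this
  have hsfix : ∀ x : H, σ x = x → s • ((x : G) • c) = (x : G) • c := by
    intro x hx
    rw [← mul_smul, hcomm x hx, mul_smul, hsc]
  have hinj : ∀ x y : H, (x : G) • c = (y : G) • c → x = y := by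
    intro x y hxy
    have h1 : (y : G)⁻¹ * x = 1 := by
      refine hT _ a b c hab hbc hac ?_ ?_ ?_
      · rw [mul_smul, (hfixH x).1, inv_smul_eq_iff, (hfixH y).1]
      · rw [mul_smul, (hfixH x).2, inv_smul_eq_iff, (hfixH y).2]
      · rw [mul_smul, hxy, inv_smul_smul]
    exact Subtype.ext (inv_mul_eq_one.mp h1).symm
  have hfix : ∀ x, σ x = x ↔ x = 1 ∨ x = j := by
    intro x
    constructor
    · intro hx
      by_contra hcon
      push Not at hcon
      apply hs1
      refine hT s c ((j : G) • c) ((x : G) • c) ?_ ?_ ?_ hsc (hsfix j hσj) (hsfix x hx)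
      · intro h
        exact hj (hinj j 1 (by rw [← h]; simp))
      · intro h
        exact hcon.2 (hinj j x h).symm
      · intro h
        exact hcon.1 (hinj x 1 (by rw [← h]; simp))
    · rintro (rfl | rfl)
      · exact map_one σ
      · exact hσj
  -- suffices: some subgroup of index 2
  by_cases hno : ∀ N : Subgroup H, N.index ≠ 2
  swap
  · push Not at hno
    obtain ⟨N, hN⟩ := hno
    exact exists_invariant σ hσ N hN
  exfalso
  obtain ⟨u, v, hu, hv, huv, hu4, hv4, hH12⟩ :=
    NoIndexTwoMain.exists_index_twelve hno hj hjj huniq σ hσ hfix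
  set C : Subgroup H := Subgroup.centralizer ({u, v} : Set H) with hC
  have hmC : ∀ h : H, h ∈ C ↔ h * u = u * h ∧ h * v = v * h := by
    intro h
    rw [hC, Subgroup.mem_centralizer_iff]
    constructor
    · intro hh
      exact ⟨(hh u (by simp)).symm, (hh v (by simp)).symm⟩
    · rintro ⟨h1, h2⟩ x (rfl | rfl)
      · exact h1.symm
      · exact h2.symm
  -- an element of order 3 in `C`
  have h3C : 3 ∣ Nat.card C := by
    have h3H : 3 ∣ Nat.card H := by rw [hH12]; exact Dvd.dvd.mul_right (by norm_num) _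
    have : Fact (Nat.Prime 3) := ⟨Nat.prime_three⟩
    obtain ⟨w, hw⟩ := exists_prime_orderOf_dvd_card' (G := H) 3 h3H
    have hw3 : w ^ 3 = 1 := by rw [← hw]; exact pow_orderOf_eq_one w
    have hconj : ∀ h : H, h * w * h⁻¹ ∈ Subgroup.zpowers w := by
      intro h
      have hA3 : Nat.card ((Subgroup.zpowers w).map H.subtype) = 3 := by
        rw [Nat.card_congr (Subgroup.equivMapOfInjective _ _ H.subtype_injective).symm.toEquiv,
          Nat.card_zpowers, hw]
      have hB3 : Nat.card ((Subgroup.zpowers (h * w * h⁻¹)).map H.subtype) = 3 := by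
        rw [Nat.card_congr (Subgroup.equivMapOfInjective _ _ H.subtype_injective).symm.toEquiv,
          Nat.card_zpowers]
        have : h * w * h⁻¹ = MulAut.conj h w := rfl
        rw [this, MulEquiv.orderOf_eq, hw]
      have heq := eq_of_card_eq_three h2 hT (by omega) hab _ _
        (Subgroup.map_subtype_le (Subgroup.zpowers w))
        (Subgroup.map_subtype_le (Subgroup.zpowers (h * w * h⁻¹))) hA3 hB3
      have heq' := Subgroup.map_injective H.subtype_injective heq
      rw [heq']
      exact Subgroup.mem_zpowers _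
    have hcube : ∀ x ∈ Subgroup.zpowers w, x ^ 3 = 1 := by
      rintro _ ⟨k, rfl⟩
      change (w ^ k) ^ 3 = 1
      rw [← zpow_natCast, zpow_comm, zpow_natCast, hw3, one_zpow]
    have hcomw : ∀ x : H, (∀ h : H, (h * x * h⁻¹ * x⁻¹) ^ 4 = 1) → w * x = x * w := by
      intro x hx
      have h1 := hx w
      have h2' : (w * x * w⁻¹ * x⁻¹) ^ 3 = 1 := by
        apply hcube
        have : w * x * w⁻¹ * x⁻¹ = w * (x * w * x⁻¹)⁻¹ := by group
        rw [this]
        exact Subgroup.mul_mem _ (Subgroup.mem_zpowers w) (Subgroup.inv_mem _ (hconj x))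
      have h4 : w * x * w⁻¹ * x⁻¹ = 1 := by
        rw [pow_succ, h2', one_mul] at h1
        exact h1
      rw [mul_inv_eq_one, mul_inv_eq_iff_eq_mul] at h4
      exact h4
    have hwC : w ∈ C := by
      rw [hmC]
      exact ⟨hcomw u hu4, hcomw v hv4⟩
    have : orderOf (⟨w, hwC⟩ : C) = 3 := by rw [Subgroup.orderOf_mk, hw]
    rw [← this]
    exact orderOf_dvd_natCard _
  -- the module
  obtain ⟨F, hF, hFa, -, hFcomm, hreg, hFcard⟩ := exists_kernel h2 hT hI hab
  have hmF : ∀ g, g ∈ F ↔ g ∈ kerSet G a := fun g => by rw [← hF]; rfl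
  let instF : CommGroup F := { (inferInstance : Group F) with
    mul_comm := fun x y => Subtype.ext (hFcomm x x.2 y y.2) }
  let ρ₀ : H → (F →* F) := fun h =>
    { toFun := fun f => ⟨(h : G) * f * (h : G)⁻¹, by
        rw [hmF]
        exact conj_mem_kerSet ((hmF _).mp f.2) (hfixH h).1⟩
      map_one' := Subtype.ext (by simp)
      map_mul' := fun x y => Subtype.ext (by simp [mul_assoc]) }
  have hρ₀ : ∀ (h : H) (f : F), (ρ₀ h f : G) = h * f * (h : G)⁻¹ := fun h f => rfl
  let ρ : H →* AddMonoid.End (Additive F) :=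
    { toFun := fun h => MonoidHom.toAdditive (ρ₀ h)
      map_one' := by
        apply AddMonoidHom.ext
        intro f
        apply Additive.toMul.injective
        apply Subtype.ext
        change ((1 : H) : G) * (Additive.toMul f : F) * ((1 : H) : G)⁻¹ = (Additive.toMul f : F)
        simp
      map_mul' := by
        intro x y
        apply AddMonoidHom.ext
        intro f
        apply Additive.toMul.injective
        apply Subtype.ext
        change ((x * y : H) : G) * (Additive.toMul f : F) * ((x * y : H) : G)⁻¹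
          = x * (y * (Additive.toMul f : F) * (y : G)⁻¹) * (x : G)⁻¹
        simp [mul_assoc] }
  have hρ : ∀ (h : H) (f : Additive F),
      ((Additive.toMul (ρ h f) : F) : G) = h * (Additive.toMul f : F) * (h : G)⁻¹ :=
    fun h f => rfl
  have hcF : Nat.card (Additive F) = Nat.card α - 1 := hFcard
  have hodd : Odd (Nat.card (Additive F)) := by
    rw [hcF]
    obtain ⟨k, hk⟩ := heven
    exact ⟨k - 1, by omega⟩
  have hnt : Nontrivial (Additive F) := by
    rw [← Finite.one_lt_card_iff_nontrivial, hcF]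
    omega
  have hne1 : ∀ f : Additive F, f ≠ 0 → ((Additive.toMul f : F) : G) • b ≠ b := by
    intro f hf hb
    apply hf
    have := ((hmF _).mp (Additive.toMul f).2).2 b hab.symm hb
    apply Additive.toMul.injective
    exact Subtype.ext this
  have hne2 : ∀ f : Additive F, ((Additive.toMul f : F) : G) • b ≠ a := by
    intro f hb
    have h1 : ((Additive.toMul f : F) : G) • a = a := ((hmF _).mp (Additive.toMul f).2).1
    exact hab (smul_left_cancel _ (h1.trans hb.symm))
  have hFinj : ∀ f g : Additive F, ((Additive.toMul f : F) : G) • b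
      = ((Additive.toMul g : F) : G) • b → f = g := by
    intro f g hfg
    obtain ⟨w, -, hw⟩ := hreg b (((Additive.toMul g : F) : G) • b) hab.symm (hne2 g)
    apply Additive.toMul.injective
    exact (hw _ hfg).trans (hw _ rfl).symm
  have htrans : ∀ f g : Additive F, f ≠ 0 → g ≠ 0 → ∃ h : H, ρ h f = g := by
    intro f g hf hg
    obtain ⟨h, hha, hhb, hhc⟩ := SharpThree.exists_smul_eq h3 hab (Ne.symm (hne1 f hf))
      (Ne.symm (hne2 f)) hab (Ne.symm (hne1 g hg)) (Ne.symm (hne2 g))
    refine ⟨⟨h, hha, hhb⟩, ?_⟩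
    apply hFinj
    rw [hρ]
    have hhb' : h⁻¹ • b = b := by rw [inv_smul_eq_iff, hhb]
    change (h * ((Additive.toMul f : F) : G) * h⁻¹) • b = _
    rw [mul_smul, mul_smul, hhb', hhc]
  have hfree : ∀ (h : H) (f : Additive F), f ≠ 0 → ρ h f = f → h = 1 := by
    intro h f hf hhf
    have h1 : (h : G) * ((Additive.toMul f : F) : G) * (h : G)⁻¹ = ((Additive.toMul f : F) : G) := by
      rw [← hρ, hhf]
    rw [mul_inv_eq_iff_eq_mul] at h1
    apply Subtype.ext
    refine hT _ a b (((Additive.toMul f : F) : G) • b) hab (Ne.symm (hne1 f hf))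
      (Ne.symm (hne2 f)) (hfixH h).1 (hfixH h).2 ?_
    rw [← mul_smul, h1, mul_smul, (hfixH h).2]
  have hρj : ρ j = -1 := by
    apply AddMonoidHom.ext
    intro f
    apply Additive.toMul.injective
    apply Subtype.ext
    exact invol_conj_kerSet h2 hT hI hab hj₀1 hj₀2 hj₀a hj₀b ((hmF _).mp (Additive.toMul f).2)
  obtain ⟨Q, hQ1, hQ2⟩ := QuatModule.exists_sq ρ hodd htrans hfree hρj hu hv huv C
    (fun c hc => ((hmC c).mp hc).1) (fun c hc => ((hmC c).mp hc).2)
  rw [hcF] at hQ1
  rw [hcard] at hH12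
  exact arith hQ1 hH12 Nat.card_pos h3C hQ2

end Cfsg.Agent.PermutationGroups.SharpThreeIndexTwo
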