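import Mathlib

set_option autoImplicit false

namespace Cfsg.Agent.PermutationGroups.FieldOfAffine

open Equiv

/-- If `N` and `H` are abelian groups of permutations of `K`, `N` is transitive, `H` fixes `o` and is
transitive on the other points, and `H` normalises `N`, then `K` carries a field structure with zero `o`
and one `e` for which `N` acts by translations and `H` by multiplications. -/
theorem exists_field {K : Type*} (N H : Subgroup (Perm K)) (o e : K) (hoe : o ≠ e)
    (hNc : ∀ a ∈ N, ∀ b ∈ N, a * b = b * a)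
    (hNt : ∀ x, ∃ a ∈ N, a o = x)
    (hHc : ∀ a ∈ H, ∀ b ∈ H, a * b = b * a)
    (hH0 : ∀ h ∈ H, h o = o)
    (hHt : ∀ x, x ≠ o → ∃ h ∈ H, h e = x)
    (hHN : ∀ h ∈ H, ∀ a ∈ N, h * a * h⁻¹ ∈ N) :
    ∃ F : Field K, (∀ a ∈ N, ∀ y, a y = F.add (a o) y) ∧ (∀ h ∈ H, ∀ y, h y = F.mul (h e) y) ∧
      (F.zero = o) ∧ (F.one = e) := by
  classical
  choose n hnN hno using hNt
  choose m hmH hme using hHt
  -- uniqueness
  have hNu : ∀ a ∈ N, ∀ b ∈ N, a o = b o → a = b := by
    intro a ha b hb hab
    ext y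
    have h1 : (a * n y) o = (n y * a) o := by rw [hNc a ha (n y) (hnN y)]
    have h2 : (b * n y) o = (n y * b) o := by rw [hNc b hb (n y) (hnN y)]
    simp only [Perm.mul_apply, hno] at h1 h2
    rw [h1, h2, hab]
  have hHu : ∀ a ∈ H, ∀ b ∈ H, a e = b e → a = b := by
    intro a ha b hb hab
    ext y
    by_cases hy : y = o
    · rw [hy, hH0 a ha, hH0 b hb]
    have h1 : (a * m y hy) e = (m y hy * a) e := by rw [hHc a ha (m y hy) (hmH y hy)]
    have h2 : (b * m y hy) e = (m y hy * b) e := by rw [hHc b hb (m y hy) (hmH y hy)]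
    simp only [Perm.mul_apply, hme] at h1 h2
    rw [h1, h2, hab]
  have hHne : ∀ h ∈ H, ∀ x, x ≠ o → h x ≠ o := by
    intro h hh x hx hc
    apply hx
    have := hH0 h hh
    rw [← this] at hc
    exact h.injective hc
  let : Add K := ⟨fun x y => n x y⟩
  let : Mul K := ⟨fun x y => if hx : x = o then o else m x hx y⟩
  let : Neg K := ⟨fun x => (n x)⁻¹ o⟩
  let : Inv K := ⟨fun x => if hx : x = o then o else (m x hx)⁻¹ e⟩
  let : Zero K := ⟨o⟩
  let : One K := ⟨e⟩
  have hadd : ∀ x y : K, x + y = n x y := fun x y => rfl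
  have hmul : ∀ (x y : K) (hx : x ≠ o), x * y = m x hx y := by
    intro x y hx
    show (if hx : x = o then o else m x hx y) = _
    rw [dif_neg hx]
  have hmul0 : ∀ (y : K), o * y = o := by
    intro y
    show (if hx : o = o then o else m o hx y) = _
    rw [dif_pos rfl]
  have hneg : ∀ x : K, -x = (n x)⁻¹ o := fun x => rfl
  have hinv : ∀ (x : K) (hx : x ≠ o), x⁻¹ = (m x hx)⁻¹ e := by
    intro x hx
    show (if hx : x = o then o else (m x hx)⁻¹ e) = _
    rw [dif_neg hx]
  have hinv0 : (o : K)⁻¹ = o := by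
    show (if hx : o = o then o else (m o hx)⁻¹ e) = _
    rw [dif_pos rfl]
  have hzero : (0 : K) = o := rfl
  have hone : (1 : K) = e := rfl
  have hno1 : n o = 1 := hNu _ (hnN o) _ N.one_mem (by rw [hno]; rfl)
  have hme1 : m e hoe.symm = 1 := hHu _ (hmH e _) _ H.one_mem (by rw [hme]; rfl)
  have hnadd : ∀ x y : K, n (x + y) = n x * n y := by
    intro x y
    apply hNu _ (hnN _) _ (N.mul_mem (hnN _) (hnN _))
    rw [hno, Perm.mul_apply, hno, hadd]
  have hmne : ∀ (x y : K) (hx : x ≠ o) (hy : y ≠ o), x * y ≠ o := by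
    intro x y hx hy
    rw [hmul x y hx]
    exact hHne _ (hmH _ _) _ hy
  have hmmul : ∀ (x y : K) (hx : x ≠ o) (hy : y ≠ o), m (x * y) (hmne x y hx hy) = m x hx * m y hy := by
    intro x y hx hy
    apply hHu _ (hmH _ _) _ (H.mul_mem (hmH _ _) (hmH _ _))
    rw [hme, Perm.mul_apply, hme, hmul x y hx]
  have hmulz : ∀ x : K, x * o = o := by
    intro x
    by_cases hx : x = o
    · rw [hx, hmul0]
    · rw [hmul x o hx, hH0 _ (hmH _ _)]
  have hcomm : ∀ a b : K, a * b = b * a := by
    intro a b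
    by_cases ha : a = o
    · rw [ha, hmul0, hmulz]
    by_cases hb : b = o
    · rw [hb, hmul0, hmulz]
    have h1 := hHc _ (hmH a ha) _ (hmH b hb)
    have h2 := congrArg (fun f : Perm K => f e) h1
    simp only [Perm.mul_apply, hme] at h2
    rw [hmul a b ha, hmul b a hb, h2]
  let F : Field K := Field.ofMinimalAxioms K
    (by
      intro a b c
      rw [hadd (a + b) c, hnadd, Perm.mul_apply, ← hadd, ← hadd])
    (by
      intro a
      rw [hadd, hzero, hno1]; rfl)
    (by
      intro a
      have h1 : n (-a) = (n a)⁻¹ := by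
        apply hNu _ (hnN _) _ (N.inv_mem (hnN _))
        rw [hno, hneg]
      rw [hadd, h1, hzero]
      exact (n a).symm_apply_eq.2 (hno a).symm)
    (by
      intro a b c
      by_cases ha : a = o
      · rw [ha, hmul0, hmul0, hmul0]
      by_cases hb : b = o
      · rw [hb, hmulz, hmul0, hmulz]
      rw [hmul (a * b) c (hmne a b ha hb), hmmul a b ha hb, Perm.mul_apply, ← hmul b c hb,
        ← hmul a _ ha])
    hcomm
    (by
      intro a
      rw [hone, hmul e a hoe.symm, hme1]; rfl)
    (by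
      intro a ha
      have ha' : a ≠ o := ha
      rw [hmul a _ ha', hinv a ha']
      exact (m a ha').apply_symm_apply e)
    hinv0
    (by
      intro a b c
      by_cases ha : a = o
      · rw [ha, hmul0, hmul0, hmul0]
        exact (by rw [hadd, hno1]; rfl : (o : K) = o + o)
      rw [hmul a (b + c) ha, hmul a b ha, hmul a c ha, hadd, hadd]
      have h1 : m a ha * n b * (m a ha)⁻¹ = n (m a ha b) := by
        apply hNu _ (hHN _ (hmH _ _) _ (hnN _)) _ (hnN _)
        rw [hno]
        have h2 : (m a ha)⁻¹ o = o := hH0 _ (H.inv_mem (hmH _ _))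
        rw [Perm.mul_apply, h2, Perm.mul_apply, hno]
      rw [← h1]
      simp only [Perm.mul_apply, Perm.coe_inv, Equiv.symm_apply_apply])
    ⟨o, e, hoe⟩
  refine ⟨F, ?_, ?_, rfl, rfl⟩
  · intro a ha y
    have h1 : a = n (a o) := hNu _ ha _ (hnN _) (by rw [hno])
    show a y = n (a o) y
    rw [← h1]
  · intro h hh y
    have h0 : h e ≠ o := hHne h hh e hoe.symm
    have h1 : h = m (h e) h0 := hHu _ hh _ (hmH _ _) (by rw [hme])
    show h y = h e * y
    rw [hmul (h e) y h0, ← h1]

end Cfsg.Agent.PermutationGroups.FieldOfAffine
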