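import Mathlib

set_option autoImplicit false

namespace Cfsg.Agent.PermutationGroups.SharpEven

open Equiv

/-- The number of fixed points of an involution has the parity of the degree. -/
theorem card_fixed_mod_two {α : Type*} [Fintype α] [DecidableEq α] (f : Perm α) (hf : f * f = 1) :
    (Finset.univ.filter (fun x => f x = x)).card % 2 = Fintype.card α % 2 := by
  have h := Equiv.Perm.card_compl_support_modEq (σ := f) (p := 2) (n := 1)
    (by rw [pow_one, pow_two, hf])
  have h2 : (f.support)ᶜ = Finset.univ.filter (fun x => f x = x) := by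
    ext x
    simp
  rw [h2] at h
  exact h

/-- A sharply 2-transitive group of permutations of a finite set with an even number of points has an abelian
transitive normal subgroup. -/
theorem exists_normal_of_even {K : Type*} [Fintype K] (T : Subgroup (Perm K))
    (heven : Fintype.card K % 2 = 0)
    (h2 : ∀ a b a' b' : K, a ≠ b → a' ≠ b' → ∃ g ∈ T, g a = a' ∧ g b = b')
    (hs : ∀ g ∈ T, ∀ a b : K, a ≠ b → g a = a → g b = b → g = 1) (o : K) :
    ∃ N : Subgroup (Perm K), N ≤ T ∧ (∀ a ∈ N, ∀ b ∈ N, a * b = b * a) ∧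
      (∀ x, ∃ a ∈ N, a o = x) ∧ (∀ h ∈ T, ∀ a ∈ N, h * a * h⁻¹ ∈ N) := by
  classical
  -- swapping elements
  have hswap : ∀ a b : K, a ≠ b → ∃ g ∈ T, g a = b ∧ g b = a ∧ g * g = 1 ∧ g ≠ 1 := by
    intro a b hab
    obtain ⟨g, hg, h1, h3⟩ := h2 a b b a hab hab.symm
    refine ⟨g, hg, h1, h3, ?_, ?_⟩
    · apply hs (g * g) (T.mul_mem hg hg) a b hab
      · rw [Perm.mul_apply, h1, h3]
      · rw [Perm.mul_apply, h3, h1]
    · rintro rfl
      exact hab h1
  -- involutions are fixed point free
  have hJD : ∀ g ∈ T, g * g = 1 → g ≠ 1 → ∀ x, g x ≠ x := by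
    intro g hg hgg hg1 x hx
    have hpar := card_fixed_mod_two g hgg
    rw [heven] at hpar
    have hle : (Finset.univ.filter (fun y => g y = y)).card ≤ 1 := by
      rw [Finset.card_le_one]
      intro a ha b hb
      by_contra hab
      rw [Finset.mem_filter] at ha hb
      exact hg1 (hs g hg a b hab ha.2 hb.2)
    have hge : 0 < (Finset.univ.filter (fun y => g y = y)).card :=
      Finset.card_pos.2 ⟨x, by simp [hx]⟩
    omega
  -- the sets D and J of elements of T
  set D : Finset T := Finset.univ.filter (fun g : T => ∀ x, (g : Perm K) x ≠ x) with hD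
  set J : Finset T := Finset.univ.filter (fun g : T => (g : Perm K) * g = 1 ∧ (g : Perm K) ≠ 1) with hJ
  have hJsub : J ⊆ D := by
    intro g hg
    rw [hJ, Finset.mem_filter] at hg
    rw [hD, Finset.mem_filter]
    exact ⟨Finset.mem_univ _, hJD g g.2 hg.2.1 hg.2.2⟩
  by_cases hsub : ∀ x : K, x = o
  · -- degenerate: one point. (impossible by parity)
    exfalso
    have : Fintype.card K = 1 := by
      rw [Fintype.card_eq_one_iff]
      exact ⟨o, hsub⟩
    omega
  push Not at hsub
  obtain ⟨o', ho'⟩ := hsub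
  have hJcard : Fintype.card K - 1 ≤ J.card := by
    have h1 : (Finset.univ.erase o : Finset K).card = Fintype.card K - 1 := by
      rw [Finset.card_erase_of_mem (Finset.mem_univ _), Finset.card_univ]
    rw [← h1]
    have h3 : (Finset.univ.erase o : Finset K) ⊆ J.image (fun g : T => (g : Perm K) o) := by
      intro x hx
      rw [Finset.mem_erase] at hx
      obtain ⟨g, hg, hgo, -, hgg, hg1⟩ := hswap o x hx.1.symm
      rw [Finset.mem_image]
      refine ⟨⟨g, hg⟩, ?_, hgo⟩
      rw [hJ, Finset.mem_filter]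
      exact ⟨Finset.mem_univ _, hgg, hg1⟩
    exact (Finset.card_le_card h3).trans Finset.card_image_le
  -- Burnside
  have htrans : MulAction.IsPretransitive T K := by
    constructor
    intro x y
    by_cases hxy : x = y
    · exact ⟨1, by rw [hxy]; exact one_smul _ _⟩
    · obtain ⟨g, hg, h1, -⟩ := hswap x y hxy
      exact ⟨⟨g, hg⟩, h1⟩
  have hburn := MulAction.sum_card_fixedBy_eq_card_orbits_mul_card_group T K
  have horb : Fintype.card (Quotient (MulAction.orbitRel T K)) = 1 := by
    rw [Fintype.card_eq_one_iff]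
    refine ⟨Quotient.mk _ o, ?_⟩
    intro y
    induction y using Quotient.inductionOn with
    | h y =>
      apply Quotient.sound
      exact MulAction.exists_smul_eq T o y
  rw [horb, one_mul] at hburn
  have hfix : ∀ g : T, Fintype.card (MulAction.fixedBy K g) =
      (if g ∈ D then 0 else 1) + (if g = 1 then Fintype.card K - 1 else 0) := by
    intro g
    by_cases hg1 : g = 1
    · subst hg1
      have h1 : (1 : T) ∉ D := by
        rw [hD, Finset.mem_filter]
        rintro ⟨-, h⟩
        exact h o rfl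
      rw [if_neg h1, if_pos rfl]
      have : Fintype.card (MulAction.fixedBy K (1 : T)) = Fintype.card K := by
        rw [Fintype.card_congr (Equiv.subtypeUnivEquiv (p := fun x => x ∈ MulAction.fixedBy K (1 : T)) ?_)]
        intro x
        exact one_smul _ x
      rw [this]
      have : 0 < Fintype.card K := Fintype.card_pos_iff.2 ⟨o⟩
      omega
    · rw [if_neg hg1, add_zero]
      by_cases hgD : g ∈ D
      · rw [if_pos hgD, Fintype.card_eq_zero_iff]
        rw [hD, Finset.mem_filter] at hgD
        refine ⟨?_⟩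
        rintro ⟨x, hx⟩
        exact hgD.2 x hx
      · rw [if_neg hgD, Fintype.card_eq_one_iff]
        rw [hD, Finset.mem_filter] at hgD
        push Not at hgD
        obtain ⟨x, hx⟩ := hgD (Finset.mem_univ _)
        refine ⟨⟨x, hx⟩, ?_⟩
        rintro ⟨y, hy⟩
        by_contra hne
        apply hg1
        have hxy : y ≠ x := fun h => hne (Subtype.ext h)
        exact Subtype.ext (hs g g.2 y x hxy hy hx)
  have hDcard : D.card = Fintype.card K - 1 := by
    simp_rw [hfix] at hburn
    rw [Finset.sum_add_distrib, Finset.sum_ite_eq' Finset.univ (1 : T), if_pos (Finset.mem_univ _)] at hburn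
    have h1 : ∑ g : T, (if g ∈ D then 0 else 1) + D.card = Fintype.card T := by
      have : D.card = ∑ g : T, (if g ∈ D then 1 else 0) := by
        rw [Finset.card_eq_sum_ones, ← Finset.sum_filter]
        congr 1
        ext g
        simp
      rw [this, ← Finset.sum_add_distrib, ← Finset.card_univ, Finset.card_eq_sum_ones]
      apply Finset.sum_congr rfl
      intro g _
      split_ifs <;> rfl
    omega
  have hJD' : J = D := Finset.eq_of_subset_of_card_le hJsub (by omega)
  have hDJ : ∀ g ∈ T, (∀ x, g x ≠ x) → g * g = 1 := by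
    intro g hg hx
    have : (⟨g, hg⟩ : T) ∈ D := by
      rw [hD, Finset.mem_filter]
      exact ⟨Finset.mem_univ _, hx⟩
    rw [← hJD', hJ, Finset.mem_filter] at this
    exact this.2.1
  have hinv : ∀ g : Perm K, g * g = 1 → g⁻¹ = g := fun g hg => inv_eq_of_mul_eq_one_right hg
  have hclosed : ∀ s ∈ T, ∀ t ∈ T, s * s = 1 → t * t = 1 → (s * t) * (s * t) = 1 := by
    intro s hs' t ht hss htt
    by_cases hs1 : s = 1
    · rw [hs1, one_mul, htt]
    by_cases ht1 : t = 1
    · rw [ht1, mul_one, hss]
    by_cases hst : s = t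
    · rw [hst, htt, one_mul]
    apply hDJ _ (T.mul_mem hs' ht)
    intro x hx
    apply hst
    have hsx : s x = t x := by
      have h1 : s (s (t x)) = s x := congrArg s hx
      have h3 : s (s (t x)) = t x := congrArg (fun g : Perm K => g (t x)) hss
      rw [← h1, h3]
    have htx : t (t x) = x := congrArg (fun g : Perm K => g x) htt
    have hsx' : s (t x) = x := hx
    have hne : t x ≠ x := hJD t ht htt ht1 x
    have h4 : t⁻¹ * s = 1 := by
      apply hs _ (T.mul_mem (T.inv_mem ht) hs') (t x) x hne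
      · rw [Perm.mul_apply, hsx', hinv t htt]
      · rw [Perm.mul_apply, hsx, hinv t htt, htx]
    exact (inv_mul_eq_one.1 h4).symm
  refine ⟨{ carrier := {g | g ∈ T ∧ g * g = 1}
            mul_mem' := ?_
            one_mem' := ⟨T.one_mem, one_mul _⟩
            inv_mem' := ?_ }, ?_, ?_, ?_, ?_⟩
  · rintro a b ⟨ha, haa⟩ ⟨hb, hbb⟩
    exact ⟨T.mul_mem ha hb, hclosed a ha b hb haa hbb⟩
  · rintro a ⟨ha, haa⟩
    show a⁻¹ ∈ T ∧ a⁻¹ * a⁻¹ = 1
    rw [hinv a haa]
    exact ⟨ha, haa⟩
  · rintro a ⟨ha, -⟩
    exact ha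
  · rintro a ⟨ha, haa⟩ b ⟨hb, hbb⟩
    have h1 := hinv _ (hclosed a ha b hb haa hbb)
    rw [mul_inv_rev, hinv a haa, hinv b hbb] at h1
    exact h1.symm
  · intro x
    by_cases hx : x = o
    · exact ⟨1, ⟨T.one_mem, one_mul _⟩, hx.symm⟩
    · obtain ⟨g, hg, h1, -, hgg, -⟩ := hswap o x (Ne.symm hx)
      exact ⟨g, ⟨hg, hgg⟩, h1⟩
  · rintro h hh a ⟨ha, haa⟩
    refine ⟨T.mul_mem (T.mul_mem hh ha) (T.inv_mem hh), ?_⟩
    calc h * a * h⁻¹ * (h * a * h⁻¹) = h * (a * a) * h⁻¹ := by group
      _ = 1 := by rw [haa]; group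

end Cfsg.Agent.PermutationGroups.SharpEven
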