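import Mathlib
import Cfsg.Agent.PermutationGroups.FieldOfAffine
import Cfsg.Agent.PermutationGroups.SharpEven

set_option autoImplicit false

namespace Cfsg.Agent.PermutationGroups.SharpThreeEven

open Equiv

theorem pgl_ker {K : Type*} [Field K] [DecidableEq K] :
    (MulAction.toPermHom (Matrix.GeneralLinearGroup (Fin 2) K) (OnePoint K)).ker =
      Subgroup.center (Matrix.GeneralLinearGroup (Fin 2) K) := by
  ext C
  rw [MonoidHom.mem_ker, Matrix.GeneralLinearGroup.mem_center_iff_val_mem_range_scalar]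
  constructor
  · intro h
    have h1 : C • (OnePoint.infty : OnePoint K) = OnePoint.infty :=
      congrArg (fun f : Perm (OnePoint K) => f OnePoint.infty) h
    have h2 : C • ((0 : K) : OnePoint K) = ((0 : K) : OnePoint K) :=
      congrArg (fun f : Perm (OnePoint K) => f ((0 : K) : OnePoint K)) h
    have h3 : C • ((1 : K) : OnePoint K) = ((1 : K) : OnePoint K) :=
      congrArg (fun f : Perm (OnePoint K) => f ((1 : K) : OnePoint K)) h
    rw [OnePoint.smul_infty_eq_self_iff] at h1
    rw [OnePoint.smul_some_eq_ite, h1] at h2 h3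
    simp only [zero_add, mul_zero, mul_one] at h2 h3
    have hC11 : C 1 1 ≠ 0 := by
      intro h0
      rw [if_pos h0] at h2
      exact OnePoint.infty_ne_coe _ h2
    rw [if_neg hC11] at h2 h3
    have h2' := OnePoint.coe_injective h2
    have h3' := OnePoint.coe_injective h3
    have h4 : C 0 1 = 0 := by
      rcases div_eq_zero_iff.1 h2' with h | h
      · exact h
      · exact absurd h hC11
    rw [div_eq_iff hC11, h4, add_zero, one_mul] at h3'
    refine ⟨C 1 1, ?_⟩
    ext i j
    fin_cases i <;> fin_cases j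
    · simp [h3']
    · simp [h4]
    · simp [h1]
    · simp
  · rintro ⟨u, hu⟩
    have hu' : ∀ i j, C i j = Matrix.scalar (Fin 2) u i j := fun i j => by rw [hu]
    have h10 : C 1 0 = 0 := by rw [hu']; simp
    have h01 : C 0 1 = 0 := by rw [hu']; simp
    have h00 : C 0 0 = u := by rw [hu']; simp
    have h11 : C 1 1 = u := by rw [hu']; simp
    have hu0 : u ≠ 0 := by
      rintro rfl
      have := C.det_ne_zero
      rw [Matrix.det_fin_two] at this
      exact this (by rw [show (C : Matrix (Fin 2) (Fin 2) K) 0 0 = 0 from h00,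
        show (C : Matrix (Fin 2) (Fin 2) K) 0 1 = 0 from h01]; ring)
    ext x
    show C • x = x
    cases x with
    | infty => rw [OnePoint.smul_infty_eq_self_iff, h10]
    | coe k =>
      rw [OnePoint.smul_some_eq_ite, h10, h11, h00, h01, zero_mul, zero_add, add_zero, if_neg hu0,
        mul_div_cancel_left₀ _ hu0]

/-- A sharply 3-transitive group on the projective line which contains the translations, the
multiplications and the inversion is isomorphic to the projective general linear group. -/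
theorem core2 {K : Type*} [Field K] [DecidableEq K] (G : Subgroup (Perm (OnePoint K)))
    (h3 : ∀ a b c a' b' c' : OnePoint K, a ≠ b → a ≠ c → b ≠ c → a' ≠ b' → a' ≠ c' → b' ≠ c' →
      ∃ g ∈ G, g a = a' ∧ g b = b' ∧ g c = c')
    (hs : ∀ g ∈ G, ∀ a b c : OnePoint K, a ≠ b → a ≠ c → b ≠ c → g a = a → g b = b → g c = c → g = 1)
    (hN : ∀ b : K, ∃ g ∈ G, g OnePoint.infty = OnePoint.infty ∧
      ∀ y : K, g (y : OnePoint K) = ((b + y : K) : OnePoint K))
    (hH : ∀ a : K, a ≠ 0 → ∃ g ∈ G, g OnePoint.infty = OnePoint.infty ∧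
      ∀ y : K, g (y : OnePoint K) = ((a * y : K) : OnePoint K))
    (ht : ∃ g ∈ G, g OnePoint.infty = ((0 : K) : OnePoint K) ∧
      g ((0 : K) : OnePoint K) = OnePoint.infty ∧
      ∀ y : K, y ≠ 0 → g (y : OnePoint K) = ((y⁻¹ : K) : OnePoint K)) :
    Nonempty (G ≃* Matrix.ProjGenLinGroup (Fin 2) K) := by
  set ρ := MulAction.toPermHom (Matrix.GeneralLinearGroup (Fin 2) K) (OnePoint K) with hρ
  -- the basic elements are in the range
  have hNr : ∀ (b : K) (g : Perm (OnePoint K)), g OnePoint.infty = OnePoint.infty →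
      (∀ y : K, g (y : OnePoint K) = ((b + y : K) : OnePoint K)) → g ∈ ρ.range := by
    intro b g hg1 hg2
    refine ⟨Matrix.GeneralLinearGroup.mkOfDetNeZero !![1, b; 0, 1] (by simp), ?_⟩
    ext x
    show (Matrix.GeneralLinearGroup.mkOfDetNeZero !![1, b; 0, 1] (by simp) :
      Matrix.GeneralLinearGroup (Fin 2) K) • x = g x
    cases x with
    | infty =>
      rw [hg1, OnePoint.smul_infty_eq_self_iff]
      rfl
    | coe k =>
      rw [hg2, OnePoint.smul_some_eq_ite]
      simp [Matrix.GeneralLinearGroup.mkOfDetNeZero, add_comm]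
  have hHr : ∀ (a : K) (g : Perm (OnePoint K)), a ≠ 0 → g OnePoint.infty = OnePoint.infty →
      (∀ y : K, g (y : OnePoint K) = ((a * y : K) : OnePoint K)) → g ∈ ρ.range := by
    intro a g ha hg1 hg2
    refine ⟨Matrix.GeneralLinearGroup.mkOfDetNeZero !![a, 0; 0, 1] (by simpa using ha), ?_⟩
    ext x
    show (Matrix.GeneralLinearGroup.mkOfDetNeZero !![a, 0; 0, 1] (by simpa using ha) :
      Matrix.GeneralLinearGroup (Fin 2) K) • x = g x
    cases x with
    | infty =>
      rw [hg1, OnePoint.smul_infty_eq_self_iff]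
      rfl
    | coe k =>
      rw [hg2, OnePoint.smul_some_eq_ite]
      simp [Matrix.GeneralLinearGroup.mkOfDetNeZero]
  obtain ⟨t, htG, ht1, ht2, ht3⟩ := ht
  have htr : t ∈ ρ.range := by
    refine ⟨Matrix.GeneralLinearGroup.mkOfDetNeZero !![0, 1; 1, 0] (by simp), ?_⟩
    ext x
    show (Matrix.GeneralLinearGroup.mkOfDetNeZero !![0, 1; 1, 0] (by simp) :
      Matrix.GeneralLinearGroup (Fin 2) K) • x = t x
    cases x with
    | infty =>
      rw [ht1, OnePoint.smul_infty_eq_ite]
      simp [Matrix.GeneralLinearGroup.mkOfDetNeZero]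
    | coe k =>
      by_cases hk : k = 0
      · subst hk
        rw [ht2, OnePoint.smul_some_eq_ite]
        simp [Matrix.GeneralLinearGroup.mkOfDetNeZero]
      · rw [ht3 k hk, OnePoint.smul_some_eq_ite]
        simp [Matrix.GeneralLinearGroup.mkOfDetNeZero, hk]
  have h01 : ((0 : K) : OnePoint K) ≠ ((1 : K) : OnePoint K) := by
    intro h
    exact zero_ne_one (OnePoint.coe_injective h)
  have hi0 : (OnePoint.infty : OnePoint K) ≠ ((0 : K) : OnePoint K) := OnePoint.infty_ne_coe _
  have hi1 : (OnePoint.infty : OnePoint K) ≠ ((1 : K) : OnePoint K) := OnePoint.infty_ne_coe _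
  -- elements fixing `∞` and `0`
  have hstep1 : ∀ g ∈ G, g OnePoint.infty = OnePoint.infty →
      g ((0 : K) : OnePoint K) = ((0 : K) : OnePoint K) → g ∈ ρ.range := by
    intro g hg h1 h2
    obtain ⟨a, ha⟩ : ∃ a : K, g ((1 : K) : OnePoint K) = (a : OnePoint K) := by
      have : g ((1 : K) : OnePoint K) ≠ OnePoint.infty := by
        rw [← h1]
        intro h
        exact hi1 (g.injective h).symm
      obtain ⟨a, ha⟩ := OnePoint.ne_infty_iff_exists.1 this
      exact ⟨a, ha.symm⟩
    have ha0 : a ≠ 0 := by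
      rintro rfl
      rw [← h2] at ha
      exact h01 (g.injective ha).symm
    obtain ⟨h, hhG, hh1, hh2⟩ := hH a ha0
    have : h⁻¹ * g = 1 := by
      apply hs _ (G.mul_mem (G.inv_mem hhG) hg) _ _ _ hi0 hi1 h01
      · rw [Perm.mul_apply, h1]
        exact h.symm_apply_eq.2 hh1.symm
      · rw [Perm.mul_apply, h2]
        exact h.symm_apply_eq.2 (by rw [hh2, mul_zero])
      · rw [Perm.mul_apply, ha]
        exact h.symm_apply_eq.2 (by rw [hh2, mul_one])
    have h5 : h = g := inv_mul_eq_one.1 this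
    rw [← h5]
    exact hHr a h ha0 hh1 hh2
  have hstep2 : ∀ g ∈ G, g OnePoint.infty = OnePoint.infty → g ∈ ρ.range := by
    intro g hg h1
    obtain ⟨a, ha⟩ : ∃ a : K, g ((0 : K) : OnePoint K) = (a : OnePoint K) := by
      have : g ((0 : K) : OnePoint K) ≠ OnePoint.infty := by
        rw [← h1]
        intro h
        exact hi0 (g.injective h).symm
      obtain ⟨a, ha⟩ := OnePoint.ne_infty_iff_exists.1 this
      exact ⟨a, ha.symm⟩
    obtain ⟨h, hhG, hh1, hh2⟩ := hN a
    have hmem : h⁻¹ * g ∈ ρ.range := by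
      apply hstep1 _ (G.mul_mem (G.inv_mem hhG) hg)
      · rw [Perm.mul_apply, h1]
        exact h.symm_apply_eq.2 hh1.symm
      · rw [Perm.mul_apply, ha]
        exact h.symm_apply_eq.2 (by rw [hh2, add_zero])
    have h6 := ρ.range.mul_mem (hNr a h hh1 hh2) hmem
    rwa [mul_inv_cancel_left] at h6
  have hstep3 : ∀ g ∈ G, g ∈ ρ.range := by
    intro g hg
    by_cases h1 : g OnePoint.infty = OnePoint.infty
    · exact hstep2 g hg h1
    obtain ⟨a, ha⟩ := OnePoint.ne_infty_iff_exists.1 h1
    obtain ⟨h, hhG, hh1, hh2⟩ := hN a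
    have hmem : t * (h⁻¹ * g) ∈ ρ.range := by
      apply hstep2 _ (G.mul_mem htG (G.mul_mem (G.inv_mem hhG) hg))
      rw [Perm.mul_apply, Perm.mul_apply, ← ha]
      have : h⁻¹ (a : OnePoint K) = ((0 : K) : OnePoint K) :=
        h.symm_apply_eq.2 (by rw [hh2, add_zero])
      rw [this, ht2]
    have h6 := ρ.range.mul_mem (hNr a h hh1 hh2) (ρ.range.mul_mem (ρ.range.inv_mem htr) hmem)
    rwa [inv_mul_cancel_left, mul_inv_cancel_left] at h6
  have hker := pgl_ker (K := K)
  have hfix : ∀ C : Matrix.GeneralLinearGroup (Fin 2) K, ρ C OnePoint.infty = OnePoint.infty →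
      ρ C ((0 : K) : OnePoint K) = ((0 : K) : OnePoint K) →
      ρ C ((1 : K) : OnePoint K) = ((1 : K) : OnePoint K) → ρ C = 1 := by
    intro C h1 h2 h3
    have h1' : C • (OnePoint.infty : OnePoint K) = OnePoint.infty := h1
    have h2' : C • ((0 : K) : OnePoint K) = ((0 : K) : OnePoint K) := h2
    have h3' : C • ((1 : K) : OnePoint K) = ((1 : K) : OnePoint K) := h3
    rw [OnePoint.smul_infty_eq_self_iff] at h1'
    rw [OnePoint.smul_some_eq_ite, h1'] at h2' h3'
    simp only [zero_add, mul_zero, mul_one] at h2' h3'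
    have hC11 : C 1 1 ≠ 0 := by
      intro h0
      rw [if_pos h0] at h2'
      exact OnePoint.infty_ne_coe _ h2'
    rw [if_neg hC11] at h2' h3'
    have h2'' := OnePoint.coe_injective h2'
    have h3'' := OnePoint.coe_injective h3'
    have h4 : C 0 1 = 0 := by
      rcases div_eq_zero_iff.1 h2'' with h | h
      · exact h
      · exact absurd h hC11
    rw [div_eq_iff hC11, h4, add_zero, one_mul] at h3''
    rw [← MonoidHom.mem_ker, hρ, hker, Matrix.GeneralLinearGroup.mem_center_iff_val_mem_range_scalar]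
    refine ⟨C 1 1, ?_⟩
    ext i j
    fin_cases i <;> fin_cases j
    · simp [h3'']
    · simp [h4]
    · simp [h1']
    · simp
  have hrange : ρ.range = G := by
    apply le_antisymm
    · rintro _ ⟨A, rfl⟩
      have hinj := (ρ A).injective
      obtain ⟨g, hg, hg1, hg2, hg3⟩ := h3 OnePoint.infty ((0 : K) : OnePoint K)
        ((1 : K) : OnePoint K) _ _ _ hi0 hi1 h01 (hinj.ne hi0) (hinj.ne hi1) (hinj.ne h01)
      obtain ⟨B, hB⟩ := hstep3 g hg
      have h7 : ρ (B⁻¹ * A) = 1 := by
        apply hfix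
        · rw [map_mul, map_inv, hB, Perm.mul_apply, ← hg1]
          exact g.symm_apply_apply _
        · rw [map_mul, map_inv, hB, Perm.mul_apply, ← hg2]
          exact g.symm_apply_apply _
        · rw [map_mul, map_inv, hB, Perm.mul_apply, ← hg3]
          exact g.symm_apply_apply _
      rw [map_mul, map_inv, inv_mul_eq_one] at h7
      rw [← h7, hB]
      exact hg
    · exact hstep3
  have e1 : (Matrix.GeneralLinearGroup (Fin 2) K ⧸ ρ.ker) ≃* ρ.range :=
    QuotientGroup.quotientKerEquivRange ρ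
  have e2 : (Matrix.GeneralLinearGroup (Fin 2) K ⧸ ρ.ker) ≃*
      (Matrix.GeneralLinearGroup (Fin 2) K ⧸ Subgroup.center (Matrix.GeneralLinearGroup (Fin 2) K)) :=
    QuotientGroup.quotientMulEquivOfEq hker
  have e3 : ρ.range ≃* G := MulEquiv.subgroupCongr hrange
  exact ⟨(e3.symm.trans e1.symm).trans e2⟩

end Cfsg.Agent.PermutationGroups.SharpThreeEven
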