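import Mathlib
import Cfsg.Agent.PermutationGroups.SharpThreeEven

set_option autoImplicit false

namespace Cfsg.Agent.PermutationGroups.SharpThreeEvenMain

open Equiv

theorem optionCongr_mul' {K : Type*} (p q : Perm K) :
    Equiv.optionCongr (p * q) = (Equiv.optionCongr p : Perm (Option K)) * Equiv.optionCongr q := by
  ext x
  cases x <;> rfl

/-- The structure of a sharply 3-transitive group of odd degree: a field structure on the complement
of a point. -/
theorem core1 {K : Type*} [Fintype K] [Nonempty K] (heven : Fintype.card K % 2 = 0)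
    (G : Subgroup (Perm (Option K)))
    (h3 : ∀ a b c a' b' c' : Option K, a ≠ b → a ≠ c → b ≠ c → a' ≠ b' → a' ≠ c' → b' ≠ c' →
      ∃ g ∈ G, g a = a' ∧ g b = b' ∧ g c = c')
    (hs : ∀ g ∈ G, ∀ a b c : Option K, a ≠ b → a ≠ c → b ≠ c → g a = a → g b = b → g c = c → g = 1) :
    ∃ F : Field K, (∀ b : K, ∃ g ∈ G, g none = none ∧ ∀ y : K, g (some y) = some (F.add b y)) ∧
      (∀ a : K, a ≠ F.zero → ∃ g ∈ G, g none = none ∧ ∀ y : K, g (some y) = some (F.mul a y)) ∧
      (∃ g ∈ G, g none = some F.zero ∧ g (some F.zero) = none ∧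
        ∀ y : K, y ≠ F.zero → g (some y) = some (F.inv y)) := by
  classical
  obtain ⟨o⟩ := (inferInstance : Nonempty K)
  obtain ⟨e, he⟩ : ∃ e : K, e ≠ o := by
    by_contra hcon
    push Not at hcon
    have : Fintype.card K = 1 := Fintype.card_eq_one_iff.2 ⟨o, hcon⟩
    omega
  have hno : (none : Option K) ≠ some o := by simp
  have hne : (none : Option K) ≠ some e := by simp
  have hoe : (some o : Option K) ≠ some e := fun h => he (Option.some.inj h).symm
  -- The stabiliser as a group of permutations of `K`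
  let T : Subgroup (Perm K) :=
    { carrier := {p | (Equiv.optionCongr p : Perm (Option K)) ∈ G}
      mul_mem' := by
        intro p q hp hq
        show Equiv.optionCongr (p * q) ∈ G
        rw [optionCongr_mul']
        exact G.mul_mem hp hq
      one_mem' := by
        show Equiv.optionCongr (1 : Perm K) ∈ G
        rw [Equiv.optionCongr_one]
        exact G.one_mem
      inv_mem' := by
        intro p hp
        have : (Equiv.optionCongr p⁻¹ : Perm (Option K)) = (Equiv.optionCongr p : Perm (Option K))⁻¹ := by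
          apply eq_inv_of_mul_eq_one_left
          rw [← optionCongr_mul', inv_mul_cancel, Equiv.optionCongr_one]
        show (Equiv.optionCongr p⁻¹ : Perm (Option K)) ∈ G
        rw [this]
        exact G.inv_mem hp }
  have hTmem : ∀ p : Perm K, p ∈ T ↔ (Equiv.optionCongr p : Perm (Option K)) ∈ G := fun p => Iff.rfl
  have hlift : ∀ g ∈ G, g none = none → ∃ p ∈ T, (Equiv.optionCongr p : Perm (Option K)) = g := by
    intro g hg h
    have h1 := map_equiv_removeNone g
    rw [h, Equiv.swap_self] at h1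
    have h2 : ((Equiv.refl (Option K) : Perm (Option K)) * g) = g := rfl
    rw [h2] at h1
    exact ⟨removeNone g, by rw [hTmem, h1]; exact hg, h1⟩
  have hT2 : ∀ a b a' b' : K, a ≠ b → a' ≠ b' → ∃ g ∈ T, g a = a' ∧ g b = b' := by
    intro a b a' b' hab hab'
    obtain ⟨g, hg, h1, h2, h4⟩ := h3 none (some a) (some b) none (some a') (some b') (by simp)
      (by simp) (by simpa using hab) (by simp) (by simp) (by simpa using hab')
    obtain ⟨p, hp, hpg⟩ := hlift g hg h1
    refine ⟨p, hp, ?_, ?_⟩
    · rw [← hpg] at h2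
      exact Option.some.inj h2
    · rw [← hpg] at h4
      exact Option.some.inj h4
  have hTs : ∀ g ∈ T, ∀ a b : K, a ≠ b → g a = a → g b = b → g = 1 := by
    intro g hg a b hab ha hb
    have h1 := hs _ hg none (some a) (some b) (by simp) (by simp) (by simpa using hab) rfl
      (congrArg some ha) (congrArg some hb)
    rw [← Equiv.optionCongr_one] at h1
    exact Equiv.optionCongr_injective h1
  obtain ⟨N, hNT, hNc, hNt, hTN⟩ := SharpEven.exists_normal_of_even T heven hT2 hTs o
  let H : Subgroup (Perm K) := T ⊓ MulAction.stabilizer (Perm K) o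
  have hHT : ∀ h ∈ H, h ∈ T := fun h hh => hh.1
  have hH0 : ∀ h ∈ H, h o = o := fun h hh => hh.2
  have hHt : ∀ x, x ≠ o → ∃ h ∈ H, h e = x := by
    intro x hx
    obtain ⟨g, hg, h1, h2⟩ := hT2 o e o x he.symm (Ne.symm hx)
    exact ⟨g, ⟨hg, h1⟩, h2⟩
  -- the swapping involution
  obtain ⟨t, htG, ht1, ht2, ht3⟩ := h3 none (some o) (some e) (some o) none (some e) hno hne hoe
    hno.symm hoe hne
  have htt : t * t = 1 := by
    apply hs _ (G.mul_mem htG htG) _ _ _ hno hne hoe
    · rw [Perm.mul_apply, ht1, ht2]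
    · rw [Perm.mul_apply, ht2, ht1]
    · rw [Perm.mul_apply, ht3, ht3]
  have htinv : t⁻¹ = t := inv_eq_of_mul_eq_one_right htt
  have htfix : ∀ x : Option K, t x = x → x = some e := by
    intro x hx
    by_contra hxe
    have hpar := SharpEven.card_fixed_mod_two t htt
    rw [Fintype.card_option] at hpar
    have h5 : 2 < (Finset.univ.filter (fun y => t y = y)).card := by
      have h6 : 1 < (Finset.univ.filter (fun y => t y = y)).card := by
        rw [Finset.one_lt_card]
        exact ⟨x, by simp [hx], some e, by simp [ht3], hxe⟩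
      omega
    rw [Finset.two_lt_card] at h5
    obtain ⟨a, ha, b, hb, c, hc, hab, hac, hbc⟩ := h5
    rw [Finset.mem_filter] at ha hb hc
    have h7 := hs t htG a b c hab hac hbc ha.2 hb.2 hc.2
    rw [h7] at ht1
    exact hno ht1
  -- the two point stabiliser
  let GH : Subgroup (Perm (Option K)) := G ⊓
    (MulAction.stabilizer (Perm (Option K)) (none : Option K) ⊓
      MulAction.stabilizer (Perm (Option K)) (some o : Option K))
  have hGH : ∀ g : Perm (Option K), g ∈ GH ↔ g ∈ G ∧ g none = none ∧ g (some o) = some o :=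
    fun g => Iff.rfl
  have hconj : ∀ g ∈ GH, t * g * t ∈ GH := by
    intro g hg
    rw [hGH] at hg ⊢
    refine ⟨G.mul_mem (G.mul_mem htG hg.1) htG, ?_, ?_⟩
    · rw [Perm.mul_apply, Perm.mul_apply, ht1, hg.2.2, ht2]
    · rw [Perm.mul_apply, Perm.mul_apply, ht2, hg.2.1, ht1]
  let φ : GH → GH := fun g => ⟨(g : Perm (Option K))⁻¹ * (t * g * t), GH.mul_mem (GH.inv_mem g.2) (hconj g g.2)⟩
  have hφinj : Function.Injective φ := by
    intro g k hgk
    have h1 : (g : Perm (Option K))⁻¹ * (t * g * t) = (k : Perm (Option K))⁻¹ * (t * k * t) :=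
      congrArg Subtype.val hgk
    set u : Perm (Option K) := (k : Perm (Option K)) * (g : Perm (Option K))⁻¹ with hu
    have h2 : t * u * t = u := by
      have h3' : u * (t * g * t) = t * k * t := by
        rw [hu, mul_assoc, h1, mul_inv_cancel_left]
      have h4 : t * k * t = (t * u * t) * (t * g * t) := by
        have : (t * u * t) * (t * g * t) = t * u * (t * t) * g * t := by group
        rw [this, htt, mul_one, hu]
        group
      rw [h4] at h3'
      exact (mul_right_cancel h3').symm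
    have huG : u ∈ GH := GH.mul_mem k.2 (GH.inv_mem g.2)
    have hut : t (u (some e)) = u (some e) := by
      have h5 := congrArg (fun f : Perm (Option K) => f (some e)) h2
      simp only [Perm.mul_apply, ht3] at h5
      exact h5
    have hue := htfix _ hut
    rw [hGH] at huG
    have hu1 : u = 1 := hs u huG.1 _ _ _ hno hne hoe huG.2.1 huG.2.2 hue
    rw [hu, mul_inv_eq_one] at hu1
    exact Subtype.ext hu1.symm
  have hφsurj : Function.Surjective φ := Finite.surjective_of_injective hφinj
  have hinvert : ∀ g ∈ GH, t * g * t = g⁻¹ := by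
    intro g hg
    obtain ⟨k, hk⟩ := hφsurj ⟨g, hg⟩
    have h1 : (k : Perm (Option K))⁻¹ * (t * k * t) = g := congrArg Subtype.val hk
    rw [← h1]
    have h2 : t * ((k : Perm (Option K))⁻¹ * (t * k * t)) * t =
      t * (k : Perm (Option K))⁻¹ * t * k * (t * t) := by group
    rw [h2, htt, mul_one, mul_inv_rev, inv_inv, mul_inv_rev, mul_inv_rev, htinv]
    group
  have hGHc : ∀ g ∈ GH, ∀ k ∈ GH, g * k = k * g := by
    intro g hg k hk
    have h1 := hinvert _ (GH.mul_mem hg hk)
    have h2 : t * (g * k) * t = (t * g * t) * (t * k * t) := by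
      have : (t * g * t) * (t * k * t) = t * g * (t * t) * k * t := by group
      rw [this, htt, mul_one]
      group
    rw [h2, hinvert g hg, hinvert k hk, ← mul_inv_rev] at h1
    exact (inv_injective h1).symm
  have hHG : ∀ h ∈ H, (Equiv.optionCongr h : Perm (Option K)) ∈ GH := by
    intro h hh
    rw [hGH]
    exact ⟨hHT h hh, rfl, congrArg some (hH0 h hh)⟩
  have hHc : ∀ a ∈ H, ∀ b ∈ H, a * b = b * a := by
    intro a ha b hb
    have h1 := hGHc _ (hHG a ha) _ (hHG b hb)
    rw [← optionCongr_mul', ← optionCongr_mul'] at h1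
    exact Equiv.optionCongr_injective h1
  obtain ⟨F, hF1, hF2, hF0, hFe⟩ := FieldOfAffine.exists_field N H o e he.symm hNc hNt hHc hH0 hHt
    (fun h hh a ha => hTN h (hHT h hh) a ha)
  refine ⟨F, ?_, ?_, ?_⟩
  · intro b
    obtain ⟨a, ha, hab⟩ := hNt b
    refine ⟨Equiv.optionCongr a, hNT ha, rfl, ?_⟩
    intro y
    show some (a y) = _
    rw [hF1 a ha y, hab]
  · intro a ha0
    rw [hF0] at ha0
    obtain ⟨h, hh, hha⟩ := hHt a ha0
    refine ⟨Equiv.optionCongr h, hHT h hh, rfl, ?_⟩
    intro y
    show some (h y) = _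
    rw [hF2 h hh y, hha]
  · rw [hF0]
    refine ⟨t, htG, ht1, ht2, ?_⟩
    intro y hy
    obtain ⟨h, hh, hhy⟩ := hHt y hy
    have h1 : t (some y) = some (h⁻¹ e) := by
      have h2 := hinvert _ (hHG h hh)
      have h3' := congrArg (fun f : Perm (Option K) => f (some e)) h2
      simp only [Perm.mul_apply, ht3] at h3'
      have h4 : (Equiv.optionCongr h : Perm (Option K)) (some e) = some y := congrArg some hhy
      rw [h4] at h3'
      rw [h3']
      exact (Equiv.optionCongr h).symm_apply_eq.2 (congrArg some (h.apply_symm_apply e).symm)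
    rw [h1]
    congr 1
    have h5 := hF2 h hh (h⁻¹ e)
    rw [hhy] at h5
    have h6 : h (h⁻¹ e) = e := h.apply_symm_apply e
    rw [h6] at h5
    let _ := F
    have h7 : y * (h⁻¹ e) = 1 := h5.symm.trans hFe.symm
    exact eq_inv_of_mul_eq_one_right h7


/-- Transport of an elementary sharply 3-transitive group to `Option (Fin (2 ^ f))` and conclusion. -/
theorem main {α : Type*} [Fintype α] {f : ℕ} (hf : 1 ≤ f)
    (hα : Fintype.card α = 2 ^ f + 1) (G : Subgroup (Perm α))
    (h3 : ∀ a b c a' b' c' : α, a ≠ b → a ≠ c → b ≠ c → a' ≠ b' → a' ≠ c' → b' ≠ c' →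
      ∃ g ∈ G, g a = a' ∧ g b = b' ∧ g c = c')
    (hs : ∀ g ∈ G, ∀ a b c : α, a ≠ b → a ≠ c → b ≠ c → g a = a → g b = b → g c = c → g = 1) :
    ∃ (F : Type) (_ : Field F) (_ : Fintype F), Fintype.card F = 2 ^ f ∧
      Nonempty (G ≃* Matrix.ProjGenLinGroup (Fin 2) F) := by
  classical
  have hcard : Fintype.card α = Fintype.card (Option (Fin (2 ^ f))) := by
    rw [hα, Fintype.card_option, Fintype.card_fin]
  let ε : α ≃ Option (Fin (2 ^ f)) := Fintype.equivOfCardEq hcard
  let E : Perm α ≃* Perm (Option (Fin (2 ^ f))) := ε.permCongrHom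
  have hE : ∀ (g : Perm α) (x : α), E g (ε x) = ε (g x) := by
    intro g x
    show ε (g (ε.symm (ε x))) = ε (g x)
    rw [ε.symm_apply_apply]
  let G' : Subgroup (Perm (Option (Fin (2 ^ f)))) := G.map E.toMonoidHom
  have h3' : ∀ a b c a' b' c' : Option (Fin (2 ^ f)), a ≠ b → a ≠ c → b ≠ c → a' ≠ b' → a' ≠ c' → b' ≠ c' →
      ∃ g ∈ G', g a = a' ∧ g b = b' ∧ g c = c' := by
    intro a b c a' b' c' h1 h2 h3a h4 h5 h6
    obtain ⟨g, hg, hga, hgb, hgc⟩ := h3 (ε.symm a) (ε.symm b) (ε.symm c) (ε.symm a') (ε.symm b')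
      (ε.symm c') (ε.symm.injective.ne h1) (ε.symm.injective.ne h2) (ε.symm.injective.ne h3a)
      (ε.symm.injective.ne h4) (ε.symm.injective.ne h5) (ε.symm.injective.ne h6)
    refine ⟨E g, ⟨g, hg, rfl⟩, ?_, ?_, ?_⟩
    · have := hE g (ε.symm a)
      rwa [hga, ε.apply_symm_apply, ε.apply_symm_apply] at this
    · have := hE g (ε.symm b)
      rwa [hgb, ε.apply_symm_apply, ε.apply_symm_apply] at this
    · have := hE g (ε.symm c)
      rwa [hgc, ε.apply_symm_apply, ε.apply_symm_apply] at this
  have hs' : ∀ g ∈ G', ∀ a b c : Option (Fin (2 ^ f)), a ≠ b → a ≠ c → b ≠ c →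
      g a = a → g b = b → g c = c → g = 1 := by
    rintro _ ⟨g, hg, rfl⟩ a b c h1 h2 h3a ha hb hc
    have key : ∀ x : Option (Fin (2 ^ f)), E.toMonoidHom g x = x → g (ε.symm x) = ε.symm x := by
      intro x hx
      have h4 := hE g (ε.symm x)
      rw [ε.apply_symm_apply] at h4
      have h5 : E g x = x := hx
      rw [h5] at h4
      exact (ε.symm_apply_eq.2 h4).symm
    have h7 := hs g hg _ _ _ (ε.symm.injective.ne h1) (ε.symm.injective.ne h2)
      (ε.symm.injective.ne h3a) (key a ha) (key b hb) (key c hc)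
    rw [h7, map_one]
  haveI : Nonempty (Fin (2 ^ f)) := ⟨⟨0, by positivity⟩⟩
  have heven : Fintype.card (Fin (2 ^ f)) % 2 = 0 := by
    rw [Fintype.card_fin]
    obtain ⟨k, rfl⟩ := Nat.exists_eq_add_of_le hf
    rw [pow_add, pow_one]
    omega
  obtain ⟨F, hN, hH, ht⟩ := core1 heven G' h3' hs'
  refine ⟨Fin (2 ^ f), F, inferInstance, Fintype.card_fin _, ?_⟩
  letI := F
  have hcore := SharpThreeEven.core2 (K := Fin (2 ^ f)) G' h3' hs' hN hH ht
  obtain ⟨e2⟩ := hcore
  have e1 : G ≃* G' := E.subgroupMap G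
  exact ⟨e1.trans e2⟩


end Cfsg.Agent.PermutationGroups.SharpThreeEvenMain
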