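import Mathlib

/-!
Sharply 2-transitive groups: elementary counting facts (helper394, for S0680).
-/

set_option autoImplicit false

namespace Cfsg.Agent.PermutationGroups.SharpTwo

open MulAction

variable {G α : Type*} [Group G] [MulAction G α]

/-- In a sharply 2-transitive group an element fixing two points is trivial. -/
theorem eq_one_of_fix (hsharp : ∀ x : Fin 2 ↪ α, stabilizer G x = ⊥) {g : G} {a b : α}
    (hab : a ≠ b) (ha : g • a = a) (hb : g • b = b) : g = 1 := by
  have h := hsharp (Function.Embedding.embFinTwo hab)
  rw [← Subgroup.mem_bot, ← h, mem_stabilizer_iff]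
  ext i
  fin_cases i
  · exact ha
  · exact hb

variable [Fintype α]

theorem card_eq [Finite G] [IsMultiplyPretransitive G α 2]
    (hsharp : ∀ x : Fin 2 ↪ α, stabilizer G x = ⊥) (h2 : 2 ≤ Fintype.card α) :
    Nat.card G = Fintype.card α * (Fintype.card α - 1) := by
  classical
  have hne : Nonempty (Fin 2 ↪ α) := by
    rw [Function.Embedding.nonempty_iff_card_le]; simpa using h2
  obtain ⟨x⟩ := hne
  have h1 := index_stabilizer_of_transitive G x
  rw [hsharp x, Subgroup.index_bot] at h1
  rw [h1, Nat.card_eq_fintype_card, Fintype.card_embedding_eq, Fintype.card_fin]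
  simp [Nat.descFactorial, mul_comm]

theorem card_stabilizer [Finite G] [IsMultiplyPretransitive G α 2]
    (hsharp : ∀ x : Fin 2 ↪ α, stabilizer G x = ⊥) (h2 : 2 ≤ Fintype.card α) (a : α) :
    Nat.card (stabilizer G a) = Fintype.card α - 1 := by
  have : IsPretransitive G α := isPretransitive_of_is_two_pretransitive
  have h1 := (stabilizer G a).card_mul_index
  rw [index_stabilizer_of_transitive G a, card_eq hsharp h2,
    mul_comm (Fintype.card α), Nat.card_eq_fintype_card (α := α)] at h1
  exact Nat.eq_of_mul_eq_mul_right (by omega) h1

/-- the number of fixed point free elements is `n - 1`. -/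
theorem card_fpf [Finite G] [IsMultiplyPretransitive G α 2]
    (hsharp : ∀ x : Fin 2 ↪ α, stabilizer G x = ⊥) (h2 : 2 ≤ Fintype.card α) :
    Set.ncard {g : G | ∀ a : α, g • a ≠ a} = Fintype.card α - 1 := by
  classical
  have : IsPretransitive G α := isPretransitive_of_is_two_pretransitive
  have : Fintype G := Fintype.ofFinite G
  have hB := sum_card_fixedBy_eq_card_orbits_mul_card_group G α
  have hne : Nonempty α := Fintype.card_pos_iff.1 (by omega)
  have ho : Fintype.card (Quotient (orbitRel G α)) = 1 := by
    rw [Fintype.card_eq_one_iff]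
    obtain ⟨a⟩ := hne
    refine ⟨Quotient.mk'' a, fun q => ?_⟩
    induction q using Quotient.inductionOn'
    rw [Quotient.eq'']
    exact mem_orbit_iff.2 (exists_smul_eq G _ _)
  rw [ho, one_mul] at hB
  have hcard : Fintype.card G = Fintype.card α * (Fintype.card α - 1) := by
    rw [← Nat.card_eq_fintype_card]; exact card_eq hsharp h2
  have hG1 : 1 ≤ Fintype.card G := Fintype.card_pos
  -- the value of the summands
  set F : Finset G := Finset.univ.filter (fun g : G => ∀ a : α, g • a ≠ a) with hF
  have h1F : (1 : G) ∉ F := by
    obtain ⟨a⟩ := hne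
    simp only [hF, Finset.mem_filter, Finset.mem_univ, true_and, not_forall]
    exact ⟨a, by simp⟩
  have hval : ∀ g : G, Fintype.card (fixedBy α g) + (if g ∈ F then 1 else 0) =
      1 + (if g = 1 then Fintype.card α - 1 else 0) := by
    intro g
    by_cases hg : g = 1
    · subst hg
      rw [if_neg h1F, if_pos rfl]
      have : Fintype.card (fixedBy α (1 : G)) = Fintype.card α := by
        apply Fintype.card_congr
        exact (Equiv.setCongr (by ext; simp)).trans (Equiv.Set.univ α)
      omega
    · rw [if_neg hg]
      by_cases hgF : g ∈ F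
      · rw [if_pos hgF]
        have : Fintype.card (fixedBy α g) = 0 := by
          rw [Fintype.card_eq_zero_iff]
          constructor
          rintro ⟨a, ha⟩
          exact (Finset.mem_filter.1 hgF).2 a ha
        omega
      · rw [if_neg hgF]
        simp only [hF, Finset.mem_filter, Finset.mem_univ, true_and, not_forall, not_not] at hgF
        obtain ⟨a, ha⟩ := hgF
        have : Fintype.card (fixedBy α g) = 1 := by
          rw [Fintype.card_eq_one_iff]
          refine ⟨⟨a, ha⟩, ?_⟩
          rintro ⟨b, hb⟩
          by_contra hba
          apply hg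
          refine eq_one_of_fix hsharp (a := a) (b := b) ?_ ha hb
          rintro rfl
          exact hba rfl
        omega
  have hsum := Finset.sum_congr (rfl : (Finset.univ : Finset G) = Finset.univ)
    (fun g _ => hval g)
  rw [Finset.sum_add_distrib, Finset.sum_add_distrib, hB] at hsum
  simp only [Finset.sum_ite_mem, Finset.univ_inter, Finset.sum_const, smul_eq_mul, mul_one,
    Finset.card_univ, Finset.sum_ite_eq', Finset.mem_univ, if_true] at hsum
  have hFc : F.card = Fintype.card α - 1 := by omega
  rw [← hFc, Set.ncard_eq_toFinset_card']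
  congr 1
  ext g
  simp [hF]

end Cfsg.Agent.PermutationGroups.SharpTwo
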