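import Mathlib

/-!
Multiple transitivity of a subgroup `G` of `Equiv.Perm α` in terms of finite sets of points.
-/

set_option autoImplicit false

namespace Cfsg.Agent.PermutationGroups.MultTrans

open MulAction Equiv

variable {α : Type*}

/-- A `t`-transitive group realises every injective partial map defined on at most `t` points. -/
theorem exists_agree [Finite α] (G : Subgroup (Perm α)) {t : ℕ}
    (ht : IsMultiplyPretransitive G α t) (htn : t ≤ Nat.card α)
    (s : Finset α) (hs : s.card ≤ t) (f : α → α) (hf : Set.InjOn f s) :
    ∃ g ∈ G, ∀ x ∈ s, g x = f x := by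
  have h1 : IsMultiplyPretransitive G α s.card :=
    isMultiplyPretransitive_of_le (n := t) hs htn
  let e : Fin s.card ≃ s := s.equivFin.symm
  let x : Fin s.card ↪ α := e.toEmbedding.trans (Function.Embedding.subtype _)
  let y : Fin s.card ↪ α := ⟨fun i => f (e i), by
    intro i j hij
    have := hf (e i).2 (e j).2 hij
    exact e.injective (Subtype.ext this)⟩
  obtain ⟨g, hg⟩ := h1.exists_smul_eq x y
  refine ⟨g, g.2, fun a ha => ?_⟩
  have h2 := DFunLike.congr_fun hg (e.symm ⟨a, ha⟩)
  have h3 : (e (e.symm ⟨a, ha⟩) : α) = a := by simp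
  simp only [Function.Embedding.smul_apply] at h2
  have h4 : x (e.symm ⟨a, ha⟩) = a := h3
  have h5 : y (e.symm ⟨a, ha⟩) = f a := by
    show f (e (e.symm ⟨a, ha⟩) : α) = f a
    rw [h3]
  rw [h4, h5] at h2
  exact h2

/-- A `t`-transitive group realises every permutation on at most `t` points. -/
theorem exists_agree_perm [Finite α] (G : Subgroup (Perm α)) {t : ℕ}
    (ht : IsMultiplyPretransitive G α t) (htn : t ≤ Nat.card α)
    (s : Finset α) (hs : s.card ≤ t) (π : Perm α) :
    ∃ g ∈ G, ∀ x ∈ s, g x = π x :=
  exists_agree G ht htn s hs π (π.injective.injOn)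

/-- `G` is `m`-transitive if the pointwise stabiliser of every set `R` of fewer than `m` points is
transitive outside of `R`. -/
theorem isMultiplyPretransitive_of_forall (G : Subgroup (Perm α)) (m : ℕ)
    (h : ∀ R : Finset α, R.card < m → ∀ a b : α, a ∉ R → b ∉ R →
      ∃ g ∈ G, (∀ r ∈ R, g r = r) ∧ g a = b) :
    IsMultiplyPretransitive G α m := by
  classical
  refine ⟨fun x y => ?_⟩
  have key : ∀ j : ℕ, j ≤ m → ∃ g ∈ G, ∀ i : Fin m, i.val < j → g (x i) = y i := by
    intro j
    induction j with
    | zero => intro _; exact ⟨1, G.one_mem, fun i hi => absurd hi (Nat.not_lt_zero _)⟩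
    | succ j ih =>
      intro hj
      obtain ⟨g, hgG, hg⟩ := ih (by omega)
      let jj : Fin m := ⟨j, by omega⟩
      let R : Finset α := (Finset.univ.filter (fun i : Fin m => i.val < j)).image y
      have hR : R.card < m := by
        calc R.card ≤ (Finset.univ.filter (fun i : Fin m => i.val < j)).card :=
              Finset.card_image_le
          _ < (Finset.univ : Finset (Fin m)).card := by
              apply Finset.card_lt_card
              refine ⟨Finset.filter_subset _ _, fun hsub => ?_⟩
              have := hsub (Finset.mem_univ jj)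
              simp [jj] at this
          _ = m := by simp
      have ha : g (x jj) ∉ R := by
        intro hmem
        obtain ⟨i, hi, hix⟩ := Finset.mem_image.1 hmem
        simp only [Finset.mem_filter, Finset.mem_univ, true_and] at hi
        rw [← hg i hi] at hix
        have := x.injective (g.injective hix)
        subst this
        simp [jj] at hi
      have hb : y jj ∉ R := by
        intro hmem
        obtain ⟨i, hi, hix⟩ := Finset.mem_image.1 hmem
        simp only [Finset.mem_filter, Finset.mem_univ, true_and] at hi
        have := y.injective hix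
        subst this
        simp [jj] at hi
      obtain ⟨g', hg'G, hg'R, hg'⟩ := h R hR _ _ ha hb
      refine ⟨g' * g, G.mul_mem hg'G hgG, fun i hi => ?_⟩
      rcases Nat.lt_succ_iff_lt_or_eq.1 hi with hi | hi
      · rw [Perm.mul_apply, hg i hi]
        exact hg'R _ (Finset.mem_image.2 ⟨i, by simpa using hi, rfl⟩)
      · have : i = jj := Fin.ext hi
        subst this
        rw [Perm.mul_apply, hg']
  obtain ⟨g, hgG, hg⟩ := key m le_rfl
  refine ⟨⟨g, hgG⟩, ?_⟩
  ext i
  exact hg i i.2

/-- If the pointwise stabilisers of all sets of exactly `j` points are transitive on the remaining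
points, of which there are at least two, then `G` is `(j+1)`-transitive. -/
theorem isMultiplyPretransitive_succ_of_forall_card [Fintype α] (G : Subgroup (Perm α)) (j : ℕ)
    (hj : j + 2 ≤ Fintype.card α)
    (h : ∀ R : Finset α, R.card = j → ∀ a b : α, a ∉ R → b ∉ R →
      ∃ g ∈ G, (∀ r ∈ R, g r = r) ∧ g a = b) :
    IsMultiplyPretransitive G α (j + 1) := by
  classical
  have key : ∀ c : ℕ, ∀ R : Finset α, R.card + c = j → ∀ a b : α, a ∉ R → b ∉ R →
      ∃ g ∈ G, (∀ r ∈ R, g r = r) ∧ g a = b := by
    intro c
    induction c with
    | zero => intro R hR; exact h R (by omega)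
    | succ c ih =>
      intro R hR a b ha hb
      obtain ⟨z, hz⟩ : ∃ z, z ∉ insert a (insert b R) := by
        by_contra hcon
        push Not at hcon
        have h1 : (insert a (insert b R)) = Finset.univ := Finset.eq_univ_iff_forall.2 hcon
        have h2 : (insert a (insert b R)).card ≤ R.card + 2 :=
          (Finset.card_insert_le _ _).trans (Nat.succ_le_succ (Finset.card_insert_le _ _))
        rw [h1, Finset.card_univ] at h2
        omega
      simp only [Finset.mem_insert, not_or] at hz
      obtain ⟨g, hg, hgR, hgab⟩ := ih (insert z R)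
        (by rw [Finset.card_insert_of_notMem hz.2.2]; omega) a b
        (by simp only [Finset.mem_insert, not_or]; exact ⟨Ne.symm hz.1, ha⟩)
        (by simp only [Finset.mem_insert, not_or]; exact ⟨Ne.symm hz.2.1, hb⟩)
      exact ⟨g, hg, fun r hr => hgR r (Finset.mem_insert_of_mem hr), hgab⟩
  refine isMultiplyPretransitive_of_forall G (j + 1) fun R hR a b ha hb => ?_
  exact key (j - R.card) R (by omega) a b ha hb

end Cfsg.Agent.PermutationGroups.MultTrans
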