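import Mathlib
import Cfsg.Agent.PermutationGroups.OddKlein

/-!
If `k ≥ 5`, `G` is `(k-1)`-transitive and `k`-homogeneous on `n` points, and the group induced
on every `k`-subset is exactly the alternating group, then `n ≤ k + 1`.
-/

set_option autoImplicit false

namespace Cfsg.Agent.PermutationGroups.AltInduced

open Equiv MulAction

section general

variable {α : Type*} [Fintype α] [DecidableEq α]

/-- `NoOdd G k`: no element of `G` stabilises a `k`-subset and induces an odd permutation on it. -/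
def NoOdd (G : Subgroup (Perm α)) (k : ℕ) : Prop :=
  ∀ g ∈ G, ∀ (X : Finset α), X.card = k → ∀ g' : Perm α, (∀ x, g' x ≠ x → x ∈ X) →
    (∀ x ∈ X, g x = g' x) → Perm.sign g' = 1

omit [DecidableEq α] in
/-- extraction of an involution from an element acting as an involution on a set of points -/
theorem exists_invol {G : Subgroup (Perm α)} {g : Perm α} (hg : g ∈ G) (P : α → Prop)
    (hg2 : ∀ x, P x → g (g x) = x) (hgP : ∀ x, P x → P (g x))
    (hno : ∀ h ∈ G, h * h = 1 → (∀ x, P x → h x = x) → h = 1) :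
    ∃ m : ℕ, Odd m ∧ g ^ m * g ^ m = 1 ∧ ∀ x, P x → (g ^ m) x = g x := by
  obtain ⟨a, m, hm, ham⟩ := Nat.exists_eq_two_pow_mul_odd (orderOf_pos g).ne'
  have heven : ∀ j : ℕ, ∀ x, P x → (g ^ (2 * j)) x = x := by
    intro j
    induction j with
    | zero => intro x _; rfl
    | succ j ih =>
      intro x hx
      rw [show 2 * (j + 1) = 2 * j + 1 + 1 by ring, pow_succ, pow_succ]
      simp only [Perm.mul_apply]
      rw [hg2 x hx]
      exact ih x hx
  refine ⟨m, hm, ?_, ?_⟩
  · have h1 : (g ^ m) ^ 2 ^ (a + 1) = 1 := by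
      rw [← pow_mul, show m * 2 ^ (a + 1) = (2 ^ a * m) * 2 by ring, ← ham, pow_mul,
        pow_orderOf_eq_one, one_pow]
    have h2 : ∀ b : ℕ, (g ^ m) ^ 2 ^ (b + 1) = 1 → (g ^ m) ^ 2 = 1 := by
      intro b
      induction b with
      | zero => intro h; simpa using h
      | succ b ih =>
        intro h
        apply ih
        apply hno
        · exact G.pow_mem (G.pow_mem hg _) _
        · rw [← pow_add, ← two_mul, ← pow_succ', h]
        · intro x hx
          rw [← pow_mul, show m * 2 ^ (b + 1) = 2 * (m * 2 ^ b) by ring]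
          exact heven _ x hx
    rw [← pow_two]
    exact h2 a h1
  · intro x hx
    obtain ⟨j, rfl⟩ := hm
    rw [pow_succ, Perm.mul_apply]
    exact heven j _ (hgP x hx)

/-- an involution of `G` fixes at most `k - 3` points -/
theorem card_fixed_lt {G : Subgroup (Perm α)} {k : ℕ} (hk : 2 ≤ k) (hA : NoOdd G k)
    {t : Perm α} (ht : t ∈ G) (ht2 : t * t = 1) (ht1 : t ≠ 1) (F : Finset α)
    (hF : ∀ x ∈ F, t x = x) : F.card < k - 2 := by
  by_contra hcon
  rw [not_lt] at hcon
  obtain ⟨Γ, hΓF, hΓ⟩ := Finset.exists_subset_card_eq hcon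
  obtain ⟨x, hx⟩ : ∃ x, t x ≠ x := by
    by_contra h
    push Not at h
    exact ht1 (Perm.ext h)
  have htt : ∀ y, t (t y) = y := fun y => by
    rw [← Perm.mul_apply, ht2, Perm.one_apply]
  have hxΓ : x ∉ Γ := fun h => hx (hF x (hΓF h))
  have htxΓ : t x ∉ Γ := fun h => by
    have := hF _ (hΓF h)
    rw [htt] at this
    exact hx this.symm
  have h1 := hA t ht (insert x (insert (t x) Γ)) ?_ (swap x (t x)) ?_ ?_
  · rw [Perm.sign_swap (Ne.symm hx)] at h1
    exact absurd h1 (by decide)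
  · rw [Finset.card_insert_of_notMem, Finset.card_insert_of_notMem htxΓ, hΓ]
    · omega
    · rw [Finset.mem_insert, not_or]
      exact ⟨Ne.symm hx, hxΓ⟩
  · intro y hy
    rw [Finset.mem_insert, Finset.mem_insert]
    by_contra hcon2
    push Not at hcon2
    exact hy (swap_apply_of_ne_of_ne hcon2.1 hcon2.2.1)
  · intro y hy
    rw [Finset.mem_insert, Finset.mem_insert] at hy
    rcases hy with rfl | rfl | hy
    · rw [swap_apply_left]
    · rw [swap_apply_right, htt]
    · rw [hF y (hΓF hy), swap_apply_of_ne_of_ne]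
      · rintro rfl
        exact hxΓ hy
      · rintro rfl
        exact htxΓ hy

/-- The case `k ≥ 6`. -/
theorem case_six {G : Subgroup (Perm α)} {k : ℕ} (hk : 6 ≤ k) (hA : NoOdd G k)
    (hT : ∀ x y : Fin (k - 1) → α, Function.Injective x → Function.Injective y →
      ∃ g ∈ G, ∀ i, g (x i) = y i) : Fintype.card α ≤ k + 1 := by
  by_contra hn
  rw [not_le] at hn
  obtain ⟨x⟩ : Nonempty (Fin (k - 1) ↪ α) := by
    apply Function.Embedding.nonempty_of_card_le
    rw [Fintype.card_fin]
    omega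
  have hk0 : 0 < k - 1 := by omega
  have hk1 : 1 < k - 1 := by omega
  have hk2 : 2 < k - 1 := by omega
  have hk3 : 3 < k - 1 := by omega
  let i0 : Fin (k - 1) := ⟨0, hk0⟩
  let i1 : Fin (k - 1) := ⟨1, hk1⟩
  let i2 : Fin (k - 1) := ⟨2, hk2⟩
  let i3 : Fin (k - 1) := ⟨3, hk3⟩
  let σ : Perm (Fin (k - 1)) := swap i0 i1 * swap i2 i3
  have n01 : i0 ≠ i1 := by simp [i0, i1]
  have n02 : i0 ≠ i2 := by simp [i0, i2]
  have n03 : i0 ≠ i3 := by simp [i0, i3]
  have n12 : i1 ≠ i2 := by simp [i1, i2]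
  have n13 : i1 ≠ i3 := by simp [i1, i3]
  have n23 : i2 ≠ i3 := by simp [i2, i3]
  have hσσ : ∀ i, σ (σ i) = i := by
    intro i
    have : σ * σ = 1 := by
      have hd : Perm.Disjoint (swap i0 i1) (swap i2 i3) := by
        rw [Perm.disjoint_iff_eq_or_eq]
        intro j
        by_cases h0 : j = i0
        · right; subst h0; exact swap_apply_of_ne_of_ne n02 n03
        by_cases h1 : j = i1
        · right; subst h1; exact swap_apply_of_ne_of_ne n12 n13
        left; exact swap_apply_of_ne_of_ne h0 h1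
      show swap i0 i1 * swap i2 i3 * (swap i0 i1 * swap i2 i3) = 1
      rw [mul_assoc, ← mul_assoc (swap i2 i3), hd.commute.symm.eq, mul_assoc (swap i0 i1),
        swap_mul_self, mul_one, swap_mul_self]
    rw [← Perm.mul_apply, this, Perm.one_apply]
  have hσ0 : σ i0 = i1 := by
    show swap i0 i1 (swap i2 i3 i0) = i1
    rw [swap_apply_of_ne_of_ne n02 n03, swap_apply_left]
  have hσfix : ∀ i : Fin (k - 1), 4 ≤ (i : ℕ) → σ i = i := by
    intro i hi
    show swap i0 i1 (swap i2 i3 i) = i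
    have h0 : i ≠ i0 := by rintro rfl; simp [i0] at hi
    have h1 : i ≠ i1 := by rintro rfl; simp [i1] at hi
    have h2 : i ≠ i2 := by rintro rfl; simp [i2] at hi
    have h3 : i ≠ i3 := by rintro rfl; simp [i3] at hi
    rw [swap_apply_of_ne_of_ne h2 h3, swap_apply_of_ne_of_ne h0 h1]
  obtain ⟨g, hg, hgx⟩ := hT x (fun i => x (σ i)) x.injective (x.injective.comp σ.injective)
  obtain ⟨m, hm, ht2, htg⟩ := exists_invol hg (fun z => ∃ i, x i = z) (by
      rintro z ⟨i, rfl⟩
      rw [hgx, hgx, hσσ]) (by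
      rintro z ⟨i, rfl⟩
      exact ⟨σ i, (hgx i).symm⟩) (by
      intro h hh hh2 hfix
      by_contra hne
      have := card_fixed_lt (by omega) hA hh hh2 hne (Finset.univ.map x) (by
        intro z hz
        rw [Finset.mem_map] at hz
        obtain ⟨i, -, rfl⟩ := hz
        exact hfix _ ⟨i, rfl⟩)
      rw [Finset.card_map, Finset.card_univ, Fintype.card_fin] at this
      omega)
  set t := g ^ m with ht
  have htG : t ∈ G := G.pow_mem hg m
  have htx : ∀ i, t (x i) = x (σ i) := fun i => by rw [htg _ ⟨i, rfl⟩, hgx]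
  have htt : ∀ y, t (t y) = y := fun y => by
    rw [← Perm.mul_apply, ht2, Perm.one_apply]
  have ht1 : t ≠ 1 := by
    intro h
    have := htx i0
    rw [h, Perm.one_apply, hσ0] at this
    exact n01 (x.injective this)
  -- moved points
  let F : Finset α := Finset.univ.filter fun z => t z = z
  let M : Finset α := Finset.univ.filter fun z => t z ≠ z
  have hFM : F.card + M.card = Fintype.card α := by
    rw [← Finset.card_univ]
    exact Finset.card_filter_add_card_filter_not (s := Finset.univ) (fun z => t z = z)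
  have hF : F.card < k - 2 := card_fixed_lt (by omega) hA htG ht2 ht1 F (by
    intro z hz
    exact (Finset.mem_filter.mp hz).2)
  have hM : 5 ≤ M.card := by omega
  -- three two-cycles
  obtain ⟨x1, hx1⟩ : ∃ x1, x1 ∈ M := Finset.card_pos.mp (by omega)
  obtain ⟨x2, hx2⟩ : ∃ x2, x2 ∈ M \ {x1, t x1} := by
    apply Finset.card_pos.mp
    have h1 := Finset.le_card_sdiff ({x1, t x1} : Finset α) M
    have h2 := Finset.card_le_two (a := x1) (b := t x1)
    omega
  obtain ⟨x3, hx3⟩ : ∃ x3, x3 ∈ M \ {x1, t x1, x2, t x2} := by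
    apply Finset.card_pos.mp
    have h1 := Finset.le_card_sdiff ({x1, t x1, x2, t x2} : Finset α) M
    have h2 := Finset.card_le_four (a := x1) (b := t x1) (c := x2) (d := t x2)
    omega
  simp only [Finset.mem_sdiff, Finset.mem_insert, Finset.mem_singleton, not_or] at hx2 hx3
  have m1 : t x1 ≠ x1 := (Finset.mem_filter.mp hx1).2
  have m2 : t x2 ≠ x2 := (Finset.mem_filter.mp hx2.1).2
  have m3 : t x3 ≠ x3 := (Finset.mem_filter.mp hx3.1).2
  obtain ⟨-, e21, e2t1⟩ := hx2
  obtain ⟨-, e31, e3t1, e32, e3t2⟩ := hx3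
  have et21 : t x2 ≠ x1 := fun h => e2t1 (by rw [← h, htt])
  have et2t1 : t x2 ≠ t x1 := fun h => e21 (t.injective h)
  have et31 : t x3 ≠ x1 := fun h => e3t1 (by rw [← h, htt])
  have et3t1 : t x3 ≠ t x1 := fun h => e31 (t.injective h)
  have et32 : t x3 ≠ x2 := fun h => e3t2 (by rw [← h, htt])
  have et3t2 : t x3 ≠ t x2 := fun h => e32 (t.injective h)
  -- `k - 6` fixed points
  obtain ⟨F', hF'F, hF'⟩ : ∃ F' ⊆ F, F'.card = k - 6 := by
    apply Finset.exists_subset_card_eq
    have h1 : ((Finset.univ.filter fun i : Fin (k - 1) => 4 ≤ (i : ℕ)).map x) ⊆ F := by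
      intro z hz
      rw [Finset.mem_map] at hz
      obtain ⟨i, hi, rfl⟩ := hz
      rw [Finset.mem_filter] at hi
      rw [Finset.mem_filter]
      exact ⟨Finset.mem_univ _, by rw [htx, hσfix i hi.2]⟩
    have h2 := Finset.card_le_card h1
    rw [Finset.card_map] at h2
    have h3 : (Finset.univ.filter fun i : Fin (k - 1) => 4 ≤ (i : ℕ)) =
        Finset.Ici (⟨4, by omega⟩ : Fin (k - 1)) := by
      ext i
      simp [Fin.le_def]
    rw [h3, Fin.card_Ici] at h2
    simp only at h2
    omega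
  have hFt : ∀ z ∈ F', t z = z := fun z hz => (Finset.mem_filter.mp (hF'F hz)).2
  have hF1 : x1 ∉ F' := fun h => m1 (hFt _ h)
  have hF2 : x2 ∉ F' := fun h => m2 (hFt _ h)
  have hF3 : x3 ∉ F' := fun h => m3 (hFt _ h)
  have hFt1 : t x1 ∉ F' := fun h => m1 (t.injective (hFt _ h))
  have hFt2 : t x2 ∉ F' := fun h => m2 (t.injective (hFt _ h))
  have hFt3 : t x3 ∉ F' := fun h => m3 (t.injective (hFt _ h))
  have h1 := hA t htG
    (insert x1 (insert (t x1) (insert x2 (insert (t x2) (insert x3 (insert (t x3) F'))))))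
    ?_ (swap x1 (t x1) * swap x2 (t x2) * swap x3 (t x3)) ?_ ?_
  · rw [Perm.sign_mul, Perm.sign_mul, Perm.sign_swap (Ne.symm m1), Perm.sign_swap (Ne.symm m2),
      Perm.sign_swap (Ne.symm m3)] at h1
    exact absurd h1 (by decide)
  · rw [Finset.card_insert_of_notMem, Finset.card_insert_of_notMem,
      Finset.card_insert_of_notMem, Finset.card_insert_of_notMem,
      Finset.card_insert_of_notMem, Finset.card_insert_of_notMem hFt3, hF']
    · omega
    · simp only [Finset.mem_insert, not_or]; exact ⟨Ne.symm m3, hF3⟩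
    · simp only [Finset.mem_insert, not_or]; exact ⟨Ne.symm e3t2, Ne.symm et3t2, hFt2⟩
    · simp only [Finset.mem_insert, not_or]; exact ⟨Ne.symm m2, Ne.symm e32, Ne.symm et32, hF2⟩
    · simp only [Finset.mem_insert, not_or]
      exact ⟨Ne.symm e2t1, Ne.symm et2t1, Ne.symm e3t1, Ne.symm et3t1, hFt1⟩
    · simp only [Finset.mem_insert, not_or]
      exact ⟨Ne.symm m1, Ne.symm e21, Ne.symm et21, Ne.symm e31, Ne.symm et31, hF1⟩
  · intro y hy
    simp only [Finset.mem_insert]
    by_contra hcon2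
    push Not at hcon2
    obtain ⟨a1, a2, a3, a4, a5, a6, -⟩ := hcon2
    apply hy
    simp only [Perm.mul_apply]
    rw [swap_apply_of_ne_of_ne a5 a6, swap_apply_of_ne_of_ne a3 a4,
      swap_apply_of_ne_of_ne a1 a2]
  · intro y hy
    simp only [Finset.mem_insert] at hy
    simp only [Perm.mul_apply]
    rcases hy with rfl | rfl | rfl | rfl | rfl | rfl | hy
    · rw [swap_apply_of_ne_of_ne (Ne.symm e31) (Ne.symm et31),
        swap_apply_of_ne_of_ne (Ne.symm e21) (Ne.symm et21), swap_apply_left]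
    · rw [swap_apply_of_ne_of_ne (Ne.symm e3t1) (Ne.symm et3t1),
        swap_apply_of_ne_of_ne (Ne.symm e2t1) (Ne.symm et2t1), swap_apply_right, htt]
    · rw [swap_apply_of_ne_of_ne (Ne.symm e32) (Ne.symm et32), swap_apply_left,
        swap_apply_of_ne_of_ne et21 et2t1]
    · rw [swap_apply_of_ne_of_ne (Ne.symm e3t2) (Ne.symm et3t2), swap_apply_right,
        swap_apply_of_ne_of_ne e21 e2t1, htt]
    · rw [swap_apply_left, swap_apply_of_ne_of_ne et32 et3t2,
        swap_apply_of_ne_of_ne et31 et3t1]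
    · rw [swap_apply_right, swap_apply_of_ne_of_ne e32 e3t2,
        swap_apply_of_ne_of_ne e31 e3t1, htt]
    · have b1 : y ≠ x1 := fun h => hF1 (h ▸ hy)
      have b2 : y ≠ x2 := fun h => hF2 (h ▸ hy)
      have b3 : y ≠ x3 := fun h => hF3 (h ▸ hy)
      have c1 : y ≠ t x1 := fun h => hFt1 (h ▸ hy)
      have c2 : y ≠ t x2 := fun h => hFt2 (h ▸ hy)
      have c3 : y ≠ t x3 := fun h => hFt3 (h ▸ hy)
      rw [hFt y hy, swap_apply_of_ne_of_ne b3 c3, swap_apply_of_ne_of_ne b2 c2,
        swap_apply_of_ne_of_ne b1 c1]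

theorem sign_of_tuple {G : Subgroup (Perm α)} {k : ℕ} (hA : NoOdd G k) {ι : Type*} [Fintype ι]
    [DecidableEq ι] (hι : Fintype.card ι = k) (q : ι → α) (hq : Function.Injective q)
    (ρ : Perm ι) {g : Perm α} (hg : g ∈ G) (hgq : ∀ i, g (q i) = q (ρ i)) :
    Perm.sign ρ = 1 := by
  have h := hA g hg (Finset.univ.map ⟨q, hq⟩) (by rw [Finset.card_map, Finset.card_univ, hι])
    (ρ.viaFintypeEmbedding ⟨q, hq⟩) ?_ ?_
  · rwa [Perm.viaFintypeEmbedding_sign] at h
  · intro x hx
    by_contra hcon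
    apply hx
    apply Perm.viaFintypeEmbedding_apply_notMem_range
    rintro ⟨i, hi⟩
    exact hcon (Finset.mem_map.mpr ⟨i, Finset.mem_univ _, hi⟩)
  · intro x hx
    obtain ⟨i, -, rfl⟩ := Finset.mem_map.mp hx
    rw [Perm.viaFintypeEmbedding_apply_image]
    exact hgq i

/-- pointwise stabiliser of a tuple, as a subgroup of the symmetric group -/
def fixq {ι : Type*} (G : Subgroup (Perm α)) (q : ι → α) : Subgroup (Perm α) where
  carrier := {g | g ∈ G ∧ ∀ i, g (q i) = q i}
  one_mem' := ⟨G.one_mem, fun _ => rfl⟩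
  mul_mem' := fun {a b} ha hb => ⟨G.mul_mem ha.1 hb.1, fun i => by
    rw [Perm.mul_apply, hb.2, ha.2]⟩
  inv_mem' := fun {a} ha => ⟨G.inv_mem ha.1, fun i => by
    rw [Perm.inv_eq_iff_eq, ha.2]⟩

omit [Fintype α] [DecidableEq α] in
theorem mem_fixq {ι : Type*} {G : Subgroup (Perm α)} {q : ι → α} {g : Perm α} :
    g ∈ fixq G q ↔ g ∈ G ∧ ∀ i, g (q i) = q i := Iff.rfl

/-- conjugation by an element inducing a permutation of the tuple -/
def conjq {ι : Type*} {G : Subgroup (Perm α)} {q : ι → α} {v : Perm α} (hv : v ∈ G)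
    (σ : Perm ι) (hvq : ∀ i, v (q i) = q (σ i)) : fixq G q →* fixq G q where
  toFun x := ⟨v * x * v⁻¹, G.mul_mem (G.mul_mem hv x.2.1) (G.inv_mem hv), fun i => by
    have h1 : v⁻¹ (q i) = q (σ⁻¹ i) := by
      rw [Perm.inv_eq_iff_eq, hvq]
      exact (congrArg q (σ.apply_symm_apply i)).symm
    rw [Perm.mul_apply, Perm.mul_apply, h1, x.2.2, hvq]
    exact congrArg q (σ.apply_symm_apply i)⟩
  map_one' := by
    apply Subtype.ext
    simp
  map_mul' x y := by
    apply Subtype.ext
    simp [mul_assoc]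

omit [Fintype α] [DecidableEq α] in
theorem conjq_coe {ι : Type*} {G : Subgroup (Perm α)} {q : ι → α} {v : Perm α} (hv : v ∈ G)
    (σ : Perm ι) (hvq : ∀ i, v (q i) = q (σ i)) (x : fixq G q) :
    (conjq hv σ hvq x : Perm α) = v * x * v⁻¹ := rfl

omit [Fintype α] in
theorem even_moved (v : Perm α) (hv : ∀ x, v (v x) = x) (O : Finset α)
    (hO : ∀ x ∈ O, v x ∈ O) : Even (O.filter fun y => v y ≠ y).card := by
  have h : ∏ _y ∈ O.filter (fun y => v y ≠ y), (-1 : ℤ) = 1 := by
    refine Finset.prod_involution (fun y _ => v y) ?_ ?_ ?_ ?_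
    · intro a _; norm_num
    · intro a ha _
      exact (Finset.mem_filter.mp ha).2
    · intro a ha
      rw [Finset.mem_filter] at ha ⊢
      exact ⟨hO _ ha.1, fun h => ha.2 (v.injective h)⟩
    · intro a _
      exact hv a
  rw [Finset.prod_const] at h
  by_contra hodd
  rw [Nat.not_even_iff_odd] at hodd
  rw [hodd.neg_one_pow] at h
  norm_num at h

omit [Fintype α] in
/-- An involution with at most two fixed points on a set of odd size has exactly one. -/
theorem unique_fixed (v : Perm α) (hv : ∀ x, v (v x) = x) (O : Finset α)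
    (hO : ∀ x ∈ O, v x ∈ O) (hodd : Odd O.card)
    (h2 : (O.filter fun y => v y = y).card ≤ 2) :
    ∃ a ∈ O, v a = a ∧ ∀ b ∈ O, v b = b → b = a := by
  have h1 := even_moved v hv O hO
  have h3 := Finset.card_filter_add_card_filter_not (s := O) (fun z => v z = z)
  have h4 : (O.filter fun y => v y = y).card = 1 := by
    obtain ⟨m, hm⟩ := h1
    obtain ⟨j, hj⟩ := hodd
    have : (O.filter fun y => ¬ v y = y).card = m + m := hm
    omega
  obtain ⟨a, ha⟩ := Finset.card_eq_one.mp h4
  have ha' : a ∈ O.filter fun y => v y = y := by rw [ha]; exact Finset.mem_singleton_self a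
  rw [Finset.mem_filter] at ha'
  refine ⟨a, ha'.1, ha'.2, fun b hb hvb => ?_⟩
  have : b ∈ O.filter fun y => v y = y := Finset.mem_filter.mpr ⟨hb, hvb⟩
  rw [ha] at this
  exact Finset.mem_singleton.mp this

/-- `K` has odd order -/
theorem odd_fixq {G : Subgroup (Perm α)} (hA : NoOdd G 5) {q : Fin 4 → α}
    (hq : Function.Injective q) : Odd (Nat.card (fixq G q)) := by
  rw [← Nat.not_even_iff_odd]
  intro heven
  have : Fact (Nat.Prime 2) := ⟨Nat.prime_two⟩
  obtain ⟨x, hx⟩ := exists_prime_orderOf_dvd_card' (G := fixq G q) 2 heven.two_dvd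
  have hx1 : (x : Perm α) ≠ 1 := by
    intro h
    have : x = 1 := Subtype.ext h
    rw [this, orderOf_one] at hx
    norm_num at hx
  have hx2 : (x : Perm α) * x = 1 := by
    have := pow_orderOf_eq_one x
    rw [hx, pow_two] at this
    exact congrArg Subtype.val this
  have := card_fixed_lt (by norm_num) hA x.2.1 hx2 hx1 (Finset.univ.map ⟨q, hq⟩) (by
    intro z hz
    obtain ⟨i, -, rfl⟩ := Finset.mem_map.mp hz
    exact x.2.2 i)
  rw [Finset.card_map, Finset.card_univ, Fintype.card_fin] at this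
  omega

set_option maxHeartbeats 1000000 in
/-- In an odd-order subgroup a conjugate of an involution in the same coset is conjugate by an
element of the subgroup. -/
theorem fix_all {G : Subgroup (Perm α)} (hA : NoOdd G 5)
    (hT : ∀ x y : Fin 4 → α, Function.Injective x → Function.Injective y →
      ∃ g ∈ G, ∀ i, g (x i) = y i)
    (hH : ∀ x y : Option (Fin 4) → α, Function.Injective x → Function.Injective y →
      ∃ g ∈ G, (∀ i, g (x i) = y i) ∨ ∀ i, g (x i) = y (optionCongr (swap 0 1) i))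
    {q : Fin 4 → α} (hq : Function.Injective q) {x0 : α} (hx0 : ∀ i, q i ≠ x0) :
    ∀ κ ∈ fixq G q, κ x0 = x0 := by
  classical
  have hodd := odd_fixq hA hq
  -- extended tuple
  have hqo : ∀ z : α, (∀ i, q i ≠ z) → Function.Injective (fun o : Option (Fin 4) => o.elim z q) := by
    intro z hz o o' h
    cases o with
    | none => cases o' with
      | none => rfl
      | some j => exact absurd h.symm (hz j)
    | some i => cases o' with
      | none => exact absurd h (hz i)
      | some j => exact congrArg some (hq h)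
  -- orbit of `x0`
  let O : Finset α := Finset.univ.filter fun y => ∃ κ ∈ fixq G q, κ x0 = y
  have hOodd : Odd O.card := by
    have h1 : O.card = Nat.card (orbit (fixq G q) x0) := by
      rw [Nat.card_coe_set_eq, ← Set.ncard_coe_finset]
      congr 1
      ext y
      simp only [O, Finset.coe_filter, Finset.mem_univ, true_and, Set.mem_ofPred_eq]
      constructor
      · rintro ⟨κ, hκ, rfl⟩
        exact ⟨⟨κ, hκ⟩, rfl⟩
      · rintro ⟨κ, rfl⟩
        exact ⟨κ, κ.2, rfl⟩
    have h2 : Nat.card (orbit (fixq G q) x0) ∣ Nat.card (fixq G q) := by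
      rw [← Nat.card_congr (orbitProdStabilizerEquivGroup (fixq G q) x0), Nat.card_prod]
      exact dvd_mul_right _ _
    rw [h1]
    exact hodd.of_dvd_nat h2
  have hx0O : x0 ∈ O := Finset.mem_filter.mpr ⟨Finset.mem_univ _, 1, Subgroup.one_mem _, rfl⟩
  have hOq : ∀ y ∈ O, ∀ i, q i ≠ y := by
    intro y hy i h
    obtain ⟨κ, hκ, hκy⟩ := (Finset.mem_filter.mp hy).2
    apply hx0 i
    apply κ.injective
    rw [hκ.2, hκy, h]
  -- even elements preserve `O`
  have hpres : ∀ (ρ : Perm (Fin 4)) (v : Perm α), v ∈ G → (∀ i, v (q i) = q (ρ i)) →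
      Perm.sign ρ = 1 → ∀ y ∈ O, v y ∈ O := by
    intro ρ v hv hvq hρ y hy
    obtain ⟨κ, hκ, rfl⟩ := (Finset.mem_filter.mp hy).2
    have hvκ : ∀ i, q i ≠ v (κ x0) := by
      intro i h
      have h1 : v (q (ρ.symm i)) = q i := by rw [hvq, Equiv.apply_symm_apply]
      rw [← h1] at h
      exact hOq _ hy _ (v.injective h)
    obtain ⟨g, hg, hgq⟩ := hH _ _ (hqo _ hx0) (hqo _ hvκ)
    rcases hgq with hgq | hgq
    · refine Finset.mem_filter.mpr ⟨Finset.mem_univ _, g, ⟨hg, fun i => hgq (some i)⟩, hgq none⟩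
    · exfalso
      have h1 := sign_of_tuple hA (ι := Option (Fin 4)) (by simp) _ (hqo _ hx0)
        (optionCongr ((swap 0 1 : Perm (Fin 4)) * ρ)) (g := g⁻¹ * v * κ)
        (G.mul_mem (G.mul_mem (G.inv_mem hg) hv) hκ.1) (by
          intro o
          cases o with
          | none =>
            show (g⁻¹ * v * κ) x0 = x0
            rw [Perm.mul_apply, Perm.mul_apply, Perm.inv_eq_iff_eq]
            exact (hgq none).symm
          | some i =>
            show (g⁻¹ * v * κ) (q i) = q (swap 0 1 (ρ i))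
            rw [Perm.mul_apply, Perm.mul_apply, Perm.inv_eq_iff_eq, hκ.2, hvq]
            have := hgq (some (swap 0 1 (ρ i)))
            simp only [optionCongr_apply, Option.map_some, Option.elim_some,
              swap_apply_self] at this
            exact this.symm)
      rw [Equiv.optionCongr_sign, Perm.sign_mul, hρ, Perm.sign_swap (by decide)] at h1
      exact absurd h1 (by decide)
  -- the two commuting involutions
  let σ1 : Perm (Fin 4) := swap 0 1 * swap 2 3
  let σ2 : Perm (Fin 4) := swap 0 2 * swap 1 3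
  have hσ11 : ∀ i, σ1 (σ1 i) = i := by decide
  have hσ22 : ∀ i, σ2 (σ2 i) = i := by decide
  have hσ12 : ∀ i, σ1 (σ2 i) = σ2 (σ1 i) := by decide
  have hinv : ∀ (σ : Perm (Fin 4)), (∀ i, σ (σ i) = i) → ∀ g ∈ G, (∀ i, g (q i) = q (σ i)) →
      ∃ m : ℕ, Odd m ∧ g ^ m * g ^ m = 1 ∧ ∀ i, (g ^ m) (q i) = q (σ i) := by
    intro σ hσ g hg hgq
    obtain ⟨m, hm, hm2, hmg⟩ := exists_invol hg (fun z => ∃ i, q i = z) (by
      rintro z ⟨i, rfl⟩
      rw [hgq, hgq, hσ]) (by
      rintro z ⟨i, rfl⟩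
      exact ⟨σ i, (hgq i).symm⟩) (by
      intro h hh hh2 hfix
      by_contra hne
      have := card_fixed_lt (by omega) hA hh hh2 hne (Finset.univ.map ⟨q, hq⟩) (by
        intro z hz
        rw [Finset.mem_map] at hz
        obtain ⟨i, -, rfl⟩ := hz
        exact hfix _ ⟨i, rfl⟩)
      rw [Finset.card_map, Finset.card_univ, Fintype.card_fin] at this
      omega)
    exact ⟨m, hm, hm2, fun i => by rw [hmg _ ⟨i, rfl⟩, hgq]⟩
  obtain ⟨g1, hg1, hg1q⟩ := hT q (fun i => q (σ1 i)) hq (hq.comp σ1.injective)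
  obtain ⟨m1, -, hv1, hv1q⟩ := hinv σ1 hσ11 g1 hg1 hg1q
  set v1 := g1 ^ m1 with hv1def
  have hv1G : v1 ∈ G := G.pow_mem hg1 _
  obtain ⟨w, hw, hwq⟩ := hT q (fun i => q (σ2 i)) hq (hq.comp σ2.injective)
  have hv1i : v1⁻¹ = v1 := inv_eq_of_mul_eq_one_right hv1
  -- adjust `w` to commute with `v1`
  obtain ⟨u, hu, hcomm⟩ : ∃ u ∈ fixq G q, v1 * (u * w) = (u * w) * v1 := by
    let c : Perm α := v1 * (w * v1 * w⁻¹)
    have hwi : ∀ i, w⁻¹ (q i) = q (σ2 i) := by
      intro i
      rw [Perm.inv_eq_iff_eq, hwq, hσ22]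
    have hc : c ∈ fixq G q := by
      refine ⟨G.mul_mem hv1G (G.mul_mem (G.mul_mem hw hv1G) (G.inv_mem hw)), fun i => ?_⟩
      simp only [c, Perm.mul_apply]
      rw [hwi, hv1q, hwq, hv1q]
      congr 1
      rw [← hσ12, hσ22, hσ11]
    obtain ⟨⟨u, hu⟩, hu2⟩ := OddKlein.exists_sqrt hodd ⟨c, hc⟩
    have huu : u * u = c := congrArg Subtype.val hu2
    -- `v1 u v1 = u⁻¹`
    have huv : v1 * u * v1⁻¹ = u⁻¹ := by
      have h1 : (conjq hv1G σ1 hv1q ⟨u, hu⟩) = (⟨u, hu⟩ : fixq G q)⁻¹ := by
        apply OddKlein.sqrt_unique hodd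
        rw [← map_mul, hu2, ← mul_inv_rev, hu2]
        apply Subtype.ext
        rw [conjq_coe]
        show v1 * c * v1⁻¹ = c⁻¹
        simp only [c, mul_inv_rev, inv_inv, hv1i]
        rw [← mul_assoc v1 v1, hv1, one_mul, mul_assoc w v1 w⁻¹]
      exact congrArg Subtype.val h1
    refine ⟨u, hu, ?_⟩
    -- `w v1 w⁻¹ = v1⁻¹ c = u⁻¹ v1 u`
    have h1 : w * v1 = v1 * (u * u) * w := by
      rw [huu]
      simp only [c]
      rw [← mul_assoc v1 v1, hv1, one_mul]
      group
    have h2 : v1 * u = u⁻¹ * v1 := by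
      rw [← huv]
      group
    calc v1 * (u * w) = v1 * u * w := by rw [mul_assoc]
      _ = u * (u⁻¹ * (v1 * u)) * w := by group
      _ = u * ((u⁻¹ * v1) * u) * w := by group
      _ = u * ((v1 * u) * u) * w := by rw [← h2]
      _ = u * (v1 * (u * u) * w) := by group
      _ = u * w * v1 := by rw [← h1, mul_assoc]
  have huwq : ∀ i, (u * w) (q i) = q (σ2 i) := fun i => by
    rw [Perm.mul_apply, hwq, hu.2]
  obtain ⟨m2, -, hv2, hv2q⟩ := hinv σ2 hσ22 (u * w) (G.mul_mem hu.1 hw) huwq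
  set v2 := (u * w) ^ m2 with hv2def
  have hv2G : v2 ∈ G := G.pow_mem (G.mul_mem hu.1 hw) _
  have hv2i : v2⁻¹ = v2 := inv_eq_of_mul_eq_one_right hv2
  have hc12 : Commute v1 v2 := (show Commute v1 (u * w) from hcomm).pow_right m2
  have hv3 : (v1 * v2) * (v1 * v2) = 1 := by
    rw [mul_assoc, ← mul_assoc v2, ← hc12.eq, mul_assoc, hv2, mul_one, hv1]
  have hv3q : ∀ i, (v1 * v2) (q i) = q ((σ1 * σ2) i) := fun i => by
    rw [Perm.mul_apply, hv2q, hv1q]
    rfl
  have hn1 : v1 ≠ 1 := fun h => by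
    have := hv1q 0
    rw [h, Perm.one_apply] at this
    exact absurd (hq this) (by decide)
  have hn2 : v2 ≠ 1 := fun h => by
    have := hv2q 0
    rw [h, Perm.one_apply] at this
    exact absurd (hq this) (by decide)
  have hn3 : v1 * v2 ≠ 1 := fun h => by
    have := hv3q 0
    rw [h, Perm.one_apply] at this
    exact absurd (hq this) (by decide)
  have huf : ∀ (ρ : Perm (Fin 4)) (v : Perm α), v ∈ G → v * v = 1 → v ≠ 1 →
      (∀ i, v (q i) = q (ρ i)) → Perm.sign ρ = 1 →
      ∃ a ∈ O, v a = a ∧ ∀ b ∈ O, v b = b → b = a := by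
    intro ρ v hv hvv hv1 hvq hρ
    apply unique_fixed v _ O (hpres ρ v hv hvq hρ) hOodd
    · have := card_fixed_lt (k := 5) (by norm_num) hA hv hvv hv1 (O.filter fun y => v y = y)
        (fun x hx => (Finset.mem_filter.mp hx).2)
      omega
    · intro x
      rw [← Perm.mul_apply, hvv, Perm.one_apply]
  obtain ⟨a, haO, ha1, hau1⟩ := huf σ1 v1 hv1G hv1 hn1 hv1q (by decide)
  obtain ⟨a2, ha2O, ha2, hau2⟩ := huf σ2 v2 hv2G hv2 hn2 hv2q (by decide)
  obtain ⟨a3, ha3O, ha3, hau3⟩ := huf (σ1 * σ2) (v1 * v2) (G.mul_mem hv1G hv2G) hv3 hn3 hv3q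
    (by decide)
  have hva : v2 a = a := by
    apply hau1
    · exact hpres σ2 v2 hv2G hv2q (by decide) a haO
    · rw [← Perm.mul_apply, hc12.eq, Perm.mul_apply, ha1]
  have e2 : a = a2 := hau2 a haO hva
  have e3 : a = a3 := hau3 a haO (by rw [Perm.mul_apply, hva, ha1])
  subst e2
  subst e3
  -- every element of `K` commuting with one of the involutions fixes `a`
  have hKO : ∀ κ ∈ fixq G q, κ a ∈ O := by
    intro κ hκ
    obtain ⟨κ', hκ', h⟩ := (Finset.mem_filter.mp haO).2
    exact Finset.mem_filter.mpr ⟨Finset.mem_univ _, κ * κ', Subgroup.mul_mem _ hκ hκ', by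
      rw [Perm.mul_apply, h]⟩
  let L : Subgroup (fixq G q) :=
    { carrier := {x | (x : Perm α) a = a}
      one_mem' := rfl
      mul_mem' := fun {x y} hx hy => by
        show ((x : Perm α) * (y : Perm α)) a = a
        rw [Perm.mul_apply, show (y : Perm α) a = a from hy, show (x : Perm α) a = a from hx]
      inv_mem' := fun {x} hx => by
        show ((x : Perm α)⁻¹) a = a
        rw [Perm.inv_eq_iff_eq]
        exact (show (x : Perm α) a = a from hx).symm }
  have hfixL : ∀ v : Perm α, v a = a → (∀ b ∈ O, v b = b → b = a) → ∀ x : fixq G q,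
      v * x * v⁻¹ = x → x ∈ L := by
    intro v hva huv x hx
    show (x : Perm α) a = a
    apply huv _ (hKO x x.2)
    have h1 : v * x = x * v := by
      calc v * x = v * x * v⁻¹ * v := by group
        _ = x * v := by rw [hx]
    rw [← Perm.mul_apply, h1, Perm.mul_apply, hva]
  have hLtop : L = ⊤ := by
    refine OddKlein.eq_top_of_fixed_le hodd (conjq hv1G σ1 hv1q) (conjq hv2G σ2 hv2q)
      ?_ ?_ ?_ L ?_ ?_ ?_
    · intro x
      apply Subtype.ext
      rw [conjq_coe, conjq_coe, hv1i]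
      rw [← mul_assoc, ← mul_assoc, hv1, one_mul, mul_assoc, hv1, mul_one]
    · intro x
      apply Subtype.ext
      rw [conjq_coe, conjq_coe, hv2i]
      rw [← mul_assoc, ← mul_assoc, hv2, one_mul, mul_assoc, hv2, mul_one]
    · intro x
      apply Subtype.ext
      rw [conjq_coe, conjq_coe, conjq_coe, conjq_coe]
      have h1 : v1 * v2 = v2 * v1 := hc12.eq
      calc v1 * (v2 * x * v2⁻¹) * v1⁻¹ = (v1 * v2) * x * (v1 * v2)⁻¹ := by group
        _ = (v2 * v1) * x * (v2 * v1)⁻¹ := by rw [h1]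
        _ = v2 * (v1 * x * v1⁻¹) * v2⁻¹ := by group
    · intro x hx
      exact hfixL v1 ha1 hau1 x (congrArg Subtype.val hx)
    · intro x hx
      exact hfixL v2 ha2 hau2 x (congrArg Subtype.val hx)
    · intro x hx
      apply hfixL (v1 * v2) ha3 hau3 x
      have h1 := congrArg Subtype.val hx
      rw [conjq_coe, conjq_coe] at h1
      calc v1 * v2 * x * (v1 * v2)⁻¹ = v1 * (v2 * x * v2⁻¹) * v1⁻¹ := by group
        _ = x := h1
  have hKa : ∀ κ ∈ fixq G q, κ a = a := by
    intro κ hκ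
    have : (⟨κ, hκ⟩ : fixq G q) ∈ L := hLtop ▸ Subgroup.mem_top _
    exact this
  obtain ⟨κ0, hκ0, hκ0a⟩ := (Finset.mem_filter.mp haO).2
  have hax : a = x0 := by
    have h1 : κ0 a = a := hKa κ0 hκ0
    rw [← hκ0a] at h1
    have h2 := κ0.injective h1
    rw [hκ0a] at h2
    exact h2
  intro κ hκ
  rw [← hax]
  exact hKa κ hκ

/-- The case `k = 5`. -/
theorem case_five {G : Subgroup (Perm α)} (hA : NoOdd G 5)
    (hT : ∀ x y : Fin 4 → α, Function.Injective x → Function.Injective y →
      ∃ g ∈ G, ∀ i, g (x i) = y i)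
    (hH : ∀ x y : Option (Fin 4) → α, Function.Injective x → Function.Injective y →
      ∃ g ∈ G, (∀ i, g (x i) = y i) ∨ ∀ i, g (x i) = y (optionCongr (swap 0 1) i)) :
    Fintype.card α ≤ 6 := by
  by_contra hn
  rw [not_le] at hn
  obtain ⟨e⟩ : Nonempty (Fin 7 ↪ α) := by
    apply Function.Embedding.nonempty_of_card_le
    rw [Fintype.card_fin]
    omega
  let q : Fin 4 → α := fun i => e (Fin.castLE (by norm_num) i)
  have hq : Function.Injective q := fun i j h => Fin.castLE_injective _ (e.injective h)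
  have hne : ∀ j : Fin 7, 4 ≤ (j : ℕ) → ∀ i, q i ≠ e j := by
    intro j hj i h
    have := congrArg Fin.val (e.injective h)
    simp at this
    omega
  have hfix : ∀ j : Fin 7, 4 ≤ (j : ℕ) → ∀ κ ∈ fixq G q, κ (e j) = e j := fun j hj =>
    fix_all hA hT hH hq (hne j hj)
  have hqo : ∀ z : α, (∀ i, q i ≠ z) → Function.Injective (fun o : Option (Fin 4) => o.elim z q) := by
    intro z hz o o' h
    cases o with
    | none => cases o' with
      | none => rfl
      | some j => exact absurd h.symm (hz j)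
    | some i => cases o' with
      | none => exact absurd h (hz i)
      | some j => exact congrArg some (hq h)
  have key : ∀ j : Fin 7, 4 < (j : ℕ) → ∃ g ∈ G, (∀ i, g (q i) = q (swap 0 1 i)) ∧
      g (e 4) = e j := by
    intro j hj
    obtain ⟨g, hg, hgq⟩ := hH _ _ (hqo _ (hne 4 (by decide))) (hqo _ (hne j hj.le))
    rcases hgq with hgq | hgq
    · exfalso
      have h1 : g (e 4) = e j := hgq none
      have h2 : g (e 4) = e 4 := hfix 4 (by decide) g ⟨hg, fun i => hgq (some i)⟩
      rw [h2] at h1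
      have := congrArg Fin.val (e.injective h1)
      simp at this
      omega
    · exact ⟨g, hg, fun i => hgq (some i), hgq none⟩
  obtain ⟨g, hg, hgq, hg4⟩ := key 5 (by decide)
  obtain ⟨h, hh, hhq, hh4⟩ := key 6 (by decide)
  have h1 : (h * g⁻¹) (e 5) = e 5 := by
    apply hfix 5 (by decide)
    refine ⟨G.mul_mem hh (G.inv_mem hg), fun i => ?_⟩
    have h2 : g⁻¹ (q i) = q (swap 0 1 i) := by
      rw [Perm.inv_eq_iff_eq, hgq, swap_apply_self]
    rw [Perm.mul_apply, h2, hhq, swap_apply_self]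
  rw [← hg4, Perm.mul_apply] at h1
  have h2 : g⁻¹ (g (e 4)) = e 4 := by rw [Perm.inv_eq_iff_eq]
  rw [h2, hh4, hg4] at h1
  exact absurd (e.injective h1) (by decide)

end general

end Cfsg.Agent.PermutationGroups.AltInduced
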