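import Mathlib
import Cfsg.Agent.PermutationGroups.AltInduced

/-!
Let `k ≥ 5`, `n ≥ k + 2`, let `G` be `(k-1)`-transitive and `k`-homogeneous and let every even
permutation of one `k`-subset be induced by `G`. Then `G` is `k`-transitive.
-/

set_option autoImplicit false

namespace Cfsg.Agent.PermutationGroups.AltInducedMain

open Equiv MulAction Cfsg.Agent.PermutationGroups.AltInduced

open scoped Pointwise

variable {α : Type*} [Fintype α] [DecidableEq α]

omit [Fintype α] in
/-- homogeneity in terms of tuples -/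
theorem exists_perm_of_homogeneous (G : Subgroup (Perm α)) {k : ℕ}
    (hh : IsPretransitive G (Set.powersetCard α k)) {ι : Type*} [Fintype ι]
    (hι : Fintype.card ι = k) (x y : ι → α) (hx : Function.Injective x)
    (hy : Function.Injective y) : ∃ g ∈ G, ∃ π : Perm ι, ∀ i, g (x i) = y (π i) := by
  let X : Set.powersetCard α k := ⟨Finset.univ.map ⟨x, hx⟩, by
    rw [Set.powersetCard.mem_iff, Finset.card_map, Finset.card_univ, hι]⟩
  let Y : Set.powersetCard α k := ⟨Finset.univ.map ⟨y, hy⟩, by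
    rw [Set.powersetCard.mem_iff, Finset.card_map, Finset.card_univ, hι]⟩
  obtain ⟨g, hg⟩ := hh.exists_smul_eq X Y
  have h1 : g • (X : Finset α) = (Y : Finset α) := congrArg Subtype.val hg
  have h2 : ∀ i, ∃ j, y j = (g : Perm α) (x i) := by
    intro i
    have h3 : g • x i ∈ g • (X : Finset α) := by
      apply Finset.smul_mem_smul_finset
      exact Finset.mem_map.mpr ⟨i, Finset.mem_univ _, rfl⟩
    rw [h1] at h3
    obtain ⟨j, -, hj⟩ := Finset.mem_map.mp h3
    exact ⟨j, hj⟩
  choose π hπ using h2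
  have hinj : Function.Injective π := by
    intro i j hij
    apply hx
    apply (g : Perm α).injective
    rw [← hπ, ← hπ, hij]
  exact ⟨g, g.2, Equiv.ofBijective π (Finite.injective_iff_bijective.mp hinj),
    fun i => (hπ i).symm⟩

omit [Fintype α] in
/-- every even permutation of every `k`-tuple is induced -/
theorem exists_even (G : Subgroup (Perm α)) {k : ℕ}
    (hh : IsPretransitive G (Set.powersetCard α k))
    (hΔ : ∃ Δ : Finset α, Δ.card = k ∧ ∀ σ : Perm ↥Δ, σ ∈ alternatingGroup ↥Δ →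
      ∃ g ∈ G, ∀ x : ↥Δ, g (x : α) = σ x) {ι : Type*} [Fintype ι] [DecidableEq ι]
    (hι : Fintype.card ι = k) (x : ι → α) (hx : Function.Injective x)
    (ρ : Perm ι) (hρ : Perm.sign ρ = 1) : ∃ g ∈ G, ∀ i, g (x i) = x (ρ i) := by
  classical
  obtain ⟨Δ, hΔc, hΔ⟩ := hΔ
  have e : ι ≃ ↥Δ := Fintype.equivOfCardEq (by rw [hι, Fintype.card_coe, hΔc])
  obtain ⟨g, hg, π, hgπ⟩ := exists_perm_of_homogeneous G hh hι (fun i => (e i : α)) x
    (fun i j h => e.injective (Subtype.ext h)) hx
  obtain ⟨h, hhG, hhσ⟩ := hΔ (e.permCongr (π⁻¹ * ρ * π)) (by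
    rw [Perm.mem_alternatingGroup, Perm.sign_permCongr, Perm.sign_mul, Perm.sign_mul, hρ,
      mul_one, ← Perm.sign_mul, inv_mul_cancel, Perm.sign_one])
  refine ⟨g * h * g⁻¹, G.mul_mem (G.mul_mem hg hhG) (G.inv_mem hg), fun i => ?_⟩
  have h1 : g⁻¹ (x i) = (e (π⁻¹ i) : α) := by
    rw [Perm.inv_eq_iff_eq, hgπ]
    exact (congrArg x (π.apply_symm_apply i)).symm
  rw [Perm.mul_apply, Perm.mul_apply, h1, hhσ, Equiv.permCongr_apply, Equiv.symm_apply_apply,
    hgπ]
  congr 1
  show π (π.symm (ρ (π (π.symm i)))) = ρ i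
  rw [Equiv.apply_symm_apply, Equiv.apply_symm_apply]

omit [Fintype α] in
/-- two tuples are equivalent up to a given odd permutation -/
theorem exists_or (G : Subgroup (Perm α)) {k : ℕ}
    (hh : IsPretransitive G (Set.powersetCard α k))
    (hΔ : ∃ Δ : Finset α, Δ.card = k ∧ ∀ σ : Perm ↥Δ, σ ∈ alternatingGroup ↥Δ →
      ∃ g ∈ G, ∀ x : ↥Δ, g (x : α) = σ x) {ι : Type*} [Fintype ι] [DecidableEq ι]
    (hι : Fintype.card ι = k) (τ : Perm ι) (hτ : Perm.sign τ = -1)
    (x y : ι → α) (hx : Function.Injective x) (hy : Function.Injective y) :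
    ∃ g ∈ G, (∀ i, g (x i) = y i) ∨ ∀ i, g (x i) = y (τ i) := by
  obtain ⟨g, hg, π, hgπ⟩ := exists_perm_of_homogeneous G hh hι x y hx hy
  rcases Int.units_eq_one_or (Perm.sign π) with hπ | hπ
  · obtain ⟨h, hhG, hhy⟩ := exists_even G hh hΔ hι y hy π⁻¹ (by rw [Perm.sign_inv, hπ])
    refine ⟨h * g, G.mul_mem hhG hg, Or.inl fun i => ?_⟩
    rw [Perm.mul_apply, hgπ, hhy]
    exact congrArg y (π.symm_apply_apply i)
  · obtain ⟨h, hhG, hhy⟩ := exists_even G hh hΔ hι y hy (τ * π⁻¹) (by
      rw [Perm.sign_mul, Perm.sign_inv, hπ, hτ]; decide)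
    refine ⟨h * g, G.mul_mem hhG hg, Or.inr fun i => ?_⟩
    rw [Perm.mul_apply, hgπ, hhy]
    exact congrArg (fun j => y (τ j)) (π.symm_apply_apply i)

/-- if some odd permutation of a `k`-set is induced, `G` is `k`-transitive -/
theorem multiplyPretransitive_of_odd (G : Subgroup (Perm α)) {k : ℕ}
    (hh : IsPretransitive G (Set.powersetCard α k))
    (hΔ : ∃ Δ : Finset α, Δ.card = k ∧ ∀ σ : Perm ↥Δ, σ ∈ alternatingGroup ↥Δ →
      ∃ g ∈ G, ∀ x : ↥Δ, g (x : α) = σ x) (hno : ¬ NoOdd G k) :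
    IsMultiplyPretransitive G α k := by
  classical
  unfold NoOdd at hno
  push Not at hno
  obtain ⟨g, hg, X, hX, g', hg'X, hgg', hsign⟩ := hno
  -- the odd permutation, as a permutation of `X`
  have hg'mem : ∀ x, g' x ∈ X ↔ x ∈ X := by
    intro x
    by_cases hx : g' x = x
    · rw [hx]
    · constructor
      · intro _
        exact hg'X x hx
      · intro _
        apply hg'X
        intro h
        exact hx (g'.injective h)
  let ρ : Perm ↥X := g'.subtypePerm hg'mem
  have hρ : Perm.sign ρ = -1 := by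
    have h1 : Perm.sign ρ = Perm.sign g' := by
      convert Perm.sign_subtypePerm g' hg'mem hg'X
    rw [h1]
    rcases Int.units_eq_one_or (Perm.sign g') with h | h
    · exact absurd h hsign
    · exact h
  let e : Fin k ≃ ↥X := Fintype.equivOfCardEq (by rw [Fintype.card_fin, Fintype.card_coe, hX])
  have hex : Function.Injective (fun i => (e i : α)) := fun i j h => e.injective (Subtype.ext h)
  constructor
  intro x y
  obtain ⟨h, hhG, hhy⟩ : ∃ h ∈ G, ∀ i, h (x i) = y i := by
    obtain ⟨h, hhG, π, hπ⟩ := exists_perm_of_homogeneous G hh (Fintype.card_fin k) x y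
      x.injective y.injective
    rcases Int.units_eq_one_or (Perm.sign π) with hπs | hπs
    · obtain ⟨h', hh'G, hh'y⟩ := exists_even G hh hΔ (Fintype.card_fin k) y y.injective π⁻¹
        (by rw [Perm.sign_inv, hπs])
      refine ⟨h' * h, G.mul_mem hh'G hhG, fun i => ?_⟩
      rw [Perm.mul_apply, hπ, hh'y]
      exact congrArg y (π.symm_apply_apply i)
    · -- transport the odd permutation to `y`
      obtain ⟨f, hf, θ, hfθ⟩ := exists_perm_of_homogeneous G hh (Fintype.card_fin k)
        (fun i => (e i : α)) y hex y.injective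
      let ρ' : Perm (Fin k) := θ * e.symm.permCongr ρ * θ⁻¹
      have hρ' : Perm.sign ρ' = -1 := by
        rw [Perm.sign_mul, Perm.sign_mul, Perm.sign_inv, Perm.sign_permCongr, hρ, mul_comm,
          ← mul_assoc, Int.units_mul_self, one_mul]
      have hy' : ∀ i, (f * g * f⁻¹) (y i) = y (ρ' i) := by
        intro i
        have h1 : f⁻¹ (y i) = (e (θ⁻¹ i) : α) := by
          rw [Perm.inv_eq_iff_eq, hfθ]
          exact (congrArg y (θ.apply_symm_apply i)).symm
        rw [Perm.mul_apply, Perm.mul_apply, h1, hgg' _ (e (θ⁻¹ i)).2]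
        have h2 : g' (e (θ⁻¹ i) : α) = (e (e.symm (ρ (e (θ⁻¹ i)))) : α) := by
          rw [Equiv.apply_symm_apply]
          rfl
        rw [h2, hfθ]
        rfl
      obtain ⟨h', hh'G, hh'y⟩ := exists_even G hh hΔ (Fintype.card_fin k) y y.injective
        (π⁻¹ * ρ'⁻¹) (by rw [Perm.sign_mul, Perm.sign_inv, Perm.sign_inv, hπs, hρ']; decide)
      refine ⟨h' * (f * g * f⁻¹) * h, G.mul_mem (G.mul_mem hh'G
        (G.mul_mem (G.mul_mem hf hg) (G.inv_mem hf))) hhG, fun i => ?_⟩
      rw [Perm.mul_apply, Perm.mul_apply, hπ, hy', hh'y]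
      congr 1
      show π.symm (ρ'.symm (ρ' (π i))) = i
      rw [Equiv.symm_apply_apply, Equiv.symm_apply_apply]
  refine ⟨⟨h, hhG⟩, ?_⟩
  ext i
  exact hhy i

omit [Fintype α] [DecidableEq α] in
/-- multiple transitivity in terms of tuples -/
theorem exists_of_multiplyPretransitive {G : Subgroup (Perm α)} {m : ℕ}
    (hT : IsMultiplyPretransitive G α m) (x y : Fin m → α) (hx : Function.Injective x)
    (hy : Function.Injective y) : ∃ g ∈ G, ∀ i, g (x i) = y i := by
  obtain ⟨g, hg⟩ := hT.exists_smul_eq (⟨x, hx⟩ : Fin m ↪ α) ⟨y, hy⟩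
  exact ⟨g, g.2, fun i => DFunLike.congr_fun hg i⟩

theorem main (G : Subgroup (Perm α)) {k : ℕ} (hk : 5 ≤ k) (hkn : k + 2 ≤ Fintype.card α)
    (hT : IsMultiplyPretransitive G α (k - 1))
    (hh : IsPretransitive G (Set.powersetCard α k))
    (hΔ : ∃ Δ : Finset α, Δ.card = k ∧ ∀ σ : Perm ↥Δ, σ ∈ alternatingGroup ↥Δ →
      ∃ g ∈ G, ∀ x : ↥Δ, g (x : α) = σ x) :
    IsMultiplyPretransitive G α k := by
  by_contra hcon
  have hA : NoOdd G k := by
    by_contra h
    exact hcon (multiplyPretransitive_of_odd G hh hΔ h)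
  rcases Nat.lt_or_ge 5 k with hk6 | hk5
  · have := case_six hk6 hA (exists_of_multiplyPretransitive hT)
    omega
  · obtain rfl : k = 5 := by omega
    have := case_five hA (exists_of_multiplyPretransitive hT) (exists_or G hh hΔ
      (ι := Option (Fin 4)) (by simp) (optionCongr (swap 0 1)) (by
        rw [Equiv.optionCongr_sign, Perm.sign_swap (by decide)]))
    omega

end Cfsg.Agent.PermutationGroups.AltInducedMain
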