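import Mathlib.LinearAlgebra.Matrix.SpecialLinearGroup
import Mathlib.Data.ZMod.Basic
import Mathlib.Algebra.Group.End
import Mathlib.SetTheory.Cardinal.Finite
import Mathlib.GroupTheory.Index
import Mathlib.GroupTheory.Subgroup.Center
import Mathlib.Tactic

/-!
`SL(2,5)`: order 120, centre of order 2, generated by two explicit matrices, at most 120 automorphisms.
-/

set_option autoImplicit false

namespace Cfsg.Agent.PermutationGroups.AutSL25

open Matrix

abbrev SL25 := Matrix.SpecialLinearGroup (Fin 2) (ZMod 5)

def S : SL25 := ⟨!![0, -1; 1, 0], by decide⟩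
def T : SL25 := ⟨!![1, 1; 0, 1], by decide⟩

theorem card : Fintype.card SL25 = 120 := by decide +kernel

theorem natCard : Nat.card SL25 = 120 := by rw [Nat.card_eq_fintype_card, card]

/-- the big cell decomposition -/
def cell (g : SL25) : SL25 :=
  T ^ (((g 0 0) - 1) * (g 1 0) ^ 3).val * (S * S * S) * T ^ (-(g 1 0)).val * S *
    T ^ (((g 1 1) - 1) * (g 1 0) ^ 3).val

def word (g : SL25) : SL25 :=
  if g 1 0 = 0 then S * S * S * cell (S * g) else cell g

theorem word_eq : ∀ g : SL25, word g = g := by decide +kernel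

theorem closure_eq_top : Subgroup.closure ({S, T} : Set SL25) = ⊤ := by
  rw [eq_top_iff]
  intro g _
  rw [← word_eq g]
  have hS : S ∈ Subgroup.closure ({S, T} : Set SL25) := Subgroup.subset_closure (by simp)
  have hT : T ∈ Subgroup.closure ({S, T} : Set SL25) := Subgroup.subset_closure (by simp)
  have hcell : ∀ g : SL25, cell g ∈ Subgroup.closure ({S, T} : Set SL25) := by
    intro g
    unfold cell
    exact mul_mem (mul_mem (mul_mem (mul_mem (pow_mem hT _) (mul_mem (mul_mem hS hS) hS))
      (pow_mem hT _)) hS) (pow_mem hT _)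
  unfold word
  split_ifs
  · exact mul_mem (mul_mem (mul_mem hS hS) hS) (hcell _)
  · exact hcell _

theorem eq_neg_one : ∀ g : SL25, g * g = 1 → g ≠ 1 → g = -1 := by decide +kernel

theorem neg_one_ne : (-1 : SL25) ≠ 1 := by decide +kernel

theorem mem_center_iff : ∀ g : SL25, (g * S = S * g ∧ g * T = T * g) → g = 1 ∨ g = -1 := by
  decide +kernel

theorem card_center : Nat.card (Subgroup.center SL25) = 2 := by
  have h : (Subgroup.center SL25 : Set SL25) = {1, -1} := by
    ext g
    constructor
    · intro hg
      have hg' := Subgroup.mem_center_iff.1 hg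
      rcases mem_center_iff g ⟨(hg' S).symm, (hg' T).symm⟩ with h | h
      · simp [h]
      · simp [h]
    · rintro (h | h)
      · rw [h]; exact Subgroup.one_mem _
      · rw [Set.mem_singleton_iff] at h
        rw [h]
        apply Subgroup.mem_center_iff.2
        intro g
        rw [mul_neg, neg_mul, mul_one, one_mul]
  have h2 : Nat.card (Subgroup.center SL25) = Set.ncard (Subgroup.center SL25 : Set SL25) :=
    (Nat.card_coe_set_eq _)
  rw [h2, h, Set.ncard_pair neg_one_ne.symm]

theorem map_neg_one (φ : MulAut SL25) : φ (-1) = -1 := by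
  apply eq_neg_one
  · rw [← map_mul, neg_mul, one_mul, neg_neg, map_one]
  · intro h
    exact neg_one_ne ((MulEquiv.map_eq_one_iff φ).1 h)

abbrev XS := {s : SL25 // s * s = -1}
abbrev XT := {t : SL25 // t * t * t * t * t = 1 ∧ t ≠ 1}
abbrev XP := {z : XS × XT //
  (z.1.1 * z.2.1) * (z.1.1 * z.2.1) * (z.1.1 * z.2.1) = -1}

theorem card_XP : Fintype.card XP = 120 := by decide +kernel

theorem relS : S * S = -1 := by decide +kernel
theorem relT : T * T * T * T * T = 1 := by decide +kernel
theorem T_ne : T ≠ 1 := by decide +kernel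
theorem relST : (S * T) * (S * T) * (S * T) = -1 := by decide +kernel

/-- the pair of images of the generators -/
def pair (φ : MulAut SL25) : XP :=
  ⟨(⟨φ S, by rw [← map_mul, relS, map_neg_one]⟩,
    ⟨φ T, by rw [← map_mul, ← map_mul, ← map_mul, ← map_mul, relT, map_one],
      fun h => T_ne ((MulEquiv.map_eq_one_iff φ).1 h)⟩), by
    change (φ S * φ T) * (φ S * φ T) * (φ S * φ T) = -1
    rw [← map_mul, ← map_mul, ← map_mul, relST, map_neg_one]⟩

theorem pair_injective : Function.Injective pair := by
  intro φ ψ h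
  have h1 : φ S = ψ S := congrArg (fun z : XP => (z.1.1.1 : SL25)) h
  have h2 : φ T = ψ T := congrArg (fun z : XP => (z.1.2.1 : SL25)) h
  have h3 : (φ : SL25 →* SL25) = ψ := by
    apply MonoidHom.eq_of_eqOn_dense closure_eq_top
    rintro x (rfl | hx)
    · exact h1
    · rw [Set.mem_singleton_iff] at hx
      rw [hx]; exact h2
  ext1 x
  exact DFunLike.congr_fun h3 x

theorem card_mulAut_le : Nat.card (MulAut SL25) ≤ 120 := by
  rw [← card_XP, ← Nat.card_eq_fintype_card]
  exact Nat.card_le_card_of_injective pair pair_injective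

end Cfsg.Agent.PermutationGroups.AutSL25
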