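import Mathlib

/-!
Permutations of `Fin 11` coded as natural numbers (base 16 digits), with kernel-friendly
operations: composition, powers, number of moved points, and a generic backtracking search.
(helper394, for S0679)
-/

set_option autoImplicit false

namespace Cfsg.Agent.PermutationGroups.Code11

/-- `i`-th base 16 digit. -/
def dig (c i : ℕ) : ℕ := Nat.mod (Nat.div c (Nat.pow 16 i)) 16

theorem dig_def (c i : ℕ) : dig c i = c / 16 ^ i % 16 := rfl

/-- the number with digits `f 0, ..., f (k-1)`. -/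
def mk (f : ℕ → ℕ) : ℕ → ℕ
  | 0 => 0
  | k + 1 => Nat.add (mk f k) (Nat.mul (f k) (Nat.pow 16 k))

theorem mk_zero (f : ℕ → ℕ) : mk f 0 = 0 := rfl
theorem mk_succ (f : ℕ → ℕ) (k : ℕ) : mk f (k + 1) = mk f k + f k * 16 ^ k := rfl

theorem mk_congr {f g : ℕ → ℕ} {k : ℕ} (h : ∀ i < k, f i = g i) : mk f k = mk g k := by
  induction k with
  | zero => rfl
  | succ k ih =>
    rw [mk_succ, mk_succ, ih (fun i hi => h i (by omega)), h k (by omega)]

theorem mk_lt {f : ℕ → ℕ} {k : ℕ} (h : ∀ i < k, f i < 16) : mk f k < 16 ^ k := by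
  induction k with
  | zero => simp [mk_zero]
  | succ k ih =>
    rw [mk_succ, pow_succ]
    have h1 := ih (fun i hi => h i (by omega))
    have h2 := h k (by omega)
    have h3 : f k * 16 ^ k ≤ 15 * 16 ^ k := Nat.mul_le_mul_right _ (by omega)
    omega

theorem dig_mk {f : ℕ → ℕ} {k : ℕ} (h : ∀ i < k, f i < 16) {i : ℕ} (hi : i < k) :
    dig (mk f k) i = f i := by
  induction k with
  | zero => omega
  | succ k ih =>
    rw [mk_succ, dig_def]
    rcases Nat.lt_succ_iff_lt_or_eq.1 hi with h1 | h1
    · have h2 : 16 ^ k = 16 ^ i * (16 * 16 ^ (k - i - 1)) := by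
        rw [← pow_succ', ← pow_add]; congr 1; omega
      rw [h2, show mk f k + f k * (16 ^ i * (16 * 16 ^ (k - i - 1))) =
        mk f k + 16 ^ i * (16 * (f k * 16 ^ (k - i - 1))) by ring,
        Nat.add_mul_div_left _ _ (by positivity), Nat.add_mul_mod_self_left]
      exact ih (fun i hi => h i (by omega)) h1
    · subst h1
      have h1 := mk_lt (f := f) (k := i) (fun j hj => h j (by omega))
      rw [mul_comm, Nat.add_mul_div_left _ _ (by positivity), Nat.div_eq_of_lt h1, zero_add]
      exact Nat.mod_eq_of_lt (h i (by omega))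

/-- extension of a permutation of `Fin 11` by zero. -/
def ext (σ : Equiv.Perm (Fin 11)) (i : ℕ) : ℕ := if h : i < 11 then (σ ⟨i, h⟩ : ℕ) else 0

theorem ext_fin (σ : Equiv.Perm (Fin 11)) (i : Fin 11) : ext σ i = σ i := by
  simp [ext]

theorem ext_lt (σ : Equiv.Perm (Fin 11)) (i : ℕ) : ext σ i < 11 := by
  unfold ext
  split_ifs with h
  · exact (σ ⟨i, h⟩).2
  · omega

theorem ext_lt' (σ : Equiv.Perm (Fin 11)) (i : ℕ) : ext σ i < 16 := by
  have := ext_lt σ i; omega

/-- code of the prefix of length `k` -/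
def pre (σ : Equiv.Perm (Fin 11)) (k : ℕ) : ℕ := mk (ext σ) k

/-- code of a permutation -/
def enc (σ : Equiv.Perm (Fin 11)) : ℕ := mk (ext σ) 11

theorem pre_eleven (σ : Equiv.Perm (Fin 11)) : pre σ 11 = enc σ := rfl

theorem pre_succ (σ : Equiv.Perm (Fin 11)) (k : ℕ) :
    pre σ (k + 1) = pre σ k + ext σ k * 16 ^ k := rfl

theorem dig_pre (σ : Equiv.Perm (Fin 11)) {i k : ℕ} (h : i < k) : dig (pre σ k) i = ext σ i :=
  dig_mk (fun i _ => ext_lt' σ i) h

theorem dig_enc (σ : Equiv.Perm (Fin 11)) (i : Fin 11) : dig (enc σ) i = σ i := by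
  rw [enc, dig_mk (fun i _ => ext_lt' σ i) i.2, ext_fin]

theorem dig_enc' (σ : Equiv.Perm (Fin 11)) {i : ℕ} (h : i < 11) : dig (enc σ) i = ext σ i := by
  rw [enc, dig_mk (fun i _ => ext_lt' σ i) h]

theorem enc_injective : Function.Injective enc := by
  intro σ τ h
  ext i
  rw [← dig_enc, ← dig_enc, h]

/-- Horner form of `mk f 11` (fast in the kernel) -/
def hor (f : ℕ → ℕ) : ℕ :=
  Nat.add (f 0) (Nat.mul 16 (Nat.add (f 1) (Nat.mul 16 (Nat.add (f 2) (Nat.mul 16 (
  Nat.add (f 3) (Nat.mul 16 (Nat.add (f 4) (Nat.mul 16 (Nat.add (f 5) (Nat.mul 16 (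
  Nat.add (f 6) (Nat.mul 16 (Nat.add (f 7) (Nat.mul 16 (Nat.add (f 8) (Nat.mul 16 (
  Nat.add (f 9) (Nat.mul 16 (f 10))))))))))))))))))))

theorem hor_eq_mk (f : ℕ → ℕ) : hor f = mk f 11 := by
  have h : hor f = f 0 + 16 * (f 1 + 16 * (f 2 + 16 * (f 3 + 16 * (f 4 + 16 * (f 5 + 16 *
    (f 6 + 16 * (f 7 + 16 * (f 8 + 16 * (f 9 + 16 * f 10))))))))) := rfl
  rw [h]
  simp only [mk_succ, mk_zero]
  ring

/-- composition of codes -/
def comp (c d : ℕ) : ℕ := hor (fun i => dig c (dig d i))

theorem comp_enc (σ τ : Equiv.Perm (Fin 11)) : comp (enc σ) (enc τ) = enc (σ * τ) := by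
  rw [comp, hor_eq_mk]
  change _ = mk (ext (σ * τ)) 11
  apply mk_congr
  intro i hi
  rw [dig_enc' τ hi, dig_enc' σ (ext_lt τ i)]
  have h1 := ext_fin τ ⟨i, hi⟩
  have h2 := ext_fin (σ * τ) ⟨i, hi⟩
  have h3 := ext_fin σ (τ ⟨i, hi⟩)
  simp only at h1 h2
  rw [h1, h2, h3]
  rfl

/-- square -/
def sq (c : ℕ) : ℕ := comp c c

/-- the 280-th power -/
def p280 (c : ℕ) : ℕ :=
  comp (sq (sq (sq (sq (sq (sq (sq (sq c)))))))) (comp (sq (sq (sq (sq c)))) (sq (sq (sq c))))

theorem p280_enc (σ : Equiv.Perm (Fin 11)) : p280 (enc σ) = enc (σ ^ 280) := by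
  have hsq : ∀ n : ℕ, sq (enc (σ ^ n)) = enc (σ ^ (n + n)) := by
    intro n
    rw [sq, comp_enc, pow_add]
  have h1 : enc σ = enc (σ ^ 1) := by rw [pow_one]
  have h2 : sq (sq (sq (enc σ))) = enc (σ ^ 8) := by
    rw [h1, hsq, hsq, hsq]
  have h3 : sq (sq (sq (sq (enc σ)))) = enc (σ ^ 16) := by
    rw [h2, hsq]
  have h4 : sq (sq (sq (sq (sq (sq (sq (sq (enc σ)))))))) = enc (σ ^ 256) := by
    rw [h2, hsq, hsq, hsq, hsq, hsq]
  rw [p280, h4, h3, h2, comp_enc, comp_enc, ← pow_add, ← pow_add]

/-- number of moved points below `k` -/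
def mvd (c : ℕ) : ℕ → ℕ
  | 0 => 0
  | k + 1 => cond (Nat.beq (dig c k) k) (mvd c k) (Nat.succ (mvd c k))

theorem mvd_zero (c : ℕ) : mvd c 0 = 0 := rfl
theorem mvd_succ (c k : ℕ) :
    mvd c (k + 1) = mvd c k + if dig c k = k then 0 else 1 := by
  have : mvd c (k + 1) = cond (Nat.beq (dig c k) k) (mvd c k) (Nat.succ (mvd c k)) := rfl
  rw [this]
  by_cases h : dig c k = k
  · rw [if_pos h]
    have h' : Nat.beq (dig c k) k = true := by
      rw [h]; exact Nat.beq_refl k
    rw [h']; rfl
  · rw [if_neg h]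
    cases h' : Nat.beq (dig c k) k
    · rfl
    · exact absurd (Nat.eq_of_beq_eq_true h') h

theorem mvd_enc (σ : Equiv.Perm (Fin 11)) : mvd (enc σ) 11 = σ.support.card := by
  have h1 : ∀ c k, mvd c k = ∑ i ∈ Finset.range k, if dig c i = i then 0 else 1 := by
    intro c k
    induction k with
    | zero => rfl
    | succ k ih => rw [mvd_succ, ih, Finset.sum_range_succ]
  rw [h1, Finset.sum_range, Equiv.Perm.support]
  rw [Finset.card_filter]
  apply Finset.sum_congr rfl
  intro i _
  rw [dig_enc]
  by_cases h : σ i = i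
  · simp [h]
  · rw [if_neg (fun h' => h (Fin.ext h')), if_pos h]

/-- `p y` for all `y < k` -/
def allBelow (p : ℕ → Bool) : ℕ → Bool
  | 0 => true
  | k + 1 => and (p k) (allBelow p k)

theorem allBelow_iff {p : ℕ → Bool} {k : ℕ} : allBelow p k = true ↔ ∀ y < k, p y = true := by
  induction k with
  | zero => simp [allBelow]
  | succ k ih =>
    have : allBelow p (k + 1) = and (p k) (allBelow p k) := rfl
    rw [this, Bool.and_eq_true, ih]
    constructor
    · rintro ⟨h1, h2⟩ y hy
      rcases Nat.lt_succ_iff_lt_or_eq.1 hy with h | h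
      · exact h2 y h
      · rw [h]; exact h1
    · intro h
      exact ⟨h k (by omega), fun y hy => h y (by omega)⟩

/-- all members of a list -/
def lall {α : Type} (p : α → Bool) : List α → Bool
  | [] => true
  | x :: l => and (p x) (lall p l)

theorem lall_iff {α : Type} {p : α → Bool} {l : List α} :
    lall p l = true ↔ ∀ x ∈ l, p x = true := by
  induction l with
  | nil => simp [lall]
  | cons a l ih =>
    have : lall p (a :: l) = and (p a) (lall p l) := rfl
    rw [this, Bool.and_eq_true, ih]
    simp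

/-- some member of a list -/
def lany {α : Type} (p : α → Bool) : List α → Bool
  | [] => false
  | x :: l => or (p x) (lany p l)

theorem lany_iff {α : Type} {p : α → Bool} {l : List α} :
    lany p l = true ↔ ∃ x ∈ l, p x = true := by
  induction l with
  | nil => simp [lany]
  | cons a l ih =>
    have : lany p (a :: l) = or (p a) (lany p l) := rfl
    rw [this, Bool.or_eq_true, ih]
    simp

/-- remove a number from a list -/
def er (y : ℕ) : List ℕ → List ℕ
  | [] => []
  | x :: l => cond (Nat.beq x y) l (x :: er y l)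

theorem er_eq_erase (y : ℕ) (l : List ℕ) : er y l = l.erase y := by
  induction l with
  | nil => rfl
  | cons x l ih =>
    have : er y (x :: l) = cond (Nat.beq x y) l (x :: er y l) := rfl
    rw [this, List.erase_cons, ih]
    by_cases h : x = y
    · subst h
      simp
    · have h' : Nat.beq x y = false := by
        cases h'' : Nat.beq x y
        · rfl
        · exact absurd (Nat.eq_of_beq_eq_true h'') h
      simp [h', h]

/-- backtracking search; `rem` is the list of the values not used yet -/
def search (chk : ℕ → ℕ → ℕ → Bool) (leaf : ℕ → Bool) : ℕ → ℕ → ℕ → List ℕ → Bool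
  | 0, _, c, _ => leaf c
  | f + 1, k, c, rem => lall (fun y => or (not (chk c k y))
      (search chk leaf f (Nat.succ k) (Nat.add c (Nat.mul y (Nat.pow 16 k))) (er y rem))) rem

theorem ext_injOn (σ : Equiv.Perm (Fin 11)) {i j : ℕ} (hi : i < 11) (hj : j < 11)
    (h : ext σ i = ext σ j) : i = j := by
  have h1 := ext_fin σ ⟨i, hi⟩
  have h2 := ext_fin σ ⟨j, hj⟩
  simp only at h1 h2
  rw [h1, h2] at h
  have := σ.injective (Fin.ext h)
  exact congrArg Fin.val this

theorem search_sound {chk : ℕ → ℕ → ℕ → Bool} {leaf : ℕ → Bool} (σ : Equiv.Perm (Fin 11)) :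
    ∀ (f k : ℕ) (rem : List ℕ) (_ : f + k = 11) (_ : search chk leaf f k (pre σ k) rem = true)
      (_ : ∀ j, k ≤ j → j < 11 → ext σ j ∈ rem)
      (_ : ∀ j, k ≤ j → j < 11 → chk (pre σ j) j (ext σ j) = true), leaf (enc σ) = true := by
  intro f
  induction f with
  | zero =>
    intro k rem hk hs _ _
    have : k = 11 := by omega
    subst this
    exact hs
  | succ f ih =>
    intro k rem hk hs hr hc
    have h1 : search chk leaf (f + 1) k (pre σ k) rem = lall (fun y => or (not (chk (pre σ k) k y))
      (search chk leaf f (Nat.succ k) (Nat.add (pre σ k) (Nat.mul y (Nat.pow 16 k)))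
        (er y rem))) rem := rfl
    rw [h1, lall_iff] at hs
    have h2 := hs (ext σ k) (hr k le_rfl (by omega))
    rw [hc k le_rfl (by omega)] at h2
    refine ih (k + 1) (er (ext σ k) rem) (by omega) ?_ ?_ (fun j hj hj' => hc j (by omega) hj')
    · rw [pre_succ]
      simpa using h2
    · intro j hj hj'
      rw [er_eq_erase, List.mem_erase_of_ne]
      · exact hr j (by omega) hj'
      · intro h
        have := ext_injOn σ hj' (by omega : k < 11) h
        omega

/-- enumeration of the involutions of a set of points -/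
def enumInv (leaf : ℕ → Bool) : ℕ → List ℕ → ℕ → Bool
  | _, [], c => leaf c
  | 0, _ :: _, _ => false
  | f + 1, x :: l, c => and (enumInv leaf f l (Nat.add c (Nat.mul x (Nat.pow 16 x))))
      (lall (fun y => enumInv leaf f (er y l)
        (Nat.add c (Nat.add (Nat.mul y (Nat.pow 16 x)) (Nat.mul x (Nat.pow 16 y))))) l)

theorem enumInv_sound {leaf : ℕ → Bool} (σ : Equiv.Perm (Fin 11)) (hσ : σ * σ = 1) :
    ∀ (f : ℕ) (l : List ℕ) (c : ℕ) (_ : l.Nodup) (_ : ∀ x ∈ l, x < 11)
      (_ : ∀ x ∈ l, ext σ x ∈ l) (_ : c + (l.map (fun x => ext σ x * 16 ^ x)).sum = enc σ)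
      (_ : enumInv leaf f l c = true), leaf (enc σ) = true := by
  have hinv : ∀ x < 11, ext σ (ext σ x) = x := by
    intro x hx
    have h1 := ext_fin σ ⟨x, hx⟩
    have h2 := ext_fin σ (σ ⟨x, hx⟩)
    simp only at h1
    rw [h1, h2]
    have : (σ * σ) ⟨x, hx⟩ = ⟨x, hx⟩ := by rw [hσ]; rfl
    rw [Equiv.Perm.mul_apply] at this
    rw [this]
  intro f
  induction f with
  | zero =>
    intro l c hn hlt hi hc he
    rcases l with _ | ⟨x, l⟩
    · have : leaf c = true := he
      simp at hc
      rwa [hc] at this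
    · exact absurd he (by simp [enumInv])
  | succ f ih =>
    intro l c hn hlt hi hc he
    rcases l with _ | ⟨x, l⟩
    · have : leaf c = true := he
      simp at hc
      rwa [hc] at this
    · have h1 : enumInv leaf (f + 1) (x :: l) c =
        and (enumInv leaf f l (Nat.add c (Nat.mul x (Nat.pow 16 x))))
        (lall (fun y => enumInv leaf f (er y l)
          (Nat.add c (Nat.add (Nat.mul y (Nat.pow 16 x)) (Nat.mul x (Nat.pow 16 y))))) l) := rfl
      rw [h1, Bool.and_eq_true, lall_iff] at he
      rw [List.nodup_cons] at hn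
      have hx11 : x < 11 := hlt x (by simp)
      have hc' : c + (ext σ x * 16 ^ x + (l.map (fun x => ext σ x * 16 ^ x)).sum) = enc σ := by
        rw [← hc]; simp
      by_cases hx : ext σ x = x
      · refine ih l _ hn.2 (fun z hz => hlt z (by simp [hz])) ?_ ?_ he.1
        · intro z hz
          have h2 := hi z (by simp [hz])
          rw [List.mem_cons] at h2
          rcases h2 with h2 | h2
          · exfalso
            apply hn.1
            have h3 := hinv z (hlt z (by simp [hz]))
            rw [h2, hx] at h3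
            rw [h3]; exact hz
          · exact h2
        · rw [← hc', hx]
          change c + x * 16 ^ x + _ = _
          ring
      · have hy : ext σ x ∈ l := by
          have h2 := hi x (by simp)
          rw [List.mem_cons] at h2
          exact h2.resolve_left hx
        have h2 := he.2 _ hy
        have hmem : ∀ z, z ∈ er (ext σ x) l ↔ z ≠ ext σ x ∧ z ∈ l := by
          intro z
          rw [er_eq_erase]
          exact hn.2.mem_erase_iff
        refine ih (er (ext σ x) l) _ ?_ ?_ ?_ ?_ h2
        · rw [er_eq_erase]; exact hn.2.erase _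
        · intro z hz
          exact hlt z (by simp [((hmem z).1 hz).2])
        · intro z hz
          obtain ⟨hz1, hz2⟩ := (hmem z).1 hz
          have hz11 : z < 11 := hlt z (by simp [hz2])
          rw [hmem]
          constructor
          · intro h3
            have := ext_injOn σ hz11 hx11 h3
            rw [this] at hz2
            exact hn.1 hz2
          · have h3 := hi z (by simp [hz2])
            rw [List.mem_cons] at h3
            rcases h3 with h3 | h3
            · exfalso
              apply hz1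
              have h4 := hinv z hz11
              rw [h3] at h4
              exact h4.symm
            · exact h3
        · rw [← hc', er_eq_erase]
          have h3 : (l.map (fun x => ext σ x * 16 ^ x)).sum =
              ext σ (ext σ x) * 16 ^ (ext σ x) +
                ((l.erase (ext σ x)).map (fun x => ext σ x * 16 ^ x)).sum :=
            (List.sum_map_erase (fun x => ext σ x * 16 ^ x) hy).symm
          rw [h3, hinv x hx11]
          change c + (ext σ x * 16 ^ x + x * 16 ^ (ext σ x)) + _ = _
          ring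

end Cfsg.Agent.PermutationGroups.Code11
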