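import Cfsg.Agent.PermutationGroups.Deg11Comp

/-!
The two block systems for degree 11 and their stabilisers (helper394, for S0679).
-/

set_option autoImplicit false

namespace Cfsg.Agent.PermutationGroups.Deg11Blocks

open Cfsg.Agent.PermutationGroups.Code11 Cfsg.Agent.PermutationGroups.Deg11Comp

/-- mask of a set of points -/
def mask (B : Finset (Fin 11)) : ℕ := ∑ i ∈ B, 2 ^ (i : ℕ)

theorem mask_injective : Function.Injective mask := by
  intro B C h
  have h1 : ∀ B : Finset (Fin 11), mask B = ∑ i ∈ B.map Fin.valEmbedding, 2 ^ i := by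
    intro B
    rw [Finset.sum_map]; rfl
  rw [h1, h1] at h
  have := Finset.geomSum_injective (n := 2) le_rfl h
  exact Finset.map_injective _ this

theorem mask_lt (B : Finset (Fin 11)) : mask B < 2048 := by
  have h1 : mask B ≤ mask Finset.univ :=
    Finset.sum_le_sum_of_subset (Finset.subset_univ B)
  have h2 : mask Finset.univ = 2047 := by decide
  omega

/-- the set of points in a list -/
def fs (l : List ℕ) : Finset (Fin 11) := Finset.univ.filter (fun i => (i : ℕ) ∈ l)

theorem sum_fs {l : List ℕ} (hn : l.Nodup) (hl : ∀ x ∈ l, x < 11) (F : ℕ → ℕ) :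
    ∑ i ∈ fs l, F i = (l.map F).sum := by
  rw [← List.sum_toFinset F hn]
  have h1 : l.toFinset = (fs l).map Fin.valEmbedding := by
    ext x
    simp only [List.mem_toFinset, fs, Finset.mem_map, Finset.mem_filter, Finset.mem_univ,
      true_and, Fin.valEmbedding_apply]
    constructor
    · intro hx
      exact ⟨⟨x, hl x hx⟩, hx, rfl⟩
    · rintro ⟨a, ha, rfl⟩
      exact ha
  rw [h1, Finset.sum_map]
  rfl

open scoped Pointwise in
theorem mask_smul (σ : Equiv.Perm (Fin 11)) (B : Finset (Fin 11)) :
    mask (σ • B) = ∑ i ∈ B, 2 ^ (ext σ i) := by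
  rw [mask, ← Finset.image_smul, Finset.sum_image]
  · apply Finset.sum_congr rfl
    intro i _
    rw [ext_fin]
    rfl
  · intro x _ y _ h
    exact σ.injective h

/-- the block system -/
def blocks (big : ℕ) : Set (Finset (Fin 11)) := {B | tb big (mask B) = true}

open scoped Pointwise in
/-- the stabiliser of the block system -/
def stab (big : ℕ) : Subgroup (Equiv.Perm (Fin 11)) :=
  MulAction.stabilizer (Equiv.Perm (Fin 11)) (blocks big)

open scoped Pointwise in
theorem mem_stab_iff {big : ℕ} {σ : Equiv.Perm (Fin 11)} :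
    σ ∈ stab big ↔ ∀ B ∈ blocks big, σ • B ∈ blocks big := by
  rw [stab, MulAction.mem_stabilizer_set' (Set.toFinite _)]

/-- hypotheses on the list of blocks -/
def Good (big : ℕ) (blk : ℕ → List (List ℕ)) : Prop :=
  (∀ k < 11, ∀ b ∈ blk k, (k :: b).Nodup ∧ (∀ x ∈ b, x < k) ∧
    tb big ((((k :: b).map (fun x => 2 ^ x))).sum) = true) ∧
  (∀ m < 2048, tb big m = true → ∃ k < 11, ∃ b ∈ blk k, m = ((k :: b).map (fun x => 2 ^ x)).sum)

theorem msk_eq (c : ℕ) (l : List ℕ) : msk c l = (l.map (fun x => 2 ^ dig c x)).sum := by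
  induction l with
  | nil => rfl
  | cons x l ih =>
    have : msk c (x :: l) = 2 ^ dig c x + msk c l := rfl
    rw [this, ih]; simp

theorem fs_mem_blocks {big : ℕ} {blk : ℕ → List (List ℕ)} (hg : Good big blk) {k : ℕ}
    (hk : k < 11) {b : List ℕ} (hb : b ∈ blk k) : fs (k :: b) ∈ blocks big := by
  obtain ⟨h1, h2, h3⟩ := hg.1 k hk b hb
  change tb big (mask (fs (k :: b))) = true
  rw [mask, sum_fs h1 _ (fun x => 2 ^ x)]
  · exact h3
  · intro x hx
    rw [List.mem_cons] at hx
    rcases hx with rfl | hx
    · exact hk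
    · exact (h2 x hx).trans hk

/-- an element of the stabiliser passes all the consistency checks -/
theorem consBlk_of_mem {big : ℕ} {blk : ℕ → List (List ℕ)} (hg : Good big blk)
    {σ : Equiv.Perm (Fin 11)} (hσ : σ ∈ stab big) {k : ℕ} (hk : k < 11) :
    consBlk big blk (pre σ k) k (ext σ k) = true := by
  unfold consBlk
  rw [lall_iff]
  intro b hb
  obtain ⟨h1, h2, h3⟩ := hg.1 k hk b hb
  have h4 := mem_stab_iff.1 hσ _ (fs_mem_blocks hg hk hb)
  change tb big (mask _) = true at h4
  have hlt : ∀ x ∈ k :: b, x < 11 := by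
    intro x hx
    rw [List.mem_cons] at hx
    rcases hx with rfl | hx
    · exact hk
    · exact (h2 x hx).trans hk
  rw [mask_smul, sum_fs h1 hlt (fun x => 2 ^ (ext σ x))] at h4
  rw [msk_eq]
  have h5 : b.map (fun x => 2 ^ dig (pre σ k) x) = b.map (fun x => 2 ^ ext σ x) := by
    apply List.map_congr_left
    intro x hx
    rw [dig_pre σ (h2 x hx)]
  rw [h5]
  simpa using h4

/-- the computational check gives membership -/
theorem mem_stab_of_pres {big : ℕ} {blk : ℕ → List (List ℕ)} (hg : Good big blk)
    {σ : Equiv.Perm (Fin 11)} (h : pres big blk (enc σ) = true) : σ ∈ stab big := by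
  rw [mem_stab_iff]
  intro B hB
  change tb big (mask B) = true at hB
  obtain ⟨k, hk, b, hb, hm⟩ := hg.2 _ (mask_lt B) hB
  obtain ⟨h1, h2, h3⟩ := hg.1 k hk b hb
  have hlt : ∀ x ∈ k :: b, x < 11 := by
    intro x hx
    rw [List.mem_cons] at hx
    rcases hx with rfl | hx
    · exact hk
    · exact (h2 x hx).trans hk
  have hBe : B = fs (k :: b) := by
    apply mask_injective
    rw [hm, mask, sum_fs h1 hlt (fun x => 2 ^ x)]
  unfold pres at h
  rw [allBelow_iff] at h
  have h4 := h k hk
  unfold consBlk at h4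
  rw [lall_iff] at h4
  have h5 := h4 b hb
  rw [msk_eq] at h5
  change tb big (mask _) = true
  rw [hBe, mask_smul, sum_fs h1 hlt (fun x => 2 ^ (ext σ x))]
  have h6 : b.map (fun x => 2 ^ dig (enc σ) x) = b.map (fun x => 2 ^ ext σ x) := by
    apply List.map_congr_left
    intro x hx
    rw [dig_enc' σ ((h2 x hx).trans hk)]
  rw [h6, dig_enc' σ hk] at h5
  simpa using h5

theorem goodA : Good bigA blkA := by
  unfold Good
  constructor
  · decide +kernel
  · decide +kernel

theorem goodB : Good bigB blkB := by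
  unfold Good
  constructor
  · decide +kernel
  · decide +kernel

theorem enc_one : enc 1 = idc := by decide +kernel

/-- an element of the stabiliser of the block system that fixes `0` and `1` is trivial or moves at
least 8 points -/
theorem fix_two {big : ℕ} {blk : ℕ → List (List ℕ)} (hg : Good big blk)
    (hs : search (consBlk big blk) leafBlk 9 2 16 [2, 3, 4, 5, 6, 7, 8, 9, 10] = true)
    {σ : Equiv.Perm (Fin 11)} (hσ : σ ∈ stab big) (h0 : σ 0 = 0) (h1 : σ 1 = 1) :
    σ = 1 ∨ 8 ≤ σ.support.card := by
  have hpre : pre σ 2 = 16 := by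
    have e0 : ext σ 0 = 0 := by
      have := ext_fin σ 0
      rw [h0] at this
      exact this
    have e1 : ext σ 1 = 1 := by
      have := ext_fin σ 1
      rw [h1] at this
      exact this
    rw [pre_succ, pre_succ, e0, e1]
    rfl
  have hmem : ∀ j, 2 ≤ j → j < 11 → ext σ j ∈ [2, 3, 4, 5, 6, 7, 8, 9, 10] := by
    intro j hj hj'
    have h2 := ext_lt σ j
    have h3 : ext σ j ≠ 0 := by
      intro h
      have e0 : ext σ 0 = 0 := by
        have := ext_fin σ 0
        rw [h0] at this
        exact this
      have := ext_injOn σ hj' (by norm_num) (h.trans e0.symm)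
      omega
    have h4 : ext σ j ≠ 1 := by
      intro h
      have e1 : ext σ 1 = 1 := by
        have := ext_fin σ 1
        rw [h1] at this
        exact this
      have := ext_injOn σ hj' (by norm_num) (h.trans e1.symm)
      omega
    interval_cases h : ext σ j <;> simp_all
  have h5 := search_sound σ 9 2 _ rfl (by rw [hpre]; exact hs) hmem
    (fun j _ hj => consBlk_of_mem hg hσ hj)
  unfold leafBlk at h5
  rw [Bool.or_eq_true] at h5
  rcases h5 with h5 | h5
  · left
    apply enc_injective
    rw [enc_one]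
    exact Nat.eq_of_beq_eq_true h5
  · right
    rw [mvd_enc] at h5
    exact Nat.le_of_ble_eq_true h5

end Cfsg.Agent.PermutationGroups.Deg11Blocks
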