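import Cfsg.Agent.PermutationGroups.Code11

/-!
Kernel computations for transitive groups of degree 11 (helper394, for S0679).
-/

set_option autoImplicit false

namespace Cfsg.Agent.PermutationGroups.Deg11Comp

open Cfsg.Agent.PermutationGroups.Code11

/-- code of `x ↦ 3 ^ j * x + i` -/
def nw (i j : ℕ) : ℕ :=
  hor (fun x => Nat.mod (Nat.add (Nat.mul (Nat.pow 3 j) x) i) 11)

/-- evaluation of the word `n₀ t n₁ t ... t b` -/
def ev (t b : ℕ) : List (ℕ × ℕ) → ℕ
  | [] => b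
  | n :: w => comp (nw n.1 n.2) (comp t (ev t b w))

/-- code of the identity -/
def idc : ℕ := 11649936536080
/-- code of the first involution -/
def s1c : ℕ := 2788329552400
/-- code of the second involution -/
def s2c : ℕ := 2578718083600

/-- words whose 280th power should be a 3-cycle -/
def words3 : List (List (ℕ × ℕ)) :=
  [[(3, 0), (8, 0)], [(1, 0), (10, 0)], [(4, 0), (7, 0)], [(3, 1), (10, 4)], [(1, 1), (6, 3)],
  [(6, 3), (3, 2), (1, 0)], [(2, 0), (9, 0)], [(3, 1), (10, 2)], [(0, 2), (1, 4)], [(1, 3), (7,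
  2)], [(0, 1), (7, 3)], [(0, 1)]]

/-- words giving the first involution; the last letter is the base -/
def wordsA : List (List (ℕ × ℕ) × (ℕ × ℕ)) :=
  [([(10, 4), (1, 3)], (5, 4)), ([(5, 2), (8, 1)], (10, 4)), ([(0, 1), (1, 4)], (5, 4)), ([(9, 4), (3, 3)], (1, 3)), ([(0, 0), (1, 3)], (6, 3)), ([(0, 4), (8, 1)], (1, 3)), ([(10, 0), (3, 4)], (9, 3)), ([(3, 0), (1, 3)], (10, 1)), ([(6, 4), (9, 0)], (5, 0))]

/-- words giving the second involution; the last letter is the base -/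
def wordsB : List (List (ℕ × ℕ) × (ℕ × ℕ)) :=
  [([(8, 2), (4, 2)], (7, 2)), ([(4, 0), (3, 1)], (4, 0)), ([(3, 2), (2, 3)], (1, 1)), ([(5, 3), (1, 2)], (3, 4)), ([(3, 4), (2, 3)], (7, 2)), ([(10, 1), (4, 2)], (0, 2)), ([(4, 0), (10, 4)], (2, 3)), ([(0, 2), (6, 3)], (1, 0)), ([(2, 0), (6, 1)], (6, 0))]

/-- bit mask of the masks of the 66 blocks of the first system -/
def bigA : ℕ :=
  379884580723156566939868934025962173464847168265751997528520098095819259523028685050002875085385681628806541222652339971441686039926183916582278486503487092608905104582034908213613355469033079724432082714501299821915973539996637993738144761946998651706755874489542476028175018360241505040210631255263407595348446584885199125844006383075321770027812327074653871075126211569324941927413771918201423808903893795726091376683498404923699612077331370718111762319083143977999420722932423301046417660680875516503298557681799139786646703339324259274359879532323060947259412130122350723072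
/-- bit mask of the masks of the 66 blocks of the second system -/
def bigB : ℕ :=
  407897962615157369808412540097700428080810443263081881438134224549119390991522453383380077145222805019721548102915799691521112354128149385264752155021921507060398165806210129492840686904531177395399284273674406172434825739884266588672378851585429343624565909442399064152445080475245150413979774881013742687947546437058472533023561303256235776467660165582121738441570784468580419557227942000611688482723175707305917750173544617861225060307807228453983135316125611945770233834377347873126408857119190886559998166488406890608111543260694684215319973458352854387648751419956070297818022019072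

/-- blocks of the first system with maximum `k`, without `k` -/
def blkA : ℕ → List (List ℕ)
  | 0 => []
  | 1 => []
  | 2 => []
  | 3 => []
  | 4 => []
  | 5 => [[0, 1, 2, 3]]
  | 6 => [[0, 1, 4, 5], [1, 2, 3, 4]]
  | 7 => [[0, 1, 3, 4], [0, 2, 4, 6], [0, 3, 5, 6], [1, 2, 5, 6], [2, 3, 4, 5]]
  | 8 => [[0, 1, 2, 7], [0, 1, 3, 6], [0, 2, 3, 4], [0, 2, 5, 6], [0, 4, 5, 7], [1, 2, 4, 5], [1, 3, 5, 7], [1, 4, 6, 7], [2, 3, 6, 7], [3, 4, 5, 6]]
  | 9 => [[0, 1, 2, 6], [0, 1, 4, 8], [0, 1, 5, 7], [0, 2, 3, 7], [0, 2, 4, 5], [0, 3, 4, 6], [0, 3, 5, 8], [0, 6, 7, 8], [1, 2, 3, 8], [1, 2, 4, 7], [1, 3, 4, 5], [1, 3, 6, 7], [1, 5, 6, 8], [2, 3, 5, 6], [2, 4, 6, 8], [2, 5, 7, 8], [3, 4, 7, 8], [4, 5, 6, 7]]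
  | 10 => [[0, 1, 2, 4], [0, 1, 3, 9], [0, 1, 5, 8], [0, 1, 6, 7], [0, 2, 3, 6], [0, 2, 5, 7], [0, 2, 8, 9], [0, 3, 4, 5], [0, 3, 7, 8], [0, 4, 6, 8], [0, 4, 7, 9], [0, 5, 6, 9], [1, 2, 3, 7], [1, 2, 5, 9], [1, 2, 6, 8], [1, 3, 4, 8], [1, 3, 5, 6], [1, 4, 5, 7], [1, 4, 6, 9], [1, 7, 8, 9], [2, 3, 4, 9], [2, 3, 5, 8], [2, 4, 5, 6], [2, 4, 7, 8], [2, 6, 7, 9], [3, 4, 6, 7], [3, 5, 7, 9], [3, 6, 8, 9], [4, 5, 8, 9], [5, 6, 7, 8]]
  | _ => []

/-- blocks of the second system with maximum `k`, without `k` -/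
def blkB : ℕ → List (List ℕ)
  | 0 => []
  | 1 => []
  | 2 => []
  | 3 => []
  | 4 => []
  | 5 => [[0, 2, 3, 4]]
  | 6 => [[0, 1, 2, 5], [1, 3, 4, 5]]
  | 7 => [[0, 1, 2, 4], [0, 1, 3, 5], [0, 3, 4, 6], [1, 2, 3, 6], [2, 4, 5, 6]]
  | 8 => [[0, 1, 3, 4], [0, 1, 6, 7], [0, 2, 3, 6], [0, 2, 5, 7], [0, 4, 5, 6], [1, 2, 3, 5], [1, 2, 4, 6], [1, 4, 5, 7], [2, 3, 4, 7], [3, 5, 6, 7]]
  | 9 => [[0, 1, 2, 3], [0, 1, 4, 6], [0, 1, 5, 8], [0, 2, 4, 8], [0, 2, 6, 7], [0, 3, 5, 6], [0, 3, 7, 8], [0, 4, 5, 7], [1, 2, 4, 5], [1, 2, 7, 8], [1, 3, 4, 7], [1, 3, 6, 8], [1, 5, 6, 7], [2, 3, 4, 6], [2, 3, 5, 7], [2, 5, 6, 8], [3, 4, 5, 8], [4, 6, 7, 8]]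
  | 10 => [[0, 1, 2, 8], [0, 1, 3, 6], [0, 1, 4, 5], [0, 1, 7, 9], [0, 2, 3, 7], [0, 2, 4, 6], [0, 2, 5, 9], [0, 3, 4, 9], [0, 3, 5, 8], [0, 4, 7, 8], [0, 5, 6, 7], [0, 6, 8, 9], [1, 2, 3, 4], [1, 2, 5, 7], [1, 2, 6, 9], [1, 3, 5, 9], [1, 3, 7, 8], [1, 4, 6, 7], [1, 4, 8, 9], [1, 5, 6, 8], [2, 3, 5, 6], [2, 3, 8, 9], [2, 4, 5, 8], [2, 4, 7, 9], [2, 6, 7, 8], [3, 4, 5, 7], [3, 4, 6, 8], [3, 6, 7, 9], [4, 5, 6, 9], [5, 7, 8, 9]]
  | _ => []

/-- bit test -/
def tb (big m : ℕ) : Bool := Nat.beq (Nat.land (Nat.shiftRight big m) 1) 1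

/-- mask of the image of a list of points -/
def msk (c : ℕ) : List ℕ → ℕ
  | [] => 0
  | x :: l => Nat.add (Nat.pow 2 (dig c x)) (msk c l)

/-- consistency with a block system -/
def consBlk (big : ℕ) (blk : ℕ → List (List ℕ)) (c k y : ℕ) : Bool :=
  lall (fun b => tb big (Nat.add (Nat.pow 2 y) (msk c b))) (blk k)

/-- preservation of a block system -/
def pres (big : ℕ) (blk : ℕ → List (List ℕ)) (c : ℕ) : Bool :=
  allBelow (fun k => consBlk big blk c k (dig c k)) 11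

/-- leaf test for involutions -/
def leafInv (c : ℕ) : Bool :=
  or (not (Nat.beq (Nat.mod (mvd c 11) 4) 0)) (
  or (Nat.beq c idc) (
  or (lany (fun w => Nat.beq (mvd (p280 (ev c idc w)) 11) 3) words3) (
  or (and (pres bigA blkA c) (lany (fun w => Nat.beq (ev c (nw w.2.1 w.2.2) w.1) s1c) wordsA))
     (and (pres bigB blkB c) (lany (fun w => Nat.beq (ev c (nw w.2.1 w.2.2) w.1) s2c) wordsB)))))

theorem search_inv : enumInv leafInv 9 [2, 3, 4, 5, 6, 7, 8, 9, 10] 16 = true := by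
  decide +kernel

/-- leaf test for the block systems -/
def leafBlk (c : ℕ) : Bool := or (Nat.beq c idc) (Nat.ble 8 (mvd c 11))

theorem search_blkA : search (consBlk bigA blkA) leafBlk 9 2 16 [2, 3, 4, 5, 6, 7, 8, 9, 10] = true := by
  decide +kernel

theorem search_blkB : search (consBlk bigB blkB) leafBlk 9 2 16 [2, 3, 4, 5, 6, 7, 8, 9, 10] = true := by
  decide +kernel

end Cfsg.Agent.PermutationGroups.Deg11Comp
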