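import Cfsg.Agent.PermutationGroups.Deg11Main
import Cfsg.Agent.SmallSimple.PSL2Recog

/-!
Insoluble transitive groups of degree 11 (helper394, for S0679).
-/

set_option autoImplicit false

namespace Cfsg.Agent.PermutationGroups.Deg11Final

open Cfsg.Agent.PermutationGroups.Code11 Cfsg.Agent.PermutationGroups.Deg11Comp
  Cfsg.Agent.PermutationGroups.Deg11Blocks Cfsg.Agent.PermutationGroups.Deg11Group
  Cfsg.Agent.PermutationGroups.Deg11Main
open Equiv Equiv.Perm MulAction

/-- the even part of an insoluble group is insoluble -/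
theorem even_part_not_solvable {G : Subgroup (Perm (Fin 11))} (hG : ¬ Group.IsSolvable G) :
    ¬ Group.IsSolvable (G ⊓ alternatingGroup (Fin 11) : Subgroup (Perm (Fin 11))) := by
  intro h
  apply hG
  refine Group.isSolvable_of_ker_le_range (Subgroup.inclusion (inf_le_left :
    G ⊓ alternatingGroup (Fin 11) ≤ G)) ((sign (α := Fin 11)).comp G.subtype) ?_
  intro x hx
  rw [MonoidHom.mem_ker] at hx
  exact ⟨⟨x, x.2, mem_alternatingGroup.2 hx⟩, rfl⟩

/-- Burnside transfer: in an insoluble group of even permutations containing `aP`, also `mP`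
is contained. -/
theorem mP_mem {G : Subgroup (Perm (Fin 11))} (ha : aP ∈ G) (hG : ¬ Group.IsSolvable G)
    (hev : G ≤ alternatingGroup (Fin 11)) : mP ∈ G := by
  obtain ⟨P, hP⟩ := exists_sylow ha
  have hcyc : IsCyclic P := isCyclic_of_prime_card (p := 11) (sylow_card ha P)
  by_cases hle : Subgroup.normalizer ((P : Subgroup G) : Set G) ≤
      Subgroup.centralizer ((P : Subgroup G) : Set G)
  · exfalso
    have h3 := MonoidHom.ker_transferSylow_isComplement' P hle
    have h4 := MonoidHom.not_dvd_card_ker_transferSylow P hle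
    by_cases hb : (MonoidHom.transferSylow P hle).ker = ⊥
    · rw [hb] at h3
      have h5 : (P : Subgroup G) = ⊤ := Subgroup.isComplement'_bot_left.mp h3
      apply hG
      have : IsCyclic (⊤ : Subgroup G) := h5 ▸ hcyc
      let _ := IsCyclic.commGroup (α := (⊤ : Subgroup G))
      exact Group.isSolvable_of_surjective (f := (Subgroup.topEquiv (G := G)).toMonoidHom)
        (Subgroup.topEquiv (G := G)).surjective
    · have := isPretransitive_normal ha _ hb
      exact h4 eleven_dvd
  · rw [SetLike.not_le_iff_exists] at hle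
    obtain ⟨g, hg, hgc⟩ := hle
    obtain ⟨k, c, hkc⟩ := affine_of_conj (conj_mem_of_normalizer ha hP hg)
    rcases affine_cases hkc with ⟨i, j, hij⟩ | ⟨i, j, hij⟩
    · have hmj : mP ^ j ∈ G := by
        have : mP ^ j = (aP ^ i)⁻¹ * g := by rw [hij]; group
        rw [this]
        exact G.mul_mem (G.inv_mem (G.pow_mem ha _)) g.2
      have hj : j % 5 ≠ 0 := by
        intro hj
        apply hgc
        have h5 : mP ^ j = 1 := by rw [← pow_mod_five, hj, pow_zero]
        rw [h5, mul_one] at hij
        have hgP : g ∈ (P : Subgroup G) := by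
          rw [hP, mem_zpowers_mk, hij]
          exact Subgroup.pow_mem _ (Subgroup.mem_zpowers _) _
        let _ := IsCyclic.commGroup (α := P)
        rw [Subgroup.mem_centralizer_iff]
        intro h hh
        exact congrArg Subtype.val (mul_comm (⟨h, hh⟩ : P) ⟨g, hgP⟩)
      have key : ∀ r < 5, r ≠ 0 → ∃ l < 5, (r * l) % 5 = 1 := by decide
      obtain ⟨l, _, hl⟩ := key (j % 5) (Nat.mod_lt _ (by norm_num)) hj
      have : mP = (mP ^ j) ^ l := by
        rw [← pow_mod_five j, ← pow_mul, ← pow_mod_five, hl, pow_one]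
      rw [this]
      exact G.pow_mem hmj _
    · exfalso
      have h1 := mem_alternatingGroup.1 (hev g.2)
      rw [hij, map_mul, map_mul, map_pow, map_pow, sign_aP, sign_mP, sign_negP] at h1
      simp at h1

theorem exists_involution {G : Subgroup (Perm (Fin 11))} (ha : aP ∈ G)
    (hG : ¬ Group.IsSolvable G) : ∃ t ∈ G, t ≠ 1 ∧ t * t = 1 := by
  have := isPretransitive ha
  rcases PrimeDegree.isSolvable_or_two_transitive (α := Fin 11)
    (by rw [Fintype.card_fin]; norm_num) G with h | h
  · exact absurd h hG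
  · have h2 : 2 ∣ Nat.card G := by
      have h1 := @index_stabilizer_of_transitive G (Fin 2 ↪ Fin 11) _ _
        (Function.Embedding.embFinTwo (show (0 : Fin 11) ≠ 1 by decide)) h
      rw [Nat.card_eq_fintype_card, Fintype.card_embedding_eq, Fintype.card_fin,
        Fintype.card_fin] at h1
      have h3 : Nat.descFactorial 11 2 = 110 := by decide
      rw [h3] at h1
      have h4 : 110 ∣ Nat.card G := by
        rw [← h1]; exact Subgroup.index_dvd_card _
      exact (by norm_num : 2 ∣ 110).trans h4
    have : Fact (Nat.Prime 2) := ⟨Nat.prime_two⟩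
    obtain ⟨t, ht⟩ := exists_prime_orderOf_dvd_card' 2 h2
    refine ⟨t, t.2, ?_, ?_⟩
    · intro h
      have : t = 1 := Subtype.ext h
      rw [this, orderOf_one] at ht
      exact absurd ht (by norm_num)
    · have := pow_orderOf_eq_one t
      rw [ht, pow_two] at this
      exact congrArg Subtype.val this

/-- structure of insoluble groups of degree 11 containing `aP`, not containing the alternating
group -/
theorem main_structure {G : Subgroup (Perm (Fin 11))} (ha : aP ∈ G) (hG : ¬ Group.IsSolvable G)
    (hA : ¬ alternatingGroup (Fin 11) ≤ G) :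
    mP ∈ G ∧ negP ∉ G ∧ ∀ g ∈ G, g.support.card ≤ 7 → g = 1 := by
  set H : Subgroup (Perm (Fin 11)) := G ⊓ alternatingGroup (Fin 11) with hH
  have hHG : H ≤ G := inf_le_left
  have haH : aP ∈ H := Subgroup.mem_inf.2 ⟨ha, mem_alternatingGroup.2 sign_aP⟩
  have hHs := even_part_not_solvable hG
  have hmH : mP ∈ H := mP_mem haH hHs inf_le_right
  obtain ⟨t, ht, ht1, ht2⟩ := exists_involution haH hHs
  have hts : sign t = 1 := mem_alternatingGroup.1 (Subgroup.mem_inf.1 ht).2
  exact ⟨hHG hmH, structure_of_involution ha (hHG hmH) hA (hHG ht) ht1 ht2 hts⟩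

theorem card_support_le_of_stabilizer {G : Subgroup (Perm (Fin 11))} {x : Fin 4 ↪ Fin 11} {g : G}
    (hg : g ∈ stabilizer G x) : (g : Perm (Fin 11)).support.card ≤ 7 := by
  have h1 : (Finset.univ.map x) ⊆ (g : Perm (Fin 11)).supportᶜ := by
    intro y hy
    rw [Finset.mem_map] at hy
    obtain ⟨i, _, rfl⟩ := hy
    rw [Finset.mem_compl, Perm.notMem_support]
    have := congrArg (fun z : Fin 4 ↪ Fin 11 => z i) (mem_stabilizer_iff.1 hg)
    exact this
  have h2 := Finset.card_le_card h1
  rw [Finset.card_map, Finset.card_univ, Fintype.card_fin, Finset.card_compl,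
    Fintype.card_fin] at h2
  have h3 : (g : Perm (Fin 11)).support.card ≤ 11 := by
    have := Finset.card_le_univ (g : Perm (Fin 11)).support
    simpa using this
  omega

theorem stabilizer_eq_bot {G : Subgroup (Perm (Fin 11))}
    (h : ∀ g ∈ G, g.support.card ≤ 7 → g = 1) (x : Fin 4 ↪ Fin 11) : stabilizer G x = ⊥ := by
  rw [eq_bot_iff]
  intro g hg
  rw [Subgroup.mem_bot]
  exact Subtype.ext (h g g.2 (card_support_le_of_stabilizer hg))

theorem card_dvd_7920 {G : Subgroup (Perm (Fin 11))}
    (h : ∀ x : Fin 4 ↪ Fin 11, stabilizer G x = ⊥) : Nat.card G ∣ 7920 := by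
  classical
  have h1 := MulAction.selfEquivSigmaOrbitsQuotientStabilizer G (Fin 4 ↪ Fin 11)
  have h2 := Nat.card_congr h1
  rw [Nat.card_sigma] at h2
  have h3 : ∀ ω : Quotient (orbitRel G (Fin 4 ↪ Fin 11)),
      Nat.card (G ⧸ stabilizer G ω.out) = Nat.card G := by
    intro ω
    have : Nat.card (G ⧸ stabilizer G ω.out) = (stabilizer G ω.out).index := rfl
    rw [this, h, Subgroup.index_bot]
  rw [Nat.card_eq_fintype_card, Fintype.card_embedding_eq, Fintype.card_fin,
    Fintype.card_fin] at h2
  have h4 : Nat.descFactorial 11 4 = 7920 := by decide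
  rw [h4] at h2
  rw [h2]
  refine Finset.dvd_sum fun ω _ => ?_
  rw [h3]

/-- the theorem for subgroups of `Perm (Fin 11)` containing `aP` -/
theorem main {G : Subgroup (Perm (Fin 11))} (ha : aP ∈ G) (hG : ¬ Group.IsSolvable G)
    (hA : ¬ alternatingGroup (Fin 11) ≤ G) :
    (IsMultiplyPretransitive G (Fin 11) 4 ∧ ∀ x : Fin 4 ↪ Fin 11, stabilizer G x = ⊥) ∨
      Nonempty (G ≃* Matrix.ProjectiveSpecialLinearGroup (Fin 2) (ZMod 11)) := by
  obtain ⟨hm, hneg, hfix⟩ := main_structure ha hG hA
  have hst := stabilizer_eq_bot hfix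
  have hdvd := card_dvd_7920 hst
  obtain ⟨P, hP⟩ := exists_sylow ha
  have hN := card_normalizer ha hm hneg hP
  have hmod : Nat.card (Sylow 11 G) % 11 = 1 := card_sylow_modEq_one 11 G
  have hidx := P.card_eq_index_normalizer
  have hcard : Nat.card G = Nat.card (Sylow 11 G) * (11 * 5) := by
    rw [hidx, ← hN, mul_comm]
    exact (Subgroup.card_mul_index _).symm
  set n := Nat.card (Sylow 11 G) with hn
  have hn144 : n ∣ 144 := by
    have : n * 55 ∣ 144 * 55 := by
      rw [show 144 * 55 = 7920 by norm_num, ← show Nat.card G = n * 55 by rw [hcard]]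
      exact hdvd
    exact Nat.dvd_of_mul_dvd_mul_right (by norm_num) this
  have hcases : ∀ n ∈ Nat.divisors 144, n % 11 = 1 → n = 1 ∨ n = 12 ∨ n = 144 := by
    decide +kernel
  have htr := isPretransitive ha
  rcases hcases n (Nat.mem_divisors.2 ⟨hn144, by norm_num⟩) hmod with h | h | h
  · exfalso
    apply hG
    rw [h] at hcard
    have : IsZGroup G := IsZGroup.of_squarefree (by
      rw [hcard]
      decide +kernel)
    infer_instance
  · right
    rw [h] at hcard
    have hsimple : IsSimpleGroup G := by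
      refine SporadicA.SimpleCrit.isSimpleGroup_of_sylow_prime 11 5 (by norm_num) P
        (sylow_card ha P) hN (by rw [hcard]; norm_num) ?_
      intro N hNn hNb
      have := isPretransitive_normal ha N hNb
      exact eleven_dvd
    exact SmallSimple.PSL2Recog.psl2_of_simple_card (p := 11) (by norm_num)
      (by rw [hcard]) (by rw [← hn, h]) (ZMod.card 11)
  · left
    rw [h] at hcard
    refine ⟨?_, hst⟩
    have hx : Nonempty (Fin 4 ↪ Fin 11) := ⟨Fin.castLEEmb (by norm_num)⟩
    obtain ⟨x⟩ := hx
    refine (isPretransitive_iff_orbit_eq_univ x).2 ?_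
    refine Set.eq_of_subset_of_ncard_le (Set.subset_univ _) ?_ (Set.toFinite _)
    rw [Set.ncard_univ, ← index_stabilizer G x, hst x, Subgroup.index_bot, hcard,
      Nat.card_eq_fintype_card, Fintype.card_embedding_eq, Fintype.card_fin, Fintype.card_fin]
    decide

end Cfsg.Agent.PermutationGroups.Deg11Final
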