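import Cfsg.Agent.PermutationGroups.Deg11Blocks
import Cfsg.Agent.SporadicA.SimpleCrit

/-!
Subgroups of `Perm (Fin 11)` containing `x ↦ x + 1` and `x ↦ 3 x` (helper394, for S0679).
-/

set_option autoImplicit false

namespace Cfsg.Agent.PermutationGroups.Deg11Group

open Cfsg.Agent.PermutationGroups.Code11 Cfsg.Agent.PermutationGroups.Deg11Comp
  Cfsg.Agent.PermutationGroups.Deg11Blocks
open Equiv Equiv.Perm MulAction

/-- `x ↦ x + 1` -/
def aP : Perm (Fin 11) where
  toFun x := x + 1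
  invFun x := x + 10
  left_inv := by intro x; revert x; decide
  right_inv := by intro x; revert x; decide

/-- `x ↦ 3 x` -/
def mP : Perm (Fin 11) where
  toFun x := 3 * x
  invFun x := 4 * x
  left_inv := by intro x; revert x; decide
  right_inv := by intro x; revert x; decide

/-- `x ↦ - x` -/
def negP : Perm (Fin 11) where
  toFun x := 10 * x
  invFun x := 10 * x
  left_inv := by intro x; revert x; decide
  right_inv := by intro x; revert x; decide

/-- the first involution -/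
def s1P : Perm (Fin 11) := swap 2 10 * swap 3 7 * swap 5 6 * swap 8 9
/-- the second involution -/
def s2P : Perm (Fin 11) := swap 2 10 * swap 3 4 * swap 5 9 * swap 6 7

theorem enc_s1P : enc s1P = s1c := by decide +kernel
theorem enc_s2P : enc s2P = s2c := by decide +kernel

theorem aP_pow (i : ℕ) (x : Fin 11) : (((aP ^ i) x : Fin 11) : ℕ) = (x + i) % 11 := by
  induction i with
  | zero => simp [Nat.mod_eq_of_lt x.2]
  | succ i ih =>
    rw [pow_succ', Perm.mul_apply]
    change (((aP ^ i) x + 1 : Fin 11) : ℕ) = _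
    rw [Fin.val_add, ih]
    simp only [Fin.val_one]
    omega

theorem mP_pow (j : ℕ) (x : Fin 11) : (((mP ^ j) x : Fin 11) : ℕ) = (3 ^ j * x) % 11 := by
  induction j with
  | zero => simp [Nat.mod_eq_of_lt x.2]
  | succ j ih =>
    rw [pow_succ', Perm.mul_apply]
    change ((3 * (mP ^ j) x : Fin 11) : ℕ) = _
    rw [Fin.val_mul, ih]
    have : ((3 : Fin 11) : ℕ) = 3 := rfl
    rw [this, pow_succ', mul_assoc, Nat.mul_mod_mod]

theorem nw_enc (i j : ℕ) : nw i j = enc (aP ^ i * mP ^ j) := by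
  rw [nw, hor_eq_mk]
  change _ = mk (ext (aP ^ i * mP ^ j)) 11
  apply mk_congr
  intro x hx
  have h1 := ext_fin (aP ^ i * mP ^ j) ⟨x, hx⟩
  simp only at h1
  rw [h1, Perm.mul_apply, aP_pow, mP_pow]
  change (3 ^ j * x + i) % 11 = _
  rw [Nat.mod_add_mod]

theorem ev_enc {G : Subgroup (Perm (Fin 11))} (ha : aP ∈ G) (hm : mP ∈ G) {t b : Perm (Fin 11)}
    (ht : t ∈ G) (hb : b ∈ G) (w : List (ℕ × ℕ)) : ∃ g ∈ G, ev (enc t) (enc b) w = enc g := by
  induction w with
  | nil => exact ⟨b, hb, rfl⟩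
  | cons n w ih =>
    obtain ⟨g, hg, he⟩ := ih
    refine ⟨aP ^ n.1 * mP ^ n.2 * (t * g), ?_, ?_⟩
    · exact G.mul_mem (G.mul_mem (G.pow_mem ha _) (G.pow_mem hm _)) (G.mul_mem ht hg)
    · change comp (nw n.1 n.2) (comp (enc t) (ev (enc t) (enc b) w)) = _
      rw [he, nw_enc, comp_enc, comp_enc]

theorem isPretransitive {G : Subgroup (Perm (Fin 11))} (ha : aP ∈ G) :
    IsPretransitive G (Fin 11) := by
  have h0 : ∀ x : Fin 11, ∃ g : G, g • (0 : Fin 11) = x := by
    intro x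
    refine ⟨⟨aP ^ (x : ℕ), G.pow_mem ha _⟩, ?_⟩
    apply Fin.ext
    change (((aP ^ (x : ℕ)) 0 : Fin 11) : ℕ) = x
    rw [aP_pow]
    have := x.2
    simp only [Fin.val_zero]
    omega
  constructor
  intro x y
  obtain ⟨g, rfl⟩ := h0 x
  obtain ⟨h, rfl⟩ := h0 y
  exact ⟨h * g⁻¹, by rw [mul_smul, inv_smul_smul]⟩

theorem isPreprimitive {G : Subgroup (Perm (Fin 11))} (ha : aP ∈ G) :
    IsPreprimitive G (Fin 11) := by
  have := isPretransitive ha
  exact IsPreprimitive.of_prime_card (by rw [Nat.card_eq_fintype_card, Fintype.card_fin]; norm_num)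

theorem alt_le {G : Subgroup (Perm (Fin 11))} (ha : aP ∈ G) {g : Perm (Fin 11)} (hg : g ∈ G)
    (h : mvd (enc g) 11 = 3) : alternatingGroup (Fin 11) ≤ G := by
  rw [mvd_enc, card_support_eq_three_iff] at h
  exact alternatingGroup_le_of_isPreprimitive_of_isThreeCycle_mem (isPreprimitive ha) h hg

theorem leaf_cases {G : Subgroup (Perm (Fin 11))} (ha : aP ∈ G) (hm : mP ∈ G)
    (hA : ¬ alternatingGroup (Fin 11) ≤ G) {t : Perm (Fin 11)} (ht : t ∈ G) (ht1 : t ≠ 1)
    (h4 : t.support.card % 4 = 0) (hl : leafInv (enc t) = true) :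
    (t ∈ stab bigA ∧ s1P ∈ G) ∨ (t ∈ stab bigB ∧ s2P ∈ G) := by
  unfold leafInv at hl
  rw [Bool.or_eq_true, Bool.or_eq_true, Bool.or_eq_true, Bool.or_eq_true] at hl
  rcases hl with hl | hl | hl | hl | hl
  · exfalso
    rw [mvd_enc] at hl
    have h5 : Nat.mod t.support.card 4 = 0 := h4
    rw [h5] at hl
    simp at hl
  · exfalso
    apply ht1
    apply enc_injective
    rw [enc_one]
    exact Nat.eq_of_beq_eq_true hl
  · exfalso
    rw [lany_iff] at hl
    obtain ⟨w, _, hw⟩ := hl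
    have h5 := Nat.eq_of_beq_eq_true hw
    obtain ⟨g, hg, he⟩ := ev_enc ha hm ht G.one_mem w
    rw [enc_one] at he
    rw [he, p280_enc] at h5
    exact hA (alt_le ha (G.pow_mem hg 280) h5)
  · left
    rw [Bool.and_eq_true, lany_iff] at hl
    obtain ⟨h5, w, _, hw⟩ := hl
    refine ⟨mem_stab_of_pres goodA h5, ?_⟩
    have h6 := Nat.eq_of_beq_eq_true hw
    rw [nw_enc] at h6
    obtain ⟨g, hg, he⟩ := ev_enc ha hm ht
      (G.mul_mem (G.pow_mem ha w.2.1) (G.pow_mem hm w.2.2)) w.1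
    rw [he, ← enc_s1P] at h6
    rw [← enc_injective h6]
    exact hg
  · right
    rw [Bool.and_eq_true, lany_iff] at hl
    obtain ⟨h5, w, _, hw⟩ := hl
    refine ⟨mem_stab_of_pres goodB h5, ?_⟩
    have h6 := Nat.eq_of_beq_eq_true hw
    rw [nw_enc] at h6
    obtain ⟨g, hg, he⟩ := ev_enc ha hm ht
      (G.mul_mem (G.pow_mem ha w.2.1) (G.pow_mem hm w.2.2)) w.1
    rw [he, ← enc_s2P] at h6
    rw [← enc_injective h6]
    exact hg

/-- both involutions together generate a 3-cycle -/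
theorem not_both {G : Subgroup (Perm (Fin 11))} (ha : aP ∈ G) (hm : mP ∈ G)
    (hA : ¬ alternatingGroup (Fin 11) ≤ G) (h1 : s1P ∈ G) (h2 : s2P ∈ G) : False := by
  apply hA
  have h3 : s1P * (s2P * mP ^ 4) ∈ G := G.mul_mem h1 (G.mul_mem h2 (G.pow_mem hm _))
  refine alt_le ha (G.pow_mem h3 280) ?_
  have h4 : enc (mP ^ 4) = nw 0 4 := by rw [nw_enc, pow_zero, one_mul]
  rw [← p280_enc, ← comp_enc, ← comp_enc, h4, enc_s1P, enc_s2P]
  decide +kernel

theorem neg_notMem {G : Subgroup (Perm (Fin 11))} (ha : aP ∈ G) (hm : mP ∈ G)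
    (hA : ¬ alternatingGroup (Fin 11) ≤ G) (h : s1P ∈ G ∨ s2P ∈ G) : negP ∉ G := by
  intro hn
  have key : aP * (negP * s1P * negP) * aP⁻¹ = s2P := by decide +kernel
  have key2 : negP * (aP⁻¹ * s2P * aP) * negP = s1P := by decide +kernel
  rcases h with h | h
  · refine not_both ha hm hA h ?_
    rw [← key]
    exact G.mul_mem (G.mul_mem ha (G.mul_mem (G.mul_mem hn h) hn)) (G.inv_mem ha)
  · refine not_both ha hm hA ?_ h
    rw [← key2]
    exact G.mul_mem (G.mul_mem hn (G.mul_mem (G.mul_mem (G.inv_mem ha) h) ha)) hn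

theorem aP_mem_stabA : aP ∈ stab bigA := by
  apply mem_stab_of_pres goodA
  have : enc aP = nw 1 0 := by rw [nw_enc, pow_zero, mul_one, pow_one]
  rw [this]; decide +kernel
theorem mP_mem_stabA : mP ∈ stab bigA := by
  apply mem_stab_of_pres goodA
  have : enc mP = nw 0 1 := by rw [nw_enc, pow_zero, one_mul, pow_one]
  rw [this]; decide +kernel
theorem aP_mem_stabB : aP ∈ stab bigB := by
  apply mem_stab_of_pres goodB
  have : enc aP = nw 1 0 := by rw [nw_enc, pow_zero, mul_one, pow_one]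
  rw [this]; decide +kernel
theorem mP_mem_stabB : mP ∈ stab bigB := by
  apply mem_stab_of_pres goodB
  have : enc mP = nw 0 1 := by rw [nw_enc, pow_zero, one_mul, pow_one]
  rw [this]; decide +kernel

/-- even involutions of degree 11 move 4 or 8 points -/
theorem card_support_involution {t : Perm (Fin 11)} (h1 : t ≠ 1) (h2 : t * t = 1)
    (hs : sign t = 1) : t.support.card % 4 = 0 ∧ t.support.card ≤ 8 := by
  have h3 : t ^ 2 = 1 := by rw [pow_two, h2]
  have h4 := cycleType_of_pow_prime_eq_one (p := 2) h3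
  set n := Multiset.card t.cycleType with hn
  have h5 : t.support.card = n * 2 := by
    rw [← sum_cycleType, h4, Multiset.sum_replicate, smul_eq_mul]
  have h6 : t.support.card ≤ 11 := by
    have := Finset.card_le_univ t.support
    simpa using this
  rw [sign_of_cycleType, sum_cycleType, h5, ← hn] at hs
  have h7 : Even (n * 2 + n) := by
    by_contra h
    rw [Nat.not_even_iff_odd] at h
    rw [h.neg_one_pow] at hs
    exact absurd hs (by decide)
  have h8 : Even n := by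
    rw [Nat.even_add] at h7
    exact h7.1 (even_two.mul_left n)
  obtain ⟨m, hm⟩ := h8
  omega

/-- the affine group of order 55 is transitive on unordered pairs -/
theorem exists_pair (u v : Fin 11) (h : u ≠ v) : ∃ i j : ℕ,
    ((mP ^ j * aP ^ i) u = 0 ∧ (mP ^ j * aP ^ i) v = 1) ∨
    ((mP ^ j * aP ^ i) u = 1 ∧ (mP ^ j * aP ^ i) v = 0) := by
  have key : ∀ u v : Fin 11, u ≠ v → ∃ i < 11, ∃ j < 5,
      ((3 ^ j * ((u.val + i) % 11)) % 11 = 0 ∧ (3 ^ j * ((v.val + i) % 11)) % 11 = 1) ∨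
      ((3 ^ j * ((u.val + i) % 11)) % 11 = 1 ∧ (3 ^ j * ((v.val + i) % 11)) % 11 = 0) := by
    decide +kernel
  obtain ⟨i, _, j, _, hij⟩ := key u v h
  refine ⟨i, j, ?_⟩
  have e : ∀ x : Fin 11, (((mP ^ j * aP ^ i) x : Fin 11) : ℕ) = (3 ^ j * ((x.val + i) % 11)) % 11 := by
    intro x
    rw [Perm.mul_apply, mP_pow, aP_pow]
  rcases hij with ⟨h1, h2⟩ | ⟨h1, h2⟩
  · left
    exact ⟨Fin.ext (by rw [e, h1]; rfl), Fin.ext (by rw [e, h2]; rfl)⟩
  · right
    exact ⟨Fin.ext (by rw [e, h1]; rfl), Fin.ext (by rw [e, h2]; rfl)⟩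

/-- two fixed points can be moved to `0` and `1` by conjugation with an element `n` of the group of
order 55 -/
theorem exists_conj_fix {t : Perm (Fin 11)} (h : t.support.card ≤ 9) :
    ∃ i j : ℕ, ((mP ^ j * aP ^ i) * t * (mP ^ j * aP ^ i)⁻¹) 0 = 0 ∧
      ((mP ^ j * aP ^ i) * t * (mP ^ j * aP ^ i)⁻¹) 1 = 1 := by
  have h1 : 1 < (t.supportᶜ).card := by
    rw [Finset.card_compl, Fintype.card_fin]; omega
  obtain ⟨u, hu, v, hv, huv⟩ := Finset.one_lt_card.1 h1
  rw [Finset.mem_compl, Perm.notMem_support] at hu hv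
  obtain ⟨i, j, hij⟩ := exists_pair u v huv
  refine ⟨i, j, ?_⟩
  set n := mP ^ j * aP ^ i with hn
  have key : ∀ x y : Fin 11, n x = y → t x = x → (n * t * n⁻¹) y = y := by
    intro x y hxy hx
    have h3 : n⁻¹ y = x := by rw [Perm.inv_eq_iff_eq, hxy]
    rw [Perm.mul_apply, Perm.mul_apply, h3, hx, hxy]
  rcases hij with ⟨h1, h2⟩ | ⟨h1, h2⟩
  · exact ⟨key u 0 h1 hu, key v 1 h2 hv⟩
  · exact ⟨key v 0 h2 hv, key u 1 h1 hu⟩

theorem sum9 (F : ℕ → ℕ) : ([2, 3, 4, 5, 6, 7, 8, 9, 10].map F).sum =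
    F 2 + F 3 + F 4 + F 5 + F 6 + F 7 + F 8 + F 9 + F 10 := by
  simp only [List.map_cons, List.map_nil, List.sum_cons, List.sum_nil]
  omega

theorem mk11 (f : ℕ → ℕ) : mk f 11 = 0 + f 0 * 16 ^ 0 + f 1 * 16 ^ 1 + f 2 * 16 ^ 2 +
    f 3 * 16 ^ 3 + f 4 * 16 ^ 4 + f 5 * 16 ^ 5 + f 6 * 16 ^ 6 + f 7 * 16 ^ 7 + f 8 * 16 ^ 8 +
    f 9 * 16 ^ 9 + f 10 * 16 ^ 10 := by
  simp only [mk_succ, mk_zero]

theorem enc_split (f : ℕ → ℕ) (e0 : f 0 = 0) (e1 : f 1 = 1) :
    16 + ([2, 3, 4, 5, 6, 7, 8, 9, 10].map (fun x => f x * 16 ^ x)).sum = mk f 11 := by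
  rw [sum9, mk11, e0, e1]
  ring

theorem involution_cases {G : Subgroup (Perm (Fin 11))} (ha : aP ∈ G) (hm : mP ∈ G)
    (hA : ¬ alternatingGroup (Fin 11) ≤ G) {t : Perm (Fin 11)} (ht : t ∈ G) (ht1 : t ≠ 1)
    (ht2 : t * t = 1) (hts : sign t = 1) :
    (t ∈ stab bigA ∧ s1P ∈ G) ∨ (t ∈ stab bigB ∧ s2P ∈ G) := by
  obtain ⟨hc, hc8⟩ := card_support_involution ht1 ht2 hts
  obtain ⟨i, j, h0, h1⟩ := exists_conj_fix (t := t) (by omega)
  set n := mP ^ j * aP ^ i with hn
  have hnG : n ∈ G := G.mul_mem (G.pow_mem hm _) (G.pow_mem ha _)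
  set s := n * t * n⁻¹ with hs
  have hsG : s ∈ G := G.mul_mem (G.mul_mem hnG ht) (G.inv_mem hnG)
  have hs1 : s ≠ 1 := by
    intro h
    apply ht1
    rw [hs, mul_inv_eq_one] at h
    exact mul_eq_left.1 h
  have hs2 : s * s = 1 := by
    rw [hs]
    calc n * t * n⁻¹ * (n * t * n⁻¹) = n * (t * t) * n⁻¹ := by group
      _ = 1 := by rw [ht2]; group
  have hsc : s.support.card = t.support.card := by
    rw [hs, Equiv.Perm.card_support_conj]
  have hts' : t = n⁻¹ * s * n := by rw [hs]; group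
  -- the enumeration
  have hleaf : leafInv (enc s) = true := by
    have e0 : ext s 0 = 0 := by
      have := ext_fin s 0
      rw [h0] at this
      exact this
    have e1 : ext s 1 = 1 := by
      have := ext_fin s 1
      rw [h1] at this
      exact this
    refine enumInv_sound s hs2 9 [2, 3, 4, 5, 6, 7, 8, 9, 10] 16 (by decide) (by decide) ?_ ?_
      search_inv
    · intro x hx
      have hx11 : x < 11 ∧ 2 ≤ x := by
        simp only [List.mem_cons, List.not_mem_nil, or_false] at hx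
        omega
      have h2 := ext_lt s x
      have h3 : ext s x ≠ 0 := by
        intro h
        have := ext_injOn s hx11.1 (by norm_num) (h.trans e0.symm)
        omega
      have h4 : ext s x ≠ 1 := by
        intro h
        have := ext_injOn s hx11.1 (by norm_num) (h.trans e1.symm)
        omega
      simp only [List.mem_cons, List.not_mem_nil, or_false]
      omega
    · exact enc_split (ext s) e0 e1
  have hcases := leaf_cases ha hm hA hsG hs1 (by rw [hsc]; exact hc) hleaf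
  rcases hcases with ⟨h2, h3⟩ | ⟨h2, h3⟩
  · left
    refine ⟨?_, h3⟩
    have hnM : n ∈ stab bigA :=
      (stab bigA).mul_mem ((stab bigA).pow_mem mP_mem_stabA _) ((stab bigA).pow_mem aP_mem_stabA _)
    rw [hts']
    exact (stab bigA).mul_mem ((stab bigA).mul_mem ((stab bigA).inv_mem hnM) h2) hnM
  · right
    refine ⟨?_, h3⟩
    have hnM : n ∈ stab bigB :=
      (stab bigB).mul_mem ((stab bigB).pow_mem mP_mem_stabB _) ((stab bigB).pow_mem aP_mem_stabB _)
    rw [hts']
    exact (stab bigB).mul_mem ((stab bigB).mul_mem ((stab bigB).inv_mem hnM) h2) hnM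

end Cfsg.Agent.PermutationGroups.Deg11Group
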