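import Mathlib

/-!
Transitive permutation groups of prime degree `p`: labelling of the points by `ZMod p`, affine
groups are solvable, degree arguments with polynomials over `ZMod p` (P. Müller's proof of
Burnside's theorem).
-/

set_option autoImplicit false

namespace Cfsg.Agent.PermutationGroups.PrimeDegree

open Polynomial

/-- In a transitive group of prime degree the points can be labelled by `ZMod p` so that
`x ↦ x + 1` belongs to the group. -/
theorem exists_equiv_zmod {α : Type*} [Fintype α] {p : ℕ} [Fact p.Prime]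
    (hα : Fintype.card α = p) (G : Subgroup (Equiv.Perm α)) [MulAction.IsPretransitive G α] :
    ∃ (e : α ≃ ZMod p) (σ : Equiv.Perm α), σ ∈ G ∧ ∀ a, e (σ a) = e a + 1 := by
  classical
  have hp : p.Prime := Fact.out
  have : Nonempty α := by
    rw [← Fintype.card_pos_iff, hα]; exact hp.pos
  obtain ⟨a₀⟩ := this
  have hdvd : p ∣ Nat.card G := by
    have h1 := MulAction.index_stabilizer_of_transitive G a₀
    rw [Nat.card_eq_fintype_card, hα] at h1
    rw [← h1]
    exact Subgroup.index_dvd_card _
  obtain ⟨⟨σ, hσG⟩, hσ⟩ := exists_prime_orderOf_dvd_card' p hdvd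
  have hσ' : orderOf σ = p := by
    rw [← hσ]; exact (Subgroup.orderOf_coe (⟨σ, hσG⟩ : G))
  have hcyc : σ.IsCycle := Equiv.Perm.isCycle_of_prime_order'' (by rw [hα]; exact hp)
    (by rw [hα, hσ'])
  obtain ⟨a, ha, -⟩ := id hcyc
  have hval : ∀ k : ZMod p, σ ^ (k + 1).val = σ * σ ^ k.val := by
    intro k
    have h1 : (k + 1).val = (k.val + 1) % p := by
      rw [ZMod.val_add, ZMod.val_one]
    have h2 : σ ^ ((k.val + 1) % p) = σ ^ (k.val + 1) := by
      have := pow_mod_orderOf σ (k.val + 1)
      rwa [hσ'] at this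
    rw [h1, ← pow_succ', h2]
  let f : ZMod p → α := fun k => (σ ^ k.val) a
  have hinj : Function.Injective f := by
    have key : ∀ j k : ℕ, j ≤ k → k < p → (σ ^ j) a = (σ ^ k) a → j = k := by
      intro j k hjk hk h
      have h2 : (σ ^ (k - j)) a = a := by
        have : σ ^ k = σ ^ j * σ ^ (k - j) := by rw [← pow_add]; congr 1; omega
        rw [this, Equiv.Perm.mul_apply] at h
        exact ((σ ^ j).injective h).symm
      have h3 : σ ^ (k - j) = 1 := (hcyc.pow_eq_one_iff' ha).2 h2
      have h4 : p ∣ k - j := by rw [← hσ']; exact orderOf_dvd_of_pow_eq_one h3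
      have h5 : k - j = 0 := Nat.eq_zero_of_dvd_of_lt h4 (by omega)
      omega
    intro j k h
    apply ZMod.val_injective
    rcases le_total j.val k.val with h1 | h1
    · exact key _ _ h1 (ZMod.val_lt k) h
    · exact (key _ _ h1 (ZMod.val_lt j) h.symm).symm
  have hbij : Function.Bijective f := by
    rw [Fintype.bijective_iff_injective_and_card]
    exact ⟨hinj, by rw [ZMod.card, hα]⟩
  let e := (Equiv.ofBijective f hbij).symm
  refine ⟨e, σ, hσG, fun x => ?_⟩
  obtain ⟨k, rfl⟩ := hbij.2 x
  have h1 : e (f k) = k := (Equiv.ofBijective f hbij).symm_apply_apply k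
  have h2 : σ (f k) = f (k + 1) := by
    change σ ((σ ^ k.val) a) = (σ ^ (k + 1).val) a
    rw [hval, Equiv.Perm.mul_apply]
  have h3 : e (f (k + 1)) = k + 1 := (Equiv.ofBijective f hbij).symm_apply_apply (k + 1)
  rw [h1, h2, h3]

/-- A group of permutations that is affine in some labelling by `ZMod p` is solvable. -/
theorem isSolvable_of_affine {α : Type*} {p : ℕ} [Fact p.Prime]
    (G : Subgroup (Equiv.Perm α)) (e : α ≃ ZMod p)
    (h : ∀ g ∈ G, ∃ a b : ZMod p, ∀ x, e (g x) = a * e x + b) : Group.IsSolvable G := by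
  classical
  have hp : p.Prime := Fact.out
  -- the slope
  let s : G → ZMod p := fun g => e (g.1 (e.symm 1)) - e (g.1 (e.symm 0))
  have hs : ∀ g : G, ∀ x, e (g.1 x) = s g * e x + e (g.1 (e.symm 0)) := by
    intro g x
    obtain ⟨a, b, hab⟩ := h g.1 g.2
    have : s g = a := by simp [s, hab]
    rw [this]
    simp [hab]
  have hne : ∀ g : G, s g ≠ 0 := by
    intro g hg
    have h1 := hs g (e.symm 1)
    have h0 := hs g (e.symm 0)
    rw [hg, zero_mul] at h1 h0
    have h2 : e.symm 1 = e.symm 0 := g.1.injective (e.injective (by rw [h1, zero_add]))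
    exact one_ne_zero (e.symm.injective h2)
  have hmul : ∀ g g' : G, s (g * g') = s g * s g' := by
    intro g g'
    have h1 : ∀ x, e ((g * g').1 x) = s g * (s g' * e x + e (g'.1 (e.symm 0)))
        + e (g.1 (e.symm 0)) := by
      intro x
      rw [← hs g' x, ← hs g]
      rfl
    have h2 : s (g * g') = e ((g * g').1 (e.symm 1)) - e ((g * g').1 (e.symm 0)) := rfl
    rw [h2, h1, h1, e.apply_symm_apply, e.apply_symm_apply]
    ring
  let φ : G →* (ZMod p)ˣ := MonoidHom.mk' (fun g => Units.mk0 (s g) (hne g)) (by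
    intro g g'
    ext
    simp [hmul])
  have hker : ∀ g : φ.ker, ∀ x, e (g.1.1 x) = e x + e (g.1.1 (e.symm 0)) := by
    intro g x
    have h1 : s g.1 = 1 := by
      have := g.2
      rw [MonoidHom.mem_ker] at this
      have h2 := congrArg Units.val this
      simpa [φ] using h2
    rw [hs g.1 x, h1, one_mul]
  have : Group.IsSolvable φ.ker := by
    apply Group.isSolvable_of_comm
    intro g g'
    apply Subtype.ext
    apply Subtype.ext
    apply Equiv.ext
    intro x
    apply e.injective
    change e (g.1.1 (g'.1.1 x)) = e (g'.1.1 (g.1.1 x))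
    rw [hker g (g'.1.1 x), hker g' x, hker g' (g.1.1 x), hker g x]
    ring
  exact Group.isSolvable_of_ker_le_range φ.ker.subtype φ (by simp)

/-- Sum of the values of a polynomial over `ZMod p`. -/
theorem sum_eval {p : ℕ} [Fact p.Prime] (Q : (ZMod p)[X]) (hQ : Q.natDegree ≤ p - 1) :
    ∑ x, Q.eval x = - Q.coeff (p - 1) := by
  have hp : p.Prime := Fact.out
  have h1 : ∀ x : ZMod p, Q.eval x = ∑ i ∈ Finset.range p, Q.coeff i * x ^ i := by
    intro x
    rw [Polynomial.eval_eq_sum_range' (n := p) (by have := hp.pos; omega)]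
  simp_rw [h1]
  rw [Finset.sum_comm]
  simp_rw [← Finset.mul_sum]
  obtain ⟨q, hq⟩ : ∃ q, p = q + 1 := ⟨p - 1, by have := hp.pos; omega⟩
  rw [Finset.sum_eq_single (p - 1)]
  · have h2 : ∑ x : ZMod p, x ^ (p - 1) = -1 := by
      have h3 : ∀ x : ZMod p, x ^ (p - 1) = 1 - (if x = 0 then 1 else 0) := by
        intro x
        split_ifs with hx
        · subst hx
          rw [zero_pow (by have := hp.two_le; omega)]; ring
        · rw [ZMod.pow_card_sub_one_eq_one hx]; ring
      simp_rw [h3]
      rw [Finset.sum_sub_distrib]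
      simp [ZMod.card]
    rw [h2]; ring
  · intro i hi hne
    rw [Finset.mem_range] at hi
    have h3 := FiniteField.sum_pow_lt_card_sub_one (ZMod p) i (by rw [ZMod.card]; omega)
    rw [h3, mul_zero]
  · intro h
    exact absurd (Finset.mem_range.2 (by have := hp.pos; omega)) h

/-- Interpolation. -/
theorem exists_poly {p : ℕ} [Fact p.Prime] (f : ZMod p → ZMod p) :
    ∃ P : (ZMod p)[X], P.natDegree ≤ p - 1 ∧ ∀ x, P.eval x = f x := by
  have hp : p.Prime := Fact.out
  refine ⟨Lagrange.interpolate Finset.univ id f, ?_, fun x => ?_⟩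
  · have h1 := Lagrange.degree_interpolate_lt (s := Finset.univ) (v := (id : ZMod p → ZMod p)) f
      (Function.injective_id.injOn)
    rw [Finset.card_univ, ZMod.card] at h1
    by_cases h0 : Lagrange.interpolate Finset.univ id f = 0
    · rw [h0]; simp
    · have := (Polynomial.natDegree_lt_iff_degree_lt h0).2 h1
      omega
  · exact Lagrange.eval_interpolate_at_node (s := Finset.univ) (v := (id : ZMod p → ZMod p)) f
      (Function.injective_id.injOn) (Finset.mem_univ x)

/-- Two polynomials of degree `< p` over `ZMod p` which agree as functions are equal. -/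
theorem poly_ext {p : ℕ} [Fact p.Prime] {P Q : (ZMod p)[X]} (hP : P.natDegree ≤ p - 1)
    (hQ : Q.natDegree ≤ p - 1) (h : ∀ x, P.eval x = Q.eval x) : P = Q := by
  have hp : p.Prime := Fact.out
  have hdeg : ∀ R : (ZMod p)[X], R.natDegree ≤ p - 1 →
      R.degree < (Finset.univ : Finset (ZMod p)).card := by
    intro R hR
    rw [Finset.card_univ, ZMod.card]
    refine lt_of_le_of_lt Polynomial.degree_le_natDegree ?_
    have := hp.pos
    exact_mod_cast (by omega : R.natDegree < p)
  exact Polynomial.eq_of_degrees_lt_of_eval_index_eq (s := Finset.univ) (v := id)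
    (Function.injective_id.injOn) (hdeg P hP) (hdeg Q hQ) (fun x _ => h x)

/-- First non-vanishing power sum. -/
theorem exists_powerSum_ne_zero {p : ℕ} [Fact p.Prime] (U : Finset (ZMod p))
    (h0 : (0 : ZMod p) ∉ U) (hne : U.Nonempty) :
    ∃ r, 1 ≤ r ∧ r ≤ U.card ∧ ∑ u ∈ U, u ^ r ≠ 0 ∧
      ∀ j, 1 ≤ j → j < r → ∑ u ∈ U, u ^ j = 0 := by
  classical
  have hp : p.Prime := Fact.out
  have hlt : U.card < p := by
    have h1 : U ⊆ Finset.univ.erase 0 := fun u hu => by
      rw [Finset.mem_erase]
      exact ⟨fun h => h0 (h ▸ hu), Finset.mem_univ _⟩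
    have h2 := Finset.card_le_card h1
    rw [Finset.card_erase_of_mem (Finset.mem_univ _), Finset.card_univ, ZMod.card] at h2
    have := hp.pos
    omega
  have hex : ∃ r, 1 ≤ r ∧ r ≤ U.card ∧ ∑ u ∈ U, u ^ r ≠ 0 := by
    by_contra hcon
    push Not at hcon
    let F : (ZMod p)[X] := ∏ u ∈ U, (X - C u)
    have hF : F.natDegree = U.card := by
      simp only [F]
      rw [Polynomial.natDegree_prod_of_monic _ _ (fun u _ => Polynomial.monic_X_sub_C u)]
      simp
    have h1 : ∑ u ∈ U, F.eval u = 0 := by
      apply Finset.sum_eq_zero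
      intro u hu
      simp only [F]
      rw [Polynomial.eval_prod]
      exact Finset.prod_eq_zero hu (by simp)
    have h2 : ∀ u, F.eval u = ∑ i ∈ Finset.range (U.card + 1), F.coeff i * u ^ i := by
      intro u
      rw [Polynomial.eval_eq_sum_range' (n := U.card + 1) (by omega)]
    simp_rw [h2] at h1
    rw [Finset.sum_comm] at h1
    simp_rw [← Finset.mul_sum] at h1
    rw [Finset.sum_eq_single 0] at h1
    · simp only [pow_zero, Finset.sum_const, nsmul_eq_mul, mul_one] at h1
      rcases mul_eq_zero.1 h1 with h3 | h3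
      · rw [Polynomial.coeff_zero_eq_eval_zero] at h3
        simp only [F] at h3
        rw [Polynomial.eval_prod, Finset.prod_eq_zero_iff] at h3
        obtain ⟨u, hu, hu0⟩ := h3
        have : u = 0 := by simpa using hu0
        exact h0 (this ▸ hu)
      · rw [ZMod.natCast_eq_zero_iff] at h3
        have := Nat.le_of_dvd (Finset.card_pos.2 hne) h3
        omega
    · intro i hi hi0
      rw [Finset.mem_range] at hi
      rw [hcon i (by omega) (by omega), mul_zero]
    · intro h
      exact absurd (Finset.mem_range.2 (by omega)) h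
  refine ⟨Nat.find hex, (Nat.find_spec hex).1, (Nat.find_spec hex).2.1,
    (Nat.find_spec hex).2.2, fun j hj1 hj => ?_⟩
  by_contra hne'
  exact Nat.find_min hex hj ⟨hj1, by have := (Nat.find_spec hex).2.1; omega, hne'⟩

theorem choose_ne_zero {p : ℕ} [Fact p.Prime] {D N : ℕ} (hD : D < p) (hN : N ≤ D) :
    ((D.choose N : ℕ) : ZMod p) ≠ 0 := by
  have hp : p.Prime := Fact.out
  intro h
  rw [ZMod.natCast_eq_zero_iff] at h
  have h1 : p ∣ D.factorial := by
    rw [← Nat.choose_mul_factorial_mul_factorial hN]
    exact Dvd.dvd.mul_right (Dvd.dvd.mul_right h _) _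
  have := (hp.dvd_factorial).1 h1
  omega

/-- Müller's lemma: a permutation of `ZMod p` mapping every pair with difference in `U` to such
a pair, where `U` is a set of at most `(p - 1) / 2` non-zero elements, is affine. -/
theorem affine_of_preserves {p : ℕ} [Fact p.Prime] (U : Finset (ZMod p))
    (h0 : (0 : ZMod p) ∉ U) (hne : U.Nonempty) (hcard : 2 * U.card ≤ p - 1)
    (g : ZMod p → ZMod p) (hinj : Function.Injective g)
    (hg : ∀ x, ∀ u ∈ U, g (x + u) - g x ∈ U) : ∃ a b, ∀ x, g x = a * x + b := by
  classical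
  have hp : p.Prime := Fact.out
  obtain ⟨r, hr1, hrU, hwr, hwj⟩ := exists_powerSum_ne_zero U h0 hne
  obtain ⟨P, hPdeg, hPg⟩ := exists_poly g
  by_cases hn : P.natDegree ≤ 1
  · refine ⟨P.coeff 1, P.coeff 0, fun x => ?_⟩
    rw [← hPg x, Polynomial.eval_eq_sum_range' (n := 2) (by omega)]
    simp [Finset.sum_range_succ]
    ring
  exfalso
  push Not at hn
  set n := P.natDegree with hndef
  have hP0 : P.coeff n ≠ 0 := by
    have : P ≠ 0 := by
      rintro rfl
      simp at hndef
      omega
    exact Polynomial.leadingCoeff_ne_zero.2 this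
  -- the exponent
  obtain ⟨m, hm1, hm2⟩ : ∃ m, r ≤ m * n ∧ m * n ≤ p - 1 := by
    refine ⟨(r - 1) / n + 1, ?_, ?_⟩
    · have h1 := Nat.div_add_mod (r - 1) n
      have h2 := Nat.mod_lt (r - 1) (by omega : n > 0)
      have h3 : ((r - 1) / n + 1) * n = n * ((r - 1) / n) + n := by ring
      omega
    · by_cases hrn : r ≤ n
      · have h1 : (r - 1) / n = 0 := Nat.div_eq_of_lt (by omega)
        rw [h1]; omega
      · have h1 := Nat.div_add_mod (r - 1) n
        have h3 : ((r - 1) / n + 1) * n = n * ((r - 1) / n) + n := by ring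
        omega
  set D := m * n with hD
  set N := D - r with hN
  have hDp : D < p := by have := hp.pos; omega
  -- polynomial identity
  have hid : ∀ x, ∑ u ∈ U, (g (x + u)) ^ m = ∑ u ∈ U, (g x + u) ^ m := by
    intro x
    have himg : U.image (fun u => g (x + u) - g x) = U := by
      apply Finset.eq_of_subset_of_card_le
      · intro v hv
        obtain ⟨u, hu, rfl⟩ := Finset.mem_image.1 hv
        exact hg x u hu
      · rw [Finset.card_image_of_injective]
        intro u v huv
        have := hinj (sub_left_injective huv)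
        simpa using this
    conv_rhs => rw [← himg]
    rw [Finset.sum_image]
    · simp
    · intro u _ v _ huv
      have := hinj (sub_left_injective huv)
      simpa using this
  have hQdeg : (P ^ m).natDegree = D := by
    rw [Polynomial.natDegree_pow]
  have hpoly : ∑ u ∈ U, Polynomial.taylor u (P ^ m) = ∑ u ∈ U, (P + C u) ^ m := by
    apply poly_ext
    · apply Polynomial.natDegree_sum_le_of_forall_le
      intro u _
      rw [Polynomial.natDegree_taylor, hQdeg]
      omega
    · apply Polynomial.natDegree_sum_le_of_forall_le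
      intro u _
      refine (Polynomial.natDegree_pow_le).trans ?_
      have : (P + C u).natDegree ≤ n := by rw [Polynomial.natDegree_add_C]
      calc m * (P + C u).natDegree ≤ m * n := Nat.mul_le_mul_left m this
        _ ≤ p - 1 := hm2
    · intro x
      rw [Polynomial.eval_finsetSum, Polynomial.eval_finsetSum]
      have h1 : ∀ u : ZMod p, (Polynomial.taylor u (P ^ m)).eval x = (g (x + u)) ^ m := by
        intro u
        rw [Polynomial.taylor_apply, Polynomial.eval_comp]
        simp [hPg]
      have h2 : ∀ u : ZMod p, ((P + C u) ^ m).eval x = (g x + u) ^ m := by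
        intro u
        simp [hPg]
      simp_rw [h1, h2]
      exact hid x
  have hL : (∑ u ∈ U, Polynomial.taylor u (P ^ m)).coeff N =
      (P ^ m).coeff N * U.card + (P ^ m).coeff D * (D.choose N : ℕ) * ∑ u ∈ U, u ^ r := by
    rw [Polynomial.finsetSum_coeff]
    have h1 : ∀ u : ZMod p, (Polynomial.taylor u (P ^ m)).coeff N =
        ∑ i ∈ Finset.range (D + 1), (P ^ m).coeff i * ((i.choose N : ℕ) * u ^ (i - N)) := by
      intro u
      rw [Polynomial.taylor_apply, Polynomial.comp, Polynomial.eval₂_eq_sum_range, hQdeg,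
        Polynomial.finsetSum_coeff]
      refine Finset.sum_congr rfl fun i _ => ?_
      rw [Polynomial.coeff_C_mul, Polynomial.coeff_X_add_C_pow]
      ring
    simp_rw [h1]
    rw [Finset.sum_comm]
    simp_rw [← Finset.mul_sum]
    have hND : N < D := by omega
    rw [Finset.sum_range_succ]
    have hDN : D - N = r := by omega
    rw [hDN]
    congr 1
    · rw [Finset.sum_eq_single N]
      · simp
      · intro i hi hiN
        rw [Finset.mem_range] at hi
        rcases lt_or_gt_of_ne hiN with h | h
        · rw [Nat.choose_eq_zero_of_lt h]; simp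
        · rw [hwj (i - N) (by omega) (by omega)]; simp
      · intro h
        exact absurd (Finset.mem_range.2 hND) h
    · ring
  have hR : (∑ u ∈ U, (P + C u) ^ m).coeff N = (P ^ m).coeff N * U.card := by
    rw [Polynomial.finsetSum_coeff]
    have h1 : ∀ u : ZMod p, ((P + C u) ^ m).coeff N =
        ∑ j ∈ Finset.range (m + 1), (P ^ j).coeff N * ((m.choose j : ℕ) * u ^ (m - j)) := by
      intro u
      rw [add_pow, Polynomial.finsetSum_coeff]
      refine Finset.sum_congr rfl fun j _ => ?_
      rw [mul_assoc, ← Polynomial.C_pow, ← Polynomial.C_eq_natCast, ← Polynomial.C_mul,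
        Polynomial.coeff_mul_C]
      ring
    simp_rw [h1]
    rw [Finset.sum_comm]
    simp_rw [← Finset.mul_sum]
    rw [Finset.sum_range_succ, Finset.sum_eq_zero]
    · simp
    · intro j hj
      rw [Finset.mem_range] at hj
      by_cases hk : m - j < r
      · rw [hwj (m - j) (by omega) hk]; simp
      · have : (P ^ j).coeff N = 0 := by
          apply Polynomial.coeff_eq_zero_of_natDegree_lt
          rw [Polynomial.natDegree_pow]
          push Not at hk
          have h3 : (m - j) * n + j * n = D := by
            rw [← Nat.add_mul, Nat.sub_add_cancel hj.le]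
          have h4 : r * 2 ≤ (m - j) * n := Nat.mul_le_mul hk hn
          change j * n < N
          omega
        rw [this]; simp
  rw [hpoly, hR] at hL
  have hL' : (P ^ m).coeff D * (D.choose N : ℕ) * ∑ u ∈ U, u ^ r = 0 := by
    simpa using hL
  rcases mul_eq_zero.1 hL' with h1 | h1
  · rcases mul_eq_zero.1 h1 with h2 | h2
    · have h3 : (P ^ m).coeff D = (P.coeff n) ^ m := by
        rw [hD, hndef, Polynomial.coeff_pow_mul_natDegree]
        rfl
      rw [h3] at h2
      exact pow_ne_zero m hP0 h2
    · exact choose_ne_zero hDp (by omega) h2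
  · exact hwr h1

/-- All translations. -/
theorem exists_translation {α : Type*} {p : ℕ} [Fact p.Prime] (G : Subgroup (Equiv.Perm α))
    (e : α ≃ ZMod p) (σ : Equiv.Perm α) (hσ : σ ∈ G) (h : ∀ a, e (σ a) = e a + 1) (t : ZMod p) :
    ∃ τ ∈ G, ∀ a, e (τ a) = e a + t := by
  have key : ∀ k : ℕ, ∀ a, e ((σ ^ k) a) = e a + k := by
    intro k
    induction k with
    | zero => intro a; simp
    | succ k ih =>
      intro a
      rw [pow_succ', Equiv.Perm.mul_apply, h, ih]
      push_cast
      ring
  refine ⟨σ ^ t.val, G.pow_mem hσ _, fun a => ?_⟩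
  rw [key, ZMod.natCast_val, ZMod.cast_id]

/-- A transitive group of prime degree which is not doubly transitive is affine. -/
theorem affine_of_not_two_transitive {α : Type*} [Fintype α] {p : ℕ} [Fact p.Prime]
    (hα : Fintype.card α = p) (G : Subgroup (Equiv.Perm α)) [MulAction.IsPretransitive G α]
    (h2 : ¬ MulAction.IsMultiplyPretransitive G α 2) :
    ∃ e : α ≃ ZMod p, ∀ g ∈ G, ∃ a b : ZMod p, ∀ x, e (g x) = a * e x + b := by
  classical
  have hp : p.Prime := Fact.out
  obtain ⟨e, σ, hσG, hσ⟩ := exists_equiv_zmod hα G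
  have htr := exists_translation G e σ hσG hσ
  rw [MulAction.is_two_pretransitive_iff] at h2
  push Not at h2
  obtain ⟨a, b, c, d, hab, hcd, hno⟩ := h2
  let U : α → α → Finset (ZMod p) := fun a b =>
    Finset.univ.filter (fun u => ∃ g ∈ G, e (g a) = 0 ∧ e (g b) = u)
  have hU : ∀ a b u, u ∈ U a b ↔ ∃ g ∈ G, e (g a) = 0 ∧ e (g b) = u := by
    intro a b u
    simp [U]
  have hU0 : ∀ a b, a ≠ b → (0 : ZMod p) ∉ U a b := by
    intro a b hab h
    obtain ⟨g, -, h1, h2⟩ := (hU a b 0).1 h
    exact hab (g.injective (e.injective (h1.trans h2.symm)))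
  have hUne : ∀ a b, (U a b).Nonempty := by
    intro a b
    obtain ⟨τ, hτG, hτ⟩ := htr (- e a)
    exact ⟨e (τ b), (hU a b _).2 ⟨τ, hτG, by rw [hτ]; ring, rfl⟩⟩
  have hdisj : Disjoint (U a b) (U c d) := by
    rw [Finset.disjoint_left]
    intro u hu hu'
    obtain ⟨g, hg, h1, h2⟩ := (hU a b u).1 hu
    obtain ⟨g', hg', h1', h2'⟩ := (hU c d u).1 hu'
    have h3 : g a = g' c := e.injective (h1.trans h1'.symm)
    have h4 : g b = g' d := e.injective (h2.trans h2'.symm)
    refine hno ⟨g'⁻¹ * g, G.mul_mem (G.inv_mem hg') hg⟩ ?_ ?_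
    · change g'⁻¹ (g a) = c
      rw [h3]; exact g'.symm_apply_apply c
    · change g'⁻¹ (g b) = d
      rw [h4]; exact g'.symm_apply_apply d
  have hsum : (U a b).card + (U c d).card ≤ p - 1 := by
    rw [← Finset.card_union_of_disjoint hdisj]
    have h1 : U a b ∪ U c d ⊆ Finset.univ.erase 0 := fun u hu => by
      rw [Finset.mem_erase]
      refine ⟨fun h => ?_, Finset.mem_univ _⟩
      subst h
      rcases Finset.mem_union.1 hu with h | h
      · exact hU0 a b hab h
      · exact hU0 c d hcd h
    have h2 := Finset.card_le_card h1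
    rwa [Finset.card_erase_of_mem (Finset.mem_univ _), Finset.card_univ, ZMod.card] at h2
  have main : ∀ a b, a ≠ b → 2 * (U a b).card ≤ p - 1 →
      ∀ g ∈ G, ∃ s t : ZMod p, ∀ x, e (g x) = s * e x + t := by
    intro a b hab hc g hg
    obtain ⟨s, t, hst⟩ := affine_of_preserves (U a b) (hU0 a b hab) (hUne a b) hc
      (fun x => e (g (e.symm x)))
      (fun x y hxy => e.symm.injective (g.injective (e.injective hxy))) (by
        intro x u hu
        obtain ⟨h, hh, h1, h2⟩ := (hU a b u).1 hu
        obtain ⟨τ, hτG, hτ⟩ := htr x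
        obtain ⟨ρ, hρG, hρ⟩ := htr (- e (g (e.symm x)))
        refine (hU a b _).2 ⟨ρ * g * τ * h, G.mul_mem (G.mul_mem (G.mul_mem hρG hg) hτG) hh, ?_, ?_⟩
        · change e (ρ (g (τ (h a)))) = 0
          have h3 : τ (h a) = e.symm x := by
            rw [e.eq_symm_apply, hτ, h1, zero_add]
          rw [h3, hρ]; ring
        · change e (ρ (g (τ (h b)))) = _
          have h3 : τ (h b) = e.symm (x + u) := by
            rw [e.eq_symm_apply, hτ, h2]; ring
          rw [h3, hρ]; ring)
    refine ⟨s, t, fun x => ?_⟩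
    have := hst (e x)
    simpa using this
  refine ⟨e, ?_⟩
  by_cases hc : 2 * (U a b).card ≤ p - 1
  · exact main a b hab hc
  · exact main c d hcd (by omega)

/-- Burnside: a transitive permutation group of prime degree is solvable or doubly transitive. -/
theorem isSolvable_or_two_transitive {α : Type*} [Fintype α] (hα : (Fintype.card α).Prime)
    (G : Subgroup (Equiv.Perm α)) [MulAction.IsPretransitive G α] :
    Group.IsSolvable G ∨ MulAction.IsMultiplyPretransitive G α 2 := by
  by_cases h : MulAction.IsMultiplyPretransitive G α 2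
  · exact Or.inr h
  · left
    have : Fact (Fintype.card α).Prime := ⟨hα⟩
    obtain ⟨e, he⟩ := affine_of_not_two_transitive rfl G h
    exact isSolvable_of_affine G e he

end Cfsg.Agent.PermutationGroups.PrimeDegree
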