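import Cfsg.Agent.PermutationGroups.Deg11Group
import Cfsg.Agent.PermutationGroups.PrimeDegree
import Cfsg.Agent.SporadicA.SimpleCrit

/-!
Subgroups of `Perm (Fin 11)`: structure theorem (helper394, for S0679).
-/

set_option autoImplicit false

namespace Cfsg.Agent.PermutationGroups.Deg11Main

open Cfsg.Agent.PermutationGroups.Code11 Cfsg.Agent.PermutationGroups.Deg11Comp
  Cfsg.Agent.PermutationGroups.Deg11Blocks Cfsg.Agent.PermutationGroups.Deg11Group
open Equiv Equiv.Perm MulAction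

theorem aP_ne_one : aP ≠ 1 := by
  intro h
  have := congrArg (fun σ : Perm (Fin 11) => σ 0) h
  exact absurd this (by decide)

theorem aP_pow_eleven : aP ^ 11 = 1 := by
  ext x
  rw [aP_pow]
  have := x.2
  change (x.val + 11) % 11 = x.val
  omega

theorem mP_pow_five : mP ^ 5 = 1 := by
  ext x
  rw [mP_pow]
  have := x.2
  change (3 ^ 5 * x.val) % 11 = x.val
  omega

theorem orderOf_aP : orderOf aP = 11 := by
  have : Fact (Nat.Prime 11) := ⟨by norm_num⟩
  exact orderOf_eq_prime aP_pow_eleven aP_ne_one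

theorem sign_aP : sign aP = 1 := by
  have h : sign aP ^ 11 = 1 := by rw [← map_pow, aP_pow_eleven, map_one]
  rcases Int.units_eq_one_or (sign aP) with h1 | h1
  · exact h1
  · rw [h1] at h
    exact absurd h (by decide)

theorem sign_mP : sign mP = 1 := by
  have h : sign mP ^ 5 = 1 := by rw [← map_pow, mP_pow_five, map_one]
  rcases Int.units_eq_one_or (sign mP) with h1 | h1
  · exact h1
  · rw [h1] at h
    exact absurd h (by decide)

theorem negP_eq : negP = swap 1 10 * swap 2 9 * swap 3 8 * swap 4 7 * swap 5 6 := by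
  decide +kernel

theorem sign_negP : sign negP = -1 := by
  rw [negP_eq]
  simp only [map_mul]
  rw [sign_swap (by decide), sign_swap (by decide), sign_swap (by decide), sign_swap (by decide),
    sign_swap (by decide)]
  decide

/-- conjugation by `mP` -/
theorem mP_conj : mP * aP * mP⁻¹ = aP ^ 3 := by decide +kernel

open scoped Fin.CommRing in
/-- a permutation normalising `⟨aP⟩` is affine -/
theorem affine_of_conj {g : Perm (Fin 11)} (h : g * aP * g⁻¹ ∈ Subgroup.zpowers aP) :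
    ∃ k c : Fin 11, ∀ x, g x = k * x + c := by
  rw [← mem_powers_iff_mem_zpowers] at h
  obtain ⟨m, hm⟩ := h
  have h1 : ∀ x, g (x + 1) = g x + (m : Fin 11) := by
    intro x
    have h2 : (g * aP) x = (aP ^ m * g) x := by
      have : g * aP = aP ^ m * g := by
        have hm' : aP ^ m = g * aP * g⁻¹ := hm
        rw [hm']; group
      rw [this]
    have h3 : (g * aP) x = g (x + 1) := rfl
    rw [← h3, h2, Perm.mul_apply]
    apply Fin.ext
    rw [aP_pow, Fin.val_add, Fin.val_natCast]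
    simp
  refine ⟨(m : Fin 11), g 0, ?_⟩
  have h4 : ∀ n : ℕ, g (n : Fin 11) = (m : Fin 11) * n + g 0 := by
    intro n
    induction n with
    | zero => simp
    | succ n ih =>
      rw [Nat.cast_succ, h1, ih]
      ring
  intro x
  have := h4 x.val
  rwa [Fin.cast_val_eq_self] at this

theorem affine_cases {g : Perm (Fin 11)} {k c : Fin 11} (h : ∀ x, g x = k * x + c) :
    (∃ i j : ℕ, g = aP ^ i * mP ^ j) ∨ (∃ i j : ℕ, g = aP ^ i * mP ^ j * negP) := by
  have hk : k ≠ 0 := by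
    rintro rfl
    have h0 := h 0
    have h1 := h 1
    have e : ∀ c : Fin 11, 0 * 0 + c = 0 * 1 + c := by decide
    rw [e c, ← h1] at h0
    exact absurd (g.injective h0) (by decide)
  have key : ∀ k : Fin 11, k ≠ 0 → ∃ j < 5, k.val = 3 ^ j % 11 ∨ k.val = (3 ^ j * 10) % 11 := by
    decide
  obtain ⟨j, _, hj | hj⟩ := key k hk
  · left
    refine ⟨c.val, j, ?_⟩
    ext x
    rw [h x, Perm.mul_apply, aP_pow, mP_pow, Fin.val_add, Fin.val_mul, hj]
    rw [Nat.mod_add_mod, Nat.mod_add_mod]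
    have : (3 ^ j % 11 * x.val + c.val) % 11 = (3 ^ j * x.val + c.val) % 11 := by
      rw [Nat.add_mod, Nat.mod_mul_mod, ← Nat.add_mod]
    rw [this]
  · right
    refine ⟨c.val, j, ?_⟩
    ext x
    rw [h x, Perm.mul_apply, Perm.mul_apply, aP_pow, mP_pow, Fin.val_add, Fin.val_mul, hj]
    have e : ((negP x : Fin 11) : ℕ) = (10 * x.val) % 11 := by
      change ((10 * x : Fin 11) : ℕ) = _
      rw [Fin.val_mul]; rfl
    rw [e, Nat.mod_add_mod, Nat.mod_add_mod]
    have e1 : (3 ^ j * 10 % 11 * x.val + c.val) % 11 = (3 ^ j * 10 * x.val + c.val) % 11 := by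
      rw [Nat.add_mod, Nat.mod_mul_mod, ← Nat.add_mod]
    have e2 : (3 ^ j * (10 * x.val % 11) + c.val) % 11 = (3 ^ j * (10 * x.val) + c.val) % 11 := by
      rw [Nat.add_mod, Nat.mul_mod_mod, ← Nat.add_mod]
    rw [e1, e2, mul_assoc]

/-- elements of `G` normalising `⟨aP⟩` -/
theorem eq_of_conj {G : Subgroup (Perm (Fin 11))} (ha : aP ∈ G) (hm : mP ∈ G) (hneg : negP ∉ G)
    {g : Perm (Fin 11)} (hg : g ∈ G) (h : g * aP * g⁻¹ ∈ Subgroup.zpowers aP) :
    ∃ i j : ℕ, g = aP ^ i * mP ^ j := by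
  obtain ⟨k, c, hkc⟩ := affine_of_conj h
  rcases affine_cases hkc with h1 | ⟨i, j, h1⟩
  · exact h1
  · exfalso
    apply hneg
    have h2 : negP = (aP ^ i * mP ^ j)⁻¹ * g := by rw [h1]; group
    rw [h2]
    exact G.mul_mem (G.inv_mem (G.mul_mem (G.pow_mem ha _) (G.pow_mem hm _))) hg

instance fact11 : Fact (Nat.Prime 11) := ⟨by norm_num⟩

theorem card_dvd (G : Subgroup (Perm (Fin 11))) : Nat.card G ∣ 39916800 := by
  have h := Subgroup.card_subgroup_dvd_card G
  rw [Nat.card_eq_fintype_card (α := Equiv.Perm (Fin 11)), Fintype.card_perm, Fintype.card_fin] at h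
  exact h

theorem sylow_card {G : Subgroup (Perm (Fin 11))} (ha : aP ∈ G) (P : Sylow 11 G) :
    Nat.card P = 11 := by
  have h1 := card_dvd G
  have h2 : 11 ∣ Nat.card G := by
    have := Subgroup.orderOf_dvd_natCard G ha
    rwa [orderOf_aP] at this
  obtain ⟨k, hk⟩ := P.2.exists_card_eq
  have h3 : 11 ∣ Nat.card P := P.dvd_card_of_dvd_card h2
  have h4 : Nat.card P ∣ 39916800 := (Subgroup.card_subgroup_dvd_card _).trans h1
  change Nat.card P = 11 ^ k at hk
  rw [hk] at h3 h4 ⊢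
  rcases k with _ | _ | k
  · norm_num at h3
  · norm_num
  · exfalso
    have : 11 ^ 2 ∣ 39916800 := (pow_dvd_pow 11 (by omega)).trans h4
    norm_num at this

/-- a Sylow 11-subgroup generated by `aP` -/
theorem exists_sylow {G : Subgroup (Perm (Fin 11))} (ha : aP ∈ G) :
    ∃ P : Sylow 11 G, (P : Subgroup G) = Subgroup.zpowers (⟨aP, ha⟩ : G) := by
  have hc : Nat.card (Subgroup.zpowers (⟨aP, ha⟩ : G)) = 11 := by
    rw [Nat.card_zpowers]
    exact (Subgroup.orderOf_mk _ _).trans orderOf_aP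
  have hz : IsPGroup 11 (Subgroup.zpowers (⟨aP, ha⟩ : G)) :=
    IsPGroup.of_card (n := 1) (by rw [hc, pow_one])
  obtain ⟨P, hP⟩ := hz.exists_le_sylow
  refine ⟨P, ?_⟩
  symm
  apply Subgroup.eq_of_le_of_card_ge hP
  rw [hc]
  exact (sylow_card ha P).le

theorem mem_zpowers_mk {G : Subgroup (Perm (Fin 11))} (ha : aP ∈ G) (x : G) :
    x ∈ Subgroup.zpowers (⟨aP, ha⟩ : G) ↔ (x : Perm (Fin 11)) ∈ Subgroup.zpowers aP := by
  rw [Subgroup.mem_zpowers_iff, Subgroup.mem_zpowers_iff]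
  constructor
  · rintro ⟨n, rfl⟩
    exact ⟨n, by simp⟩
  · rintro ⟨n, hn⟩
    exact ⟨n, Subtype.ext (by simpa using hn)⟩

theorem conj_mem_of_normalizer {G : Subgroup (Perm (Fin 11))} (ha : aP ∈ G) {P : Sylow 11 G}
    (hP : (P : Subgroup G) = Subgroup.zpowers (⟨aP, ha⟩ : G)) {g : G}
    (hg : g ∈ Subgroup.normalizer ((P : Subgroup G) : Set G)) :
    (g : Perm (Fin 11)) * aP * (g : Perm (Fin 11))⁻¹ ∈ Subgroup.zpowers aP := by
  have h1 := (Subgroup.mem_normalizer_iff.1 hg ⟨aP, ha⟩).1 (by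
    rw [hP]; exact Subgroup.mem_zpowers _)
  rw [hP, mem_zpowers_mk] at h1
  exact h1

/-- a non-trivial normal subgroup is transitive -/
theorem isPretransitive_normal {G : Subgroup (Perm (Fin 11))} (ha : aP ∈ G) (N : Subgroup G)
    [N.Normal] (hN : N ≠ ⊥) : IsPretransitive N (Fin 11) := by
  have := isPreprimitive ha
  apply IsQuasiPreprimitive.isPretransitive_of_normal (G := G)
  intro h
  apply hN
  rw [eq_bot_iff]
  intro x hx
  rw [Subgroup.mem_bot]
  apply Subtype.ext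
  ext a
  have : a ∈ fixedPoints N (Fin 11) := by rw [h]; trivial
  exact congrArg Fin.val (this ⟨x, hx⟩)

theorem eleven_dvd {M : Type*} [Group M] [MulAction M (Fin 11)] [IsPretransitive M (Fin 11)] :
    11 ∣ Nat.card M := by
  have h := MulAction.index_stabilizer_of_transitive M (0 : Fin 11)
  rw [Nat.card_eq_fintype_card, Fintype.card_fin] at h
  rw [← h]
  exact Subgroup.index_dvd_card _

/-- Frattini argument: if all even involutions of `G` are in `M` then `G ≤ M` -/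
theorem le_of_involutions {G M : Subgroup (Perm (Fin 11))} (ha : aP ∈ G) (hm : mP ∈ G)
    (hneg : negP ∉ G) (haM : aP ∈ M) (hmM : mP ∈ M) {t₀ : Perm (Fin 11)} (h0 : t₀ ∈ G)
    (h01 : t₀ ≠ 1) (h02 : t₀ * t₀ = 1) (h0s : sign t₀ = 1)
    (hall : ∀ t ∈ G, t ≠ 1 → t * t = 1 → sign t = 1 → t ∈ M) : G ≤ M := by
  let S : Set G := {t | (t : Perm (Fin 11)) ≠ 1 ∧ (t : Perm (Fin 11)) * t = 1 ∧
    sign (t : Perm (Fin 11)) = 1}
  have hT : Subgroup.normalClosure S ≤ M.subgroupOf G := by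
    change Subgroup.closure (Group.conjugatesOfSet S) ≤ _
    rw [Subgroup.closure_le]
    intro x hx
    rw [Group.mem_conjugatesOfSet_iff] at hx
    obtain ⟨t, ⟨ht1, ht2, ht3⟩, hc⟩ := hx
    obtain ⟨c, rfl⟩ := isConj_iff.1 hc
    rw [SetLike.mem_coe, Subgroup.mem_subgroupOf]
    apply hall _ (c * t * c⁻¹).2
    · simp only [Subgroup.coe_mul, Subgroup.coe_inv]
      intro h
      apply ht1
      rw [mul_inv_eq_one] at h
      exact mul_eq_left.1 h
    · simp only [Subgroup.coe_mul, Subgroup.coe_inv]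
      calc (c : Perm (Fin 11)) * t * (c : Perm (Fin 11))⁻¹ * (c * t * (c : Perm (Fin 11))⁻¹)
          = c * (t * t) * (c : Perm (Fin 11))⁻¹ := by group
        _ = 1 := by rw [ht2]; group
    · simp only [Subgroup.coe_mul, Subgroup.coe_inv, map_mul, map_inv, ht3]
      simp
  have hTne : Subgroup.normalClosure S ≠ ⊥ := by
    intro h
    have h1 : (⟨t₀, h0⟩ : G) ∈ Subgroup.normalClosure S :=
      Subgroup.subset_normalClosure ⟨h01, h02, h0s⟩
    rw [h, Subgroup.mem_bot] at h1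
    exact h01 (congrArg Subtype.val h1)
  obtain ⟨P, hP⟩ := exists_sylow ha
  have htr := isPretransitive_normal ha (Subgroup.normalClosure S) hTne
  have hPT := SporadicA.SimpleCrit.sylow_le_of_normal_of_dvd 11 P (sylow_card ha P)
    (Subgroup.normalClosure S) eleven_dvd
  have hfr := Sylow.normalizer_sup_eq_top' P hPT
  have hN : Subgroup.normalizer ((P : Subgroup G) : Set G) ≤ M.subgroupOf G := by
    intro g hg
    obtain ⟨i, j, hij⟩ := eq_of_conj ha hm hneg g.2 (conj_mem_of_normalizer ha hP hg)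
    rw [Subgroup.mem_subgroupOf, hij]
    exact M.mul_mem (M.pow_mem haM _) (M.pow_mem hmM _)
  have hle : (⊤ : Subgroup G) ≤ M.subgroupOf G := by
    rw [← hfr]
    exact sup_le hN hT
  intro g hg
  exact hle (Subgroup.mem_top (⟨g, hg⟩ : G))

theorem aP_mem_normalizer {G : Subgroup (Perm (Fin 11))} (ha : aP ∈ G) {P : Sylow 11 G}
    (hP : (P : Subgroup G) = Subgroup.zpowers (⟨aP, ha⟩ : G)) :
    (⟨aP, ha⟩ : G) ∈ Subgroup.normalizer ((P : Subgroup G) : Set G) := by
  apply Subgroup.le_normalizer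
  rw [hP]
  exact Subgroup.mem_zpowers _

theorem mP_mem_normalizer {G : Subgroup (Perm (Fin 11))} (ha : aP ∈ G) (hm : mP ∈ G)
    {P : Sylow 11 G} (hP : (P : Subgroup G) = Subgroup.zpowers (⟨aP, ha⟩ : G)) :
    (⟨mP, hm⟩ : G) ∈ Subgroup.normalizer ((P : Subgroup G) : Set G) := by
  apply Subgroup.mem_normalizer_fintype
  intro x hx
  rw [SetLike.mem_coe, hP] at hx ⊢
  obtain ⟨n, rfl⟩ := Subgroup.mem_zpowers_iff.1 hx
  rw [mem_zpowers_mk]
  simp only [Subgroup.coe_mul, Subgroup.coe_inv, Subgroup.coe_zpow]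
  rw [← conj_zpow, mP_conj, ← zpow_natCast, ← zpow_mul]
  exact Subgroup.zpow_mem _ (Subgroup.mem_zpowers _) _

theorem key_inj : ∀ (c : Fin 11) (i j : Fin 5), (3 ^ (i : ℕ) % 11 + c.val) % 11 =
    (3 ^ (j : ℕ) % 11 + c.val) % 11 → i = j := by decide +kernel

theorem pow_mul_val (i j : ℕ) (x : Fin 11) : (((aP ^ i * mP ^ j) x : Fin 11) : ℕ) =
    (3 ^ j * x.val % 11 + i) % 11 := by
  rw [Perm.mul_apply, aP_pow, mP_pow]

theorem pow_mul_inj {p q : Fin 11 × Fin 5} (h : aP ^ (p.1 : ℕ) * mP ^ (p.2 : ℕ) =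
    aP ^ (q.1 : ℕ) * mP ^ (q.2 : ℕ)) : p = q := by
  have h1 := pow_mul_val p.1 p.2 0
  have h3 := pow_mul_val p.1 p.2 1
  rw [h, pow_mul_val] at h1 h3
  have e0 : ((0 : Fin 11) : ℕ) = 0 := rfl
  have e1 : ((1 : Fin 11) : ℕ) = 1 := rfl
  rw [e0, mul_zero, mul_zero] at h1
  have hp := p.1.2
  have hq := q.1.2
  have e1' : p.1 = q.1 := Fin.ext (by omega)
  rw [e1', e1, mul_one, mul_one] at h3
  exact Prod.ext e1' (key_inj _ _ _ h3).symm

theorem pow_mod_eleven (i : ℕ) : aP ^ (i % 11) = aP ^ i := by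
  conv_rhs => rw [← Nat.mod_add_div i 11, pow_add, pow_mul, aP_pow_eleven, one_pow, mul_one]

theorem pow_mod_five (j : ℕ) : mP ^ (j % 5) = mP ^ j := by
  conv_rhs => rw [← Nat.mod_add_div j 5, pow_add, pow_mul, mP_pow_five, one_pow, mul_one]

theorem card_normalizer {G : Subgroup (Perm (Fin 11))} (ha : aP ∈ G) (hm : mP ∈ G)
    (hneg : negP ∉ G) {P : Sylow 11 G}
    (hP : (P : Subgroup G) = Subgroup.zpowers (⟨aP, ha⟩ : G)) :
    Nat.card (Subgroup.normalizer ((P : Subgroup G) : Set G)) = 11 * 5 := by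
  have haN := aP_mem_normalizer ha hP
  have hmN := mP_mem_normalizer ha hm hP
  have hmem : ∀ i j : ℕ, (⟨aP, ha⟩ : G) ^ i * (⟨mP, hm⟩ : G) ^ j ∈
      Subgroup.normalizer ((P : Subgroup G) : Set G) := fun i j =>
    Subgroup.mul_mem _ (Subgroup.pow_mem _ haN _) (Subgroup.pow_mem _ hmN _)
  let f : Fin 11 × Fin 5 → Subgroup.normalizer ((P : Subgroup G) : Set G) := fun p =>
    ⟨_, hmem p.1 p.2⟩
  have hf : ∀ p, ((f p : G) : Perm (Fin 11)) = aP ^ (p.1 : ℕ) * mP ^ (p.2 : ℕ) := fun p => rfl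
  have hbij : Function.Bijective f := by
    constructor
    · intro p q hpq
      apply pow_mul_inj
      rw [← hf, ← hf, hpq]
    · intro g
      obtain ⟨i, j, hij⟩ := eq_of_conj ha hm hneg g.1.2 (conj_mem_of_normalizer ha hP g.2)
      refine ⟨(⟨i % 11, Nat.mod_lt _ (by norm_num)⟩, ⟨j % 5, Nat.mod_lt _ (by norm_num)⟩), ?_⟩
      apply Subtype.ext
      apply Subtype.ext
      rw [hf, hij]
      change aP ^ (i % 11) * mP ^ (j % 5) = _
      rw [pow_mod_eleven, pow_mod_five]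
  rw [← Nat.card_congr (Equiv.ofBijective f hbij), Nat.card_prod, Nat.card_fin, Nat.card_fin]

/-- elements with four fixed points are trivial -/
theorem eq_one_of_stab {big : ℕ} {blk : ℕ → List (List ℕ)} (hg : Good big blk)
    (hs : search (consBlk big blk) leafBlk 9 2 16 [2, 3, 4, 5, 6, 7, 8, 9, 10] = true)
    (haM : aP ∈ stab big) (hmM : mP ∈ stab big)
    {σ : Perm (Fin 11)} (hσ : σ ∈ stab big) (h : σ.support.card ≤ 7) : σ = 1 := by
  obtain ⟨i, j, h0, h1⟩ := exists_conj_fix (t := σ) (by omega)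
  set n := mP ^ j * aP ^ i with hn
  have hnM : n ∈ stab big := (stab big).mul_mem ((stab big).pow_mem hmM _) ((stab big).pow_mem haM _)
  have h2 := fix_two hg hs ((stab big).mul_mem ((stab big).mul_mem hnM hσ)
    ((stab big).inv_mem hnM)) h0 h1
  rcases h2 with h2 | h2
  · rw [mul_inv_eq_one] at h2
    exact mul_eq_left.1 h2
  · rw [Equiv.Perm.card_support_conj] at h2
    omega

/-- main structure result -/
theorem structure_of_involution {G : Subgroup (Perm (Fin 11))} (ha : aP ∈ G) (hm : mP ∈ G)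
    (hA : ¬ alternatingGroup (Fin 11) ≤ G) {t₀ : Perm (Fin 11)} (h0 : t₀ ∈ G)
    (h01 : t₀ ≠ 1) (h02 : t₀ * t₀ = 1) (h0s : sign t₀ = 1) :
    negP ∉ G ∧ ∀ g ∈ G, g.support.card ≤ 7 → g = 1 := by
  have hcases := fun t ht ht1 ht2 hts => involution_cases (G := G) ha hm hA (t := t) ht ht1 ht2 hts
  rcases hcases t₀ h0 h01 h02 h0s with ⟨_, hs⟩ | ⟨_, hs⟩
  · have hneg := neg_notMem ha hm hA (Or.inl hs)
    have hle : G ≤ stab bigA := by
      refine le_of_involutions ha hm hneg aP_mem_stabA mP_mem_stabA h0 h01 h02 h0s ?_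
      intro t ht ht1 ht2 hts
      rcases hcases t ht ht1 ht2 hts with ⟨h, _⟩ | ⟨_, h⟩
      · exact h
      · exact absurd h (fun h => not_both ha hm hA hs h)
    exact ⟨hneg, fun g hg h => eq_one_of_stab goodA search_blkA aP_mem_stabA mP_mem_stabA
      (hle hg) h⟩
  · have hneg := neg_notMem ha hm hA (Or.inr hs)
    have hle : G ≤ stab bigB := by
      refine le_of_involutions ha hm hneg aP_mem_stabB mP_mem_stabB h0 h01 h02 h0s ?_
      intro t ht ht1 ht2 hts
      rcases hcases t ht ht1 ht2 hts with ⟨_, h⟩ | ⟨h, _⟩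
      · exact absurd h (fun h => not_both ha hm hA h hs)
      · exact h
    exact ⟨hneg, fun g hg h => eq_one_of_stab goodB search_blkB aP_mem_stabB mP_mem_stabB
      (hle hg) h⟩

end Cfsg.Agent.PermutationGroups.Deg11Main
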