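import Mathlib
import Cfsg.Agent.PermutationGroups.Gleason

/-!
Reduction to the fixed-point set of a `p`-subgroup (Witt / Gleason / Livingstone-Wagner):
if a `k`-transitive finite group contains a `p`-subgroup acting non-trivially with at least `k+1`
fixed points, then there is a proper subset `F` of at least `k + 1` points whose setwise stabiliser
is `k`-transitive on `F` (namely the fixed-point set of a maximal such `p`-subgroup).
-/

set_option autoImplicit false

namespace Cfsg.Agent.PermutationGroups.FixReduction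

open MulAction
open scoped Pointwise

/-- A `p`-subgroup `P` properly contained in a `p`-subgroup `Q` is properly contained in a subgroup
of `Q` normalising `P`. -/
theorem exists_normalizing {G : Type*} [Group G] [Finite G] {p : ℕ} [Fact p.Prime]
    (P Q : Subgroup G) (hQ : IsPGroup p Q) (hPQ : P < Q) :
    ∃ Q' : Subgroup G, P < Q' ∧ Q' ≤ Q ∧ Q' ≤ Subgroup.normalizer (P : Set G) := by
  have hnil : Group.IsNilpotent Q := hQ.isNilpotent
  have hnc : NormalizerCondition Q := Group.normalizerCondition_of_isNilpotent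
  have hlt : P.subgroupOf Q < ⊤ := by
    rw [lt_top_iff_ne_top]
    intro h
    rw [Subgroup.subgroupOf_eq_top] at h
    exact absurd h (not_le_of_gt hPQ)
  have h1 := hnc _ hlt
  rw [← Subgroup.subgroupOf_normalizer_eq hPQ.le] at h1
  refine ⟨Subgroup.normalizer (P : Set G) ⊓ Q, ?_, inf_le_right, inf_le_left⟩
  refine lt_of_le_of_ne (le_inf Subgroup.le_normalizer hPQ.le) ?_
  intro heq
  apply h1.ne
  ext x
  rw [Subgroup.mem_subgroupOf, Subgroup.mem_subgroupOf]
  constructor
  · intro hx; exact Subgroup.le_normalizer hx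
  · intro hx
    rw [heq]
    exact ⟨hx, x.2⟩

/-- The fixed-point set of `P` is stabilised by the normaliser of `P`. -/
theorem normalizer_le_stabilizer {G α : Type*} [Group G] [MulAction G α] (P : Subgroup G) :
    Subgroup.normalizer (P : Set G) ≤ stabilizer G (fixedPoints P α) := by
  intro n hn
  rw [mem_stabilizer_set]
  intro b
  rw [Subgroup.mem_normalizer_iff] at hn
  constructor
  · intro hb g
    have h1 : n * (g : G) * n⁻¹ ∈ P := (hn g).mp g.2
    have h2 : (n * (g : G) * n⁻¹) • (n • b) = n • b := hb ⟨_, h1⟩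
    rw [smul_smul, inv_mul_cancel_right, mul_smul] at h2
    exact smul_left_cancel n h2
  · intro hb g
    have h1 : n⁻¹ * (g : G) * n ∈ P := by
      rw [hn]
      simp only [mul_assoc, mul_inv_cancel, mul_one, mul_inv_cancel_left]
      exact g.2
    have h2 : (n⁻¹ * (g : G) * n) • b = b := hb ⟨_, h1⟩
    rw [mul_smul, mul_smul] at h2
    have h3 := congrArg (n • ·) h2
    simp only [smul_inv_smul] at h3
    exact h3

/-- Main reduction, for abstract actions, starting from a `p`-subgroup. -/
theorem exists_fix_reduction_of_pgroup {G α : Type*} [Group G] [Finite G] [MulAction G α]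
    [Finite α] {p k : ℕ} [Fact p.Prime] (hk : 1 ≤ k) (hG : IsMultiplyPretransitive G α k)
    (P₀ : Subgroup G) (hP₀ : IsPGroup p P₀) (hne : fixedPoints P₀ α ≠ Set.univ)
    (hcard : k + 1 ≤ (fixedPoints P₀ α).ncard) :
    ∃ F : Set α, k + 1 ≤ F.ncard ∧ F ≠ Set.univ ∧
      IsMultiplyPretransitive (stabilizer G F) F k := by
  classical
  -- a maximal `p`-subgroup with at least `k + 1` fixed points
  obtain ⟨P, hP₀P, hPmax⟩ := Finite.exists_le_maximal
    (p := fun P : Subgroup G => IsPGroup p P ∧ k + 1 ≤ (fixedPoints P α).ncard)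
    (a := P₀) ⟨hP₀, hcard⟩
  obtain ⟨⟨hP, hPcard⟩, hPmax⟩ := hPmax
  set F : Set α := fixedPoints P α with hF
  have hanti : ∀ {A B : Subgroup G}, A ≤ B → fixedPoints B α ⊆ fixedPoints A α := by
    intro A B hAB x hx g
    exact hx ⟨g, hAB g.2⟩
  have hFne : F ≠ Set.univ := by
    intro h
    apply hne
    rw [Set.eq_univ_iff_forall] at h ⊢
    intro x
    exact hanti hP₀P (h x)
  refine ⟨F, hPcard, hFne, ?_⟩
  -- larger `p`-subgroups have at most `k` fixed points
  have hbig : ∀ Q : Subgroup G, IsPGroup p Q → P < Q → (fixedPoints Q α).ncard ≤ k := by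
    intro Q hQ hPQ
    by_contra hcon
    push Not at hcon
    exact absurd (hPmax ⟨hQ, hcon⟩ hPQ.le) (not_le_of_gt hPQ)
  by_cases hcase : ∀ X : Set α, X ⊆ F → X.ncard = k →
      ∃ Q : Subgroup G, IsPGroup p Q ∧ P < Q ∧ X ⊆ fixedPoints Q α
  · -- Gleason's lemma
    obtain ⟨k, rfl⟩ : ∃ m, k = m + 1 := ⟨k - 1, by omega⟩
    refine Cfsg.Agent.PermutationGroups.Gleason.gleason (p := p) Fact.out ?_ ?_
    · have : Nat.card F = F.ncard := rfl
      omega
    · intro s hs
      have hs' : (Subtype.val '' s : Set α).ncard = k + 1 := by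
        rw [Set.ncard_image_of_injective _ Subtype.val_injective, hs]
      obtain ⟨Q, hQ, hPQ, hXQ⟩ := hcase (Subtype.val '' s) (by
        rintro _ ⟨x, _, rfl⟩; exact x.2) hs'
      obtain ⟨Q', hPQ', hQ'Q, hQ'N⟩ := exists_normalizing P Q hQ hPQ
      have hQ' : IsPGroup p Q' := hQ.to_le hQ'Q
      have hfix : fixedPoints Q' α = Subtype.val '' s := by
        symm
        apply Set.eq_of_subset_of_ncard_le (hXQ.trans (hanti hQ'Q)) _ (Set.toFinite _)
        rw [hs']
        exact hbig Q' hQ' hPQ'
      have hQ'st : Q' ≤ stabilizer G F := hQ'N.trans (normalizer_le_stabilizer P)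
      refine ⟨Q'.subgroupOf (stabilizer G F), hQ'.comap_subtype, ?_⟩
      ext x
      have hiff : (x : α) ∈ fixedPoints Q' α ↔ x ∈ s := by
        rw [hfix]
        constructor
        · rintro ⟨y, hy, hyx⟩
          rwa [← Subtype.ext hyx]
        · intro hx; exact ⟨x, hx, rfl⟩
      rw [← hiff]
      constructor
      · intro hx g
        have := hx ⟨⟨g, hQ'st g.2⟩, g.2⟩
        exact congrArg Subtype.val this
      · intro hx g
        apply Subtype.ext
        exact hx ⟨((g : stabilizer G F) : G), g.2⟩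
  · -- Witt's lemma
    push Not at hcase
    obtain ⟨X, hXF, hXk, hX⟩ := hcase
    have hXfin : X.Finite := Set.toFinite X
    -- enumerate `X`
    have hXcard : Nat.card X = k := hXk
    let e : Fin k ≃ X := (Finite.equivFinOfCardEq hXcard).symm
    let x₀ : Fin k ↪ F :=
      ⟨fun i => ⟨(e i : α), hXF (e i).2⟩, fun i j hij => by
        have := congrArg Subtype.val hij
        exact e.injective (Subtype.ext this)⟩
    refine (MulAction.isPretransitive_iff_orbit_eq_univ x₀).mpr ?_
    rw [Set.eq_univ_iff_forall]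
    intro y
    -- move in `G`
    let x₁ : Fin k ↪ α := x₀.trans (Function.Embedding.subtype _)
    let y₁ : Fin k ↪ α := y.trans (Function.Embedding.subtype _)
    obtain ⟨g, hg⟩ := hG.exists_smul_eq x₁ y₁
    have hg' : ∀ i, g • ((x₀ i : F) : α) = ((y i : F) : α) := fun i => DFunLike.congr_fun hg i
    -- the pointwise stabiliser of `X`
    obtain ⟨A, hA⟩ : ∃ A : Subgroup G, ∀ z : G, z ∈ A ↔ ∀ y ∈ X, z • y = y :=
      ⟨fixingSubgroup G X, fun z => mem_fixingSubgroup_iff G⟩
    have hPA : P ≤ A := by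
      intro q hq
      rw [hA]
      intro x hx
      exact hXF hx ⟨q, hq⟩
    -- `P` is Sylow in `A`
    have hmaxA : ∀ Q : Subgroup A, IsPGroup p Q → P.subgroupOf A ≤ Q → Q = P.subgroupOf A := by
      intro Q hQ hPQ
      by_contra hcon
      have hmap : IsPGroup p (Q.map A.subtype) := hQ.map _
      have hle : P ≤ Q.map A.subtype := by
        intro q hq
        exact ⟨⟨q, hPA hq⟩, hPQ (show q ∈ P from hq), rfl⟩
      have hlt : P < Q.map A.subtype := by
        refine lt_of_le_of_ne hle ?_
        intro heq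
        apply hcon
        apply le_antisymm _ hPQ
        intro a ha
        rw [Subgroup.mem_subgroupOf, heq]
        exact ⟨a, ha, rfl⟩
      refine hX _ hmap hlt ?_
      intro x hx q
      obtain ⟨a, _, hq⟩ := q.2
      have ha := a.2
      rw [hA] at ha
      have h1 : (q : G) • x = x := by
        rw [← hq]
        exact ha x hx
      exact h1
    let S : Sylow p A := ⟨P.subgroupOf A, hP.comap_subtype, fun {Q} hQ hle => hmaxA Q hQ hle⟩
    -- `g⁻¹ P g ≤ A`
    have hconjA : ∀ q ∈ P, g⁻¹ * q * g ∈ A := by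
      intro q hq
      rw [hA]
      intro x hx
      obtain ⟨i, hi⟩ := e.surjective ⟨x, hx⟩
      have hxi : ((x₀ i : F) : α) = x := congrArg Subtype.val hi
      have hyi : q • ((y i : F) : α) = (y i : F) := (y i).2 ⟨q, hq⟩
      rw [← hxi, mul_smul, mul_smul, hg' i, hyi, ← hg' i, inv_smul_smul]
    let P' : Subgroup A := (P.map (MulAut.conj g⁻¹).toMonoidHom).subgroupOf A
    have hP' : IsPGroup p P' := (hP.map _).comap_subtype
    obtain ⟨T, hT⟩ := hP'.exists_le_sylow
    obtain ⟨h, hh⟩ := MulAction.exists_smul_eq A T S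
    -- `h g⁻¹ P g h⁻¹ ≤ P`
    have hsub : ∀ q ∈ P, ((h : G) * g⁻¹) * q * ((h : G) * g⁻¹)⁻¹ ∈ P := by
      intro q hq
      have h1 : (⟨g⁻¹ * q * g, hconjA q hq⟩ : A) ∈ P' := by
        rw [Subgroup.mem_subgroupOf]
        refine ⟨q, hq, ?_⟩
        simp
      have h2 : (⟨g⁻¹ * q * g, hconjA q hq⟩ : A) ∈ (T : Subgroup A) := hT h1
      have h3 : h * ⟨g⁻¹ * q * g, hconjA q hq⟩ * h⁻¹ ∈ (S : Subgroup A) := by
        rw [← hh, Sylow.smul_def, Sylow.pointwise_smul_def]
        exact ⟨_, h2, rfl⟩
      have h4 : ((h * ⟨g⁻¹ * q * g, hconjA q hq⟩ * h⁻¹ : A) : G) ∈ P := h3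
      have h5 : ((h * ⟨g⁻¹ * q * g, hconjA q hq⟩ * h⁻¹ : A) : G) =
          ((h : G) * g⁻¹) * q * ((h : G) * g⁻¹)⁻¹ := by
        simp only [Subgroup.coe_mul, Subgroup.coe_inv, mul_inv_rev, inv_inv]
        group
      rwa [h5] at h4
    have hnorm : (h : G) * g⁻¹ ∈ Subgroup.normalizer (P : Set G) := by
      rw [Subgroup.mem_normalizer_iff]
      intro q
      refine ⟨hsub q, ?_⟩
      intro hq
      -- finiteness
      have hinj : Function.Injective (fun q : P => (⟨((h : G) * g⁻¹) * q * ((h : G) * g⁻¹)⁻¹,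
          hsub q q.2⟩ : P)) := by
        intro a b hab
        have := congrArg Subtype.val hab
        simp only [mul_left_inj, mul_right_inj] at this
        exact Subtype.ext this
      obtain ⟨q', hq'⟩ := (Finite.injective_iff_surjective.mp hinj) ⟨_, hq⟩
      have := congrArg Subtype.val hq'
      simp only [mul_left_inj, mul_right_inj] at this
      rw [← this]
      exact q'.2
    have hn : g * (h : G)⁻¹ ∈ Subgroup.normalizer (P : Set G) := by
      have := inv_mem hnorm
      simpa [mul_inv_rev] using this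
    refine ⟨⟨g * (h : G)⁻¹, normalizer_le_stabilizer P hn⟩, ?_⟩
    ext i
    show (g * (h : G)⁻¹) • ((x₀ i : F) : α) = (y i : F)
    have hfixh : (h : G)⁻¹ • ((x₀ i : F) : α) = (x₀ i : F) := by
      have hhA : (h : G)⁻¹ ∈ A := inv_mem h.2
      rw [hA] at hhA
      exact hhA _ (e i).2
    rw [mul_smul, hfixh, hg' i]

/-- Main reduction, for permutation groups, starting from an element. -/
theorem exists_fix_reduction {α : Type*} [Finite α] {k : ℕ} (hk : 1 ≤ k)
    (G : Subgroup (Equiv.Perm α)) (hG : IsMultiplyPretransitive G α k)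
    (h : ∃ g ∈ G, g ≠ 1 ∧ k + 1 ≤ {x : α | g x = x}.ncard) :
    ∃ F : Set α, k + 1 ≤ F.ncard ∧ F ≠ Set.univ ∧
      IsMultiplyPretransitive (stabilizer G F) F k := by
  obtain ⟨g, hgG, hg1, hgfix⟩ := h
  have hord : orderOf g ≠ 1 := by
    intro h
    exact hg1 (orderOf_eq_one_iff.mp h)
  have hpos : 0 < orderOf g := orderOf_pos g
  set p := (orderOf g).minFac with hp
  have hpp : p.Prime := Nat.minFac_prime hord
  have : Fact p.Prime := ⟨hpp⟩
  obtain ⟨m, hm⟩ : p ∣ orderOf g := Nat.minFac_dvd _
  have hmpos : 0 < m := by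
    rcases Nat.eq_zero_or_pos m with rfl | h
    · rw [mul_zero] at hm; omega
    · exact h
  have hordm : orderOf (g ^ m) = p := by
    rw [orderOf_pow_of_dvd hmpos.ne' (Dvd.intro_left _ hm.symm), hm,
      Nat.mul_div_cancel _ hmpos]
  let t : G := ⟨g ^ m, G.pow_mem hgG m⟩
  have htord : orderOf t = p := by
    rw [← hordm]
    exact (Subgroup.orderOf_coe t).symm
  have hfixsub : ∀ x : α, g x = x → x ∈ fixedPoints (Subgroup.zpowers t) α := by
    intro x hx
    have htx : t • x = x := by
      show (g ^ m) x = x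
      have := Equiv.Perm.pow_apply_eq_self_of_apply_eq_self hx m
      exact this
    rintro ⟨q, hq⟩
    have : q ∈ stabilizer G x := by
      have hle : Subgroup.zpowers t ≤ stabilizer G x := by
        rw [Subgroup.zpowers_le]; exact htx
      exact hle hq
    exact this
  refine exists_fix_reduction_of_pgroup (p := p) hk hG (Subgroup.zpowers t) ?_ ?_ ?_
  · apply IsPGroup.of_card (n := 1)
    rw [Nat.card_zpowers, htord, pow_one]
  · intro h
    have ht1 : t = 1 := by
      apply Subtype.ext
      apply Equiv.ext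
      intro x
      have hx : x ∈ fixedPoints (Subgroup.zpowers t) α := by rw [h]; trivial
      exact hx ⟨t, Subgroup.mem_zpowers t⟩
    rw [ht1, orderOf_one] at htord
    exact hpp.one_lt.ne htord
  · refine hgfix.trans (Set.ncard_le_ncard ?_ (Set.toFinite _))
    intro x hx
    exact hfixsub x hx

end Cfsg.Agent.PermutationGroups.FixReduction
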