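import Cfsg.Agent.PermutationGroups.HalfTransLinear

/-!
# The semilinear form of a solvable linear group of odd order transitive up to sign
-/

set_option autoImplicit false

namespace Cfsg.Agent.PermutationGroups.HalfTransGalois

open Cfsg.Agent.PermutationGroups.HalfTransField
open Cfsg.Agent.PermutationGroups.HalfTransLinear

variable {V : Type*} [AddCommGroup V] [Finite V] {H : Type*} [Group H] [Finite H]
  [DistribMulAction H V]

/-- A solvable group of odd order acting on `V`, transitive on the nonzero vectors up to sign, is a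
group of semilinear maps of a one-dimensional space over a finite field. -/
theorem exists_galois (p : ℕ) [hpF : Fact p.Prime] (hpV : ∀ v : V, p • v = 0) [Nontrivial V]
    [FaithfulSMul H V] (hsol : Group.IsSolvable H) (hodd : Odd (Nat.card H))
    (hT : ∀ v w : V, v ≠ 0 → w ≠ 0 → ∃ h : H, h • v = w ∨ h • v = -w) :
    ∃ (f : ℕ) (θ : V ≃+ GaloisField p f), Nat.card V = p ^ f ∧
      ∀ h : H, ∃ (c : (GaloisField p f)ˣ) (φ : GaloisField p f ≃+* GaloisField p f),
        ∀ v : V, θ (h • v) = c * φ (θ v) := by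
  classical
  obtain ⟨E, hEc, hEn, hEt, hEd⟩ := exists_field p hpV hsol hodd hT
  have hfinE : Finite (AddMonoid.End V) := finite_end
  obtain ⟨v0, hv0⟩ := exists_ne (0 : V)
  -- field structure
  have hEfin : Finite E := inferInstance
  have hEnt : Nontrivial E := ⟨⟨0, 1, fun h => by
    have h1 : (0 : AddMonoid.End V) = 1 := congrArg Subtype.val h
    apply hv0
    have h2 : (0 : AddMonoid.End V) v0 = (1 : AddMonoid.End V) v0 := by rw [h1]
    exact h2.symm⟩⟩
  let : CommRing E := { (inferInstance : Ring E) with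
    mul_comm := fun x y => Subtype.ext (hEc x.1 x.2 y.1 y.2) }
  have hEdom : IsDomain E := by
    have : NoZeroDivisors E := ⟨by
      intro x y hxy
      by_contra hcon
      push Not at hcon
      obtain ⟨hx, hy⟩ := hcon
      have hyv : y.1 v0 ≠ 0 := fun h => hy (Subtype.ext (hEd y.1 y.2 v0 hv0 h))
      apply hx
      apply Subtype.ext
      apply hEd x.1 x.2 _ hyv
      have h1 : x.1 * y.1 = 0 := congrArg Subtype.val hxy
      have h2 : (x.1 * y.1) v0 = (0 : AddMonoid.End V) v0 := by rw [h1]
      exact h2⟩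
    exact NoZeroDivisors.to_isDomain E
  have hEfield : IsField E := Finite.isField_of_domain E
  let : Field E := hEfield.toField
  have hEp : CharP E p := by
    rw [CharP.charP_iff_prime_eq_zero hpF.out]
    apply Subtype.ext
    apply hEd _ (p : E).2 v0 hv0
    have : ((p : E) : AddMonoid.End V) = (p : AddMonoid.End V) := by push_cast; rfl
    rw [this]
    have h2 : (p : AddMonoid.End V) v0 = p • v0 := rfl
    rw [h2, hpV]
  obtain ⟨f, hf, -⟩ := card_ringAut_le p E
  have hf0 : f ≠ 0 := by
    rintro rfl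
    rw [pow_zero] at hf
    have : 1 < Nat.card E := Finite.one_lt_card
    omega
  -- evaluation at `v0`
  have hinj : Function.Injective (fun x : E => x.1 v0) := by
    intro x y hxy
    apply Subtype.ext
    rw [← sub_eq_zero]
    apply hEd _ (E.sub_mem x.2 y.2) v0 hv0
    change x.1 v0 - y.1 v0 = 0
    exact sub_eq_zero.mpr hxy
  have hsurj : Function.Surjective (fun x : E => x.1 v0) := by
    intro w
    obtain ⟨x, hx, hxw⟩ := hEt v0 hv0 w
    exact ⟨⟨x, hx⟩, hxw⟩
  let ev : E ≃+ V := AddEquiv.mk' (Equiv.ofBijective (fun x : E => x.1 v0) ⟨hinj, hsurj⟩)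
    (fun x y => rfl)
  have hev : ∀ x : E, ev x = x.1 v0 := fun x => rfl
  have hcard : Nat.card V = p ^ f := by rw [← hf]; exact (Nat.card_congr ev.toEquiv).symm
  have hfE : Fintype E := Fintype.ofFinite E
  have hfG : Fintype (GaloisField p f) := Fintype.ofFinite _
  let ι : E ≃+* GaloisField p f := FiniteField.ringEquivOfCardEq (by
    rw [← Nat.card_eq_fintype_card, ← Nat.card_eq_fintype_card, hf, GaloisField.card p f hf0])
  refine ⟨f, ev.symm.trans ι.toAddEquiv, hcard, ?_⟩
  intro h
  -- the multiplier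
  set c : E := ev.symm (h • v0) with hc
  have hcv : c.1 v0 = h • v0 := ev.apply_symm_apply (h • v0)
  have hc0 : c ≠ 0 := by
    intro h0
    rw [h0] at hcv
    have h1 : h • v0 = 0 := hcv.symm
    apply hv0
    have := congrArg (fun t => h⁻¹ • t) h1
    simpa using this
  refine ⟨Units.mk0 (ι c) (by simpa using hc0), (ι.symm.trans (conjAut E hEn h)).trans ι, ?_⟩
  intro v
  obtain ⟨x, rfl⟩ := ev.surjective v
  have h1 : ev.symm (h • ev x) = c * conjAut E hEn h x := by
    rw [AddEquiv.symm_apply_eq, hev, hev]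
    have h2 : c * conjAut E hEn h x = conjAut E hEn h x * c := mul_comm _ _
    rw [h2]
    change h • x.1 v0 = (conjAut E hEn h x).1 (c.1 v0)
    rw [hcv, conjAut_apply]
    change _ = h • (x.1 (h⁻¹ • (h • v0)))
    rw [inv_smul_smul]
  change ι (ev.symm (h • ev x)) = ι c * ι (conjAut E hEn h (ι.symm (ι (ev.symm (ev x)))))
  rw [h1, map_mul, AddEquiv.symm_apply_apply, RingEquiv.symm_apply_apply]

/-- The number of elements of `V` is `3` modulo `4`. -/
theorem card_mod_four (p : ℕ) [hpF : Fact p.Prime] (hp2 : p ≠ 2) (hpV : ∀ v : V, p • v = 0)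
    [Nontrivial V] (hodd : Odd (Nat.card H))
    (hT : ∀ v w : V, v ≠ 0 → w ≠ 0 → ∃ h : H, h • v = w ∨ h • v = -w) :
    Nat.card V % 4 = 3 := by
  classical
  obtain ⟨v0, hv0⟩ := exists_ne (0 : V)
  have hneg : ∀ v : V, v = -v → v = 0 := by
    intro v hv
    have h2 : 2 • v = 0 := by rw [two_smul]; nth_rewrite 2 [hv]; exact add_neg_cancel v
    have h3 : ((2 : ℕ) : ℤ) • v = 0 := by rw [natCast_zsmul]; exact h2
    have h4 : ((p : ℕ) : ℤ) • v = 0 := by rw [natCast_zsmul]; exact hpV v
    have h5 : Nat.Coprime 2 p := (Nat.coprime_primes Nat.prime_two hpF.out).mpr (Ne.symm hp2)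
    have h6 : ((Nat.gcd 2 p : ℕ) : ℤ) • v = 0 := by
      rw [Nat.gcd_eq_gcd_ab, add_smul, mul_comm, mul_smul, mul_comm, mul_smul, h3, h4]
      simp
    rw [h5] at h6
    simpa using h6
  have hH : ∀ h : H, ∀ v : V, v ≠ 0 → h • v ≠ -v := by
    intro h v hv hh
    have key : ∀ n : ℕ, h ^ n • v = (-1 : ℤ) ^ n • v := by
      intro n
      induction n with
      | zero => simp
      | succ n ih =>
        rw [pow_succ, mul_smul, hh, smul_neg, ih, pow_succ, mul_smul]
        simp
    have h1 := key (Nat.card H)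
    rw [pow_card_eq_one', one_smul, hodd.neg_one_pow] at h1
    apply hv
    apply hneg
    simpa using h1
  set O := MulAction.orbit H v0 with hO
  have hOodd : Odd (Nat.card O) := by
    apply Odd.of_dvd_nat hodd
    rw [hO, Nat.card_coe_set_eq, ← MulAction.index_stabilizer]
    exact Subgroup.index_dvd_card _
  let f : Option (O × Bool) → V := fun o => match o with
    | none => 0
    | some (h, true) => h.1
    | some (h, false) => -h.1
  have hne : ∀ o : O, o.1 ≠ 0 := by
    rintro ⟨_, ⟨h, rfl⟩⟩ h0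
    have h1 : h • v0 = 0 := h0
    apply hv0
    have := congrArg (fun t => h⁻¹ • t) h1
    simpa using this
  have hne2 : ∀ o o' : O, o.1 ≠ -o'.1 := by
    rintro ⟨_, ⟨h, rfl⟩⟩ ⟨_, ⟨k, rfl⟩⟩ h0
    have h1 : h • v0 = -(k • v0) := h0
    apply hH (h * k⁻¹) (k • v0) (hne ⟨_, ⟨k, rfl⟩⟩)
    rw [mul_smul, inv_smul_smul, h1]
  have hf : Function.Bijective f := by
    constructor
    · intro o o' hoo
      rcases o with _ | ⟨h, _ | _⟩ <;> rcases o' with _ | ⟨h', _ | _⟩
      · rfl
      · have h1 : 0 = -h'.1 := hoo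
        exact absurd (neg_eq_zero.mp h1.symm) (hne h')
      · have h1 : 0 = h'.1 := hoo
        exact absurd h1.symm (hne h')
      · have h1 : -h.1 = 0 := hoo
        exact absurd (neg_eq_zero.mp h1) (hne h)
      · have h1 : -h.1 = -h'.1 := hoo
        rw [Subtype.ext (neg_injective h1)]
      · have h1 : -h.1 = h'.1 := hoo
        exact absurd h1.symm (hne2 h' h)
      · have h1 : h.1 = 0 := hoo
        exact absurd h1 (hne h)
      · have h1 : h.1 = -h'.1 := hoo
        exact absurd h1 (hne2 h h')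
      · have h1 : h.1 = h'.1 := hoo
        rw [Subtype.ext h1]
    · intro w
      by_cases hw : w = 0
      · exact ⟨none, hw.symm⟩
      · obtain ⟨h, hh | hh⟩ := hT v0 w hv0 hw
        · exact ⟨some (⟨h • v0, ⟨h, rfl⟩⟩, true), hh⟩
        · refine ⟨some (⟨h • v0, ⟨h, rfl⟩⟩, false), ?_⟩
          change -(h • v0) = w
          rw [hh, neg_neg]
  have hcard := Nat.card_congr (Equiv.ofBijective f hf)
  rw [Finite.card_option, Nat.card_prod] at hcard
  have h2 : Nat.card Bool = 2 := by simp
  rw [h2] at hcard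
  obtain ⟨k, hk⟩ := hOodd
  omega

end Cfsg.Agent.PermutationGroups.HalfTransGalois
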