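import Mathlib
import Cfsg.Agent.PermutationGroups.InducedAlt
import Cfsg.Agent.PermutationGroups.FixReduction

/-!
A `k`-transitive group of degree `n`, `4 ≤ k < n`, induces at least the alternating group on some
`(k+1)`-set.
-/

set_option autoImplicit false

namespace Cfsg.Agent.PermutationGroups.InducedAltMain

open MulAction Equiv
open scoped Pointwise
open Cfsg.Agent.PermutationGroups.InducedAlt

/-- If the alternating group is contained in `G` then all even permutations are induced. -/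
theorem of_alternating {α : Type*} [Fintype α] [DecidableEq α] (G : Subgroup (Perm α))
    (h : alternatingGroup α ≤ G) (Δ : Finset α) (σ : Perm ↥Δ) (hσ : σ ∈ alternatingGroup ↥Δ) :
    ∃ g ∈ G, ∀ x : ↥Δ, g (x : α) = σ x := by
  refine ⟨Equiv.Perm.ofSubtype σ, h ?_, fun x => ?_⟩
  · rw [Perm.mem_alternatingGroup] at hσ ⊢
    rw [Equiv.Perm.sign_ofSubtype, hσ]
  · exact Equiv.Perm.ofSubtype_apply_coe σ x

/-- The main step: only the identity fixes more than `k` points. -/
theorem of_fix (α : Type*) [Fintype α] [DecidableEq α] (G : Subgroup (Perm α)) {k : ℕ}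
    (hk : 4 ≤ k) (hkn : k < Fintype.card α) (ht : IsMultiplyPretransitive G α k)
    (hfix : ∀ g ∈ G, ∀ s : Finset α, k + 1 ≤ s.card → (∀ x ∈ s, g x = x) → g = 1) :
    ∃ Δ : Finset α, Δ.card = k + 1 ∧ ∀ σ : Perm ↥Δ, σ ∈ alternatingGroup ↥Δ →
      ∃ g ∈ G, ∀ x : ↥Δ, g (x : α) = σ x := by
  obtain ⟨Δ₀, -, hΔ₀⟩ : ∃ s ⊆ (Finset.univ : Finset α), s.card = k + 1 :=
    Finset.exists_subset_card_eq (by rw [Finset.card_univ]; omega)
  by_cases heven : ∃ t ∈ G, t ≠ 1 ∧ t * t = 1 ∧ ∃ s : Finset α, s.card = k ∧ ∀ x ∈ s, t x = x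
  · obtain ⟨t, htG, ht1, ht2, Γ, hΓ, htΓ⟩ := heven
    exact ⟨Δ₀, hΔ₀, fun σ _ => exists_of_forall_swap G Δ₀
      (case_even G ht hkn hfix t htG ht1 ht2 Γ hΓ htΓ Δ₀ hΔ₀) σ⟩
  · have hodd : ∀ g ∈ G, g * g = 1 → ∀ s : Finset α, s.card = k → (∀ x ∈ s, g x = x) →
        g = 1 := by
      intro g hg hgg s hs hgs
      by_contra hne
      exact heven ⟨g, hg, hne, hgg, s, hs, hgs⟩
    rcases Nat.even_or_odd (Fintype.card α - k) with hpar | hpar
    · have hn := case_odd_even G hk ht hkn hfix hodd hpar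
      have halt : alternatingGroup α ≤ G := by
        apply IsMultiplyPretransitive.alternatingGroup_le
        rw [Nat.card_eq_fintype_card, hn, Nat.add_sub_cancel]
        exact ht
      exact ⟨Δ₀, hΔ₀, fun σ hσ => of_alternating G halt Δ₀ σ hσ⟩
    · obtain ⟨Δ, hΔ, h⟩ := case_odd_odd G hk ht hkn hfix hodd hpar
      exact ⟨Δ, hΔ, fun σ _ => exists_of_forall_swap G Δ h σ⟩

/-- Livingstone–Wagner: a `k`-transitive group, `4 ≤ k < n`, induces at least the alternating group
on some `(k+1)`-set. -/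
theorem main {k : ℕ} (hk : 4 ≤ k) (n : ℕ) : ∀ (α : Type*) [Fintype α] [DecidableEq α]
    (G : Subgroup (Perm α)) (_ : Fintype.card α = n) (_ : k < Fintype.card α)
    (_ : IsMultiplyPretransitive G α k),
    ∃ Δ : Finset α, Δ.card = k + 1 ∧ ∀ σ : Perm ↥Δ, σ ∈ alternatingGroup ↥Δ →
      ∃ g ∈ G, ∀ x : ↥Δ, g (x : α) = σ x := by
  induction n using Nat.strong_induction_on with
  | _ n ih =>
    intro α _ _ G hn hkn ht
    by_cases hfix : ∀ g ∈ G, ∀ s : Finset α, k + 1 ≤ s.card → (∀ x ∈ s, g x = x) → g = 1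
    · exact of_fix α G hk hkn ht hfix
    · push Not at hfix
      obtain ⟨g, hg, s, hs, hgs, hg1⟩ := hfix
      obtain ⟨F, hF, hFu, hFt⟩ := FixReduction.exists_fix_reduction (k := k) (by omega) G ht
        ⟨g, hg, hg1, by
          refine hs.trans ?_
          rw [← Set.ncard_coe_finset]
          exact Set.ncard_le_ncard (fun x hx => hgs x hx) (Set.toFinite _)⟩
      classical
      have : Fintype F := Fintype.ofFinite F
      have hFc : Fintype.card F = F.ncard := by
        rw [← Nat.card_eq_fintype_card, Nat.card_coe_set_eq]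
      have hlt : Fintype.card F < n := by
        rw [hFc, ← hn, ← Nat.card_eq_fintype_card, ← Set.ncard_univ]
        exact Set.ncard_lt_ncard (Set.ssubset_univ_iff.2 hFu) (Set.toFinite _)
      let H : Subgroup (Perm F) := (toPermHom (stabilizer G F) F).range
      have hHt : IsMultiplyPretransitive H F k := by
        refine ⟨fun x y => ?_⟩
        obtain ⟨h, hh⟩ := hFt.exists_smul_eq x y
        refine ⟨⟨toPermHom _ F h, ⟨h, rfl⟩⟩, ?_⟩
        ext i
        have h1 := DFunLike.congr_fun hh i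
        exact congrArg Subtype.val h1
      obtain ⟨Δ', hΔ'c, hΔ'⟩ := ih _ hlt F H rfl (by omega) hHt
      refine ⟨Δ'.map (Function.Embedding.subtype _), by rw [Finset.card_map, hΔ'c], ?_⟩
      intro σ hσ
      let e : Δ' ≃ (Δ'.map (Function.Embedding.subtype (fun x => x ∈ F)) : Finset α) :=
        Equiv.ofBijective (fun x => ⟨(x : F), Finset.mem_map.2 ⟨x, x.2, rfl⟩⟩) (by
          constructor
          · intro x y hxy
            have h1 : ((x : F) : α) = ((y : F) : α) := (Subtype.ext_iff.1 hxy :)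
            exact Subtype.ext (Subtype.ext h1)
          · rintro ⟨y, hy⟩
            obtain ⟨x, hx, hxy⟩ := Finset.mem_map.1 hy
            exact ⟨⟨x, hx⟩, Subtype.ext hxy⟩)
      have he : ∀ x : Δ', ((e x : _) : α) = ((x : F) : α) := fun x => rfl
      obtain ⟨g', ⟨h, rfl⟩, hg'⟩ := hΔ' (e.symm.permCongr σ) (by
        rw [Perm.mem_alternatingGroup] at hσ ⊢
        rw [Equiv.Perm.sign_permCongr, hσ])
      refine ⟨(h : G), (h : G).2, fun x => ?_⟩
      obtain ⟨x', rfl⟩ := e.surjective x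
      have h1 := congrArg (Subtype.val : F → α) (hg' x')
      rw [he]
      have h2 : ((toPermHom (stabilizer G F) F h (x' : F) : F) : α) =
          ((h : G) : Perm α) ((x' : F) : α) := rfl
      rw [← h2, h1, Equiv.permCongr_apply, Equiv.symm_symm, ← he, Equiv.apply_symm_apply]

end Cfsg.Agent.PermutationGroups.InducedAltMain
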