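import Mathlib.GroupTheory.GroupAction.MultiplePrimitivity

/-!
Normal subgroups of multiply transitive / multiply primitive actions (finite, not necessarily
faithful).

* `normal_transitive_of_primitive`: a normal subgroup of a primitive group that moves a point is
  transitive.
* `transitive_succ_of_stabilizer`: `N` transitive and `N ∩ G_a` `k`-transitive on `X ∖ {a}` imply
  `N` is `(k+1)`-transitive.
* `not_three_primitive_of_swap`: in a 3-primitive group of degree at least 5 no normal subgroup with
  trivial two-point stabilisers has an element interchanging two points.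
* `sq_trivial_of_regular_normal`: regular normal subgroup of a 3-transitive group of degree at least
  4 is of exponent 2.
* `normal_multiplyTransitive`: `G` `k`-primitive on `X`, `1 ≤ k`, `k + 2 ≤ |X|`, `N` normal and not
  semiregular; then `N` is `k`-transitive.
-/

set_option autoImplicit false

namespace Cfsg.Agent.PermutationGroups.JordanNormal

open MulAction SubMulAction
open scoped Pointwise

variable {G X : Type*} [Group G] [MulAction G X]

theorem normal_transitive_of_primitive (h : IsPreprimitive G X) (N : Subgroup G) [N.Normal]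
    (hN : ∃ n ∈ N, ∃ x : X, n • x ≠ x) : IsPretransitive N X := by
  apply IsQuasiPreprimitive.isPretransitive_of_normal (G := G)
  obtain ⟨n, hn, x, hx⟩ := hN
  intro h'
  have : x ∈ fixedPoints N X := by rw [h']; trivial
  exact hx (this ⟨n, hn⟩)

/-- The inclusion of `N ∩ G_a` (as a subgroup of `G_a`) in the stabiliser in `N` of `a`. -/
def stabMap (N : Subgroup G) (a : X) : N.subgroupOf (stabilizer G a) → stabilizer N a :=
  fun g => ⟨⟨g.1.1, g.2⟩, g.1.2⟩

/-- Identity of `X ∖ {a}`, equivariant for `stabMap`. -/
def stabHom (N : Subgroup G) (a : X) :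
    ofStabilizer G a →ₑ[stabMap N a] ofStabilizer N a where
  toFun x := ⟨x.1, x.2⟩
  map_smul' _ _ := rfl

theorem stabHom_surjective (N : Subgroup G) (a : X) : Function.Surjective (stabHom N a) :=
  fun x => ⟨⟨x.1, x.2⟩, rfl⟩

theorem transitive_succ_of_stabilizer (N : Subgroup G) (a : X) (k : ℕ)
    (ht : IsPretransitive N X)
    (hk : IsMultiplyPretransitive (N.subgroupOf (stabilizer G a)) (ofStabilizer G a) k) :
    IsMultiplyPretransitive N X (k + 1) := by
  rw [ofStabilizer.isMultiplyPretransitive (a := a)]
  exact IsPretransitive.of_embedding (f := stabHom N a) (stabHom_surjective N a)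

/-- A `G`-subset outside `{a,b}` invariant under the pointwise stabiliser of `{a, b}` when that is
transitive on the complement. -/
theorem not_three_primitive_of_swap [Finite X] (h5 : 5 ≤ Nat.card X)
    (h3 : IsMultiplyPreprimitive G X 3) (N : Subgroup G) [N.Normal]
    (hfix : ∀ n ∈ N, ∀ x y : X, x ≠ y → n • x = x → n • y = y → ∀ z : X, n • z = z)
    (t : G) (ht : t ∈ N) (a b : X) (hab : a ≠ b) (hta : t • a = b) (htb : t • b = a) : False := by
  classical
  have := Fintype.ofFinite X
  set s : Set X := {a, b} with hs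
  have hsc : s.encard + 1 = (3 : ℕ) := by
    rw [hs, Set.encard_pair hab]; norm_num
  have hprim : IsPreprimitive (fixingSubgroup G s) (ofFixingSubgroup G s) :=
    IsMultiplyPreprimitive.isPreprimitive_ofFixingSubgroup G 3 hsc
  -- elements of the fixing subgroup commute with `t` on `X`
  have hcomm : ∀ g : fixingSubgroup G s, ∀ z : X, (g : G) • t • z = t • (g : G) • z := by
    intro g z
    have hga : (g : G) • a = a := g.2 ⟨a, by simp [hs]⟩
    have hgb : (g : G) • b = b := g.2 ⟨b, by simp [hs]⟩
    have hga' : (g : G)⁻¹ • a = a := by rw [inv_smul_eq_iff, hga]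
    have hgb' : (g : G)⁻¹ • b = b := by rw [inv_smul_eq_iff, hgb]
    have hta' : t⁻¹ • b = a := by rw [inv_smul_eq_iff, hta]
    have htb' : t⁻¹ • a = b := by rw [inv_smul_eq_iff, htb]
    have hm : t⁻¹ * ((g : G) * t * (g : G)⁻¹) ∈ N :=
      N.mul_mem (N.inv_mem ht) (Subgroup.Normal.conj_mem inferInstance t ht _)
    have := hfix _ hm a b hab (by simp only [mul_smul, hga', hta, hgb, hta'])
      (by simp only [mul_smul, hgb', htb, hga, htb']) ((g : G) • z)
    simp only [mul_smul, inv_smul_smul] at this
    rwa [inv_smul_eq_iff] at this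
  have htt : ∀ z : X, t • t • z = z := by
    intro z
    have := hfix (t * t) (N.mul_mem ht ht) a b hab (by simp only [mul_smul, hta, htb])
      (by simp only [mul_smul, hta, htb]) z
    rwa [mul_smul] at this
  -- there are at least three points outside `{a, b}`
  have hcard : 3 ≤ (Finset.univ \ ({a, b} : Finset X)).card := by
    have h1 : ({a, b} : Finset X).card ≤ 2 := Finset.card_le_two
    have h2 := Finset.le_card_sdiff ({a, b} : Finset X) Finset.univ
    rw [Finset.card_univ, ← Nat.card_eq_fintype_card] at h2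
    omega
  obtain ⟨c, hc, d, hd, e, he, hcd, hce, hde⟩ : ∃ c ∈ (Finset.univ \ ({a, b} : Finset X)),
      ∃ d ∈ (Finset.univ \ ({a, b} : Finset X)), ∃ e ∈ (Finset.univ \ ({a, b} : Finset X)),
      c ≠ d ∧ c ≠ e ∧ d ≠ e := by
    obtain ⟨c, d, e, h1, h2, h3, h4⟩ := Finset.two_lt_card_iff.mp hcard
    exact ⟨c, h1, d, h2, e, h3, h4⟩
  simp only [Finset.mem_sdiff, Finset.mem_univ, true_and, Finset.mem_insert,
    Finset.mem_singleton, not_or] at hc hd he
  have hmem : ∀ {z : X}, z ≠ a ∧ z ≠ b → z ∈ ofFixingSubgroup G s := by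
    intro z hz
    rw [mem_ofFixingSubgroup_iff]
    simp [hs, hz.1, hz.2]
  -- `t` has no fixed point outside `{a, b}`
  have hfree : ∀ z : X, z ≠ a ∧ z ≠ b → t • z ≠ z := by
    intro z hz htz
    have hall : ∀ w : X, w ≠ a ∧ w ≠ b → t • w = w := by
      intro w hw
      obtain ⟨g, hg⟩ := exists_smul_eq (fixingSubgroup G s)
        (⟨z, hmem hz⟩ : ofFixingSubgroup G s) ⟨w, hmem hw⟩
      have hg' : (g : G) • z = w := congrArg Subtype.val hg
      rw [← hg', ← hcomm, htz]
    have := hfix t ht c d hcd (hall c hc) (hall d hd) a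
    exact hab (this.symm.trans hta)
  have htout : ∀ z : X, z ≠ a ∧ z ≠ b → t • z ≠ a ∧ t • z ≠ b := by
    intro z hz
    refine ⟨fun h => hz.2 ?_, fun h => hz.1 ?_⟩
    · rw [← htt z, h, hta]
    · rw [← htt z, h, htb]
  -- the block `{c, t c}`
  set c' : ofFixingSubgroup G s := ⟨c, hmem hc⟩
  set tc' : ofFixingSubgroup G s := ⟨t • c, hmem (htout c hc)⟩
  have hne : c' ≠ tc' := fun h => hfree c hc (congrArg Subtype.val h).symm
  have hB : IsBlock (fixingSubgroup G s) ({c', tc'} : Set (ofFixingSubgroup G s)) := by
    rw [isBlock_iff_smul_eq_of_nonempty]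
    intro g hg
    have himg : g • ({c', tc'} : Set (ofFixingSubgroup G s)) = {g • c', g • tc'} := by
      rw [← Set.image_smul, Set.image_pair]
    rw [himg] at hg ⊢
    have htc : (g • tc' : ofFixingSubgroup G s).1 = t • (g • c' : ofFixingSubgroup G s).1 := by
      show (g : G) • t • c = t • (g : G) • c
      exact hcomm g c
    obtain ⟨x, hx1, hx2⟩ := hg
    rcases hx2 with hx2 | hx2 <;> rcases hx1 with hx1 | hx1
    · -- g c = c
      have h1 : g • c' = c' := hx1.symm.trans hx2
      have h2 : g • tc' = tc' := by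
        apply Subtype.ext
        rw [htc, h1]
      rw [h1, h2]
    · -- g tc = c
      have h1 : g • tc' = c' := hx1.symm.trans hx2
      have h2 : g • c' = tc' := by
        apply Subtype.ext
        rw [← htt (g • c' : ofFixingSubgroup G s).1, ← htc, h1]
      rw [h1, h2, Set.pair_comm]
    · -- g c = tc
      have h1 : g • c' = tc' := hx1.symm.trans hx2
      have h2 : g • tc' = c' := by
        apply Subtype.ext
        rw [htc, h1]
        exact htt c
      rw [h1, h2, Set.pair_comm]
    · -- g tc = tc
      have h1 : g • tc' = tc' := hx1.symm.trans hx2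
      have h2 : g • c' = c' := by
        apply Subtype.ext
        rw [← htt (g • c' : ofFixingSubgroup G s).1, ← htc, h1]
        exact htt c
      rw [h1, h2]
  rcases IsBlock.subsingleton_or_eq_univ hB with h | h
  · exact hne (h (by simp) (by simp))
  · have hd' : (⟨d, hmem hd⟩ : ofFixingSubgroup G s) ∈
        ({c', tc'} : Set (ofFixingSubgroup G s)) := by rw [h]; trivial
    have he' : (⟨e, hmem he⟩ : ofFixingSubgroup G s) ∈
        ({c', tc'} : Set (ofFixingSubgroup G s)) := by rw [h]; trivial
    rcases hd' with hd' | hd'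
    · exact hcd (congrArg Subtype.val hd').symm
    · rcases he' with he' | he'
      · exact hce (congrArg Subtype.val he').symm
      · exact hde ((congrArg Subtype.val hd').trans (congrArg Subtype.val he').symm)

/-- Three-transitivity elementwise. -/
theorem exists_smul_three (h3 : IsMultiplyPretransitive G X 3) {a b c a' b' c' : X}
    (hab : a ≠ b) (hac : a ≠ c) (hbc : b ≠ c) (hab' : a' ≠ b') (hac' : a' ≠ c') (hbc' : b' ≠ c') :
    ∃ g : G, g • a = a' ∧ g • b = b' ∧ g • c = c' := by
  have key : ∀ {u v w : X}, u ≠ v → u ≠ w → v ≠ w → Function.Injective ![u, v, w] := by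
    intro u v w h1 h2 h3 i j hij
    fin_cases i <;> fin_cases j <;> simp_all
  obtain ⟨g, hg⟩ := h3.exists_smul_eq ⟨![a, b, c], key hab hac hbc⟩
    ⟨![a', b', c'], key hab' hac' hbc'⟩
  refine ⟨g, ?_, ?_, ?_⟩
  · exact DFunLike.congr_fun hg 0
  · exact DFunLike.congr_fun hg 1
  · exact DFunLike.congr_fun hg 2

/-- A semiregular normal subgroup of a 3-transitive group of degree at least 4 acts with
exponent 2. -/
theorem sq_trivial_of_semiregular_normal [Finite X] (h4 : 4 ≤ Nat.card X)
    (h3 : IsMultiplyPretransitive G X 3) (N : Subgroup G) [N.Normal]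
    (hsr : ∀ n ∈ N, ∀ x : X, n • x = x → ∀ z : X, n • z = z) (n : G) (hn : n ∈ N) (z : X) :
    n • n • z = z := by
  classical
  have := Fintype.ofFinite X
  by_cases hz : n • z = z
  · rw [hz, hz]
  have hz' : z ≠ n⁻¹ • z := by
    intro h
    apply hz
    rw [← eq_inv_smul_iff]
    exact h
  by_cases hcb : n • z = n⁻¹ • z
  · rw [hcb, smul_inv_smul]
  obtain ⟨d, hd⟩ : ∃ d : X, d ∉ ({z, n • z, n⁻¹ • z} : Finset X) := by
    by_contra hcon
    push Not at hcon
    have h1 : (Finset.univ : Finset X) ⊆ {z, n • z, n⁻¹ • z} := fun x _ => hcon x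
    have h2 := Finset.card_le_card h1
    have h3 : ({z, n • z, n⁻¹ • z} : Finset X).card ≤ 3 := Finset.card_le_three
    rw [Finset.card_univ, ← Nat.card_eq_fintype_card] at h2
    omega
  simp only [Finset.mem_insert, Finset.mem_singleton, not_or] at hd
  obtain ⟨g, hg1, hg2, hg3⟩ := exists_smul_three h3 (Ne.symm hz) hz' hcb (Ne.symm hz)
    (Ne.symm hd.1) (Ne.symm hd.2.1)
  have hg1' : g⁻¹ • z = z := by rw [inv_smul_eq_iff, hg1]
  have hm : n⁻¹ * (g * n * g⁻¹) ∈ N :=
    N.mul_mem (N.inv_mem hn) (Subgroup.Normal.conj_mem inferInstance n hn _)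
  have h := hsr _ hm z (by simp only [mul_smul, hg1', hg2, inv_smul_smul]) d
  have hgd : g⁻¹ • d = n⁻¹ • z := by rw [inv_smul_eq_iff, hg3]
  simp only [mul_smul, hgd, smul_inv_smul, hg1] at h
  exact absurd h.symm hd.2.2

/-- No semiregular normal subgroup moving a point in a 3-primitive group of degree at least 5. -/
theorem not_semiregular_normal [Finite X] (h5 : 5 ≤ Nat.card X)
    (h3 : IsMultiplyPreprimitive G X 3) (N : Subgroup G) [N.Normal]
    (hsr : ∀ n ∈ N, ∀ x : X, n • x = x → ∀ z : X, n • z = z)
    (hN : ∃ n ∈ N, ∃ x : X, n • x ≠ x) : False := by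
  obtain ⟨n, hn, x, hx⟩ := hN
  have h3' : IsMultiplyPretransitive G X 3 := h3.isMultiplyPretransitive
  exact not_three_primitive_of_swap h5 h3 N (fun n hn x _ _ hnx _ => hsr n hn x hnx) n hn x (n • x)
    (Ne.symm hx) rfl (sq_trivial_of_semiregular_normal (by omega) h3' N hsr n hn x)

theorem enat_card_eq [Finite X] {k : ℕ} (h : k ≤ Nat.card X) : (k : ENat) ≤ ENat.card X := by
  rw [ENat.card_eq_coe_natCard]
  exact_mod_cast h

/-- `k`-primitive with `1 ≤ k` is primitive. -/
theorem primitive_of_multiply [Finite X] {k : ℕ} (hk : 1 ≤ k) (hkn : k ≤ Nat.card X)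
    (hG : IsMultiplyPreprimitive G X k) : IsPreprimitive G X := by
  rw [← is_one_preprimitive_iff]
  exact isMultiplyPreprimitive_of_le G X hG hk (enat_card_eq hkn)

/-- A non-semiregular normal subgroup of a `k`-primitive group of degree at least `k + 2` is
`k`-transitive. -/
theorem normal_multiplyTransitive (k : ℕ) (hk : 1 ≤ k) :
    ∀ {G X : Type*} [Group G] [MulAction G X] [Finite X], k + 2 ≤ Nat.card X →
      IsMultiplyPreprimitive G X k → ∀ (N : Subgroup G) [N.Normal],
      (∃ n ∈ N, (∃ x : X, n • x = x) ∧ ∃ y : X, n • y ≠ y) → IsMultiplyPretransitive N X k := by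
  induction k, hk using Nat.le_induction with
  | base =>
    intro G X _ _ _ _ hG N _ hN
    rw [is_one_pretransitive_iff]
    rw [is_one_preprimitive_iff] at hG
    obtain ⟨n, hn, _, y, hy⟩ := hN
    exact normal_transitive_of_primitive hG N ⟨n, hn, y, hy⟩
  | succ k hk ih =>
    intro G X _ _ _ hcard hG N _ hN
    have hprim : IsPreprimitive G X := primitive_of_multiply (by omega) (by omega) hG
    have hpre : IsPretransitive G X := hprim.toIsPretransitive
    obtain ⟨n, hn, ⟨a, ha⟩, y, hy⟩ := hN
    have hNt : IsPretransitive N X := normal_transitive_of_primitive hprim N ⟨n, hn, y, hy⟩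
    have hya : y ≠ a := by
      rintro rfl
      exact hy ha
    have hGa : IsMultiplyPreprimitive (stabilizer G a) (ofStabilizer G a) k :=
      isMultiplyPreprimitive_ofStabilizer G X
    have hcard' : Nat.card (ofStabilizer G a) + 1 = Nat.card X :=
      nat_card_ofStabilizer_add_one_eq G a
    have hNa : (N.subgroupOf (stabilizer G a)).Normal := inferInstance
    by_cases hsr : ∃ m ∈ N, ∃ b : X, b ≠ a ∧ m • a = a ∧ m • b = b ∧ ∃ z : X, m • z ≠ z
    · -- the induction hypothesis applies to `N ∩ G_a`
      obtain ⟨m, hm, b, hba, hma, hmb, z, hz⟩ := hsr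
      have hza : z ≠ a := by
        rintro rfl
        exact hz hma
      apply transitive_succ_of_stabilizer N a k hNt
      apply ih (by omega) hGa
      refine ⟨⟨m, hma⟩, hm, ⟨⟨b, hba⟩, Subtype.ext hmb⟩, ⟨z, hza⟩, fun h => hz ?_⟩
      exact congrArg Subtype.val h
    · -- otherwise two-point stabilisers in `N` are trivial
      push Not at hsr
      have hGa1 : IsPreprimitive (stabilizer G a) (ofStabilizer G a) :=
        primitive_of_multiply hk (by omega) hGa
      have hNa1 : IsPretransitive (N.subgroupOf (stabilizer G a)) (ofStabilizer G a) := by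
        apply normal_transitive_of_primitive hGa1
        exact ⟨⟨n, ha⟩, hn, ⟨y, hya⟩, fun h => hy (congrArg Subtype.val h)⟩
      have hN2 : IsMultiplyPretransitive N X 2 := by
        apply transitive_succ_of_stabilizer N a 1 hNt
        rw [is_one_pretransitive_iff]
        exact hNa1
      rcases Nat.lt_or_ge 1 k with hk1 | hk1
      · exfalso
        have hG3 : IsMultiplyPreprimitive G X 3 :=
          isMultiplyPreprimitive_of_le G X hG (by omega) (enat_card_eq (by omega))
        have hfix : ∀ m ∈ N, ∀ x y : X, x ≠ y → m • x = x → m • y = y → ∀ z : X, m • z = z := by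
          intro m hm x y hxy hmx hmy z
          obtain ⟨g, hg⟩ := exists_smul_eq G x a
          have hg' : g⁻¹ • a = x := by rw [inv_smul_eq_iff, hg]
          have h := hsr (g * m * g⁻¹) (Subgroup.Normal.conj_mem inferInstance m hm g) (g • y)
            (fun h => hxy (by rw [← hg'] ; rw [inv_smul_eq_iff]; exact h.symm))
            (by simp only [mul_smul, hg', hmx, hg]) (by simp only [mul_smul, inv_smul_smul, hmy])
            (g • z)
          simp only [mul_smul, inv_smul_smul] at h
          exact smul_left_cancel g h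
        rw [is_two_pretransitive_iff] at hN2
        obtain ⟨t, ht1, ht2⟩ := hN2 hya (Ne.symm hya)
        exact not_three_primitive_of_swap (by omega) hG3 N hfix t.1 t.2 y a hya ht1 ht2
      · have : k = 1 := by omega
        subst this
        exact hN2

end Cfsg.Agent.PermutationGroups.JordanNormal
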