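import Mathlib
import Cfsg.Agent.S0735
import Cfsg.Agent.Solvable.SZ
import Cfsg.Agent.SolvableStructure.PrimitiveSolvable
import Cfsg.Agent.PermutationGroups.RegularNormal

/-!
Reduction of Kantor's theorem (2-homogeneous, not 2-transitive groups) to a statement on linear
groups: a solvable group of this kind has a regular normal elementary abelian `p`-subgroup `N`, `p`
odd, and the stabiliser of a point acts on `N` with two orbits of the form `Δ`, `Δ⁻¹`.
-/

set_option autoImplicit false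

namespace Cfsg.Agent.PermutationGroups.KantorReduction

open Cfsg MulAction
open scoped Pointwise

/-- A nontrivial 2-homogeneous group which is not 2-transitive has degree at least 3. -/
theorem three_le_card {α : Type*} [Fintype α] [DecidableEq α] (G : Subgroup (Equiv.Perm α))
    (hne : G ≠ ⊥) (hn2 : ¬ MulAction.IsMultiplyPretransitive G α 2) : 3 ≤ Fintype.card α := by
  by_contra hlt
  obtain ⟨⟨g, hg⟩, hg1'⟩ := Subgroup.ne_bot_iff_exists_ne_one.1 hne
  have hg1 : g ≠ 1 := fun h => hg1' (Subtype.ext h)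
  obtain ⟨a, ha⟩ : ∃ a, g a ≠ a := by
    by_contra hcon
    push Not at hcon
    exact hg1 (Equiv.ext hcon)
  apply hn2
  rw [MulAction.is_two_pretransitive_iff]
  intro x y z w hxy hzw
  -- every element is `a` or `g a`
  have hall : ∀ x : α, x = a ∨ x = g a := by
    intro x
    by_contra hx
    push Not at hx
    have : ({x, a, g a} : Finset α).card = 3 := by
      rw [Finset.card_eq_three]
      exact ⟨x, a, g a, hx.1, hx.2, ha.symm, rfl⟩
    have h2 : ({x, a, g a} : Finset α).card ≤ Fintype.card α := Finset.card_le_univ _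
    omega
  have hgg : g (g a) = a := by
    rcases hall (g (g a)) with h | h
    · exact h
    · exact absurd (g.injective h) ha
  have hgsm : ∀ t : α, (⟨g, hg⟩ : G) • t = g t := fun t => rfl
  rcases hall x with hx | hx <;> rcases hall y with hy | hy <;> rcases hall z with hz | hz <;>
    rcases hall w with hw | hw <;> rw [hx, hy] at hxy <;> rw [hz, hw] at hzw <;>
    rw [hx, hy, hz, hw] <;>
    first
    | exact absurd rfl hxy
    | exact absurd rfl hzw
    | exact ⟨1, one_smul _ _, one_smul _ _⟩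
    | exact ⟨⟨g, hg⟩, by rw [hgsm], by rw [hgsm, hgg]⟩
    | exact ⟨⟨g, hg⟩, by rw [hgsm, hgg], by rw [hgsm]⟩

/-- Structure of a solvable 2-homogeneous group which is not 2-transitive. -/
theorem exists_regular {α : Type*} [Fintype α] [DecidableEq α] (G : Subgroup (Equiv.Perm α))
    (hne : G ≠ ⊥) (h2 : MulAction.IsPretransitive G (Set.powersetCard α 2))
    (hn2 : ¬ MulAction.IsMultiplyPretransitive G α 2)
    (hsolv : Odd (Nat.card G) → Group.IsSolvable G) :
    Odd (Nat.card G) ∧ ∃ (p : ℕ) (_ : Fact p.Prime) (N : Subgroup G) (a₀ : α), p ≠ 2 ∧ N.Normal ∧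
      (∀ x ∈ N, ∀ y ∈ N, x * y = y * x) ∧ (∀ x ∈ N, x ^ p = 1) ∧
      (∀ x : α, stabilizer N x = ⊥) ∧ IsPretransitive N α ∧
      (∀ x ∈ N, ∀ y ∈ N, x ≠ 1 → y ≠ 1 → ∃ h ∈ stabilizer G a₀,
        h * x * h⁻¹ = y ∨ h * x * h⁻¹ = y⁻¹) := by
  have h3 := three_le_card G hne hn2
  obtain ⟨he, hprim⟩ := Cfsg.Agent.S0735.result G h2 h3
  have hodd : Odd (Nat.card G) := by
    rw [← Nat.not_even_iff_odd]
    intro h
    exact hn2 (he h)
  refine ⟨hodd, ?_⟩
  have hprim := hprim hne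
  have hs := hsolv hodd
  haveI hnt : Nontrivial G := (Subgroup.nontrivial_iff_ne_bot G).2 hne
  obtain ⟨p, hp, N, hNn, hNb, hNc, hNp⟩ := Cfsg.Agent.Solvable.SZ.exists_normal_elemAb G hs
  haveI := hNn
  have htrans : IsPretransitive N α :=
    SolvableStructure.PrimitiveSolvable.isPretransitive_of_normal hprim N hNb
  have hreg : ∀ x : α, stabilizer N x = ⊥ := fun x =>
    SolvableStructure.PrimitiveSolvable.stabilizer_eq_bot_of_comm N hNc x
  obtain ⟨a₀⟩ : Nonempty α := by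
    rw [← Fintype.card_pos_iff]; omega
  have hconj : ∀ x ∈ N, ∀ y ∈ N, x ≠ 1 → y ≠ 1 → ∃ h ∈ stabilizer G a₀,
        h * x * h⁻¹ = y ∨ h * x * h⁻¹ = y⁻¹ := by
    intro x hx y hy hx1 hy1
    have hmove : ∀ z ∈ N, z ≠ 1 → a₀ ≠ z • a₀ := by
      intro z hz hz1 h
      apply hz1
      exact RegularNormal.eq_of_smul_eq hreg hz N.one_mem (x := a₀) (by rw [one_smul]; exact h.symm)
    obtain ⟨g, ⟨hg1, hg2⟩ | ⟨hg1, hg2⟩⟩ := Cfsg.Agent.S0735.move_pair G h2 a₀ (x • a₀) a₀ (y • a₀)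
      (hmove x hx hx1) (hmove y hy hy1)
    · refine ⟨g, hg1, Or.inl ?_⟩
      apply RegularNormal.eq_of_smul_eq hreg (hNn.conj_mem x hx g) hy (x := a₀)
      rw [← RegularNormal.smul_smul_eq_conj hg1, hg2]
    · have hh : (y⁻¹ * g) • a₀ = a₀ := by rw [mul_smul, hg1, inv_smul_smul]
      refine ⟨y⁻¹ * g, hh, Or.inr ?_⟩
      apply RegularNormal.eq_of_smul_eq hreg (hNn.conj_mem x hx _) (N.inv_mem hy) (x := a₀)
      rw [← RegularNormal.smul_smul_eq_conj hh, mul_smul, hg2]
  refine ⟨p, ⟨hp⟩, N, a₀, ?_, hNn, hNc, hNp, hreg, htrans, hconj⟩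
  rintro rfl
  apply hn2
  rw [MulAction.is_two_pretransitive_iff]
  intro a b c d hab hcd
  obtain ⟨n, hn, rfl⟩ := RegularNormal.exists_smul_eq htrans a₀ a
  obtain ⟨m, hm, rfl⟩ := RegularNormal.exists_smul_eq htrans a₀ c
  obtain ⟨x, hx, hxa⟩ := RegularNormal.exists_smul_eq htrans a₀ (n⁻¹ • b)
  obtain ⟨y, hy, hyc⟩ := RegularNormal.exists_smul_eq htrans a₀ (m⁻¹ • d)
  have hx1 : x ≠ 1 := by
    rintro rfl
    rw [one_smul, eq_inv_smul_iff] at hxa
    exact hab hxa
  have hy1 : y ≠ 1 := by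
    rintro rfl
    rw [one_smul, eq_inv_smul_iff] at hyc
    exact hcd hyc
  have hyinv : y⁻¹ = y := by
    have := hNp y hy
    rw [sq] at this
    exact inv_eq_of_mul_eq_one_left this
  obtain ⟨h, hh, hxy⟩ := hconj x hx y hy hx1 hy1
  rw [hyinv, or_self] at hxy
  have hh' : h • a₀ = a₀ := hh
  refine ⟨m * h * n⁻¹, ?_, ?_⟩
  · rw [mul_smul, mul_smul, inv_smul_smul, hh']
  · rw [mul_smul, mul_smul, ← hxa, RegularNormal.smul_smul_eq_conj hh', hxy, hyc, smul_inv_smul]

end Cfsg.Agent.PermutationGroups.KantorReduction
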