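import Mathlib
import Cfsg.Prelude.Def_Perm
import Cfsg.Agent.PermutationGroups.KantorReduction

/-!
Assembly of Kantor's theorem (2-homogeneous, not 2-transitive groups).
-/

set_option autoImplicit false

namespace Cfsg.Agent.PermutationGroups.KantorAssembly

open Cfsg MulAction
open scoped Pointwise

/-- The conjugation action of a subgroup `H` on (the additive version of) an abelian normal
subgroup `N`. -/
@[reducible] def conjAct {G : Type*} [Group G] (N : Subgroup G)
    (hc : ∀ x ∈ N, ∀ y ∈ N, x * y = y * x) : AddCommGroup (Additive N) :=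
  { (inferInstance : AddGroup (Additive N)) with
    add_comm := fun a b => by
      have := hc a.toMul a.toMul.2 b.toMul b.toMul.2
      apply Additive.toMul.injective
      apply Subtype.ext
      exact this }

/-- The conjugation action of a subgroup `H` on (the additive version of) an abelian normal
subgroup `N`. -/
@[reducible] def conjSMul {G : Type*} [Group G] (H N : Subgroup G) [hN : N.Normal]
    (hc : ∀ x ∈ N, ∀ y ∈ N, x * y = y * x) :
    letI := conjAct N hc
    DistribMulAction H (Additive N) :=
  letI := conjAct N hc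
  { smul := fun h v => Additive.ofMul ⟨(h : G) * (v.toMul : G) * (h : G)⁻¹,
      hN.conj_mem _ v.toMul.2 _⟩
    one_smul := fun v => by
      apply Additive.toMul.injective
      apply Subtype.ext
      change (1 : G) * (v.toMul : G) * (1 : G)⁻¹ = v.toMul
      simp
    mul_smul := fun g h v => by
      apply Additive.toMul.injective
      apply Subtype.ext
      change ((g * h : H) : G) * (v.toMul : G) * ((g * h : H) : G)⁻¹ =
        (g : G) * ((h : G) * (v.toMul : G) * (h : G)⁻¹) * (g : G)⁻¹
      simp [mul_assoc]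
    smul_zero := fun g => by
      apply Additive.toMul.injective
      apply Subtype.ext
      change (g : G) * (1 : G) * (g : G)⁻¹ = 1
      simp
    smul_add := fun g v w => by
      apply Additive.toMul.injective
      apply Subtype.ext
      change (g : G) * ((v.toMul : G) * (w.toMul : G)) * (g : G)⁻¹ =
        ((g : G) * (v.toMul : G) * (g : G)⁻¹) * ((g : G) * (w.toMul : G) * (g : G)⁻¹)
      simp [mul_assoc] }

theorem conjSMul_coe {G : Type*} [Group G] (H N : Subgroup G) [hN : N.Normal]
    (hc : ∀ x ∈ N, ∀ y ∈ N, x * y = y * x) (h : H) (v : Additive N) :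
    letI := conjAct N hc
    letI := conjSMul H N hc
    (((h • v : Additive N).toMul : N) : G) = (h : G) * (v.toMul : G) * (h : G)⁻¹ := rfl

/-- Two orbits `Δ`, `-Δ` of a group of odd order on the nonzero vectors: the number of vectors is
`3` modulo `4`. -/
theorem card_mod_four {H V : Type*} [Group H] [Finite H] [AddCommGroup V] [Finite V] [Nontrivial V]
    [DistribMulAction H V] (hodd : Odd (Nat.card H)) {p : ℕ} (hp2 : p ≠ 2) (hp : p.Prime)
    (hV : ∀ v : V, p • v = 0)
    (htrans : ∀ v w : V, v ≠ 0 → w ≠ 0 → ∃ h : H, h • v = w ∨ h • v = -w) :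
    Nat.card V % 4 = 3 := by
  classical
  haveI := Fintype.ofFinite V
  obtain ⟨v, hv⟩ := exists_ne (0 : V)
  have hneg : ∀ w : V, w ≠ 0 → -w ≠ w := by
    intro w hw h
    apply hw
    have h2 : (2 : ℕ) • w = 0 := by
      rw [two_nsmul]
      nth_rw 1 [← h]
      rw [neg_add_cancel]
    have hcop : Nat.Coprime 2 p := by
      rw [Nat.coprime_primes Nat.prime_two hp]
      exact fun h => hp2 h.symm
    have h1 : addOrderOf w ∣ Nat.gcd 2 p :=
      Nat.dvd_gcd (addOrderOf_dvd_iff_nsmul_eq_zero.2 h2) (addOrderOf_dvd_iff_nsmul_eq_zero.2 (hV w))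
    rw [hcop, Nat.dvd_one, AddMonoid.addOrderOf_eq_one_iff] at h1
    exact h1
  set O : Set V := MulAction.orbit H v with hO
  have hO0 : ∀ w ∈ O, w ≠ 0 := by
    rintro _ ⟨h, rfl⟩ h0
    apply hv
    change h • v = 0 at h0
    rw [← inv_smul_smul h v, h0, smul_zero]
  have hdisj : Disjoint O (-O) := by
    rw [Set.disjoint_left]
    rintro w ⟨g, hg⟩ hw
    rw [Set.mem_neg] at hw
    obtain ⟨k, hk⟩ := hw
    have hg' : g • v = w := hg
    have hk' : k • v = -w := hk
    -- `t = k g⁻¹` negates `w`
    have ht : (k * g⁻¹) • w = -w := by rw [mul_smul, ← hg', inv_smul_smul, hk', hg']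
    have hw0 : w ≠ 0 := hO0 w ⟨g, hg⟩
    have hpow : ∀ n : ℕ, ((k * g⁻¹) ^ n) • w = (-1 : ℤ) ^ n • w := by
      intro n
      induction n with
      | zero => simp
      | succ n ih =>
        rw [pow_succ, mul_smul, ht, smul_neg, ih, pow_succ, mul_neg, mul_one, neg_smul]
    have h1 := hpow (Nat.card H)
    rw [pow_card_eq_one', one_smul, hodd.neg_one_pow, neg_one_smul] at h1
    exact hneg w hw0 h1.symm
  have hunion : O ∪ -O = {0}ᶜ := by
    ext w
    rw [Set.mem_union, Set.mem_neg, Set.mem_compl_iff, Set.mem_singleton_iff]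
    constructor
    · rintro (h | h)
      · exact hO0 w h
      · intro h0
        rw [h0, neg_zero] at h
        exact hO0 0 h rfl
    · intro hw
      obtain ⟨h, h1 | h1⟩ := htrans v w hv hw
      · exact Or.inl ⟨h, h1⟩
      · exact Or.inr ⟨h, h1⟩
  have hcard : Nat.card V = 1 + 2 * O.ncard := by
    have h1 : (O ∪ -O).ncard = O.ncard + O.ncard := by
      rw [Set.ncard_union_eq hdisj (Set.toFinite _) (Set.toFinite _)]
      congr 1
      rw [← Set.image_neg_eq_neg, Set.ncard_image_of_injective _ neg_injective]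
    rw [hunion] at h1
    have h2 := Set.ncard_add_ncard_compl ({0} : Set V) (Set.toFinite _) (Set.toFinite _)
    rw [Set.ncard_singleton, h1] at h2
    omega
  have hOodd : Odd O.ncard := by
    have h1 : O.ncard ∣ Nat.card H := by
      rw [hO, ← MulAction.index_stabilizer]
      exact Subgroup.index_dvd_card _
    exact Odd.of_dvd_nat hodd h1
  obtain ⟨m, hm⟩ := hOodd
  omega

/-- Assembly: from the reduction data and coordinates on the additive group `N` to the semi-affine
labelling of the points. -/
theorem assemble {α : Type*} [Fintype α] [DecidableEq α] (G : Subgroup (Equiv.Perm α))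
    {p f : ℕ} [Fact p.Prime] (N : Subgroup G) (a₀ : α) [hNn : N.Normal]
    (hNc : ∀ x ∈ N, ∀ y ∈ N, x * y = y * x)
    (hreg : ∀ x : α, stabilizer N x = ⊥) (htrans : IsPretransitive N α)
    (ε : letI := conjAct N hNc
      Additive N ≃+ GaloisField p f)
    (hε : letI := conjAct N hNc
      letI := conjSMul (stabilizer G a₀) N hNc
      ∀ h : stabilizer G a₀, ∃ (a : (GaloisField p f)ˣ)
        (φ : GaloisField p f ≃+* GaloisField p f), ∀ v : Additive N,
          ε (h • v) = a * φ (ε v)) :
    ∃ e : α ≃ GaloisField p f,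
      (∀ g : G, e.symm.trans (((g : Equiv.Perm α)).trans e) ∈
        Cfsg.semiaffineGroup (GaloisField p f)) ∧
      ∀ b : GaloisField p f, ∃ g : G, ∀ x : α, e ((g : Equiv.Perm α) x) = e x + b := by
  letI := conjAct N hNc
  letI := conjSMul (stabilizer G a₀) N hNc
  -- the labelling of the points by `N`
  have hbij : Function.Bijective (fun n : Additive N => (n.toMul : N) • a₀) := by
    constructor
    · intro n m h
      apply Additive.toMul.injective
      apply Subtype.ext
      exact RegularNormal.eq_of_smul_eq hreg n.toMul.2 m.toMul.2 h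
    · intro x
      obtain ⟨n, hn⟩ := htrans.exists_smul_eq a₀ x
      exact ⟨Additive.ofMul n, hn⟩
  let e₀ : Additive N ≃ α := Equiv.ofBijective _ hbij
  have he₀ : ∀ n : Additive N, e₀ n = ((n.toMul : N) : G) • a₀ := fun n => rfl
  let e : α ≃ GaloisField p f := e₀.symm.trans ε.toEquiv
  have he : ∀ n : Additive N, e (e₀ n) = ε n := fun n => by
    change ε (e₀.symm (e₀ n)) = ε n
    rw [Equiv.symm_apply_apply]
  have hadd : ∀ (n : Additive N) (x : α), e (((n.toMul : N) : G) • x) = e x + ε n := by
    intro n x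
    obtain ⟨m, rfl⟩ := e₀.surjective x
    rw [he, he₀, ← mul_smul]
    have h1 : (((n.toMul : N) : G) * ((m.toMul : N) : G)) • a₀ = e₀ (n + m) := rfl
    rw [h1, he, map_add, add_comm]
  refine ⟨e, ?_, ?_⟩
  · intro g
    obtain ⟨n, hn⟩ := htrans.exists_smul_eq a₀ (g • a₀)
    have hst : (n : G)⁻¹ * g ∈ stabilizer G a₀ := by
      rw [mem_stabilizer_iff, mul_smul, inv_smul_eq_iff]
      exact hn.symm
    obtain ⟨a, φ, ha⟩ := hε ⟨_, hst⟩
    refine ⟨a, ε (Additive.ofMul n), φ, ?_⟩
    intro y
    obtain ⟨v, rfl⟩ := ε.surjective y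
    have h1 : e.symm (ε v) = e₀ v := by
      rw [← he, Equiv.symm_apply_apply]
    change e (g • (e.symm (ε v))) = _
    rw [h1, ← ha v, ← he ((⟨_, hst⟩ : stabilizer G a₀) • v)]
    have h2 : g • e₀ v = (n : G) • e₀ ((⟨_, hst⟩ : stabilizer G a₀) • v) := by
      rw [he₀, he₀]
      have h3 := RegularNormal.smul_smul_eq_conj (g := (n : G)⁻¹ * g) (x := a₀) hst
        ((v.toMul : N) : G)
      have h4 : ((n : G)⁻¹ * g) • ((v.toMul : N) : G) • a₀ =
          (((((⟨_, hst⟩ : stabilizer G a₀) • v : Additive N).toMul : N) : G)) • a₀ := h3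
      rw [← h4, mul_smul, smul_inv_smul]
    rw [h2]
    exact hadd (Additive.ofMul n) _
  · intro b
    obtain ⟨n, rfl⟩ := ε.surjective b
    exact ⟨(n.toMul : N), fun x => hadd n x⟩

end Cfsg.Agent.PermutationGroups.KantorAssembly
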