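import Mathlib

/-!
Coordinates: a commutative ring `E` of additive endomorphisms of a finite group `V` that is
transitive on the non-zero vectors makes `V` a one-dimensional space over a field; a group
normalising `E` acts by semilinear maps.
-/

set_option autoImplicit false

namespace Cfsg.Agent.PermutationGroups.KantorCoord

theorem coord {V : Type*} [AddCommGroup V] [Finite V] {p f : ℕ} [Fact p.Prime] (hf : f ≠ 0)
    (hcard : Nat.card V = p ^ f) (E : Subring (AddMonoid.End V))
    (hcomm : ∀ a ∈ E, ∀ b ∈ E, a * b = b * a)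
    (hE : ∀ v w : V, v ≠ 0 → ∃ a ∈ E, a v = w) {H : Type*} [Group H] [DistribMulAction H V]
    (hnorm : ∀ h : H, ∀ a ∈ E, DistribMulAction.toAddMonoidEnd H V h * a *
      DistribMulAction.toAddMonoidEnd H V h⁻¹ ∈ E) :
    ∃ ε : V ≃+ GaloisField p f, ∀ h : H, ∃ (a : (GaloisField p f)ˣ)
      (φ : GaloisField p f ≃+* GaloisField p f), ∀ v, ε (h • v) = a * φ (ε v) := by
  classical
  have hp : p.Prime := Fact.out
  have hnt : Nontrivial V := by
    rw [← Finite.one_lt_card_iff_nontrivial, hcard]
    exact Nat.one_lt_pow hf hp.one_lt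
  obtain ⟨v₀, hv₀⟩ := exists_ne (0 : V)
  have hinj : ∀ a ∈ E, ∀ b ∈ E, a v₀ = b v₀ → a = b := by
    intro a ha b hb hab
    ext w
    obtain ⟨c, hc, rfl⟩ := hE v₀ w hv₀
    have h1 : a (c v₀) = c (a v₀) := DFunLike.congr_fun (hcomm a ha c hc) v₀
    have h2 : b (c v₀) = c (b v₀) := DFunLike.congr_fun (hcomm b hb c hc) v₀
    rw [h1, h2, hab]
  have hfield : IsField E := by
    refine ⟨⟨0, 1, ?_⟩, ?_, ?_⟩
    · intro h
      have h1 : (0 : AddMonoid.End V) = 1 := congrArg Subtype.val h
      exact hv₀ (DFunLike.congr_fun h1 v₀).symm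
    · intro a b
      exact Subtype.ext (hcomm a a.2 b b.2)
    · intro a ha
      have h1 : a.1 v₀ ≠ 0 := by
        intro h
        apply ha
        apply Subtype.ext
        exact hinj _ a.2 _ E.zero_mem (by rw [h]; rfl)
      obtain ⟨b, hb, hbv⟩ := hE (a.1 v₀) v₀ h1
      refine ⟨⟨b, hb⟩, Subtype.ext ?_⟩
      change a.1 * b = 1
      rw [hcomm _ a.2 _ hb]
      exact hinj _ (E.mul_mem hb a.2) _ E.one_mem hbv
  let _ : CommRing E := { (inferInstance : Ring E) with
    mul_comm := fun a b => Subtype.ext (hcomm a a.2 b b.2) }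
  let _ : Field E := IsField.toField hfield
  -- evaluation at `v₀`
  let ev : E →+ V := { toFun := fun a => a.1 v₀, map_zero' := rfl, map_add' := fun a b => rfl }
  have hev : Function.Bijective ev := by
    refine ⟨fun a b hab => Subtype.ext (hinj _ a.2 _ b.2 hab), fun w => ?_⟩
    obtain ⟨c, hc, rfl⟩ := hE v₀ w hv₀
    exact ⟨⟨c, hc⟩, rfl⟩
  let evE : E ≃+ V := AddEquiv.ofBijective ev hev
  have : Finite E := Finite.of_equiv V evE.symm.toEquiv
  have hcardE : Nat.card E = p ^ f := by
    rw [← hcard]; exact Nat.card_congr evE.toEquiv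
  let _ : Fintype E := Fintype.ofFinite E
  let _ : Fintype (GaloisField p f) := Fintype.ofFinite _
  let θ : E ≃+* GaloisField p f := FiniteField.ringEquivOfCardEq (by
    rw [← Nat.card_eq_fintype_card, ← Nat.card_eq_fintype_card, hcardE, GaloisField.card p f hf])
  -- conjugation
  have hone : ∀ h : H, DistribMulAction.toAddMonoidEnd H V h *
      DistribMulAction.toAddMonoidEnd H V h⁻¹ = 1 := by
    intro h; rw [← map_mul, mul_inv_cancel, map_one]
  have hone' : ∀ h : H, DistribMulAction.toAddMonoidEnd H V h⁻¹ *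
      DistribMulAction.toAddMonoidEnd H V h = 1 := by
    intro h; rw [← map_mul, inv_mul_cancel, map_one]
  have hnorm' : ∀ h : H, ∀ a ∈ E, DistribMulAction.toAddMonoidEnd H V h⁻¹ * a *
      DistribMulAction.toAddMonoidEnd H V h ∈ E := by
    intro h a ha
    have := hnorm h⁻¹ a ha
    rwa [inv_inv] at this
  let conj : H → (E ≃+* E) := fun h =>
    { toFun := fun a => ⟨_, hnorm h a.1 a.2⟩
      invFun := fun a => ⟨_, hnorm' h a.1 a.2⟩
      left_inv := by
        intro a
        apply Subtype.ext
        change DistribMulAction.toAddMonoidEnd H V h⁻¹ *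
          (DistribMulAction.toAddMonoidEnd H V h * a.1 * DistribMulAction.toAddMonoidEnd H V h⁻¹) *
          DistribMulAction.toAddMonoidEnd H V h = a.1
        rw [mul_assoc, mul_assoc, mul_assoc, hone', mul_one, ← mul_assoc, hone', one_mul]
      right_inv := by
        intro a
        apply Subtype.ext
        change DistribMulAction.toAddMonoidEnd H V h *
          (DistribMulAction.toAddMonoidEnd H V h⁻¹ * a.1 * DistribMulAction.toAddMonoidEnd H V h) *
          DistribMulAction.toAddMonoidEnd H V h⁻¹ = a.1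
        rw [mul_assoc, mul_assoc, mul_assoc, hone, mul_one, ← mul_assoc, hone, one_mul]
      map_mul' := by
        intro a b
        apply Subtype.ext
        change DistribMulAction.toAddMonoidEnd H V h * (a.1 * b.1) *
          DistribMulAction.toAddMonoidEnd H V h⁻¹ =
          (DistribMulAction.toAddMonoidEnd H V h * a.1 * DistribMulAction.toAddMonoidEnd H V h⁻¹) *
          (DistribMulAction.toAddMonoidEnd H V h * b.1 * DistribMulAction.toAddMonoidEnd H V h⁻¹)
        calc DistribMulAction.toAddMonoidEnd H V h * (a.1 * b.1) *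
              DistribMulAction.toAddMonoidEnd H V h⁻¹
            = DistribMulAction.toAddMonoidEnd H V h * a.1 * 1 * b.1 *
              DistribMulAction.toAddMonoidEnd H V h⁻¹ := by
              rw [mul_one]; simp only [mul_assoc]
          _ = _ := by rw [← hone' h]; simp only [mul_assoc]
      map_add' := by
        intro a b
        apply Subtype.ext
        change DistribMulAction.toAddMonoidEnd H V h * (a.1 + b.1) *
          DistribMulAction.toAddMonoidEnd H V h⁻¹ =
          (DistribMulAction.toAddMonoidEnd H V h * a.1 * DistribMulAction.toAddMonoidEnd H V h⁻¹) +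
          (DistribMulAction.toAddMonoidEnd H V h * b.1 * DistribMulAction.toAddMonoidEnd H V h⁻¹)
        rw [mul_add, add_mul] }
  refine ⟨evE.symm.trans θ.toAddEquiv, fun h => ?_⟩
  obtain ⟨c, hc, hcv⟩ := hE v₀ (h • v₀) hv₀
  have hc0 : (⟨c, hc⟩ : E) ≠ 0 := by
    intro h0
    have h1 : c = 0 := congrArg Subtype.val h0
    rw [h1] at hcv
    have h2 : h • v₀ = 0 := hcv.symm
    rw [smul_eq_zero_iff_eq] at h2
    exact hv₀ h2
  have hθc : θ ⟨c, hc⟩ ≠ 0 := by
    rw [Ne, map_eq_zero_iff θ θ.injective]
    exact hc0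
  refine ⟨Units.mk0 _ hθc, θ.symm.trans ((conj h).trans θ), fun v => ?_⟩
  obtain ⟨a, rfl⟩ := evE.surjective v
  have h1 : h • (evE a) = evE (⟨c, hc⟩ * conj h a) := by
    change h • (a.1 v₀) = c ((DistribMulAction.toAddMonoidEnd H V h * a.1 *
      DistribMulAction.toAddMonoidEnd H V h⁻¹) v₀)
    have h2 : c * (DistribMulAction.toAddMonoidEnd H V h * a.1 *
        DistribMulAction.toAddMonoidEnd H V h⁻¹) = (DistribMulAction.toAddMonoidEnd H V h * a.1 *
        DistribMulAction.toAddMonoidEnd H V h⁻¹) * c := hcomm _ hc _ (hnorm h a.1 a.2)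
    have h3 := DFunLike.congr_fun h2 v₀
    change c ((DistribMulAction.toAddMonoidEnd H V h * a.1 *
      DistribMulAction.toAddMonoidEnd H V h⁻¹) v₀) = (DistribMulAction.toAddMonoidEnd H V h * a.1 *
      DistribMulAction.toAddMonoidEnd H V h⁻¹) (c v₀) at h3
    rw [h3, hcv]
    change h • (a.1 v₀) = h • (a.1 (h⁻¹ • (h • v₀)))
    rw [inv_smul_smul]
  rw [h1]
  change θ (evE.symm (evE (⟨c, hc⟩ * conj h a))) =
    θ ⟨c, hc⟩ * θ (conj h (θ.symm (θ (evE.symm (evE a)))))
  rw [evE.symm_apply_apply, evE.symm_apply_apply, θ.symm_apply_apply, map_mul]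

end Cfsg.Agent.PermutationGroups.KantorCoord
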