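import Mathlib
import Cfsg.Agent.PermutationGroups.MultTrans

/-!
Livingstone--Wagner type arguments: basic facts.
-/

set_option autoImplicit false
set_option linter.unusedSectionVars false

namespace Cfsg.Agent.PermutationGroups.LWBasic

open MulAction Equiv Cfsg.Agent.PermutationGroups.MultTrans
open scoped Pointwise

variable {α : Type*} [Fintype α] [DecidableEq α]

/-- Homogeneity in terms of finite sets. -/
theorem exists_map_of_homogeneous (G : Subgroup (Perm α)) {m : ℕ}
    (hh : IsPretransitive G (Set.powersetCard α m)) (S T : Finset α) (hS : S.card = m)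
    (hT : T.card = m) : ∃ g ∈ G, ∀ x, g x ∈ T ↔ x ∈ S := by
  obtain ⟨g, hg⟩ := hh.exists_smul_eq ⟨S, hS⟩ ⟨T, hT⟩
  have h1 : g • S = T := by
    have := congrArg (Subtype.val) hg
    exact this
  refine ⟨g.1, g.2, fun x => ?_⟩
  rw [← h1]
  have : g.1 x = g • x := rfl
  rw [this, Finset.smul_mem_smul_finset_iff]

/-- A bijection between two sets of the same size extends to a permutation. -/
theorem exists_perm_map (S T : Finset α) (h : S.card = T.card) :
    ∃ π : Perm α, ∀ x, π x ∈ T ↔ x ∈ S := by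
  have hh : IsPretransitive (Perm α) (Set.powersetCard α T.card) :=
    Set.powersetCard.isPretransitive
  obtain ⟨g, hg⟩ := hh.exists_smul_eq ⟨S, h⟩ ⟨T, rfl⟩
  have h1 : g • S = T := by
    have := congrArg (Subtype.val) hg
    exact this
  refine ⟨g, fun x => ?_⟩
  rw [← h1]
  have : g x = g • x := rfl
  rw [this, Finset.smul_mem_smul_finset_iff]

/-- If all transpositions of a finite set `S` are induced by elements of `G`, then all
permutations of `S` are. -/
theorem exists_agree_of_swaps (G : Subgroup (Perm α)) (S : Finset α)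
    (hsw : ∀ x ∈ S, ∀ y ∈ S, x ≠ y → ∃ g ∈ G, ∀ z ∈ S, g z = swap x y z) (σ : Perm S) :
    ∃ g ∈ G, ∀ z : S, g z = σ z := by
  induction σ using Equiv.Perm.swap_induction_on with
  | one => exact ⟨1, G.one_mem, fun z => rfl⟩
  | swap_mul f x y hxy ih =>
    obtain ⟨g, hgG, hg⟩ := ih
    obtain ⟨h, hhG, hh⟩ := hsw x x.2 y y.2 (fun h => hxy (Subtype.ext h))
    refine ⟨h * g, G.mul_mem hhG hgG, fun z => ?_⟩
    rw [Perm.mul_apply, hg z, hh _ (f z).2, Perm.mul_apply]
    rw [Equiv.swap_apply_def, Equiv.swap_apply_def]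
    by_cases h1 : f z = x
    · simp [h1]
    · by_cases h2 : f z = y
      · simp [h2, Ne.symm hxy]
      · have h1' : (f z : α) ≠ x := fun h => h1 (Subtype.ext h)
        have h2' : (f z : α) ≠ y := fun h => h2 (Subtype.ext h)
        simp [h1, h2, h1', h2']

/-- An `m`-homogeneous group inducing all transpositions on some set of size `m` is
`m`-transitive. -/
theorem isMultiplyPretransitive_of_swaps (G : Subgroup (Perm α)) {m : ℕ}
    (hh : IsPretransitive G (Set.powersetCard α m)) (S : Finset α) (hS : S.card = m)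
    (hsw : ∀ x ∈ S, ∀ y ∈ S, x ≠ y → ∃ g ∈ G, ∀ z ∈ S, g z = swap x y z) :
    IsMultiplyPretransitive G α m := by
  have aux : ∀ x : Fin m ↪ α, ∃ g ∈ G, ∀ i, g (x i) ∈ S := by
    intro x
    obtain ⟨g, hg, h⟩ := exists_map_of_homogeneous G hh (Finset.univ.map x) S (by simp) hS
    exact ⟨g, hg, fun i => (h _).2 (Finset.mem_map_of_mem _ (Finset.mem_univ _))⟩
  have aux2 : ∀ x : Fin m ↪ α, ∀ g : Perm α, ∀ h : ∀ i, g (x i) ∈ S,
      Function.Bijective (fun i => (⟨g (x i), h i⟩ : S)) := by
    intro x g h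
    rw [Fintype.bijective_iff_injective_and_card]
    refine ⟨fun i j hij => ?_, by simp [hS]⟩
    have h1 := congrArg Subtype.val hij
    exact x.injective (g.injective h1)
  refine ⟨fun x y => ?_⟩
  obtain ⟨g, hgG, hg⟩ := aux x
  obtain ⟨h, hhG, hh'⟩ := aux y
  let ex := Equiv.ofBijective _ (aux2 x g hg)
  let ey := Equiv.ofBijective _ (aux2 y h hh')
  obtain ⟨k, hkG, hk⟩ := exists_agree_of_swaps G S hsw (ex.symm.trans ey)
  refine ⟨⟨h⁻¹ * k * g, G.mul_mem (G.mul_mem (G.inv_mem hhG) hkG) hgG⟩, ?_⟩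
  ext i
  have h1 := hk (ex i)
  rw [Equiv.trans_apply, Equiv.symm_apply_apply] at h1
  have h2 : ((ex i : S) : α) = g (x i) := rfl
  have h3 : ((ey i : S) : α) = h (y i) := rfl
  rw [h2, h3] at h1
  show (h⁻¹ * k * g) (x i) = y i
  rw [Perm.mul_apply, Perm.mul_apply, h1]
  exact Equiv.symm_apply_apply h (y i)

/-- Fixed points of an involution have the parity of the degree. -/
theorem card_fixed_mod_two (τ : Perm α) (h : τ * τ = 1) :
    (Finset.univ.filter (fun x => τ x = x)).card % 2 = Fintype.card α % 2 := by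
  have : Fact (Nat.Prime 2) := ⟨Nat.prime_two⟩
  have h1 := Equiv.Perm.card_compl_support_modEq (σ := τ) (p := 2) (n := 1) (by
    rw [pow_one, pow_two, h])
  have h2 : (τ.support)ᶜ = (Finset.univ.filter (fun x => τ x = x)) := by
    ext x
    simp
  rw [← h2]
  exact h1

end Cfsg.Agent.PermutationGroups.LWBasic
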