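import Mathlib
import Cfsg.Agent.PermutationGroups.LWBasic

/-!
Livingstone--Wagner: a `t`-transitive group in which only the identity fixes `t+1` points, and
which does not induce all transpositions on any set of `t + 1` points.
-/

set_option autoImplicit false
set_option linter.unusedSectionVars false

namespace Cfsg.Agent.PermutationGroups.LWCore

open MulAction Equiv Cfsg.Agent.PermutationGroups.LWBasic
open scoped Pointwise

variable {α : Type*} [Fintype α] [DecidableEq α]

/-- `G` is `t`-transitive, only the identity fixes `t+1` points, and not all transpositions are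
induced on any set of `t + 1` points. -/
structure LW (G : Subgroup (Perm α)) (t : ℕ) : Prop where
  card : t + 3 ≤ Fintype.card α
  trans : ∀ s : Finset α, s.card ≤ t → ∀ π : Perm α, ∃ g ∈ G, ∀ x ∈ s, g x = π x
  rigid : ∀ g ∈ G, ∀ h ∈ G, ∀ s : Finset α, t + 1 ≤ s.card → (∀ x ∈ s, g x = h x) → g = h
  notrans : ∀ S : Finset α, S.card = t + 1 →
    ¬ (∀ x ∈ S, ∀ y ∈ S, x ≠ y → ∃ g ∈ G, ∀ z ∈ S, g z = swap x y z)

namespace LW

variable {G : Subgroup (Perm α)} {t : ℕ}

theorem apply_apply {g : Perm α} (hg : g * g = 1) (x : α) : g (g x) = x := by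
  have : (g * g) x = x := by rw [hg]; rfl
  exact this

theorem inv_eq {g : Perm α} (hg : g * g = 1) : g⁻¹ = g := by
  rw [inv_eq_iff_mul_eq_one]; exact hg

theorem exists_finset (h : LW G t) (m : ℕ) (hm : m ≤ t + 3) : ∃ S : Finset α, S.card = m := by
  obtain ⟨S, _, hS⟩ := Finset.exists_subset_card_eq (s := (Finset.univ : Finset α)) (n := m)
    (by rw [Finset.card_univ]; exact hm.trans h.card)
  exact ⟨S, hS⟩

theorem exists_notMem (h : LW G t) (S : Finset α) (hS : S.card ≤ t + 2) : ∃ z, z ∉ S := by
  by_contra hcon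
  push Not at hcon
  have h1 : S = Finset.univ := Finset.eq_univ_iff_forall.2 hcon
  have h2 := h.card
  rw [← Finset.card_univ, ← h1] at h2
  omega

theorem eq_one_of_fix (h : LW G t) {g : Perm α} (hg : g ∈ G) (s : Finset α) (hs : t + 1 ≤ s.card)
    (hfix : ∀ x ∈ s, g x = x) : g = 1 :=
  h.rigid g hg 1 G.one_mem s hs hfix

/-- (b) no involution fixes `t` points. -/
theorem eq_one_of_inv (h : LW G t) (ht : 1 ≤ t) {g : Perm α} (hg : g ∈ G) (hgg : g * g = 1)
    (s : Finset α) (hs : t ≤ s.card) (hfix : ∀ x ∈ s, g x = x) : g = 1 := by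
  by_contra hne
  obtain ⟨R, hRs, hR⟩ := Finset.exists_subset_card_eq hs
  have hfixR : ∀ x ∈ R, g x = x := fun x hx => hfix x (hRs hx)
  have hfixR' : ∀ x, g x = x ↔ x ∈ R := by
    intro x
    refine ⟨fun hx => ?_, hfixR x⟩
    by_contra hxR
    apply hne
    apply h.eq_one_of_fix hg (insert x R) (by rw [Finset.card_insert_of_notMem hxR, hR])
    intro y hy
    rcases Finset.mem_insert.1 hy with rfl | hy
    · exact hx
    · exact hfixR y hy
  -- an involution for every set of size `t`
  have key : ∀ R' : Finset α, R'.card = t → ∃ τ ∈ G, τ * τ = 1 ∧ ∀ x, τ x = x ↔ x ∈ R' := by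
    intro R' hR'
    obtain ⟨π, hπ⟩ := exists_perm_map R R' (by rw [hR, hR'])
    obtain ⟨k, hkG, hk⟩ := h.trans R hR.le π
    have hk' : ∀ x, k x ∈ R' ↔ x ∈ R := by
      -- `k` maps `R` into `R'`, by cardinality onto
      have h1 : R.image k = R' := by
        apply Finset.eq_of_subset_of_card_le
        · intro y hy
          obtain ⟨x, hx, rfl⟩ := Finset.mem_image.1 hy
          rw [hk x hx]
          exact (hπ x).2 hx
        · rw [Finset.card_image_of_injective _ k.injective, hR, hR']
      intro x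
      rw [← h1]
      constructor
      · intro hx
        obtain ⟨y, hy, hyx⟩ := Finset.mem_image.1 hx
        rw [← k.injective hyx]
        exact hy
      · intro hx
        exact Finset.mem_image_of_mem _ hx
    refine ⟨k * g * k⁻¹, G.mul_mem (G.mul_mem hkG hg) (G.inv_mem hkG), ?_, fun x => ?_⟩
    · calc k * g * k⁻¹ * (k * g * k⁻¹) = k * (g * g) * k⁻¹ := by group
        _ = 1 := by rw [hgg]; group
    · have h2 : (k * g * k⁻¹) x = k (g (k⁻¹ x)) := rfl
      rw [h2]
      have h3 : k (k⁻¹ x) = x := Equiv.apply_symm_apply k x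
      have h4 : x ∈ R' ↔ k⁻¹ x ∈ R := by rw [← hk' (k⁻¹ x), h3]
      rw [h4, ← hfixR']
      constructor
      · intro h5
        apply k.injective
        rw [h5, h3]
      · intro h5
        rw [h5, h3]
  obtain ⟨S, hS⟩ := h.exists_finset (t + 1) (by omega)
  apply h.notrans S hS
  intro x hx y hy hxy
  set Y := (S.erase x).erase y with hY
  have hYS : ∀ v, v ∈ Y ↔ v ≠ y ∧ v ≠ x ∧ v ∈ S := by
    intro v; rw [hY, Finset.mem_erase, Finset.mem_erase]
  have hYcard : Y.card = t - 1 := by
    rw [hY, Finset.card_erase_of_mem (Finset.mem_erase.2 ⟨hxy.symm, hy⟩),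
      Finset.card_erase_of_mem hx, hS]
    omega
  have hxY : x ∉ Y := fun hmem => ((hYS x).1 hmem).2.1 rfl
  have hyY : y ∉ Y := fun hmem => ((hYS y).1 hmem).1 rfl
  have hex : ∀ z : {z // z ∉ Y}, ∃ τ ∈ G, τ * τ = 1 ∧ ∀ v, τ v = v ↔ v ∈ insert z.1 Y := by
    intro z
    apply key
    rw [Finset.card_insert_of_notMem z.2, hYcard]
    omega
  choose τ hτG hττ hτ using hex
  have hmaps : ∀ z : {z // z ∉ Y}, τ z x ∉ Y := by
    intro z hmem
    have h1 : τ z (τ z x) = τ z x := (hτ z _).2 (Finset.mem_insert_of_mem hmem)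
    have h2 := (τ z).injective h1
    rw [h2] at hmem
    exact hxY hmem
  let f : {z // z ∉ Y} → {z // z ∉ Y} := fun z => ⟨τ z x, hmaps z⟩
  have hfinj : Function.Injective f := by
    intro z z' hzz
    have h1 : τ z x = τ z' x := congrArg Subtype.val hzz
    by_cases hzx : τ z x = x
    · have h2 : x = z.1 := by
        have := (hτ z x).1 hzx
        rcases Finset.mem_insert.1 this with h3 | h3
        · exact h3
        · exact absurd h3 hxY
      have h2' : x = z'.1 := by
        rw [h1] at hzx
        have := (hτ z' x).1 hzx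
        rcases Finset.mem_insert.1 this with h3 | h3
        · exact h3
        · exact absurd h3 hxY
      exact Subtype.ext (h2 ▸ h2')
    · have h3 : τ z = τ z' := by
        apply h.rigid _ (hτG z) _ (hτG z') (insert (τ z x) (insert x Y))
        · rw [Finset.card_insert_of_notMem, Finset.card_insert_of_notMem hxY, hYcard]
          · omega
          · simp only [Finset.mem_insert, not_or]
            exact ⟨hzx, hmaps z⟩
        · intro v hv
          rcases Finset.mem_insert.1 hv with rfl | hv
          · rw [apply_apply (hττ z), h1, apply_apply (hττ z')]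
          · rcases Finset.mem_insert.1 hv with rfl | hv
            · exact h1
            · rw [(hτ z v).2 (Finset.mem_insert_of_mem hv),
                (hτ z' v).2 (Finset.mem_insert_of_mem hv)]
      have h4 : z.1 ∈ insert z'.1 Y := by
        rw [← hτ z', ← h3]
        exact (hτ z _).2 (Finset.mem_insert_self _ _)
      rcases Finset.mem_insert.1 h4 with h5 | h5
      · exact Subtype.ext h5
      · exact absurd h5 z.2
  obtain ⟨z, hz⟩ := (Finite.surjective_of_injective hfinj) ⟨y, hyY⟩
  have hzx : τ z x = y := congrArg Subtype.val hz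
  have hzy : τ z y = x := by rw [← hzx, apply_apply (hττ z)]
  refine ⟨τ z, hτG z, fun v hv => ?_⟩
  by_cases hvx : v = x
  · rw [hvx, swap_apply_left, hzx]
  · by_cases hvy : v = y
    · rw [hvy, swap_apply_right, hzy]
    · rw [swap_apply_of_ne_of_ne hvx hvy]
      exact (hτ z v).2 (Finset.mem_insert_of_mem ((hYS v).2 ⟨hvy, hvx, hv⟩))

/-- Elements fixing `t` points have odd order. -/
theorem odd_orderOf (h : LW G t) (ht : 1 ≤ t) {g : Perm α} (hg : g ∈ G)
    (s : Finset α) (hs : t ≤ s.card) (hfix : ∀ x ∈ s, g x = x) : Odd (orderOf g) := by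
  by_contra hcon
  rw [Nat.not_odd_iff_even, even_iff_two_dvd] at hcon
  obtain ⟨m, hm⟩ := hcon
  have hpos : 0 < orderOf g := orderOf_pos g
  have hfixm : ∀ x ∈ s, (g ^ m) x = x := fun x hx =>
    Function.IsFixedPt.perm_pow (e := g) (hfix x hx) m
  have h1 : g ^ m = 1 := by
    apply h.eq_one_of_inv ht (G.pow_mem hg m) _ s hs hfixm
    rw [← pow_add, ← two_mul, ← hm, pow_orderOf_eq_one]
  have h2 := orderOf_dvd_of_pow_eq_one h1
  have h3 := Nat.le_of_dvd (by omega) h2
  omega

/-- (c) every transposition of a set of size `t` is induced by an involution. -/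
theorem exists_inv (h : LW G t) (R : Finset α) (hR : R.card = t) {x y : α} (hx : x ∈ R)
    (hy : y ∈ R) (hxy : x ≠ y) : ∃ τ ∈ G, τ * τ = 1 ∧ ∀ z ∈ R, τ z = swap x y z := by
  have ht : 1 ≤ t := by rw [← hR]; exact Finset.card_pos.2 ⟨x, hx⟩
  obtain ⟨g, hgG, hg⟩ := h.trans R hR.le (swap x y)
  have hsw : ∀ z ∈ R, swap x y z ∈ R := by
    intro z hz
    rw [swap_apply_def]
    split_ifs <;> assumption
  have hg2 : ∀ z ∈ R, (g * g) z = z := by
    intro z hz
    rw [Perm.mul_apply, hg z hz, hg _ (hsw z hz), swap_apply_self]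
  have hodd := h.odd_orderOf ht (G.mul_mem hgG hgG) R hR.ge hg2
  obtain ⟨m, hm⟩ := hodd
  refine ⟨g ^ (orderOf (g * g)), G.pow_mem hgG _, ?_, ?_⟩
  · rw [← (Commute.refl g).mul_pow, pow_orderOf_eq_one]
  · intro z hz
    rw [hm, pow_succ', pow_mul, pow_two]
    have h1 : ((g * g) ^ m) z = z := Function.IsFixedPt.perm_pow (e := g * g) (hg2 z hz) m
    rw [Perm.mul_apply, h1, hg z hz]

/-! ### The case `n ≡ t` modulo 2 -/

/-- even case: an involution fixing `t-2` points fixes no other point. -/
theorem even_fixed (h : LW G t) (hpar : Fintype.card α % 2 = t % 2) (ht : 2 ≤ t) {τ : Perm α}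
    (hτG : τ ∈ G) (hττ : τ * τ = 1) (hτ1 : τ ≠ 1) (s : Finset α) (hs : s.card = t - 2)
    (hfix : ∀ x ∈ s, τ x = x) (x : α) (hx : τ x = x) : x ∈ s := by
  by_contra hxs
  apply hτ1
  apply h.eq_one_of_inv (by omega) hτG hττ (Finset.univ.filter (fun x => τ x = x))
  · have h1 := card_fixed_mod_two τ hττ
    have h2 : (insert x s).card ≤ (Finset.univ.filter (fun x => τ x = x)).card := by
      apply Finset.card_le_card
      intro y hy
      rw [Finset.mem_filter]
      rcases Finset.mem_insert.1 hy with rfl | hy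
      · exact ⟨Finset.mem_univ _, hx⟩
      · exact ⟨Finset.mem_univ _, hfix y hy⟩
    rw [Finset.card_insert_of_notMem hxs, hs] at h2
    omega
  · intro y hy
    exact (Finset.mem_filter.1 hy).2

/-- even case: the key bijection. For `Y` of size `t-3`, `x, y, z` three further points, and any
choice of involutions `τ u ∈ G` fixing `Y ∪ {u}` and swapping `x` and `y`, every point `w` outside
is `τ u z` for some `u`. -/
theorem even_surj (h : LW G t) (hpar : Fintype.card α % 2 = t % 2) (ht : 3 ≤ t) (Y : Finset α)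
    (hY : Y.card = t - 3) {x y z : α} (hxy : x ≠ y) (hxz : x ≠ z) (hyz : y ≠ z)
    (hxY : x ∉ Y) (hyY : y ∉ Y) (hzY : z ∉ Y)
    (τ : {u // u ∉ insert x (insert y (insert z Y))} → Perm α)
    (hτG : ∀ u, τ u ∈ G) (hττ : ∀ u, τ u * τ u = 1)
    (hτ : ∀ u, ∀ v ∈ insert x (insert y (insert u.1 Y)), τ u v = swap x y v)
    (w : α) (hw : w ∉ insert x (insert y (insert z Y))) : ∃ u, τ u z = w := by
  have hτx : ∀ u, τ u x = y := fun u => by
    rw [hτ u x (Finset.mem_insert_self _ _), swap_apply_left]
  have hτy : ∀ u, τ u y = x := fun u => by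
    rw [hτ u y (Finset.mem_insert_of_mem (Finset.mem_insert_self _ _)), swap_apply_right]
  have hτ1 : ∀ u, τ u ≠ 1 := fun u h1 => by
    have := hτx u
    rw [h1] at this
    exact hxy this
  have hu : ∀ u : {u // u ∉ insert x (insert y (insert z Y))},
      u.1 ≠ x ∧ u.1 ≠ y ∧ u.1 ≠ z ∧ u.1 ∉ Y := by
    intro u
    have := u.2
    simp only [Finset.mem_insert, not_or] at this
    exact this
  have hτfix : ∀ u, ∀ v ∈ insert u.1 Y, τ u v = v := by
    intro u v hv
    rw [hτ u v (Finset.mem_insert_of_mem (Finset.mem_insert_of_mem hv))]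
    apply swap_apply_of_ne_of_ne
    · rintro rfl
      rcases Finset.mem_insert.1 hv with h1 | h1
      · exact (hu u).1 h1.symm
      · exact hxY h1
    · rintro rfl
      rcases Finset.mem_insert.1 hv with h1 | h1
      · exact (hu u).2.1 h1.symm
      · exact hyY h1
  have hfixed : ∀ u, ∀ v, τ u v = v → v ∈ insert u.1 Y := by
    intro u v hv
    apply h.even_fixed hpar (by omega) (hτG u) (hττ u) (hτ1 u) _ _ (hτfix u) v hv
    rw [Finset.card_insert_of_notMem (hu u).2.2.2, hY]
    omega
  have hmaps : ∀ u, τ u z ∉ insert x (insert y (insert z Y)) := by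
    intro u
    simp only [Finset.mem_insert, not_or]
    refine ⟨fun h1 => ?_, fun h1 => ?_, fun h1 => ?_, fun h1 => ?_⟩
    · have h2 := apply_apply (hττ u) z
      rw [h1, hτx] at h2
      exact hyz h2
    · have h2 := apply_apply (hττ u) z
      rw [h1, hτy] at h2
      exact hxz h2
    · rcases Finset.mem_insert.1 (hfixed u z h1) with h2 | h2
      · exact (hu u).2.2.1 h2.symm
      · exact hzY h2
    · have h2 : τ u (τ u z) = τ u z := hτfix u _ (Finset.mem_insert_of_mem h1)
      have h3 := (τ u).injective h2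
      rw [h3] at h1
      exact hzY h1
  let f : {u // u ∉ insert x (insert y (insert z Y))} →
      {u // u ∉ insert x (insert y (insert z Y))} := fun u => ⟨τ u z, hmaps u⟩
  have hfinj : Function.Injective f := by
    intro u u' huu
    have h1 : τ u z = τ u' z := congrArg Subtype.val huu
    have h2 : τ u = τ u' := by
      apply h.rigid _ (hτG u) _ (hτG u')
        (insert (τ u z) (insert x (insert y (insert z Y))))
      · rw [Finset.card_insert_of_notMem (hmaps u), Finset.card_insert_of_notMem,
          Finset.card_insert_of_notMem, Finset.card_insert_of_notMem hzY, hY]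
        · omega
        · simp only [Finset.mem_insert, not_or]; exact ⟨hyz, hyY⟩
        · simp only [Finset.mem_insert, not_or]; exact ⟨hxy, hxz, hxY⟩
      · intro v hv
        simp only [Finset.mem_insert] at hv
        rcases hv with rfl | rfl | rfl | rfl | hv
        · rw [apply_apply (hττ u), h1, apply_apply (hττ u')]
        · rw [hτx, hτx]
        · rw [hτy, hτy]
        · exact h1
        · rw [hτfix u v (Finset.mem_insert_of_mem hv), hτfix u' v (Finset.mem_insert_of_mem hv)]
    have h3 : u.1 ∈ insert u'.1 Y := by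
      apply hfixed u'
      rw [← h2]
      exact hτfix u _ (Finset.mem_insert_self _ _)
    rcases Finset.mem_insert.1 h3 with h4 | h4
    · exact Subtype.ext h4
    · exact absurd h4 (hu u).2.2.2
  obtain ⟨u, hu'⟩ := (Finite.surjective_of_injective hfinj) ⟨w, hw⟩
  exact ⟨u, congrArg Subtype.val hu'⟩

/-- even case: choice of involutions. -/
theorem even_choice (h : LW G t) (ht : 3 ≤ t) (Y : Finset α)
    (hY : Y.card = t - 3) {x y z : α} (hxy : x ≠ y)
    (hxY : x ∉ Y) (hyY : y ∉ Y) (u : {u // u ∉ insert x (insert y (insert z Y))}) :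
    ∃ τ ∈ G, τ * τ = 1 ∧ ∀ v ∈ insert x (insert y (insert u.1 Y)), τ v = swap x y v := by
  have hu := u.2
  simp only [Finset.mem_insert, not_or] at hu
  apply h.exists_inv
  · rw [Finset.card_insert_of_notMem, Finset.card_insert_of_notMem,
      Finset.card_insert_of_notMem hu.2.2.2, hY]
    · omega
    · simp only [Finset.mem_insert, not_or]; exact ⟨fun h => hu.2.1 h.symm, hyY⟩
    · simp only [Finset.mem_insert, not_or]; exact ⟨hxy, fun h => hu.1 h.symm, hxY⟩
  · exact Finset.mem_insert_self _ _
  · exact Finset.mem_insert_of_mem (Finset.mem_insert_self _ _)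
  · exact hxy

/-- even case: double transpositions are induced by involutions. -/
theorem even_double (h : LW G t) (hpar : Fintype.card α % 2 = t % 2) (ht : 3 ≤ t) (Y : Finset α)
    (hY : Y.card = t - 3) {x y z w : α} (hxy : x ≠ y) (hxz : x ≠ z) (hyz : y ≠ z)
    (hxY : x ∉ Y) (hyY : y ∉ Y) (hzY : z ∉ Y)
    (hw : w ∉ insert x (insert y (insert z Y))) :
    ∃ σ ∈ G, σ * σ = 1 ∧ σ x = y ∧ σ y = x ∧ σ z = w ∧ σ w = z ∧ ∀ v ∈ Y, σ v = v := by
  have hch := h.even_choice ht Y hY (z := z) hxy hxY hyY
  choose τ hτG hττ hτ using hch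
  obtain ⟨u, hu⟩ := h.even_surj hpar ht Y hY hxy hxz hyz hxY hyY hzY τ hτG hττ hτ w hw
  refine ⟨τ u, hτG u, hττ u, ?_, ?_, hu, ?_, ?_⟩
  · rw [hτ u x (Finset.mem_insert_self _ _), swap_apply_left]
  · rw [hτ u y (Finset.mem_insert_of_mem (Finset.mem_insert_self _ _)), swap_apply_right]
  · rw [← hu, apply_apply (hττ u)]
  · intro v hv
    rw [hτ u v (Finset.mem_insert_of_mem (Finset.mem_insert_of_mem (Finset.mem_insert_of_mem hv)))]
    apply swap_apply_of_ne_of_ne
    · rintro rfl; exact hxY hv
    · rintro rfl; exact hyY hv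

/-- even case: uniqueness of the involution inducing a transposition on a set of size `t`. -/
theorem even_unique (h : LW G t) (hpar : Fintype.card α % 2 = t % 2) (ht : 3 ≤ t) (R : Finset α)
    (hR : R.card = t) {x y : α} (hx : x ∈ R) (hy : y ∈ R) (hxy : x ≠ y) {σ σ' : Perm α}
    (hσG : σ ∈ G) (hσσ : σ * σ = 1) (hσ : ∀ v ∈ R, σ v = swap x y v)
    (hσG' : σ' ∈ G) (hσσ' : σ' * σ' = 1) (hσ' : ∀ v ∈ R, σ' v = swap x y v) : σ = σ' := by
  obtain ⟨u0, hu0⟩ : ((R.erase x).erase y).Nonempty := by
    rw [← Finset.card_pos, Finset.card_erase_of_mem (Finset.mem_erase.2 ⟨hxy.symm, hy⟩),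
      Finset.card_erase_of_mem hx, hR]
    omega
  simp only [Finset.mem_erase] at hu0
  obtain ⟨hu0y, hu0x, hu0R⟩ := hu0
  set Y := ((R.erase x).erase y).erase u0 with hYdef
  have hYmem : ∀ v, v ∈ Y ↔ v ≠ u0 ∧ v ≠ y ∧ v ≠ x ∧ v ∈ R := by
    intro v; rw [hYdef, Finset.mem_erase, Finset.mem_erase, Finset.mem_erase]
  have hY : Y.card = t - 3 := by
    rw [hYdef, Finset.card_erase_of_mem
      (Finset.mem_erase.2 ⟨hu0y, Finset.mem_erase.2 ⟨hu0x, hu0R⟩⟩),
      Finset.card_erase_of_mem (Finset.mem_erase.2 ⟨hxy.symm, hy⟩),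
      Finset.card_erase_of_mem hx, hR]
    omega
  have hRY : ∀ v, v ∈ R ↔ v ∈ insert x (insert y (insert u0 Y)) := by
    intro v
    simp only [Finset.mem_insert, hYmem]
    constructor
    · intro hv
      by_cases h1 : v = x
      · exact Or.inl h1
      · by_cases h2 : v = y
        · exact Or.inr (Or.inl h2)
        · by_cases h3 : v = u0
          · exact Or.inr (Or.inr (Or.inl h3))
          · exact Or.inr (Or.inr (Or.inr ⟨h3, h2, h1, hv⟩))
    · rintro (rfl | rfl | rfl | h1)
      · exact hx
      · exact hy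
      · exact hu0R
      · exact h1.2.2.2
  have hxY : x ∉ Y := fun hmem => ((hYmem x).1 hmem).2.2.1 rfl
  have hyY : y ∉ Y := fun hmem => ((hYmem y).1 hmem).2.1 rfl
  have hu0Y : u0 ∉ Y := fun hmem => ((hYmem u0).1 hmem).1 rfl
  obtain ⟨z, hz⟩ := h.exists_notMem R (by omega)
  have hxz : x ≠ z := fun h => hz (h ▸ hx)
  have hyz : y ≠ z := fun h => hz (h ▸ hy)
  have hu0z : u0 ≠ z := fun h => hz (h ▸ hu0R)
  have hzY : z ∉ Y := fun hmem => hz ((hYmem z).1 hmem).2.2.2
  have hu0' : u0 ∉ insert x (insert y (insert z Y)) := by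
    simp only [Finset.mem_insert, not_or]
    exact ⟨hu0x, hu0y, hu0z, hu0Y⟩
  have hch := h.even_choice ht Y hY (z := z) hxy hxY hyY
  choose τ hτG hττ hτ using hch
  -- every involution as in the statement is the chosen one
  have key : ∀ ρ : Perm α, ρ ∈ G → ρ * ρ = 1 → (∀ v ∈ R, ρ v = swap x y v) →
      ρ = τ ⟨u0, hu0'⟩ := by
    intro ρ hρG hρρ hρ
    have hρ1 : ρ ≠ 1 := by
      rintro rfl
      have := hρ x hx
      rw [swap_apply_left] at this
      exact hxy this
    have hρx : ρ x = y := by rw [hρ x hx, swap_apply_left]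
    have hρy : ρ y = x := by rw [hρ y hy, swap_apply_right]
    have hρfix : ∀ v ∈ insert u0 Y, ρ v = v := by
      intro v hv
      have hvR : v ∈ R := by
        rw [hRY]
        exact Finset.mem_insert_of_mem (Finset.mem_insert_of_mem hv)
      rw [hρ v hvR]
      apply swap_apply_of_ne_of_ne
      · rintro rfl
        rcases Finset.mem_insert.1 hv with h1 | h1
        · exact hu0x h1.symm
        · exact hxY h1
      · rintro rfl
        rcases Finset.mem_insert.1 hv with h1 | h1
        · exact hu0y h1.symm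
        · exact hyY h1
    have hρz : ρ z ∉ insert x (insert y (insert z Y)) := by
      simp only [Finset.mem_insert, not_or]
      refine ⟨fun h1 => ?_, fun h1 => ?_, fun h1 => ?_, fun h1 => ?_⟩
      · have h2 := apply_apply hρρ z
        rw [h1, hρx] at h2
        exact hyz h2
      · have h2 := apply_apply hρρ z
        rw [h1, hρy] at h2
        exact hxz h2
      · have h2 := h.even_fixed hpar (by omega) hρG hρρ hρ1 (insert u0 Y)
          (by rw [Finset.card_insert_of_notMem hu0Y, hY]; omega) hρfix z h1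
        rcases Finset.mem_insert.1 h2 with h3 | h3
        · exact hu0z h3.symm
        · exact hzY h3
      · have h2 : ρ (ρ z) = ρ z := hρfix _ (Finset.mem_insert_of_mem h1)
        have h3 := ρ.injective h2
        rw [h3] at h1
        exact hzY h1
    obtain ⟨u, hu⟩ := h.even_surj hpar ht Y hY hxy hxz hyz hxY hyY hzY τ hτG hττ hτ (ρ z) hρz
    have hτux : τ u x = y := by rw [hτ u x (Finset.mem_insert_self _ _), swap_apply_left]
    have hτuy : τ u y = x := by
      rw [hτ u y (Finset.mem_insert_of_mem (Finset.mem_insert_self _ _)), swap_apply_right]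
    have huu := u.2
    simp only [Finset.mem_insert, not_or] at huu
    have hτufix : ∀ v ∈ insert u.1 Y, τ u v = v := by
      intro v hv
      rw [hτ u v (Finset.mem_insert_of_mem (Finset.mem_insert_of_mem hv))]
      apply swap_apply_of_ne_of_ne
      · rintro rfl
        rcases Finset.mem_insert.1 hv with h1 | h1
        · exact huu.1 h1.symm
        · exact hxY h1
      · rintro rfl
        rcases Finset.mem_insert.1 hv with h1 | h1
        · exact huu.2.1 h1.symm
        · exact hyY h1
    have heq : ρ = τ u := by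
      apply h.rigid _ hρG _ (hτG u) (insert (ρ z) (insert x (insert y (insert z Y))))
      · rw [Finset.card_insert_of_notMem hρz, Finset.card_insert_of_notMem,
          Finset.card_insert_of_notMem, Finset.card_insert_of_notMem hzY, hY]
        · omega
        · simp only [Finset.mem_insert, not_or]; exact ⟨hyz, hyY⟩
        · simp only [Finset.mem_insert, not_or]; exact ⟨hxy, hxz, hxY⟩
      · intro v hv
        simp only [Finset.mem_insert] at hv
        rcases hv with rfl | rfl | rfl | rfl | hv
        · rw [apply_apply hρρ, ← hu, apply_apply (hττ u)]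
        · rw [hρx, hτux]
        · rw [hρy, hτuy]
        · exact hu.symm
        · rw [hρfix v (Finset.mem_insert_of_mem hv), hτufix v (Finset.mem_insert_of_mem hv)]
    have h5 : u.1 ∈ insert u0 Y := by
      apply h.even_fixed hpar (by omega) hρG hρρ hρ1 (insert u0 Y)
        (by rw [Finset.card_insert_of_notMem hu0Y, hY]; omega) hρfix
      rw [heq]
      exact hτufix _ (Finset.mem_insert_self _ _)
    have h6 : u = ⟨u0, hu0'⟩ := by
      apply Subtype.ext
      rcases Finset.mem_insert.1 h5 with h7 | h7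
      · exact h7
      · exact absurd h7 huu.2.2.2
    rw [heq, h6]
  rw [key σ hσG hσσ hσ, key σ' hσG' hσσ' hσ']

end LW

end Cfsg.Agent.PermutationGroups.LWCore
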