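import Mathlib
import Cfsg.Agent.PermutationGroups.LWCore

/-!
Livingstone--Wagner: the even case `n ≡ t (mod 2)`, `t ≥ 4` is impossible.
-/

set_option autoImplicit false
set_option linter.unusedSectionVars false

namespace Cfsg.Agent.PermutationGroups.LWEven

open MulAction Equiv Cfsg.Agent.PermutationGroups.LWBasic Cfsg.Agent.PermutationGroups.LWCore
open Cfsg.Agent.PermutationGroups.LWCore.LW

variable {α : Type*} [Fintype α] [DecidableEq α]

theorem exists_four (R : Finset α) (h4 : 4 ≤ R.card) :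
    ∃ x ∈ R, ∃ y ∈ R, ∃ z ∈ R, ∃ w ∈ R, x ≠ y ∧ x ≠ z ∧ x ≠ w ∧ y ≠ z ∧ y ≠ w ∧ z ≠ w := by
  obtain ⟨e⟩ : Nonempty (Fin 4 ↪ R) := by
    apply Function.Embedding.nonempty_of_card_le
    simpa using h4
  have hne : ∀ i j, i ≠ j → ((e i : R) : α) ≠ e j := fun i j hij h =>
    hij (e.injective (Subtype.ext h))
  exact ⟨e 0, (e 0).2, e 1, (e 1).2, e 2, (e 2).2, e 3, (e 3).2, hne _ _ (by decide),
    hne _ _ (by decide), hne _ _ (by decide), hne _ _ (by decide), hne _ _ (by decide),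
    hne _ _ (by decide)⟩

theorem swap_mem {R : Finset α} {x y z : α} (hx : x ∈ R) (hy : y ∈ R) (hz : z ∈ R) :
    swap x y z ∈ R := by
  rw [swap_apply_def]
  split_ifs <;> assumption

theorem swap_swap_swap {x y z w : α} (hxz : x ≠ z) (hxw : x ≠ w) (hyz : y ≠ z) (hyw : y ≠ w)
    (v : α) : swap z w (swap x y (swap z w v)) = swap x y v := by
  by_cases hxy : x = y
  · subst hxy; simp
  by_cases hzw : z = w
  · subst hzw; simp
  have h1 : Perm.Disjoint (swap x y) (swap z w) := by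
    apply Equiv.Perm.disjoint_swap_swap
    simp [hxy, hxz, hxw, hyz, hyw, hzw]
  have h2 := congrArg (fun π : Perm α => π (swap z w v)) h1.commute.eq
  simp only [Perm.mul_apply, swap_apply_self] at h2
  rw [← h2]

variable {G : Subgroup (Perm α)} {t : ℕ}

theorem even_absurd (h : LW G t) (hpar : Fintype.card α % 2 = t % 2) (ht : 4 ≤ t) : False := by
  obtain ⟨R, hR⟩ := h.exists_finset t (by omega)
  obtain ⟨x, hx, y, hy, z, hz, w, hw, hxy, hxz, hxw, hyz, hyw, hzw⟩ :=
    exists_four R (by omega)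
  obtain ⟨τ, hτG, hττ, hτ⟩ := h.exists_inv R hR hx hy hxy
  obtain ⟨ρ, hρG, hρρ, hρ⟩ := h.exists_inv R hR hz hw hzw
  have hcomm1 : ρ * τ * ρ = τ := by
    apply h.even_unique hpar (by omega) R hR hx hy hxy
      (G.mul_mem (G.mul_mem hρG hτG) hρG) _ _ hτG hττ hτ
    · calc ρ * τ * ρ * (ρ * τ * ρ) = ρ * τ * (ρ * ρ) * τ * ρ := by group
        _ = ρ * (τ * τ) * ρ := by rw [hρρ]; group
        _ = 1 := by rw [hττ, mul_one, hρρ]
    · intro v hv
      rw [Perm.mul_apply, Perm.mul_apply, hρ v hv, hτ _ (swap_mem hz hw hv),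
        hρ _ (swap_mem hx hy (swap_mem hz hw hv))]
      exact swap_swap_swap hxz hxw hyz hyw v
  have hcomm : ρ * τ = τ * ρ := by
    calc ρ * τ = ρ * τ * (ρ * ρ) := by rw [hρρ, mul_one]
      _ = ρ * τ * ρ * ρ := by group
      _ = τ * ρ := by rw [hcomm1]
  -- elements fixing `R` pointwise commute with `τ` and `ρ`
  have hK : ∀ κ ∈ G, (∀ r ∈ R, κ r = r) → ∀ a b : α, a ∈ R → b ∈ R → a ≠ b → ∀ π ∈ G,
      π * π = 1 → (∀ r ∈ R, π r = swap a b r) → κ * π = π * κ := by
    intro κ hκG hκ a b ha hb hab π hπG hππ hπ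
    have hκi : ∀ r ∈ R, κ⁻¹ r = r := by
      intro r hr
      have h1 : κ⁻¹ (κ r) = r := Equiv.symm_apply_apply κ r
      rwa [hκ r hr] at h1
    have h2 : κ * π * κ⁻¹ = π := by
      apply h.even_unique hpar (by omega) R hR ha hb hab
        (G.mul_mem (G.mul_mem hκG hπG) (G.inv_mem hκG)) _ _ hπG hππ hπ
      · calc κ * π * κ⁻¹ * (κ * π * κ⁻¹) = κ * (π * π) * κ⁻¹ := by group
          _ = 1 := by rw [hππ]; group
      · intro v hv
        rw [Perm.mul_apply, Perm.mul_apply, hκi v hv, hπ v hv, hκ _ (swap_mem ha hb hv)]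
    calc κ * π = κ * π * κ⁻¹ * κ := by group
      _ = π * κ := by rw [h2]
  set σ := τ * ρ with hσ
  have hσG : σ ∈ G := G.mul_mem hτG hρG
  have hσσ : σ * σ = 1 := by
    calc σ * σ = τ * (ρ * τ) * ρ := by rw [hσ]; group
      _ = τ * (τ * ρ) * ρ := by rw [hcomm]
      _ = (τ * τ) * (ρ * ρ) := by group
      _ = 1 := by rw [hττ, hρρ, mul_one]
  have hσR : ∀ v ∈ R, σ v = swap x y (swap z w v) := by
    intro v hv
    rw [hσ, Perm.mul_apply, hρ v hv, hτ _ (swap_mem hz hw hv)]
  have hσx : σ x = y := by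
    rw [hσR x hx, swap_apply_of_ne_of_ne hxz hxw, swap_apply_left]
  have hσy : σ y = x := by rw [← hσx, apply_apply hσσ]
  have hσz : σ z = w := by
    rw [hσR z hz, swap_apply_left, swap_apply_of_ne_of_ne hxw.symm hyw.symm]
  have hσw : σ w = z := by rw [← hσz, apply_apply hσσ]
  -- `σ` fixes all other points
  have hfix : ∀ u, u ≠ x → u ≠ y → u ≠ z → u ≠ w → σ u = u := by
    intro u hux huy huz huw
    by_cases huR : u ∈ R
    · rw [hσR u huR, swap_apply_of_ne_of_ne huz huw, swap_apply_of_ne_of_ne hux huy]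
    set Y4 := (((R.erase x).erase y).erase z).erase w with hY4
    have hYmem : ∀ v, v ∈ Y4 ↔ v ≠ w ∧ v ≠ z ∧ v ≠ y ∧ v ≠ x ∧ v ∈ R := by
      intro v
      rw [hY4, Finset.mem_erase, Finset.mem_erase, Finset.mem_erase, Finset.mem_erase]
    have hY4card : Y4.card = t - 4 := by
      rw [hY4, Finset.card_erase_of_mem (Finset.mem_erase.2 ⟨hzw.symm, Finset.mem_erase.2
          ⟨hyw.symm, Finset.mem_erase.2 ⟨hxw.symm, hw⟩⟩⟩),
        Finset.card_erase_of_mem (Finset.mem_erase.2 ⟨hyz.symm, Finset.mem_erase.2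
          ⟨hxz.symm, hz⟩⟩),
        Finset.card_erase_of_mem (Finset.mem_erase.2 ⟨hxy.symm, hy⟩),
        Finset.card_erase_of_mem hx, hR]
      omega
    have huY : u ∉ Y4 := fun hm => huR ((hYmem u).1 hm).2.2.2.2
    have hYcard : (insert u Y4).card = t - 3 := by
      rw [Finset.card_insert_of_notMem huY, hY4card]; omega
    have hxY : x ∉ insert u Y4 := by
      simp only [Finset.mem_insert, not_or, hYmem]
      exact ⟨hux.symm, fun hm => hm.2.2.2.1 rfl⟩
    have hyY : y ∉ insert u Y4 := by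
      simp only [Finset.mem_insert, not_or, hYmem]
      exact ⟨huy.symm, fun hm => hm.2.2.1 rfl⟩
    have hzY : z ∉ insert u Y4 := by
      simp only [Finset.mem_insert, not_or, hYmem]
      exact ⟨huz.symm, fun hm => hm.2.1 rfl⟩
    have hwY : w ∉ insert x (insert y (insert z (insert u Y4))) := by
      simp only [Finset.mem_insert, not_or, hYmem]
      exact ⟨hxw.symm, hyw.symm, hzw.symm, huw.symm, fun hm => hm.1 rfl⟩
    obtain ⟨π, hπG, hππ, hπx, hπy, hπz, hπw, hπY⟩ :=
      h.even_double hpar (by omega) (insert u Y4) hYcard hxy hxz hyz hxY hyY hzY hwY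
    -- `π` and `σ` agree on `R`
    have hagree : ∀ v ∈ R, π v = σ v := by
      intro v hv
      by_cases h1 : v = x
      · rw [h1, hπx, hσx]
      by_cases h2 : v = y
      · rw [h2, hπy, hσy]
      by_cases h3 : v = z
      · rw [h3, hπz, hσz]
      by_cases h4 : v = w
      · rw [h4, hπw, hσw]
      rw [hσR v hv, swap_apply_of_ne_of_ne h3 h4, swap_apply_of_ne_of_ne h1 h2]
      exact hπY v (Finset.mem_insert_of_mem ((hYmem v).2 ⟨h4, h3, h2, h1, hv⟩))
    set κ := σ * π with hκ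
    have hκG : κ ∈ G := G.mul_mem hσG hπG
    have hκR : ∀ v ∈ R, κ v = v := by
      intro v hv
      rw [hκ, Perm.mul_apply, hagree v hv, apply_apply hσσ]
    have hc1 := hK κ hκG hκR x y hx hy hxy τ hτG hττ hτ
    have hc2 := hK κ hκG hκR z w hz hw hzw ρ hρG hρρ hρ
    have hc : κ * σ = σ * κ := by
      calc κ * σ = (κ * τ) * ρ := by rw [hσ]; group
        _ = τ * (κ * ρ) := by rw [hc1]; group
        _ = σ * κ := by rw [hc2, hσ]; group
    have hπ' : π = σ * κ := by
      rw [hκ, ← mul_assoc, hσσ, one_mul]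
    have hκκ : κ * κ = 1 := by
      calc κ * κ = (σ * σ) * (κ * κ) := by rw [hσσ, one_mul]
        _ = σ * (σ * κ) * κ := by group
        _ = σ * (κ * σ) * κ := by rw [hc]
        _ = (σ * κ) * (σ * κ) := by group
        _ = 1 := by rw [← hπ', hππ]
    have hκ1 : κ = 1 := h.eq_one_of_inv (by omega) hκG hκκ R hR.ge hκR
    rw [hκ1, mul_one] at hπ'
    rw [← hπ']
    exact hπY u (Finset.mem_insert_self _ _)
  have hσ1 : σ = 1 := by
    apply h.eq_one_of_inv (by omega) hσG hσσ ((((Finset.univ.erase x).erase y).erase z).erase w)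
    · rw [Finset.card_erase_of_mem, Finset.card_erase_of_mem, Finset.card_erase_of_mem,
        Finset.card_erase_of_mem (Finset.mem_univ _), Finset.card_univ]
      · have := h.card
        omega
      · simp [hxy.symm]
      · simp [hxz.symm, hyz.symm]
      · simp [hxw.symm, hyw.symm, hzw.symm]
    · intro v hv
      simp only [Finset.mem_erase, Finset.mem_univ, and_true] at hv
      exact hfix v hv.2.2.2 hv.2.2.1 hv.2.1 hv.1
  rw [hσ1] at hσx
  exact hxy hσx

end Cfsg.Agent.PermutationGroups.LWEven
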