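import Mathlib
import Cfsg.Agent.PermutationGroups.LWEven

/-!
Livingstone--Wagner: the odd case `n ≢ t (mod 2)`: `t ≥ 4` is impossible.
-/

set_option autoImplicit false
set_option linter.unusedSectionVars false

namespace Cfsg.Agent.PermutationGroups.LWOdd

open MulAction Equiv Cfsg.Agent.PermutationGroups.LWBasic Cfsg.Agent.PermutationGroups.LWCore
open Cfsg.Agent.PermutationGroups.LWCore.LW Cfsg.Agent.PermutationGroups.LWEven

variable {α : Type*} [Fintype α] [DecidableEq α]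

variable {G : Subgroup (Perm α)} {t : ℕ}

/-- odd case: an involution fixing `t-2` points fixes another point. -/
theorem odd_fixed_exists (hpar : Fintype.card α % 2 ≠ t % 2) (ht : 2 ≤ t) {τ : Perm α}
    (hττ : τ * τ = 1) (s : Finset α) (hs : s.card = t - 2)
    (hfix : ∀ x ∈ s, τ x = x) : ∃ u, u ∉ s ∧ τ u = u := by
  by_contra hcon
  push Not at hcon
  have h1 : (Finset.univ.filter (fun x => τ x = x)) = s := by
    ext v
    simp only [Finset.mem_filter, Finset.mem_univ, true_and]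
    constructor
    · intro hv
      by_contra hvs
      exact hcon v hvs hv
    · exact hfix v
  have h2 := card_fixed_mod_two τ hττ
  rw [h1, hs] at h2
  omega

/-- an involution fixing `t-1` points fixes no other point. -/
theorem fixed_unique (h : LW G t) (ht : 1 ≤ t) {τ : Perm α}
    (hτG : τ ∈ G) (hττ : τ * τ = 1) (hτ1 : τ ≠ 1) (s : Finset α) (hs : s.card = t - 1)
    (hfix : ∀ x ∈ s, τ x = x) (x : α) (hx : τ x = x) : x ∈ s := by
  by_contra hxs
  apply hτ1
  apply h.eq_one_of_inv ht hτG hττ (insert x s)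
  · rw [Finset.card_insert_of_notMem hxs, hs]
    omega
  · intro y hy
    rcases Finset.mem_insert.1 hy with rfl | hy
    · exact hx
    · exact hfix y hy

theorem odd_conj (h : LW G t) (hpar : Fintype.card α % 2 ≠ t % 2) (R : Finset α)
    (hR : R.card = t) {x y : α} (hx : x ∈ R) (hy : y ∈ R) (hxy : x ≠ y) {g g' : Perm α}
    (hgG : g ∈ G) (hg : ∀ v ∈ R, g v = swap x y v)
    (hgG' : g' ∈ G) (hg' : ∀ v ∈ R, g' v = swap x y v) :
    g * g = 1 ∧ ∃ κ ∈ G, (∀ r ∈ R, κ r = r) ∧ g' = κ * g * κ⁻¹ := by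
  have ht : 2 ≤ t := by
    rw [← hR]
    exact Finset.one_lt_card.2 ⟨x, hx, y, hy, hxy⟩
  obtain ⟨τ, hτG, hττ, hτ⟩ := h.exists_inv R hR hx hy hxy
  have hτ1 : τ ≠ 1 := by
    rintro rfl
    have := hτ x hx
    rw [swap_apply_left] at this
    exact hxy this
  -- the extra fixed point of `τ`
  set s := (R.erase x).erase y with hs
  have hsmem : ∀ v, v ∈ s ↔ v ≠ y ∧ v ≠ x ∧ v ∈ R := by
    intro v; rw [hs, Finset.mem_erase, Finset.mem_erase]
  have hscard : s.card = t - 2 := by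
    rw [hs, Finset.card_erase_of_mem (Finset.mem_erase.2 ⟨hxy.symm, hy⟩),
      Finset.card_erase_of_mem hx, hR]
    omega
  have hτs : ∀ v ∈ s, τ v = v := by
    intro v hv
    obtain ⟨h1, h2, h3⟩ := (hsmem v).1 hv
    rw [hτ v h3, swap_apply_of_ne_of_ne h2 h1]
  obtain ⟨u, hus, hu⟩ := odd_fixed_exists hpar ht hττ s hscard hτs
  have huR : u ∉ R := by
    intro hmem
    by_cases h1 : u = x
    · rw [h1, hτ x hx, swap_apply_left] at hu
      exact hxy hu.symm
    · by_cases h2 : u = y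
      · rw [h2, hτ y hy, swap_apply_right] at hu
        exact hxy hu
      · exact hus ((hsmem u).2 ⟨h2, h1, hmem⟩)
  have huniq : ∀ v, v ∉ R → τ v = v → v = u := by
    intro v hvR hv
    have h1 : v ∈ insert u s := by
      apply fixed_unique h (by omega) hτG hττ hτ1
      · rw [Finset.card_insert_of_notMem hus, hscard]; omega
      · intro w hw
        rcases Finset.mem_insert.1 hw with rfl | hw
        · exact hu
        · exact hτs w hw
      · exact hv
    rcases Finset.mem_insert.1 h1 with h2 | h2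
    · exact h2
    · exact absurd ((hsmem v).1 h2).2.2 hvR
  -- the pointwise stabiliser of `R`
  let K := {κ : Perm α // κ ∈ G ∧ ∀ r ∈ R, κ r = r}
  have hinvK : ∀ κ : K, ∀ r ∈ R, (κ.1)⁻¹ r = r := by
    intro κ r hr
    have h1 : (κ.1)⁻¹ (κ.1 r) = r := Equiv.symm_apply_apply κ.1 r
    rwa [κ.2.2 r hr] at h1
  let f : K → K := fun κ => ⟨κ.1 * τ * κ.1⁻¹ * τ⁻¹,
    G.mul_mem (G.mul_mem (G.mul_mem κ.2.1 hτG) (G.inv_mem κ.2.1)) (G.inv_mem hτG), by
      intro r hr
      rw [inv_eq hττ, Perm.mul_apply, Perm.mul_apply, Perm.mul_apply, hτ r hr,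
        hinvK κ _ (swap_mem hx hy hr), hτ _ (swap_mem hx hy hr), swap_apply_self,
        κ.2.2 r hr]⟩
  have hfinj : Function.Injective f := by
    intro κ κ' hκκ
    have h1 : κ.1 * τ * κ.1⁻¹ * τ⁻¹ = κ'.1 * τ * κ'.1⁻¹ * τ⁻¹ := congrArg Subtype.val hκκ
    have h2 : κ.1 * τ * κ.1⁻¹ = κ'.1 * τ * κ'.1⁻¹ := mul_right_cancel h1
    -- `κ'⁻¹ κ` commutes with `τ`
    have h3 : κ'.1⁻¹ * κ.1 * τ = τ * (κ'.1⁻¹ * κ.1) := by
      calc κ'.1⁻¹ * κ.1 * τ = κ'.1⁻¹ * (κ.1 * τ * κ.1⁻¹) * κ.1 := by group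
        _ = κ'.1⁻¹ * (κ'.1 * τ * κ'.1⁻¹) * κ.1 := by rw [h2]
        _ = τ * (κ'.1⁻¹ * κ.1) := by group
    set l := κ'.1⁻¹ * κ.1 with hl
    have hlG : l ∈ G := G.mul_mem (G.inv_mem κ'.2.1) κ.2.1
    have hlR : ∀ r ∈ R, l r = r := by
      intro r hr
      rw [hl, Perm.mul_apply, κ.2.2 r hr, hinvK κ' r hr]
    have hlu : l u = u := by
      apply huniq
      · intro hmem
        have h4 := hlR _ hmem
        have h5 := l.injective h4
        rw [h5] at hmem
        exact huR hmem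
      · have h4 := congrArg (fun π : Perm α => π u) h3
        simp only [Perm.mul_apply] at h4
        rw [hu] at h4
        exact h4.symm
    have hl1 : l = 1 := by
      apply h.eq_one_of_fix hlG (insert u R)
      · rw [Finset.card_insert_of_notMem huR, hR]
      · intro v hv
        rcases Finset.mem_insert.1 hv with rfl | hv
        · exact hlu
        · exact hlR v hv
    apply Subtype.ext
    rw [hl, inv_mul_eq_one] at hl1
    exact hl1.symm
  have hfsurj := Finite.surjective_of_injective hfinj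
  have key : ∀ g : Perm α, g ∈ G → (∀ v ∈ R, g v = swap x y v) →
      ∃ κ : K, g = κ.1 * τ * κ.1⁻¹ := by
    intro g hgG hg
    obtain ⟨κ, hκ⟩ := hfsurj ⟨g * τ⁻¹, G.mul_mem hgG (G.inv_mem hτG), by
      intro r hr
      rw [inv_eq hττ, Perm.mul_apply, hτ r hr, hg _ (swap_mem hx hy hr), swap_apply_self]⟩
    have h1 : κ.1 * τ * κ.1⁻¹ * τ⁻¹ = g * τ⁻¹ := congrArg Subtype.val hκ
    exact ⟨κ, (mul_right_cancel h1).symm⟩
  obtain ⟨κ, hκ⟩ := key g hgG hg
  obtain ⟨κ', hκ'⟩ := key g' hgG' hg'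
  refine ⟨?_, κ'.1 * κ.1⁻¹, G.mul_mem κ'.2.1 (G.inv_mem κ.2.1), ?_, ?_⟩
  · calc g * g = κ.1 * (τ * τ) * κ.1⁻¹ := by rw [hκ]; group
      _ = 1 := by rw [hττ]; group
  · intro r hr
    rw [Perm.mul_apply, hinvK κ r hr, κ'.2.2 r hr]
  · rw [hκ, hκ']; group

theorem odd_step (h : LW G t) (hpar : Fintype.card α % 2 ≠ t % 2) (ht : 4 ≤ t) (S : Finset α)
    (hS : S.card = t + 1) {x y z w : α} (hx : x ∈ S) (hy : y ∈ S) (hz : z ∈ S) (hw : w ∈ S)
    (hxy : x ≠ y) (hxz : x ≠ z) (hxw : x ≠ w) (hyz : y ≠ z) (hyw : y ≠ w) (hzw : z ≠ w)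
    {g : Perm α} (hgG : g ∈ G) (hg : ∀ v ∈ S, g v = swap x y v) :
    ∃ k ∈ G, ∀ v ∈ S, k v = swap z w v := by
  obtain ⟨u, hu⟩ : ((((S.erase x).erase y).erase z).erase w).Nonempty := by
    rw [← Finset.card_pos, Finset.card_erase_of_mem (Finset.mem_erase.2 ⟨hzw.symm,
        Finset.mem_erase.2 ⟨hyw.symm, Finset.mem_erase.2 ⟨hxw.symm, hw⟩⟩⟩),
      Finset.card_erase_of_mem (Finset.mem_erase.2 ⟨hyz.symm, Finset.mem_erase.2 ⟨hxz.symm, hz⟩⟩),
      Finset.card_erase_of_mem (Finset.mem_erase.2 ⟨hxy.symm, hy⟩),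
      Finset.card_erase_of_mem hx, hS]
    omega
  simp only [Finset.mem_erase] at hu
  obtain ⟨huw, huz, huy, hux, huS⟩ := hu
  set R := S.erase u with hRdef
  have hR : R.card = t := by rw [hRdef, Finset.card_erase_of_mem huS, hS]; rfl
  have hRS : ∀ v ∈ R, v ∈ S := fun v hv => Finset.mem_of_mem_erase hv
  have huR : u ∉ R := Finset.notMem_erase u S
  have hxR : x ∈ R := Finset.mem_erase.2 ⟨hux.symm, hx⟩
  have hyR : y ∈ R := Finset.mem_erase.2 ⟨huy.symm, hy⟩
  have hzR : z ∈ R := Finset.mem_erase.2 ⟨huz.symm, hz⟩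
  have hwR : w ∈ R := Finset.mem_erase.2 ⟨huw.symm, hw⟩
  have hgR : ∀ v ∈ R, g v = swap x y v := fun v hv => hg v (hRS v hv)
  have hgu : g u = u := by rw [hg u huS, swap_apply_of_ne_of_ne hux huy]
  obtain ⟨k0, hk0G, hk0⟩ := h.trans R hR.le (swap z w)
  have hk0k0 : k0 * k0 = 1 := (odd_conj h hpar R hR hzR hwR hzw hk0G hk0 hk0G hk0).1
  have hgg : g * g = 1 := (odd_conj h hpar R hR hxR hyR hxy hgG hgR hgG hgR).1
  have hg1 : g ≠ 1 := by
    rintro rfl
    have := hgR x hxR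
    rw [swap_apply_left] at this
    exact hxy this
  obtain ⟨κ, hκG, hκR, hκ⟩ := (odd_conj h hpar R hR hxR hyR hxy hgG hgR
    (G.mul_mem (G.mul_mem hk0G hgG) hk0G : k0 * g * k0 ∈ G) (by
      intro v hv
      rw [Perm.mul_apply, Perm.mul_apply, hk0 v hv, hgR _ (swap_mem hzR hwR hv),
        hk0 _ (swap_mem hxR hyR (swap_mem hzR hwR hv))]
      exact swap_swap_swap hxz hxw hyz hyw v)).2
  have hκi : ∀ r ∈ R, κ⁻¹ r = r := by
    intro r hr
    have h1 : κ⁻¹ (κ r) = r := Equiv.symm_apply_apply κ r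
    rwa [hκR r hr] at h1
  set k := κ⁻¹ * k0 with hk
  have hkG : k ∈ G := G.mul_mem (G.inv_mem hκG) hk0G
  have hkR : ∀ v ∈ R, k v = swap z w v := by
    intro v hv
    rw [hk, Perm.mul_apply, hk0 v hv, hκi _ (swap_mem hzR hwR hv)]
  have hcomm : k * g = g * k := by
    calc k * g = κ⁻¹ * (k0 * g * k0) * k0 := by
          rw [hk]
          calc κ⁻¹ * k0 * g = κ⁻¹ * k0 * g * (k0 * k0) := by rw [hk0k0, mul_one]
            _ = κ⁻¹ * (k0 * g * k0) * k0 := by group
      _ = κ⁻¹ * (κ * g * κ⁻¹) * k0 := by rw [hκ]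
      _ = g * k := by rw [hk]; group
  have hku : k u = u := by
    have h1 : g (k u) = k u := by
      have h4 := congrArg (fun π : Perm α => π u) hcomm
      simp only [Perm.mul_apply] at h4
      rw [hgu] at h4
      exact h4.symm
    have h2 : k u ∉ R := by
      intro hmem
      have h3 : swap z w (k u) ∈ R := swap_mem hzR hwR hmem
      have h4 : k (swap z w (k u)) = k u := by
        rw [hkR _ h3, swap_apply_self]
      have h5 := k.injective h4
      rw [h5] at h3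
      exact huR h3
    set s := (R.erase x).erase y with hs
    have hsmem : ∀ v, v ∈ s ↔ v ≠ y ∧ v ≠ x ∧ v ∈ R := by
      intro v; rw [hs, Finset.mem_erase, Finset.mem_erase]
    have hus : u ∉ s := fun hm => huR ((hsmem u).1 hm).2.2
    have h3 : k u ∈ insert u s := by
      apply fixed_unique h (by omega) hgG hgg hg1 _ _ _ _ h1
      · rw [Finset.card_insert_of_notMem hus, hs,
          Finset.card_erase_of_mem (Finset.mem_erase.2 ⟨hxy.symm, hyR⟩),
          Finset.card_erase_of_mem hxR, hR]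
        omega
      · intro v hv
        rcases Finset.mem_insert.1 hv with rfl | hv
        · exact hgu
        · obtain ⟨h5, h6, h7⟩ := (hsmem v).1 hv
          rw [hgR v h7, swap_apply_of_ne_of_ne h6 h5]
    rcases Finset.mem_insert.1 h3 with h4 | h4
    · exact h4
    · exact absurd ((hsmem _).1 h4).2.2 h2
  refine ⟨k, hkG, fun v hv => ?_⟩
  by_cases hvu : v = u
  · rw [hvu, hku, swap_apply_of_ne_of_ne huz huw]
  · exact hkR v (Finset.mem_erase.2 ⟨hvu, hv⟩)

/-- odd case: some set of size `t+1` carries an induced transposition. -/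
theorem odd_exists_swap (h : LW G t) (hpar : Fintype.card α % 2 ≠ t % 2) (ht : 2 ≤ t) :
    ∃ S : Finset α, S.card = t + 1 ∧ ∃ x ∈ S, ∃ y ∈ S, x ≠ y ∧ ∃ g ∈ G,
      ∀ v ∈ S, g v = swap x y v := by
  obtain ⟨R, hR⟩ := h.exists_finset t (by omega)
  obtain ⟨x, hx, y, hy, hxy⟩ := Finset.one_lt_card.1 (show 1 < R.card by omega)
  obtain ⟨τ, hτG, hττ, hτ⟩ := h.exists_inv R hR hx hy hxy
  set s := (R.erase x).erase y with hs
  have hsmem : ∀ v, v ∈ s ↔ v ≠ y ∧ v ≠ x ∧ v ∈ R := by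
    intro v; rw [hs, Finset.mem_erase, Finset.mem_erase]
  have hscard : s.card = t - 2 := by
    rw [hs, Finset.card_erase_of_mem (Finset.mem_erase.2 ⟨hxy.symm, hy⟩),
      Finset.card_erase_of_mem hx, hR]
    omega
  obtain ⟨u, hus, hu⟩ := odd_fixed_exists hpar ht hττ s hscard (by
    intro v hv
    obtain ⟨h1, h2, h3⟩ := (hsmem v).1 hv
    rw [hτ v h3, swap_apply_of_ne_of_ne h2 h1])
  have huR : u ∉ R := by
    intro hmem
    by_cases h1 : u = x
    · rw [h1, hτ x hx, swap_apply_left] at hu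
      exact hxy hu.symm
    · by_cases h2 : u = y
      · rw [h2, hτ y hy, swap_apply_right] at hu
        exact hxy hu
      · exact hus ((hsmem u).2 ⟨h2, h1, hmem⟩)
  refine ⟨insert u R, by rw [Finset.card_insert_of_notMem huR, hR], x,
    Finset.mem_insert_of_mem hx, y, Finset.mem_insert_of_mem hy, hxy, τ, hτG, ?_⟩
  intro v hv
  rcases Finset.mem_insert.1 hv with rfl | hv
  · rw [hu, swap_apply_of_ne_of_ne]
    · rintro rfl; exact huR hx
    · rintro rfl; exact huR hy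
  · exact hτ v hv

theorem odd_absurd (h : LW G t) (hpar : Fintype.card α % 2 ≠ t % 2) (ht : 4 ≤ t) : False := by
  obtain ⟨S, hS, x, hx, y, hy, hxy, g, hgG, hg⟩ := odd_exists_swap h hpar (by omega)
  -- a further pair of points avoiding any three given ones
  have hpair : ∀ a ∈ S, ∀ b ∈ S, ∀ c ∈ S, ∃ z ∈ S, ∃ w ∈ S, z ≠ w ∧
      (z ≠ a ∧ z ≠ b ∧ z ≠ c) ∧ (w ≠ a ∧ w ≠ b ∧ w ≠ c) := by
    intro a ha b hb c hc
    have h1 : 1 < (S \ {a, b, c}).card := by
      have h2 : S.card - ({a, b, c} : Finset α).card ≤ (S \ {a, b, c}).card :=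
        Finset.le_card_sdiff _ _
      have h3 : ({a, b, c} : Finset α).card ≤ 3 := Finset.card_le_three
      omega
    obtain ⟨z, hz, w, hw, hzw⟩ := Finset.one_lt_card.1 h1
    simp only [Finset.mem_sdiff, Finset.mem_insert, Finset.mem_singleton, not_or] at hz hw
    exact ⟨z, hz.1, w, hw.1, hzw, hz.2, hw.2⟩
  apply h.notrans S hS
  intro a ha b hb hab
  -- case: `{a,b}` and `{x,y}` disjoint
  by_cases hdisj : (a ≠ x ∧ a ≠ y) ∧ (b ≠ x ∧ b ≠ y)
  · exact odd_step h hpar ht S hS hx hy ha hb hxy hdisj.1.1.symm hdisj.2.1.symm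
      hdisj.1.2.symm hdisj.2.2.symm hab hgG hg
  -- otherwise the union has at most three elements
  have hthree : ∃ c ∈ S, (a = x ∨ a = y ∨ a = c) ∧ (b = x ∨ b = y ∨ b = c) := by
    by_cases h1 : a ≠ x ∧ a ≠ y
    · refine ⟨a, ha, Or.inr (Or.inr rfl), ?_⟩
      by_contra h2
      apply hdisj
      refine ⟨h1, fun h3 => h2 (Or.inl h3), fun h3 => h2 (Or.inr (Or.inl h3))⟩
    · refine ⟨b, hb, ?_, Or.inr (Or.inr rfl)⟩
      by_contra h2
      apply h1
      exact ⟨fun h3 => h2 (Or.inl h3), fun h3 => h2 (Or.inr (Or.inl h3))⟩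
  obtain ⟨c, hc, hac, hbc⟩ := hthree
  obtain ⟨z, hz, w, hw, hzw, hz3, hw3⟩ := hpair x hx y hy c hc
  obtain ⟨k, hkG, hk⟩ := odd_step h hpar ht S hS hx hy hz hw hxy hz3.1.symm hw3.1.symm
    hz3.2.1.symm hw3.2.1.symm hzw hgG hg
  have hne : ∀ d : α, (d = x ∨ d = y ∨ d = c) → z ≠ d ∧ w ≠ d := by
    rintro d (rfl | rfl | rfl)
    · exact ⟨hz3.1, hw3.1⟩
    · exact ⟨hz3.2.1, hw3.2.1⟩
    · exact ⟨hz3.2.2, hw3.2.2⟩
  exact odd_step h hpar ht S hS hz hw ha hb hzw (hne a hac).1 (hne b hbc).1 (hne a hac).2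
    (hne b hbc).2 hab hkG hk

end Cfsg.Agent.PermutationGroups.LWOdd
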