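import Mathlib

/-!
Counting with orbits of constant length, pointwise stabilisers of finite sets.
-/

set_option autoImplicit false

namespace Cfsg.Agent.PermutationGroups.OrbitCount

open MulAction Equiv

/-- If all orbits of `K` inside an invariant finite set `s` have `q` elements, `q ∣ s.card`. -/
theorem dvd_card_of_orbit_ncard {K : Type*} [Group K] {α : Type*} [MulAction K α]
    (s : Finset α) (hs : ∀ (k : K), ∀ x ∈ s, k • x ∈ s) (q : ℕ)
    (hq : ∀ x ∈ s, (orbit K x).ncard = q) : q ∣ s.card := by
  classical
  rw [Finset.card_eq_sum_card_image (fun x => orbit K x) s]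
  apply Finset.dvd_sum
  intro O hO
  obtain ⟨x, hx, rfl⟩ := Finset.mem_image.1 hO
  have h1 : ((s.filter (fun a => orbit K a = orbit K x) : Finset α) : Set α) = orbit K x := by
    ext y
    simp only [Finset.coe_filter, Set.mem_ofPred_eq]
    constructor
    · rintro ⟨_, h⟩
      rw [← h]
      exact mem_orbit_self y
    · rintro ⟨k, rfl⟩
      exact ⟨hs k x hx, orbit_smul k x⟩
  rw [← Set.ncard_coe_finset, h1, hq x hx]

/-- Order of a group acting = (length of an orbit) * (order of the stabiliser). -/
theorem ncard_orbit_mul_card_stabilizer {K : Type*} [Group K] {α : Type*} [MulAction K α]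
    (x : α) : (orbit K x).ncard * Nat.card (stabilizer K x) = Nat.card K := by
  rw [← index_stabilizer, mul_comm, Subgroup.card_mul_index]

/-- The stabiliser of `a` in the pointwise stabiliser of `R` has the order of the pointwise
stabiliser of `insert a R`. -/
theorem card_stabilizer_fixingSubgroup {M : Type*} [Group M] {α : Type*} [MulAction M α]
    (R : Set α) (a : α) :
    Nat.card (stabilizer (fixingSubgroup M R) a) = Nat.card (fixingSubgroup M (insert a R)) := by
  refine Nat.card_congr ⟨fun g => ⟨g.1.1, ?_⟩, fun g => ⟨⟨g.1, ?_⟩, ?_⟩, fun g => rfl, fun g => rfl⟩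
  · rw [mem_fixingSubgroup_iff]
    intro y hy
    rcases hy with rfl | hy
    · exact g.2
    · exact (mem_fixingSubgroup_iff M).1 g.1.2 y hy
  · rw [mem_fixingSubgroup_iff]
    intro y hy
    exact (mem_fixingSubgroup_iff M).1 g.2 y (Set.mem_insert_of_mem _ hy)
  · exact (mem_fixingSubgroup_iff M).1 g.2 a (Set.mem_insert _ _)

end Cfsg.Agent.PermutationGroups.OrbitCount
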