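import Mathlib
import Cfsg.Agent.PermutationGroups.OrbitCount
import Cfsg.Agent.PermutationGroups.LWOdd

/-!
Livingstone--Wagner: orders of stabilisers.
-/

set_option autoImplicit false
set_option linter.unusedSectionVars false

namespace Cfsg.Agent.PermutationGroups.LWOrders

open MulAction Equiv Cfsg.Agent.PermutationGroups.LWBasic Cfsg.Agent.PermutationGroups.LWCore
open Cfsg.Agent.PermutationGroups.LWCore.LW Cfsg.Agent.PermutationGroups.LWEven
open Cfsg.Agent.PermutationGroups.LWOdd Cfsg.Agent.PermutationGroups.OrbitCount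
open scoped Pointwise

variable {α : Type*} [Fintype α] [DecidableEq α]

variable {G : Subgroup (Perm α)} {t : ℕ}

/-- order of a `t`-transitive group in terms of the pointwise stabiliser of `t` points -/
theorem card_mul_factorial (ht : IsMultiplyPretransitive G α t) (R : Finset α) (hR : R.card = t) :
    Nat.card G * (Fintype.card α - t).factorial =
      (Fintype.card α).factorial * Nat.card (fixingSubgroup G (R : Set α)) := by
  have h1 := ht.index_of_fixingSubgroup_mul (s := (R : Set α)) (by rw [Set.ncard_coe_finset, hR])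
  rw [Nat.card_eq_fintype_card (α := α)] at h1
  rw [← h1, ← Subgroup.card_mul_index (fixingSubgroup G (R : Set α))]
  ring

/-- order of an `m`-homogeneous group -/
theorem card_eq_choose_mul {m : ℕ} (hh : IsPretransitive G (Set.powersetCard α m))
    (S : Set.powersetCard α m) :
    Nat.card G = (Fintype.card α).choose m * Nat.card (stabilizer G S) := by
  have h1 := index_stabilizer_of_transitive G S
  rw [Set.powersetCard.card, Nat.card_eq_fintype_card (α := α)] at h1
  rw [← h1, mul_comm, Subgroup.card_mul_index]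

theorem mem_stabilizer_iff_forall {m : ℕ} (S : Set.powersetCard α m) (g : G) :
    g ∈ stabilizer G S ↔ ∀ x, g.1 x ∈ S.1 ↔ x ∈ S.1 := by
  rw [mem_stabilizer_iff, ← Subtype.coe_inj]
  have h0 : ((g • S : Set.powersetCard α m) : Finset α) = g • S.1 := rfl
  rw [h0]
  constructor
  · intro h x
    have h1 : g • x ∈ g • S.1 ↔ x ∈ S.1 := Finset.smul_mem_smul_finset_iff g
    rw [h] at h1
    exact h1
  · intro h
    apply Finset.eq_of_subset_of_card_le
    · intro y hy
      rw [Finset.mem_smul_finset] at hy
      obtain ⟨x, hx, rfl⟩ := hy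
      exact (h x).2 hx
    · rw [Finset.card_smul_finset]

/-- the action of the setwise stabiliser on the set -/
def stabHom {m : ℕ} (S : Set.powersetCard α m) : stabilizer G S →* Perm {x // x ∈ S.1} where
  toFun g := (g.1.1).subtypePerm ((mem_stabilizer_iff_forall S g.1).1 g.2)
  map_one' := by ext; rfl
  map_mul' a b := by ext; rfl

theorem stabHom_apply {m : ℕ} (S : Set.powersetCard α m) (g : stabilizer G S)
    (x : {x // x ∈ S.1}) : (stabHom S g x : α) = g.1.1 x := rfl

theorem stabHom_injective (h : LW G t) {m : ℕ} (hm : t + 1 ≤ m) (S : Set.powersetCard α m) :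
    Function.Injective (stabHom (G := G) S) := by
  intro g g' hgg
  apply Subtype.ext
  apply Subtype.ext
  apply h.rigid _ g.1.2 _ g'.1.2 S.1 (by rw [Set.powersetCard.card_eq]; exact hm)
  intro x hx
  have := congrArg (fun π : Perm {x // x ∈ S.1} => (π ⟨x, hx⟩ : α)) hgg
  exact this

theorem card_stab_dvd (h : LW G t) {m : ℕ} (hm : t + 1 ≤ m) (S : Set.powersetCard α m) :
    Nat.card (stabilizer G S) ∣ m.factorial := by
  have h1 := Subgroup.card_dvd_of_injective _ (stabHom_injective h hm S)
  rw [Nat.card_eq_fintype_card (α := Perm _), Fintype.card_perm, Fintype.card_coe,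
    Set.powersetCard.card_eq] at h1
  exact h1

theorem card_stab_ne (h : LW G t) (S : Set.powersetCard α (t + 1)) :
    Nat.card (stabilizer G S) ≠ (t + 1).factorial := by
  intro hcard
  have hbij : Function.Bijective (stabHom (G := G) S) := by
    apply (stabHom_injective h le_rfl S).bijective_of_nat_card_le
    rw [hcard, Nat.card_eq_fintype_card, Fintype.card_perm, Fintype.card_coe,
      Set.powersetCard.card_eq]
  apply h.notrans S.1 (Set.powersetCard.card_eq S)
  intro x hx y hy hxy
  obtain ⟨g, hg⟩ := hbij.2 (swap ⟨x, hx⟩ ⟨y, hy⟩)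
  refine ⟨g.1.1, g.1.2, fun z hz => ?_⟩
  have h1 := congrArg (fun π : Perm {x // x ∈ S.1} => (π ⟨z, hz⟩ : α)) hg
  have h2 : (stabHom S g ⟨z, hz⟩ : α) = g.1.1 z := rfl
  simp only [h2] at h1
  rw [h1, swap_apply_def, swap_apply_def]
  simp only [Subtype.mk.injEq]
  split_ifs <;> rfl

/-- the order of the pointwise stabiliser of `t` points is odd -/
theorem card_fixing_odd (h : LW G t) (ht : 1 ≤ t) (R : Finset α) (hR : R.card = t) :
    Odd (Nat.card (fixingSubgroup G (R : Set α))) := by
  by_contra hcon
  rw [Nat.not_odd_iff_even, even_iff_two_dvd] at hcon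
  have : Fact (Nat.Prime 2) := ⟨Nat.prime_two⟩
  obtain ⟨g, hg⟩ := exists_prime_orderOf_dvd_card' 2 hcon
  have h1 : g * g = 1 := by rw [← pow_two, ← hg, pow_orderOf_eq_one]
  have h2 : g.1.1 * g.1.1 = 1 := congrArg (fun k => k.1.1) h1
  have h3 : g.1.1 = 1 := by
    apply h.eq_one_of_inv ht g.1.2 h2 R hR.ge
    intro x hx
    exact (mem_fixingSubgroup_iff G).1 g.2 x hx
  have h4 : g = 1 := Subtype.ext (Subtype.ext h3)
  rw [h4, orderOf_one] at hg
  omega

/-- the fundamental relations between orders -/
theorem relations (h : LW G t) (ht : IsMultiplyPretransitive G α t)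
    (hh1 : IsPretransitive G (Set.powersetCard α (t + 1)))
    (hh2 : IsPretransitive G (Set.powersetCard α (t + 2)))
    (R : Finset α) (hR : R.card = t) (S : Set.powersetCard α (t + 1))
    (T : Set.powersetCard α (t + 2)) :
    (Fintype.card α - t) * Nat.card (stabilizer G S) =
      (t + 1).factorial * Nat.card (fixingSubgroup G (R : Set α)) ∧
    (Fintype.card α - (t + 1)) * Nat.card (stabilizer G T) =
      (t + 2) * Nat.card (stabilizer G S) := by
  have hn := h.card
  have e1 := card_mul_factorial ht R hR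
  have e2 := card_eq_choose_mul hh1 S
  have e3 := card_eq_choose_mul hh2 T
  set n := Fintype.card α
  set a := Nat.card (stabilizer G S)
  set b := Nat.card (stabilizer G T)
  set d := Nat.card (fixingSubgroup G (R : Set α))
  constructor
  · have h1 : n.choose (t + 1) * (t + 1).factorial * (n - (t + 1)).factorial = n.factorial :=
      Nat.choose_mul_factorial_mul_factorial (by omega)
    have h2 : (n - t).factorial = (n - t) * (n - (t + 1)).factorial := by
      obtain ⟨k, hk⟩ : ∃ k, n - t = k + 1 := ⟨n - t - 1, by omega⟩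
      have hk' : n - (t + 1) = k := by omega
      rw [hk, hk', Nat.factorial_succ]
    rw [e2, h2, ← h1] at e1
    have hpos : 0 < n.choose (t + 1) * (n - (t + 1)).factorial :=
      Nat.mul_pos (Nat.choose_pos (by omega)) (Nat.factorial_pos _)
    apply Nat.eq_of_mul_eq_mul_left hpos
    calc n.choose (t + 1) * (n - (t + 1)).factorial * ((n - t) * a)
        = n.choose (t + 1) * a * ((n - t) * (n - (t + 1)).factorial) := by ring
      _ = _ := e1
      _ = n.choose (t + 1) * (n - (t + 1)).factorial * ((t + 1).factorial * d) := by ring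
  · have h1 : n.choose (t + 2) * (t + 2) = n.choose (t + 1) * (n - (t + 1)) :=
      Nat.choose_succ_right_eq n (t + 1)
    have hpos : 0 < n.choose (t + 1) := Nat.choose_pos (by omega)
    apply Nat.eq_of_mul_eq_mul_left hpos
    calc n.choose (t + 1) * ((n - (t + 1)) * b) = n.choose (t + 1) * (n - (t + 1)) * b := by ring
      _ = n.choose (t + 2) * (t + 2) * b := by rw [h1]
      _ = (t + 2) * (n.choose (t + 2) * b) := by ring
      _ = (t + 2) * (n.choose (t + 1) * a) := by rw [← e3, ← e2]
      _ = n.choose (t + 1) * ((t + 2) * a) := by ring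

/-- `t = 2`: if `3` divides the order of a two-point stabiliser then the stabiliser of some
3-set has order divisible by `3`. -/
theorem three_dvd (h : LW G 2) (R : Finset α) (hR : R.card = 2)
    (h3 : 3 ∣ Nat.card (fixingSubgroup G (R : Set α))) :
    ∃ S : Set.powersetCard α (2 + 1), 3 ∣ Nat.card (stabilizer G S) := by
  have : Fact (Nat.Prime 3) := ⟨Nat.prime_three⟩
  obtain ⟨g, hg⟩ := exists_prime_orderOf_dvd_card' 3 h3
  obtain ⟨x, hx⟩ := h.exists_notMem R (by omega)
  have hfix : ∀ r ∈ R, g.1.1 r = r := fun r hr => (mem_fixingSubgroup_iff G).1 g.2 r hr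
  have hg3 : g ^ 3 = 1 := by rw [← hg, pow_orderOf_eq_one]
  have hne : g.1.1 ≠ 1 := by
    intro h1
    have h2 : g = 1 := Subtype.ext (Subtype.ext h1)
    rw [h2, orderOf_one] at hg
    omega
  have h3x : ∀ v, g.1.1 (g.1.1 (g.1.1 v)) = v := by
    intro v
    have h1 : (g ^ 3).1.1 v = v := by rw [hg3]; rfl
    exact h1
  have hx1 : g.1.1 x ≠ x := by
    intro hxx
    apply hne
    apply h.eq_one_of_fix g.1.2 (insert x R)
    · rw [Finset.card_insert_of_notMem hx, hR]
    · intro v hv
      rcases Finset.mem_insert.1 hv with rfl | hv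
      · exact hxx
      · exact hfix v hv
  have hx2 : g.1.1 (g.1.1 x) ≠ g.1.1 x := fun h1 => hx1 (g.1.1.injective h1)
  have hx3 : g.1.1 (g.1.1 x) ≠ x := by
    intro h1
    have h2 := h3x x
    rw [h1] at h2
    exact hx1 h2
  have hcard : ({x, g.1.1 x, g.1.1 (g.1.1 x)} : Finset α).card = 2 + 1 := by
    rw [Finset.card_eq_three]
    exact ⟨_, _, _, hx1.symm, hx3.symm, hx2.symm, rfl⟩
  refine ⟨⟨{x, g.1.1 x, g.1.1 (g.1.1 x)}, hcard⟩, ?_⟩
  have hmem : g.1 ∈ stabilizer G
      (⟨{x, g.1.1 x, g.1.1 (g.1.1 x)}, hcard⟩ : Set.powersetCard α (2 + 1)) := by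
    rw [mem_stabilizer_iff_forall]
    intro v
    show g.1.1 v ∈ ({x, g.1.1 x, g.1.1 (g.1.1 x)} : Finset α) ↔
      v ∈ ({x, g.1.1 x, g.1.1 (g.1.1 x)} : Finset α)
    simp only [Finset.mem_insert, Finset.mem_singleton]
    constructor
    · rintro (h1 | h1 | h1)
      · right; right
        rw [← h1, h3x]
      · left
        exact g.1.1.injective h1
      · right; left
        exact g.1.1.injective h1
    · rintro (rfl | rfl | rfl)
      · right; left; rfl
      · right; right; rfl
      · left; rw [h3x]
  have h4 : orderOf (⟨g.1, hmem⟩ : stabilizer G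
      (⟨{x, g.1.1 x, g.1.1 (g.1.1 x)}, hcard⟩ : Set.powersetCard α (2 + 1))) = 3 := by
    rw [← hg, ← Subgroup.orderOf_coe, ← Subgroup.orderOf_coe (a := g)]
  rw [← h4]
  exact orderOf_dvd_natCard _

/-- `t = 3`, `n` odd: the stabiliser of a 4-set has order divisible by 4. -/
theorem four_dvd (h : LW G 3) (hpar : Fintype.card α % 2 = 3 % 2)
    (S : Set.powersetCard α (3 + 1)) : 4 ∣ Nat.card (stabilizer G S) := by
  have hScard : S.1.card = 4 := Set.powersetCard.card_eq S
  obtain ⟨x, hx⟩ := Finset.card_pos.1 (by omega : 0 < S.1.card)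
  have horb : orbit (stabilizer G S) x = (S.1 : Set α) := by
    apply Set.Subset.antisymm
    · rintro _ ⟨g, rfl⟩
      exact ((mem_stabilizer_iff_forall S g.1).1 g.2 x).2 hx
    · intro y hy
      by_cases hxy : x = y
      · subst hxy; exact mem_orbit_self x
      have hy' : y ∈ S.1 := hy
      have hcard2 : ((S.1.erase x).erase y).card = 2 := by
        rw [Finset.card_erase_of_mem (Finset.mem_erase.2 ⟨fun h => hxy h.symm, hy'⟩),
          Finset.card_erase_of_mem hx, hScard]
      obtain ⟨z, w, hzw, hzw'⟩ := Finset.card_eq_two.1 hcard2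
      have hz : z ∈ (S.1.erase x).erase y := by rw [hzw']; simp
      have hw : w ∈ (S.1.erase x).erase y := by rw [hzw']; simp
      have hS : ∀ v, v ∈ S.1 ↔ v = x ∨ v = y ∨ v = z ∨ v = w := by
        intro v
        constructor
        · intro hv
          by_cases h1 : v = x
          · exact Or.inl h1
          by_cases h2 : v = y
          · exact Or.inr (Or.inl h2)
          have h3 : v ∈ (S.1.erase x).erase y :=
            Finset.mem_erase.2 ⟨h2, Finset.mem_erase.2 ⟨h1, hv⟩⟩
          rw [hzw'] at h3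
          simp only [Finset.mem_insert, Finset.mem_singleton] at h3
          exact Or.inr (Or.inr h3)
        · rintro (rfl | rfl | rfl | rfl)
          · exact hx
          · exact hy'
          · exact Finset.mem_of_mem_erase (Finset.mem_of_mem_erase hz)
          · exact Finset.mem_of_mem_erase (Finset.mem_of_mem_erase hw)
      simp only [Finset.mem_erase] at hz hw
      obtain ⟨σ, hσG, hσσ, hσx, hσy, hσz, hσw, -⟩ := h.even_double hpar le_rfl ∅
        (by simp) (x := x) (y := y) (z := z) (w := w) hxy hz.2.1.symm hz.1.symm (by simp)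
        (by simp) (by simp) (by
          simp only [Finset.mem_insert, Finset.notMem_empty, or_false, not_or]
          exact ⟨hw.2.1, hw.1, hzw.symm⟩)
      have hmem : (⟨σ, hσG⟩ : G) ∈ stabilizer G S := by
        rw [mem_stabilizer_iff_forall]
        have key : ∀ v, v ∈ S.1 → σ v ∈ S.1 := by
          intro v hv
          rcases (hS v).1 hv with rfl | rfl | rfl | rfl
          · rw [hσx]; exact hy'
          · rw [hσy]; exact hx
          · rw [hσz]; exact hw.2.2
          · rw [hσw]; exact hz.2.2
        intro v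
        refine ⟨fun hv => ?_, key v⟩
        have h1 := key _ hv
        have h2 : σ (σ v) = v := apply_apply hσσ v
        have h1' : σ (σ v) ∈ S.1 := h1
        rwa [h2] at h1'
      exact ⟨⟨⟨σ, hσG⟩, hmem⟩, hσx⟩
  have h1 := ncard_orbit_mul_card_stabilizer (K := stabilizer G S) x
  rw [horb, Set.ncard_coe_finset, hScard] at h1
  exact Dvd.intro _ h1

/-- `t = 3`, `n` even: counting involutions swapping two given points. -/
theorem odd_count (h : LW G 3) (hpar : Fintype.card α % 2 ≠ 3 % 2)
    (d : ℕ) (hd : ∀ R : Finset α, R.card = 3 → Nat.card (fixingSubgroup G (R : Set α)) = d) :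
    (Fintype.card α - 2) * d ≤ 2 * (d + (Fintype.card α - 3)) := by
  classical
  have hn := h.card
  obtain ⟨R0, hR0⟩ := h.exists_finset 2 (by omega)
  obtain ⟨x, y, hxy, hR0'⟩ := Finset.card_eq_two.1 hR0
  let U : Finset α := (Finset.univ.erase x).erase y
  have hUmem : ∀ v, v ∈ U ↔ v ≠ y ∧ v ≠ x := by
    intro v
    simp [U]
  have hUcard : U.card = Fintype.card α - 2 := by
    rw [Finset.card_erase_of_mem (by simp [hxy.symm]),
      Finset.card_erase_of_mem (Finset.mem_univ _), Finset.card_univ]
    rfl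
  let Inv : Finset (Perm α) :=
    Finset.univ.filter (fun g => g ∈ G ∧ g x = y ∧ g y = x ∧ ∃ u ∈ U, g u = u)
  have hInv : ∀ g, g ∈ Inv ↔ g ∈ G ∧ g x = y ∧ g y = x ∧ ∃ u ∈ U, g u = u := by
    intro g; simp [Inv]
  have hR3 : ∀ u ∈ U, ({x, y, u} : Finset α).card = 3 := by
    intro u hu
    obtain ⟨h1, h2⟩ := (hUmem u).1 hu
    rw [Finset.card_eq_three]
    exact ⟨x, y, u, hxy, h2.symm, h1.symm, rfl⟩
  have hagree : ∀ g : Perm α, g x = y → g y = x → ∀ u ∈ U, g u = u →
      ∀ v ∈ ({x, y, u} : Finset α), g v = swap x y v := by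
    intro g hgx hgy u hu hgu v hv
    obtain ⟨h1, h2⟩ := (hUmem u).1 hu
    simp only [Finset.mem_insert, Finset.mem_singleton] at hv
    rcases hv with rfl | rfl | rfl
    · rw [hgx, swap_apply_left]
    · rw [hgy, swap_apply_right]
    · rw [hgu, swap_apply_of_ne_of_ne h2 h1]
  have hInvinv : ∀ g ∈ Inv, g * g = 1 := by
    intro g hg
    obtain ⟨hgG, hgx, hgy, u, hu, hgu⟩ := (hInv g).1 hg
    exact (odd_conj h hpar {x, y, u} (hR3 u hu) (by simp) (by simp) hxy hgG
      (hagree g hgx hgy u hu hgu) hgG (hagree g hgx hgy u hu hgu)).1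
  -- the number of elements of `Inv` fixing `u`
  have hJ : ∀ u ∈ U, (Inv.filter (fun g => g u = u)).card = d := by
    intro u hu
    obtain ⟨h1, h2⟩ := (hUmem u).1 hu
    obtain ⟨g0, hg0G, hg0⟩ := h.trans {x, y, u} (hR3 u hu).le (swap x y)
    have hg0x : g0 x = y := by rw [hg0 x (by simp), swap_apply_left]
    have hg0y : g0 y = x := by rw [hg0 y (by simp), swap_apply_right]
    have hg0u : g0 u = u := by rw [hg0 u (by simp), swap_apply_of_ne_of_ne h2 h1]
    rw [← hd {x, y, u} (hR3 u hu), ← Fintype.card_coe, ← Nat.card_eq_fintype_card]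
    have hmem : ∀ g : Perm α, g ∈ Inv.filter (fun g => g u = u) ↔
        g ∈ G ∧ g x = y ∧ g y = x ∧ g u = u := by
      intro g
      rw [Finset.mem_filter, hInv]
      constructor
      · rintro ⟨⟨h3, h4, h5, _⟩, h6⟩
        exact ⟨h3, h4, h5, h6⟩
      · rintro ⟨h3, h4, h5, h6⟩
        exact ⟨⟨h3, h4, h5, u, hu, h6⟩, h6⟩
    refine Nat.card_congr ⟨fun g => ⟨⟨g0⁻¹ * g.1, ?_⟩, ?_⟩, fun κ => ⟨g0 * κ.1.1, ?_⟩,
      fun g => ?_, fun κ => ?_⟩
    · exact G.mul_mem (G.inv_mem hg0G) ((hmem g.1).1 g.2).1
    · rw [mem_fixingSubgroup_iff]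
      obtain ⟨h3, h4, h5, h6⟩ := (hmem g.1).1 g.2
      intro v hv
      have hv' : v ∈ ({x, y, u} : Finset α) := hv
      show g0⁻¹ (g.1 v) = v
      rw [hagree g.1 h4 h5 u hu h6 v hv', ← hg0 v hv']
      exact Equiv.symm_apply_apply g0 v
    · rw [hmem]
      have hκ : ∀ v ∈ ({x, y, u} : Finset α), κ.1.1 v = v := fun v hv =>
        (mem_fixingSubgroup_iff G).1 κ.2 v hv
      refine ⟨G.mul_mem hg0G κ.1.2, ?_, ?_, ?_⟩
      · rw [Perm.mul_apply, hκ x (by simp), hg0x]
      · rw [Perm.mul_apply, hκ y (by simp), hg0y]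
      · rw [Perm.mul_apply, hκ u (by simp), hg0u]
    · apply Subtype.ext
      exact mul_inv_cancel_left g0 g.1
    · apply Subtype.ext
      apply Subtype.ext
      exact inv_mul_cancel_left g0 κ.1.1
  -- every element of `Inv` has exactly two fixed points in `U`
  have htwo : ∀ g ∈ Inv, (U.filter (fun u => g u = u)).card = 2 := by
    intro g hg
    obtain ⟨hgG, hgx, hgy, u, hu, hgu⟩ := (hInv g).1 hg
    have hgg := hInvinv g hg
    have hg1 : g ≠ 1 := by
      rintro rfl
      exact hxy hgx
    obtain ⟨u', hu's, hu'⟩ := odd_fixed_exists hpar (by omega) hgg {u} (by simp) (by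
      intro v hv
      rw [Finset.mem_singleton] at hv
      rw [hv, hgu])
    rw [Finset.mem_singleton] at hu's
    have hu'U : u' ∈ U := by
      rw [hUmem]
      constructor
      · rintro rfl
        rw [hgy] at hu'
        exact hxy hu'
      · rintro rfl
        rw [hgx] at hu'
        exact hxy hu'.symm
    have h1 : U.filter (fun u => g u = u) = {u, u'} := by
      ext v
      rw [Finset.mem_filter]
      constructor
      · rintro ⟨hvU, hv⟩
        apply fixed_unique h (by omega) hgG hgg hg1 {u, u'} _ _ v hv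
        · rw [Finset.card_pair (fun h => hu's h.symm)]
        · intro w hw
          simp only [Finset.mem_insert, Finset.mem_singleton] at hw
          rcases hw with rfl | rfl
          · exact hgu
          · exact hu'
      · intro hv
        simp only [Finset.mem_insert, Finset.mem_singleton] at hv
        rcases hv with rfl | rfl
        · exact ⟨hu, hgu⟩
        · exact ⟨hu'U, hu'⟩
    rw [h1, Finset.card_pair (fun h => hu's h.symm)]
  -- double counting
  have hdc := Finset.sum_card_bipartiteAbove_eq_sum_card_bipartiteBelow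
    (s := U) (t := Inv) (fun (u : α) (g : Perm α) => g u = u)
  have h1 : ∑ u ∈ U, (Finset.bipartiteAbove (fun (u : α) (g : Perm α) => g u = u) Inv u).card =
      U.card * d := by
    rw [Finset.sum_const_nat]
    intro u hu
    exact hJ u hu
  have h2 : ∑ g ∈ Inv, (Finset.bipartiteBelow (fun (u : α) (g : Perm α) => g u = u) U g).card =
      Inv.card * 2 := by
    rw [Finset.sum_const_nat]
    intro g hg
    exact htwo g hg
  rw [h1, h2, hUcard] at hdc
  rw [hdc, mul_comm]
  apply Nat.mul_le_mul_left
  -- bound for `Inv`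
  obtain ⟨z, hz⟩ : U.Nonempty := by
    rw [← Finset.card_pos, hUcard]; omega
  have hsplit := Finset.card_filter_add_card_filter_not (s := Inv) (fun g => g z = z)
  rw [← hsplit, hJ z hz]
  apply Nat.add_le_add_left
  have hUz : (U.erase z).card = Fintype.card α - 3 := by
    rw [Finset.card_erase_of_mem hz, hUcard]; omega
  rw [← hUz]
  apply Finset.card_le_card_of_injOn (fun g => g z)
  · intro g hg
    have hg' := Finset.mem_filter.1 (Finset.mem_coe.1 hg)
    obtain ⟨hgG, hgx, hgy, u, hu, hgu⟩ := (hInv g).1 hg'.1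
    have hgg := hInvinv g hg'.1
    show g z ∈ ((U.erase z : Finset α) : Set α)
    rw [Finset.mem_coe, Finset.mem_erase, hUmem]
    obtain ⟨h3, h4⟩ := (hUmem z).1 hz
    refine ⟨hg'.2, ?_, ?_⟩
    · intro h5
      have h6 := apply_apply hgg z
      rw [h5, hgy] at h6
      exact h4 h6.symm
    · intro h5
      have h6 := apply_apply hgg z
      rw [h5, hgx] at h6
      exact h3 h6.symm
  · intro g hg g' hg' hgg'
    have hg1 := Finset.mem_filter.1 (Finset.mem_coe.1 hg)
    have hg1' := Finset.mem_filter.1 (Finset.mem_coe.1 hg')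
    obtain ⟨hgG, hgx, hgy, _⟩ := (hInv g).1 hg1.1
    obtain ⟨hgG', hgx', hgy', _⟩ := (hInv g').1 hg1'.1
    have hgg := hInvinv g hg1.1
    have hggp := hInvinv g' hg1'.1
    have heq : g z = g' z := hgg'
    obtain ⟨h3, h4⟩ := (hUmem z).1 hz
    apply h.rigid g hgG g' hgG' (insert (g z) {x, y, z})
    · rw [Finset.card_insert_of_notMem, Finset.card_eq_three.2 ⟨x, y, z, hxy, h4.symm, h3.symm, rfl⟩]
      simp only [Finset.mem_insert, Finset.mem_singleton, not_or]
      refine ⟨?_, ?_, hg1.2⟩
      · intro h5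
        have h6 := apply_apply hgg z
        rw [h5, hgx] at h6
        exact h3 h6.symm
      · intro h5
        have h6 := apply_apply hgg z
        rw [h5, hgy] at h6
        exact h4 h6.symm
    · intro v hv
      simp only [Finset.mem_insert, Finset.mem_singleton] at hv
      rcases hv with rfl | rfl | rfl | rfl
      · rw [apply_apply hgg, heq, apply_apply hggp]
      · rw [hgx, hgx']
      · rw [hgy, hgy']
      · exact heq

end Cfsg.Agent.PermutationGroups.LWOrders
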