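import Mathlib

/-!
# Subdirect products of non-abelian simple groups

A subgroup of a finite direct product of non-abelian simple groups projecting onto each factor is
a product of full diagonal subgroups over the classes of a partition of the index set.
-/

set_option autoImplicit false

namespace Cfsg.Agent.PermutationGroups.Subdirect

open Subgroup

variable {ι : Type*} {T : ι → Type*} [∀ i, Group (T i)]

/-- The set of `i`-coordinates of those elements of `M` that are trivial on `J`. -/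
def coordSub (M : Subgroup (∀ i, T i)) (i : ι) (J : Set ι) : Subgroup (T i) where
  carrier := {t | ∃ x ∈ M, x i = t ∧ ∀ j ∈ J, x j = 1}
  one_mem' := ⟨1, M.one_mem, rfl, fun _ _ => rfl⟩
  mul_mem' := by
    rintro _ _ ⟨x, hx, rfl, hxJ⟩ ⟨y, hy, rfl, hyJ⟩
    exact ⟨x * y, M.mul_mem hx hy, rfl, fun j hj => by
      rw [Pi.mul_apply, hxJ j hj, hyJ j hj, one_mul]⟩
  inv_mem' := by
    rintro _ ⟨x, hx, rfl, hxJ⟩
    exact ⟨x⁻¹, M.inv_mem hx, rfl, fun j hj => by rw [Pi.inv_apply, hxJ j hj, inv_one]⟩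

theorem mem_coordSub {M : Subgroup (∀ i, T i)} {i : ι} {J : Set ι} {t : T i} :
    t ∈ coordSub M i J ↔ ∃ x ∈ M, x i = t ∧ ∀ j ∈ J, x j = 1 := Iff.rfl

theorem coordSub_normal (M : Subgroup (∀ i, T i)) (i : ι) (J : Set ι)
    (hsurj : ∀ t : T i, ∃ x ∈ M, x i = t) : (coordSub M i J).Normal := by
  refine ⟨?_⟩
  rintro _ ⟨x, hx, rfl, hxJ⟩ g
  obtain ⟨y, hy, rfl⟩ := hsurj g
  refine ⟨y * x * y⁻¹, M.mul_mem (M.mul_mem hy hx) (M.inv_mem hy), rfl, fun j hj => ?_⟩
  rw [Pi.mul_apply, Pi.mul_apply, hxJ j hj, mul_one, Pi.inv_apply, mul_inv_cancel]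

/-- If `M` projects onto the non-abelian simple group `T r` and for each `j ∈ J` some element of
`M` is trivial at `j` and non-trivial at `r`, then the elements of `M` trivial on `J` project onto
`T r`. -/
theorem coordSub_eq_top {r : ι} [IsSimpleGroup (T r)] (hna : ∃ a b : T r, a * b ≠ b * a)
    (M : Subgroup (∀ i, T i)) (hsurj : ∀ t : T r, ∃ x ∈ M, x r = t) {J : Set ι} (hJfin : J.Finite)
    (hJ : ∀ j ∈ J, ∃ x ∈ M, x j = 1 ∧ x r ≠ 1) : coordSub M r J = ⊤ := by
  induction J, hJfin using Set.Finite.induction_on with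
  | empty =>
    rw [eq_top_iff]
    intro t _
    obtain ⟨x, hx, rfl⟩ := hsurj t
    exact ⟨x, hx, rfl, fun j hj => absurd hj (Set.notMem_empty j)⟩
  | @insert j J hj _ ih =>
    have h1 := ih fun i hi => hJ i (Set.mem_insert_of_mem _ hi)
    have h2 : coordSub M r {j} = ⊤ := by
      rcases (coordSub_normal M r {j} hsurj).eq_bot_or_eq_top with h | h
      · exfalso
        obtain ⟨x, hx, hxj, hxr⟩ := hJ j (Set.mem_insert _ _)
        apply hxr
        have : x r ∈ coordSub M r {j} := ⟨x, hx, rfl, fun i hi => by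
          rw [Set.mem_singleton_iff] at hi; rw [hi]; exact hxj⟩
        rwa [h, mem_bot] at this
      · exact h
    rcases (coordSub_normal M r (insert j J) hsurj).eq_bot_or_eq_top with h | h
    · exfalso
      obtain ⟨a, b, hab⟩ := hna
      obtain ⟨x, hx, hxa, hxJ⟩ : a ∈ coordSub M r J := by rw [h1]; exact mem_top a
      obtain ⟨y, hy, hyb, hyJ⟩ : b ∈ coordSub M r {j} := by rw [h2]; exact mem_top b
      have hmem : a * b * a⁻¹ * b⁻¹ ∈ coordSub M r (insert j J) := by
        refine ⟨x * y * x⁻¹ * y⁻¹, M.mul_mem (M.mul_mem (M.mul_mem hx hy) (M.inv_mem hx))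
          (M.inv_mem hy), ?_, fun i hi => ?_⟩
        · simp only [Pi.mul_apply, Pi.inv_apply, hxa, hyb]
        · simp only [Pi.mul_apply, Pi.inv_apply]
          rcases Set.mem_insert_iff.mp hi with rfl | hi
          · rw [hyJ i rfl]; simp
          · rw [hxJ i hi]; simp
      rw [h, mem_bot] at hmem
      apply hab
      have h3 : a * b * a⁻¹ * b⁻¹ * (b * a) = b * a := by rw [hmem, one_mul]
      rw [← h3]
      group
    · exact h

/-- Coordinates of elements of a subdirect product can be prescribed on a set of pairwise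
unlinked indices. -/
theorem exists_mem_eq_on [Finite ι] [∀ i, IsSimpleGroup (T i)]
    (hna : ∀ i, ∃ a b : T i, a * b ≠ b * a) (M : Subgroup (∀ i, T i))
    (hsurj : ∀ i, ∀ t : T i, ∃ x ∈ M, x i = t) (R : Set ι)
    (hR : ∀ r ∈ R, ∀ s ∈ R, r ≠ s → ∃ x ∈ M, x s = 1 ∧ x r ≠ 1) (y : ∀ i, T i) :
    ∃ x ∈ M, ∀ r ∈ R, x r = y r := by
  have key : ∀ A : Set ι, A.Finite → A ⊆ R →
      ∃ x ∈ M, (∀ r ∈ A, x r = y r) ∧ ∀ r ∈ R \ A, x r = 1 := by
    intro A hA
    induction A, hA using Set.Finite.induction_on with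
    | empty => exact fun _ => ⟨1, M.one_mem, fun r hr => absurd hr (Set.notMem_empty r),
        fun _ _ => rfl⟩
    | @insert a A ha _ ih =>
      intro hAR
      obtain ⟨x, hx, hxA, hxR⟩ := ih fun i hi => hAR (Set.mem_insert_of_mem _ hi)
      have haR : a ∈ R := hAR (Set.mem_insert _ _)
      have h1 : coordSub M a (R \ {a}) = ⊤ := coordSub_eq_top (hna a) M (hsurj a)
        (Set.toFinite _) fun j hj => hR a haR j hj.1 fun h => hj.2 h.symm
      obtain ⟨z, hz, hza, hzR⟩ : y a ∈ coordSub M a (R \ {a}) := by rw [h1]; exact mem_top _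
      refine ⟨x * z, M.mul_mem hx hz, fun r hr => ?_, fun r hr => ?_⟩
      · rcases Set.mem_insert_iff.mp hr with rfl | hrA
        · rw [Pi.mul_apply, hxR r ⟨haR, ha⟩, hza, one_mul]
        · have hne : r ≠ a := fun h => ha (h ▸ hrA)
          rw [Pi.mul_apply, hxA r hrA, hzR r ⟨hAR (Set.mem_insert_of_mem _ hrA), hne⟩, mul_one]
      · have hr1 : r ∉ A := fun h => hr.2 (Set.mem_insert_of_mem _ h)
        have hr2 : r ≠ a := fun h => hr.2 (h ▸ Set.mem_insert _ _)
        rw [Pi.mul_apply, hxR r ⟨hr.1, hr1⟩, hzR r ⟨hr.1, hr2⟩, one_mul]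
  obtain ⟨x, hx, hxR, -⟩ := key R (Set.toFinite _) subset_rfl
  exact ⟨x, hx, hxR⟩

/-- If `x j = 1 → x i = 1` on the subdirect product `M` then the coordinates at `j` and `i` are
linked by an isomorphism. -/
theorem exists_mulEquiv {i j : ι} [IsSimpleGroup (T j)] [Nontrivial (T i)]
    (M : Subgroup (∀ i, T i)) (hi : ∀ t : T i, ∃ x ∈ M, x i = t)
    (hj : ∀ t : T j, ∃ x ∈ M, x j = t) (h : ∀ x ∈ M, x j = 1 → x i = 1) :
    ∃ φ : T j ≃* T i, ∀ x ∈ M, φ (x j) = x i := by
  choose f hfM hf using hj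
  have hwd : ∀ x ∈ M, ∀ y ∈ M, x j = y j → x i = y i := by
    intro x hx y hy hxy
    have := h (x * y⁻¹) (M.mul_mem hx (M.inv_mem hy)) (by
      rw [Pi.mul_apply, Pi.inv_apply, hxy, mul_inv_cancel])
    rw [Pi.mul_apply, Pi.inv_apply] at this
    exact mul_inv_eq_one.mp this
  let φ : T j →* T i :=
    { toFun := fun t => f t i
      map_one' := by
        rw [hwd (f 1) (hfM 1) 1 M.one_mem (by rw [hf]; rfl)]; rfl
      map_mul' := fun s t => by
        rw [hwd (f (s * t)) (hfM _) (f s * f t) (M.mul_mem (hfM s) (hfM t)) (by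
          rw [hf, Pi.mul_apply, hf, hf])]
        rfl }
  have hφ : ∀ x ∈ M, φ (x j) = x i := fun x hx => hwd _ (hfM _) _ hx (hf _)
  have hsurj : Function.Surjective φ := by
    intro t
    obtain ⟨x, hx, rfl⟩ := hi t
    exact ⟨x j, hφ x hx⟩
  have hinj : Function.Injective φ := by
    rw [← MonoidHom.ker_eq_bot_iff]
    rcases (inferInstance : φ.ker.Normal).eq_bot_or_eq_top with h | h
    · exact h
    · exfalso
      obtain ⟨t, ht⟩ := exists_ne (1 : T i)
      obtain ⟨s, rfl⟩ := hsurj t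
      apply ht
      have : s ∈ φ.ker := by rw [h]; exact mem_top s
      exact this
  exact ⟨MulEquiv.ofBijective φ ⟨hinj, hsurj⟩, hφ⟩

/-- **Subdirect products of non-abelian simple groups.** A subgroup `M` of a finite direct product
projecting onto each factor is a product of full diagonals: with `c i` the representative of the
class of `i`, `M = {y | ∀ i, y i = φ i (y (c i))}`. -/
theorem subdirect_structure [Finite ι] [∀ i, IsSimpleGroup (T i)]
    (hna : ∀ i, ∃ a b : T i, a * b ≠ b * a) (M : Subgroup (∀ i, T i))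
    (hsurj : ∀ i, ∀ t : T i, ∃ x ∈ M, x i = t) :
    ∃ (c : ι → ι) (φ : ∀ i, T (c i) ≃* T i), (∀ i, c (c i) = c i) ∧
      (∀ i j, c i = c j ↔ ∀ x ∈ M, x j = 1 → x i = 1) ∧
      (∀ x ∈ M, ∀ i, φ i (x (c i)) = x i) ∧
      ∀ y, y ∈ M ↔ ∀ i, y i = φ i (y (c i)) := by
  classical
  -- the equivalence relation
  have hsymm : ∀ i j, (∀ x ∈ M, x j = 1 → x i = 1) → (∀ x ∈ M, x i = 1 → x j = 1) := by
    intro i j h
    obtain ⟨φ, hφ⟩ := exists_mulEquiv M (hsurj i) (hsurj j) h
    intro x hx hxi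
    rw [← hφ x hx] at hxi
    exact (map_eq_one_iff φ φ.injective).mp hxi
  let S : Setoid ι :=
    { r := fun i j => ∀ x ∈ M, x j = 1 → x i = 1
      iseqv := ⟨fun i x _ h => h, fun {i j} h => hsymm i j h,
        fun {i j k} h1 h2 x hx hk => h1 x hx (h2 x hx hk)⟩ }
  let c : ι → ι := fun i => (Quotient.mk S i).out
  have hc : ∀ i, S (c i) i := fun i => Quotient.mk_out i
  have hcc : ∀ i j, c i = c j ↔ S i j := by
    intro i j
    constructor
    · intro h
      exact S.trans (S.symm (hc i)) (h ▸ hc j)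
    · intro h
      change (Quotient.mk S i).out = (Quotient.mk S j).out
      rw [Quotient.sound h]
  have hex : ∀ i, ∃ φ : T (c i) ≃* T i, ∀ x ∈ M, φ (x (c i)) = x i := fun i =>
    exists_mulEquiv M (hsurj i) (hsurj (c i)) (S.symm (hc i))
  choose φ hφ using hex
  refine ⟨c, φ, fun i => (hcc _ _).mpr (hc i), fun i j => hcc i j, fun x hx i => hφ i x hx,
    fun y => ⟨fun hy i => (hφ i y hy).symm, fun hy => ?_⟩⟩
  obtain ⟨x, hx, hxR⟩ := exists_mem_eq_on hna M hsurj (Set.range c) (by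
    rintro _ ⟨i, rfl⟩ _ ⟨j, rfl⟩ hne
    by_contra hcon
    push Not at hcon
    apply hne
    have h1 : c (c i) = c (c j) := (hcc _ _).mpr fun x hx h => hcon x hx h
    rwa [(hcc _ _).mpr (hc i), (hcc _ _).mpr (hc j)] at h1) y
  have : y = x := by
    funext i
    rw [hy i, ← hxR (c i) ⟨i, rfl⟩, hφ i x hx]
  exact this ▸ hx

end Cfsg.Agent.PermutationGroups.Subdirect
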