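import Cfsg.Agent.Lib.MinNormalNonabelian
import Cfsg.Agent.PermutationGroups.Subdirect

/-!
# Coordinates on a non-abelian minimal normal subgroup
-/

set_option autoImplicit false

namespace Cfsg.Agent.PermutationGroups.OnanScott

open Subgroup Cfsg.Agent.Lib.MinNormal Cfsg.Agent.Lib.MinNormalNonabelian
open Cfsg.Agent.PermutationGroups.Subdirect

variable {G : Type*} [Group G]

/-- The group `⨆ i, T i` is isomorphic to the direct product of the `T i`, with control of the
inverse on single elements. -/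
theorem exists_mulEquiv_pi_single {ι : Type*} [Finite ι] [DecidableEq ι] {K : Subgroup G}
    (T : ι → Subgroup G)
    (hcomm : Pairwise fun i j : ι => ∀ x y : G, x ∈ T i → y ∈ T j → Commute x y)
    (hind : iSupIndep T) (hsup : ⨆ i, T i = K) :
    ∃ e : K ≃* (∀ i, T i), ∀ i (t : T i), ((e.symm (Pi.mulSingle i t) : K) : G) = t := by
  cases nonempty_fintype ι
  have hrange : (noncommPiCoprod hcomm).range = K := by rw [noncommPiCoprod_range, hsup]
  refine ⟨((MonoidHom.ofInjective (injective_noncommPiCoprod_of_iSupIndep (hcomm := hcomm)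
    hind)).trans (MulEquiv.subgroupCongr hrange)).symm, fun i t => ?_⟩
  change noncommPiCoprod hcomm (Pi.mulSingle i t) = t
  exact noncommPiCoprod_mulSingle i t

/-- The `i`-th coordinate of `n` commutes with `t` iff `n` commutes with `t`. -/
theorem commute_iff_coord {ι : Type*} [DecidableEq ι] {N : Subgroup G} {T : ι → Subgroup G}
    (e : N ≃* (∀ i, T i)) (he : ∀ i (t : T i), ((e.symm (Pi.mulSingle i t) : N) : G) = t)
    (n : N) (i : ι) (t : T i) : Commute (n : G) (t : G) ↔ Commute (e n i) t := by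
  have h1 : Commute (n : G) (t : G) ↔ Commute n (e.symm (Pi.mulSingle i t)) := by
    rw [← he i t]
    exact ⟨fun h => Subtype.ext h, fun h => congrArg Subtype.val h⟩
  have h2 : Commute n (e.symm (Pi.mulSingle i t)) ↔ Commute (e n) (Pi.mulSingle i t) := by
    constructor
    · intro h
      have := h.map e
      rwa [MulEquiv.apply_symm_apply] at this
    · intro h
      have := h.map e.symm
      rwa [MulEquiv.symm_apply_apply] at this
  rw [h1, h2]
  constructor
  · intro h
    have h3 := congrFun h.eq i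
    rw [Pi.mul_apply, Pi.mul_apply, Pi.mulSingle_eq_same] at h3
    exact h3
  · intro h
    refine funext fun j => ?_
    rw [Pi.mul_apply, Pi.mul_apply]
    by_cases hj : j = i
    · subst hj
      rw [Pi.mulSingle_eq_same]
      exact h.eq
    · rw [Pi.mulSingle_eq_of_ne hj, mul_one, one_mul]

/-- Coordinates on a non-abelian minimal normal subgroup `N` of a finite group: the minimal
normal subgroups of `N` are indexed by `Fin m`, and the `i`-th coordinate of `n` is trivial iff
`n` centralises the `i`-th factor. -/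
theorem exists_coordinates [Finite G] (N : Subgroup G) [N.Normal]
    (hmin : ∀ M : Subgroup G, M.Normal → M ≤ N → M = ⊥ ∨ M = N)
    (hna : ¬ ∀ x ∈ N, ∀ y ∈ N, Commute x y) :
    ∃ (m : ℕ) (T : Fin m → Subgroup G) (e : N ≃* (∀ i, T i)), 0 < m ∧
      (∀ i, IsSimpleGroup (T i)) ∧ (∀ i, ∃ a b : T i, a * b ≠ b * a) ∧
      Function.Injective T ∧ (∀ i, T i ≤ N) ∧ (∀ i, N ≤ normalizer (T i : Set G)) ∧
      (∀ (g : G) i, ∃ j, T j = (T i).map (MulAut.conj g).toMonoidHom) ∧
      (∀ i j, ∃ g : G, T j = (T i).map (MulAut.conj g).toMonoidHom) ∧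
      (∀ i (t : T i), ((e.symm (Pi.mulSingle i t) : N) : G) = t) ∧
      (∀ (n : N) i, e n i = 1 ↔ ∀ t ∈ T i, Commute (n : G) t) := by
  obtain ⟨hne, hI, hsup, hsimple, hc, htrans⟩ := nonabelian_structure N hmin hna
  obtain ⟨T, hTinj, hTmem, hTall, hTind, hTsup, hm⟩ :
      ∃ T : Fin (Nat.card (minSet N)) → Subgroup G, Function.Injective T ∧
        (∀ i, T i ∈ minSet N) ∧ (∀ S ∈ minSet N, ∃ i, T i = S) ∧ iSupIndep T ∧
        ⨆ i, T i = N ∧ 0 < Nat.card (minSet N) := by
    have hfin : Finite (minSet N) := inferInstance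
    have f := (Finite.equivFin (minSet N)).symm
    refine ⟨fun i => (f i : Subgroup G), Subtype.val_injective.comp f.injective,
      fun i => (f i).2, fun S hS => ⟨f.symm ⟨S, hS⟩, congrArg Subtype.val (f.apply_symm_apply ⟨S, hS⟩)⟩,
      ((sSupIndep_iff _).mp hI).comp f.injective, ?_, ?_⟩
    · refine Eq.trans ?_ hsup
      rw [sSup_eq_iSup']
      exact f.iSup_comp (g := fun S : minSet N => (S : Subgroup G))
    · have : Nonempty (minSet N) := hne.to_subtype
      exact Nat.card_pos
  have hcomm : Pairwise fun i j : Fin (Nat.card (minSet N)) =>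
      ∀ x y : G, x ∈ T i → y ∈ T j → Commute x y := by
    intro i j hij x y hx hy
    exact commute_of_mem hI (fun S hS => hS.2.2.1) (fun S hS => hS.1) (hTmem i) (hTmem j)
      (fun h => hij (hTinj h)) hx hy
  obtain ⟨e, he⟩ := exists_mulEquiv_pi_single (K := N) T hcomm hTind hTsup
  refine ⟨Nat.card (minSet N), T, e, hm, fun i => hsimple _ (hTmem i), fun i => ?_, hTinj,
    fun i => (hTmem i).1, fun i => (hTmem i).2.2.1, fun g i => ?_,
    fun i j => htrans _ (hTmem i) _ (hTmem j), he, fun n i => ⟨fun h t ht => ?_, fun h => ?_⟩⟩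
  · by_contra hcon
    push Not at hcon
    have : IsSimpleGroup (T i) := hsimple _ (hTmem i)
    obtain ⟨x, hx⟩ := exists_ne (1 : T i)
    apply hx
    exact Subtype.ext (hc _ (hTmem i) x x.2 fun t ht => congrArg Subtype.val (hcon x ⟨t, ht⟩))
  · exact hTall _ (map_conj_mem_minSet (hTmem i) g)
  · refine (commute_iff_coord e he n i ⟨t, ht⟩).mpr ?_
    rw [h]
    exact Commute.one_left _
  · refine Subtype.ext (hc _ (hTmem i) (e n i) (e n i).2 fun t ht => ?_)
    exact congrArg Subtype.val ((commute_iff_coord e he n i ⟨t, ht⟩).mp (h t ht)).eq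

/-- The O'Nan-Scott analysis of `K ⊓ N` for a non-abelian minimal normal subgroup `N` and a
subgroup `K` with `G = K N` such that `K ⊓ N` is maximal among the proper `K`-invariant subgroups
of `N`. -/
theorem onan_scott [Finite G] (N : Subgroup G) [N.Normal]
    (hmin : ∀ M : Subgroup G, M.Normal → M ≤ N → M = ⊥ ∨ M = N)
    (hna : ¬ ∀ x ∈ N, ∀ y ∈ N, Commute x y) (K : Subgroup G)
    (hKN : ∀ g : G, ∃ n ∈ N, g * n ∈ K) (hNK : ¬ N ≤ K)
    (hmax : ∀ X ≤ N, K ⊓ N ≤ X → K ≤ normalizer (X : Set G) → X = K ⊓ N ∨ X = N) :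
    ∃ (T : Type) (_ : Group T) (m : ℕ) (e : N ≃* (Fin m → T)), IsSimpleGroup T ∧
      ¬ IsMulCommutative T ∧ 0 < m ∧
      ((∃ L : Fin m → Subgroup T, (∀ i, L i ≠ ⊤) ∧ ∀ n : N, (n : G) ∈ K ↔ ∀ i, e n i ∈ L i) ∨
       (∃ (k : ℕ) (c : Fin m → Fin m), 2 ≤ k ∧
          (∀ j : Fin m, Nat.card {i : Fin m // c i = j} = k ∨
            Nat.card {i : Fin m // c i = j} = 0) ∧
          ∀ n : N, (n : G) ∈ K ↔ ∀ i j : Fin m, c i = c j → e n i = e n j)) := by
  obtain ⟨m, T, e, hm, hsimple, hTna, hTinj, hTN, hTn, hconj, htrans, he, hcoord⟩ :=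
    exists_coordinates N hmin hna
  -- `K` permutes the factors transitively
  have htransK : ∀ i j, ∃ k ∈ K, T j = (T i).map (MulAut.conj k).toMonoidHom := by
    intro i j
    obtain ⟨g, hg⟩ := htrans i j
    obtain ⟨n, hn, hgn⟩ := hKN g
    refine ⟨g * n, hgn, ?_⟩
    have h1 : (T i).map (MulAut.conj n).toMonoidHom = T i :=
      mem_normalizer_iff_map_conj_eq.mp (hTn i hn)
    rw [← map_conj_map_conj, h1, hg]
  -- conjugation by `k`
  have hcj : ∀ (k : G) (n : N), k * (n : G) * k⁻¹ ∈ N := fun k n =>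
    (inferInstance : N.Normal).conj_mem _ n.2 k
  let cj : G → N → N := fun k n => ⟨k * (n : G) * k⁻¹, hcj k n⟩
  have hcj_mul : ∀ k x y, cj k (x * y) = cj k x * cj k y := by
    intro k x y
    apply Subtype.ext
    change k * ((x : G) * (y : G)) * k⁻¹ = (k * (x : G) * k⁻¹) * (k * (y : G) * k⁻¹)
    group
  have hcj_inv : ∀ k x, cj k (x⁻¹) = (cj k x)⁻¹ := by
    intro k x
    apply Subtype.ext
    change k * ((x : G)⁻¹) * k⁻¹ = (k * (x : G) * k⁻¹)⁻¹
    group
  have hcj_cj : ∀ k x, cj k (cj k⁻¹ x) = x := by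
    intro k x
    apply Subtype.ext
    change k * (k⁻¹ * (x : G) * k⁻¹⁻¹) * k⁻¹ = x
    group
  -- coordinates and conjugation
  have hone : ∀ (k : G) (i j : Fin m), T j = (T i).map (MulAut.conj k).toMonoidHom →
      ∀ n : N, e (cj k n) j = 1 ↔ e n i = 1 := by
    intro k i j hij n
    rw [hcoord, hcoord, hij]
    constructor
    · intro h t ht
      have h1 := h (k * t * k⁻¹) ⟨t, ht, rfl⟩
      have h2 : k * (n : G) * k⁻¹ * (k * t * k⁻¹) = k * t * k⁻¹ * (k * (n : G) * k⁻¹) := h1
      have h3 : k * ((n : G) * t) * k⁻¹ = k * (t * (n : G)) * k⁻¹ := by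
        calc k * ((n : G) * t) * k⁻¹ = k * (n : G) * k⁻¹ * (k * t * k⁻¹) := by group
          _ = k * t * k⁻¹ * (k * (n : G) * k⁻¹) := h2
          _ = k * (t * (n : G)) * k⁻¹ := by group
      exact mul_left_cancel (mul_right_cancel h3)
    · rintro h _ ⟨t, ht, rfl⟩
      exact (h t ht).map (MulAut.conj k)
  have heq : ∀ (k : G) (i j : Fin m), T j = (T i).map (MulAut.conj k).toMonoidHom →
      ∀ x y : N, e (cj k x) j = e (cj k y) j ↔ e x i = e y i := by
    intro k i j hij x y
    have h := hone k i j hij (x * y⁻¹)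
    rw [hcj_mul, hcj_inv, map_mul, map_mul, map_inv, map_inv, Pi.mul_apply, Pi.mul_apply,
      Pi.inv_apply, Pi.inv_apply, mul_inv_eq_one, mul_inv_eq_one] at h
    exact h
  -- the image of `K ⊓ N`
  let M : Subgroup (∀ i, T i) := K.comap (N.subtype.comp e.symm.toMonoidHom)
  have hM : ∀ y, y ∈ M ↔ ((e.symm y : N) : G) ∈ K := fun y => Iff.rfl
  have hM' : ∀ n : N, e n ∈ M ↔ (n : G) ∈ K := by
    intro n
    rw [hM, MulEquiv.symm_apply_apply]
  have hcjM : ∀ k ∈ K, ∀ n : N, (n : G) ∈ K → ((cj k n : N) : G) ∈ K := fun k hk n hn =>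
    K.mul_mem (K.mul_mem hk hn) (K.inv_mem hk)
  -- a model of the simple factor in `Type`
  obtain ⟨T', inst, ⟨f⟩⟩ := exists_type_zero_model (T ⟨0, hm⟩)
  have hψ : ∀ i, Nonempty (T i ≃* T') := by
    intro i
    obtain ⟨g, hg⟩ := htrans ⟨0, hm⟩ i
    exact ⟨(((T ⟨0, hm⟩).equivMapOfInjective _ (MulAut.conj g).injective).trans
      (MulEquiv.subgroupCongr hg.symm)).symm.trans f.symm⟩
  have ψ : ∀ i, T i ≃* T' := fun i => (hψ i).some
  have hT'simple : IsSimpleGroup T' := by
    have := hsimple ⟨0, hm⟩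
    exact (MulEquiv.isSimpleGroup_congr f).mpr this
  have hT'na : ¬ IsMulCommutative T' := by
    intro h
    obtain ⟨a, b, hab⟩ := hTna ⟨0, hm⟩
    apply hab
    apply f.symm.injective
    rw [map_mul, map_mul]
    exact h.is_comm.comm _ _
  by_cases hsurj : ∀ i, ∀ t : T i, ∃ x ∈ M, x i = t
  · -- all projections are onto
    obtain ⟨c, φ, hcc, hcrel, hφ, hMc⟩ := subdirect_structure hTna M hsurj
    -- the relation is `K`-invariant
    have hcK : ∀ k ∈ K, ∀ i j i' j', T i' = (T i).map (MulAut.conj k).toMonoidHom →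
        T j' = (T j).map (MulAut.conj k).toMonoidHom → c i = c j → c i' = c j' := by
      intro k hk i j i' j' hi' hj' hij
      rw [hcrel] at hij ⊢
      intro x hx hxj'
      have hx1 : ((e.symm x : N) : G) ∈ K := hx
      have hx2 : e (cj k⁻¹ (e.symm x)) ∈ M := by
        rw [hM']
        exact hcjM _ (K.inv_mem hk) _ hx1
      have h1 : e (cj k⁻¹ (e.symm x)) j = 1 := by
        rw [← hone k j j' hj', hcj_cj, MulEquiv.apply_symm_apply]
        exact hxj'
      have h2 := hij _ hx2 h1
      rw [← hone k i i' hi', hcj_cj, MulEquiv.apply_symm_apply] at h2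
      exact h2
    -- class sizes
    have hle : ∀ i j, Nat.card {l // c l = c i} ≤ Nat.card {l // c l = c j} := by
      intro i j
      obtain ⟨k, hk, hkij⟩ := htransK i j
      choose σ hσ using hconj k
      have hσinj : Function.Injective σ := by
        intro a b hab
        apply hTinj
        have h1 := hσ a
        rw [hab, hσ b] at h1
        exact (Subgroup.map_injective (MulAut.conj k).injective h1).symm
      refine Nat.card_le_card_of_injective
        (fun l : {l // c l = c i} => (⟨σ l, hcK k hk l i (σ l) j (hσ l) hkij l.2⟩ :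
          {l // c l = c j})) ?_
      intro a b hab
      exact Subtype.ext (hσinj (congrArg Subtype.val hab))
    have hcard : ∀ i j, Nat.card {l // c l = c i} = Nat.card {l // c l = c j} := fun i j =>
      le_antisymm (hle i j) (hle j i)
    have hkey : ∀ (r : Fin m), c r = r → ∀ y : T r, ψ (c r) ((φ r).symm y) = ψ r y := by
      intro r hr y
      obtain ⟨x, hx, rfl⟩ := hsurj r y
      have h1 : (φ r).symm (x r) = x (c r) := by
        rw [MulEquiv.symm_apply_eq, hφ x hx]
      rw [h1]
      have h2 : ∀ s, s = r → ψ s (x s) = ψ r (x r) := by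
        rintro s rfl
        rfl
      exact h2 _ hr
    refine ⟨T', inst, m, e.trans (MulEquiv.piCongrRight fun i =>
      (φ i).symm.trans (ψ (c i))), hT'simple, hT'na, hm, Or.inr
      ⟨Nat.card {l // c l = c ⟨0, hm⟩}, c, ?_, ?_, ?_⟩⟩
    · by_contra hlt
      push Not at hlt
      apply hNK
      have hinj : Function.Injective c := by
        intro i j hij
        have h1 : Nat.card {l // c l = c j} ≤ 1 := by
          rw [hcard j ⟨0, hm⟩]; omega
        have h2 : Subsingleton {l // c l = c j} := by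
          rw [← Finite.card_le_one_iff_subsingleton]; exact h1
        exact congrArg Subtype.val (Subsingleton.elim (⟨i, hij⟩ : {l // c l = c j}) ⟨j, rfl⟩)
      have hall : ∀ y, y ∈ M := by
        intro y
        obtain ⟨x, hx, hxy⟩ := exists_mem_eq_on hTna M hsurj Set.univ (by
          intro r _ s _ hne
          by_contra hcon
          push Not at hcon
          exact hne (hinj ((hcrel r s).mpr hcon))) y
        have : x = y := funext fun i => hxy i (Set.mem_univ i)
        exact this ▸ hx
      intro n hn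
      have := hall (e ⟨n, hn⟩)
      rwa [hM'] at this
    · intro j
      by_cases hj : ∃ i, c i = j
      · obtain ⟨i, rfl⟩ := hj
        left
        exact hcard i ⟨0, hm⟩
      · right
        have : IsEmpty {i // c i = j} := ⟨fun l => hj ⟨l.1, l.2⟩⟩
        exact Nat.card_of_isEmpty
    · intro n
      rw [← hM']
      have hval : ∀ i, (e.trans (MulEquiv.piCongrRight fun i =>
          (φ i).symm.trans (ψ (c i)))) n i = ψ (c i) ((φ i).symm (e n i)) := fun i => rfl
      simp only [hval]
      constructor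
      · intro hn i j hij
        have h1 : ∀ i, (φ i).symm (e n i) = e n (c i) := fun i => by
          rw [MulEquiv.symm_apply_eq, hφ _ hn]
        rw [h1, h1]
        have h2 : ∀ r s, r = s → ψ r (e n r) = ψ s (e n s) := by
          rintro r s rfl
          rfl
        exact h2 _ _ hij
      · intro h
        rw [hMc]
        intro i
        have h1 := h i (c i) (hcc i).symm
        rw [hkey (c i) (hcc i)] at h1
        have h2 := (ψ (c i)).injective h1
        rw [MulEquiv.symm_apply_eq] at h2
        exact h2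
  · -- some projection is proper
    push Not at hsurj
    obtain ⟨i₀, t₀, ht₀⟩ := hsurj
    let P : ∀ i, Subgroup (T i) := fun i => M.map (Pi.evalMonoidHom _ i)
    have hP : ∀ i t, t ∈ P i ↔ ∃ x ∈ M, x i = t := fun i t => Iff.rfl
    -- transfer of membership by conjugation
    have hPK : ∀ k ∈ K, ∀ i j, T j = (T i).map (MulAut.conj k).toMonoidHom →
        ∀ n : N, e n i ∈ P i → e (cj k n) j ∈ P j := by
      intro k hk i j hij n hn
      obtain ⟨x, hx, hxi⟩ := hn
      refine ⟨e (cj k (e.symm x)), ?_, ?_⟩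
      · change e (cj k (e.symm x)) ∈ M
        rw [hM']
        exact hcjM k hk _ hx
      · change e (cj k (e.symm x)) j = e (cj k n) j
        rw [heq k i j hij, MulEquiv.apply_symm_apply]
        exact hxi
    have hPtop : ∀ i, P i ≠ ⊤ := by
      intro i hi
      obtain ⟨k, hk, hkij⟩ := htransK i i₀
      have h1 := hPK k hk i i₀ hkij (cj k⁻¹ (e.symm (Pi.mulSingle i₀ t₀)))
        (by rw [hi]; exact mem_top _)
      rw [hcj_cj, MulEquiv.apply_symm_apply, Pi.mulSingle_eq_same] at h1
      obtain ⟨x, hx, hxt⟩ := h1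
      exact ht₀ x hx hxt
    -- the product of the projections
    let X' : Subgroup N :=
      { carrier := {n | ∀ i, e n i ∈ P i}
        one_mem' := fun i => by rw [map_one]; exact (P i).one_mem
        mul_mem' := fun {a b} ha hb i => by
          rw [map_mul]; exact (P i).mul_mem (ha i) (hb i)
        inv_mem' := fun {a} ha i => by rw [map_inv]; exact (P i).inv_mem (ha i) }
    have hX'mem : ∀ n, n ∈ X' ↔ ∀ i, e n i ∈ P i := fun n => Iff.rfl
    let X : Subgroup G := X'.map N.subtype
    have hXmem : ∀ n : N, (n : G) ∈ X ↔ ∀ i, e n i ∈ P i := by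
      intro n
      rw [← hX'mem]
      constructor
      · rintro ⟨y, hy, hyn⟩
        have : y = n := Subtype.ext hyn
        exact this ▸ hy
      · intro h
        exact ⟨n, h, rfl⟩
    have hXN : X ≤ N := map_subtype_le X'
    have hKX : K ⊓ N ≤ X := by
      intro x hx
      have h1 : ((⟨x, hx.2⟩ : N) : G) ∈ X := by
        rw [hXmem]
        intro i
        exact ⟨e ⟨x, hx.2⟩, (hM' _).mpr hx.1, rfl⟩
      exact h1
    have hKnX : K ≤ normalizer (X : Set G) := by
      rw [le_normalizer_iff]
      intro k hk x hx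
      have hxN : x ∈ N := hXN hx
      have h1 : ∀ i, e ⟨x, hxN⟩ i ∈ P i := (hXmem ⟨x, hxN⟩).mp hx
      have h2 : ((cj k ⟨x, hxN⟩ : N) : G) ∈ X := by
        rw [hXmem]
        intro j
        obtain ⟨i, hi⟩ := hconj k⁻¹ j
        have hij : T j = (T i).map (MulAut.conj k).toMonoidHom := by
          rw [hi, map_conj_map_conj, mul_inv_cancel, map_conj_one]
        exact hPK k hk i j hij _ (h1 i)
      exact h2
    have hXK : X = K ⊓ N := by
      rcases hmax X hXN hKX hKnX with h | h
      · exact h
      · exfalso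
        apply hPtop i₀
        rw [eq_top_iff]
        intro t _
        have h1 : ((e.symm (Pi.mulSingle i₀ t) : N) : G) ∈ X := by
          rw [h]; exact (e.symm (Pi.mulSingle i₀ t) : N).2
        rw [hXmem] at h1
        have h2 := h1 i₀
        rwa [MulEquiv.apply_symm_apply, Pi.mulSingle_eq_same] at h2
    refine ⟨T', inst, m, e.trans (MulEquiv.piCongrRight ψ), hT'simple, hT'na, hm, Or.inl
      ⟨fun i => (P i).map (ψ i).toMonoidHom, fun i h => hPtop i ?_, fun n => ?_⟩⟩
    · rw [eq_top_iff]
      intro t _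
      have h1 : ψ i t ∈ (P i).map (ψ i).toMonoidHom := by
        change (P i).map (ψ i).toMonoidHom = ⊤ at h
        rw [h]; exact mem_top _
      obtain ⟨t', ht', h2⟩ := h1
      have : t' = t := (ψ i).injective h2
      exact this ▸ ht'
    · have hval : ∀ i, (e.trans (MulEquiv.piCongrRight ψ)) n i = ψ i (e n i) := fun i => rfl
      simp only [hval]
      have h1 : (n : G) ∈ K ↔ (n : G) ∈ X := by
        rw [hXK]
        exact ⟨fun h => ⟨h, n.2⟩, fun h => h.1⟩
      rw [h1, hXmem]
      constructor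
      · intro h i
        exact ⟨e n i, h i, rfl⟩
      · intro h i
        obtain ⟨t', ht', h2⟩ := h i
        have : t' = e n i := (ψ i).injective h2
        exact this ▸ ht'

end Cfsg.Agent.PermutationGroups.OnanScott
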