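import Mathlib
import Cfsg.Agent.S0711

/-!
# Praeger–Saxl, part (K2)

A `2 m ^ 2`-transitive group of degree `n` not containing the alternating group satisfies
`(4 ^ m / 2 m) ^ (4 m ^ 2 - 2) ≤ n ^ n`.
-/

set_option autoImplicit false

namespace Cfsg.Agent.PermutationGroups.PSTransTwo

open MulAction

/-- The number of prime divisors of a central binomial coefficient. -/
theorem card_primeFactors_centralBinom_le (m : ℕ) :
    (Nat.centralBinom m).primeFactors.card ≤ m := by
  -- every prime factor is `2` or an odd number below `2 m`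
  have hsub : (Nat.centralBinom m).primeFactors ⊆
      (Finset.range m).image (fun i => if i = 0 then 2 else 2 * i + 1) := by
    intro p hp
    rw [Nat.mem_primeFactors] at hp
    obtain ⟨hpp, hpd, hne⟩ := hp
    have hple : p ≤ 2 * m := by
      have h1 : p ∣ (2 * m).factorial := by
        refine hpd.trans ?_
        rw [Nat.centralBinom_eq_two_mul_choose]
        have h2 := Nat.choose_mul_factorial_mul_factorial (show m ≤ 2 * m by omega)
        exact ⟨_, by rw [← h2, mul_assoc]⟩
      exact (Nat.Prime.dvd_factorial hpp).mp h1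
    rw [Finset.mem_image]
    rcases hpp.eq_two_or_odd with rfl | hodd
    · refine ⟨0, ?_, by simp⟩
      rw [Finset.mem_range]
      omega
    · refine ⟨p / 2, ?_, ?_⟩
      · rw [Finset.mem_range]
        omega
      · have : p / 2 ≠ 0 := by
          have := hpp.two_le
          omega
        rw [if_neg this]
        omega
  calc (Nat.centralBinom m).primeFactors.card
      ≤ ((Finset.range m).image (fun i => if i = 0 then 2 else 2 * i + 1)).card :=
        Finset.card_le_card hsub
    _ ≤ (Finset.range m).card := Finset.card_image_le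
    _ = m := Finset.card_range m

theorem sum_pow_le (m : ℕ) (hm : 0 < m) :
    ∑ p ∈ (Nat.centralBinom m).primeFactors, p ^ (Nat.centralBinom m).factorization p
      ≤ 2 * m ^ 2 := by
  calc ∑ p ∈ (Nat.centralBinom m).primeFactors, p ^ (Nat.centralBinom m).factorization p
      ≤ ∑ p ∈ (Nat.centralBinom m).primeFactors, 2 * m := by
        apply Finset.sum_le_sum
        intro p hp
        rw [Nat.centralBinom_eq_two_mul_choose]
        exact Nat.pow_factorization_choose_le (by omega)
    _ = (Nat.centralBinom m).primeFactors.card * (2 * m) := by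
        rw [Finset.sum_const, smul_eq_mul]
    _ ≤ m * (2 * m) := Nat.mul_le_mul_right _ (card_primeFactors_centralBinom_le m)
    _ = 2 * m ^ 2 := by ring

/-- An element with prescribed disjoint cycles on few points. -/
theorem exists_cycles {α : Type*} [Fintype α] [DecidableEq α] (G : Subgroup (Equiv.Perm α))
    {k : ℕ} (hkn : k ≤ Fintype.card α) (hG : MulAction.IsMultiplyPretransitive G α k)
    (P : Finset ℕ) (l : ℕ → ℕ) (hl : ∀ p ∈ P, 0 < l p) (hsum : ∑ p ∈ P, l p ≤ k) :
    ∃ g ∈ G, ∀ p ∈ P, ∃ x : α, ∀ j : ℕ, (g ^ j) x = x ↔ l p ∣ j := by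
  classical
  let Δ := Σ p : P, ZMod (l p)
  have : ∀ p : P, NeZero (l p) := fun p => ⟨(hl p p.2).ne'⟩
  have hcard : Fintype.card Δ = ∑ p ∈ P, l p := by
    rw [Fintype.card_sigma]
    simp only [ZMod.card]
    exact Finset.sum_coe_sort P l
  have hle : Fintype.card Δ ≤ Fintype.card α := by omega
  obtain ⟨ι⟩ : Nonempty (Δ ↪ α) := Function.Embedding.nonempty_of_card_le hle
  let s : Equiv.Perm Δ := Equiv.sigmaCongrRight fun p : P => Equiv.addRight (1 : ZMod (l p))
  let e : Fin (Fintype.card Δ) ≃ Δ := (Fintype.equivFin Δ).symm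
  have hG' : MulAction.IsMultiplyPretransitive G α (Fintype.card Δ) :=
    MulAction.isMultiplyPretransitive_of_le (n := k) (by omega) (by rwa [Nat.card_eq_fintype_card])
  obtain ⟨g, hg⟩ := hG'.exists_smul_eq (e.toEmbedding.trans ι)
    (e.toEmbedding.trans (s.toEmbedding.trans ι))
  have hg' : ∀ d : Δ, (g : Equiv.Perm α) (ι d) = ι (s d) := by
    intro d
    have h1 := DFunLike.congr_fun hg (e.symm d)
    have h2 : g • (ι (e (e.symm d))) = ι (s (e (e.symm d))) := h1
    rw [e.apply_symm_apply] at h2
    exact h2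
  refine ⟨g, g.2, ?_⟩
  intro p hp
  refine ⟨ι ⟨⟨p, hp⟩, 0⟩, ?_⟩
  have hpow : ∀ j : ℕ, ((g : Equiv.Perm α) ^ j) (ι ⟨⟨p, hp⟩, 0⟩)
      = ι ⟨⟨p, hp⟩, (j : ZMod (l p))⟩ := by
    intro j
    induction j with
    | zero => simp
    | succ j ih =>
      rw [pow_succ', Equiv.Perm.mul_apply, ih, hg']
      congr 1
      show (⟨⟨p, hp⟩, ((j : ZMod (l p)) + 1)⟩ : Δ) = _
      rw [Nat.cast_add, Nat.cast_one]
  intro j
  rw [hpow, ι.injective.eq_iff]
  constructor
  · intro h
    have h1 : ((j : ZMod (l p))) = 0 := by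
      rw [Sigma.mk.injEq] at h
      exact eq_of_heq h.2
    exact (ZMod.natCast_eq_zero_iff j (l p)).mp h1
  · intro h
    have h1 : ((j : ZMod (l p))) = 0 := (ZMod.natCast_eq_zero_iff j (l p)).mpr h
    rw [h1]

theorem pow_le_of_trans {α : Type*} [Fintype α] [DecidableEq α] (G : Subgroup (Equiv.Perm α))
    {m : ℕ} (hm : 2 ≤ m) (hmn : 2 * m ^ 2 ≤ Fintype.card α)
    (hG : MulAction.IsMultiplyPretransitive G α (2 * m ^ 2)) (hA : ¬ alternatingGroup α ≤ G) :
    4 ^ (m * (4 * m ^ 2 - 2)) ≤
      (2 * m) ^ (4 * m ^ 2 - 2) * (Fintype.card α) ^ (Fintype.card α) := by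
  classical
  set B := Nat.centralBinom m with hB
  have hBpos : 0 < B := Nat.centralBinom_pos m
  have hm2 : 4 ≤ m ^ 2 := by nlinarith
  obtain ⟨g, hgG, hg⟩ := exists_cycles G hmn hG B.primeFactors (fun p => p ^ B.factorization p)
    (fun p hp => pow_pos (Nat.prime_of_mem_primeFactors hp).pos _)
    (sum_pow_le m (by omega))
  set N := orderOf g with hN
  have hNpos : 0 < N := orderOf_pos g
  -- the prime powers divide the order
  have hdvd : ∀ p ∈ B.primeFactors, p ^ B.factorization p ∣ N := by
    intro p hp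
    obtain ⟨x, hx⟩ := hg p hp
    rw [← hx N, hN, pow_orderOf_eq_one]
    rfl
  have hpN : ∀ p ∈ B.primeFactors, p ∣ N := by
    intro p hp
    refine (dvd_pow_self p ?_).trans (hdvd p hp)
    have h1 := Nat.prime_of_mem_primeFactors hp
    exact (h1.factorization_pos_of_dvd hBpos.ne' (Nat.dvd_of_mem_primeFactors hp)).ne'
  -- supports
  have hsupp : ∀ p ∈ B.primeFactors, 4 * m ^ 2 - 2 ≤ (g ^ (N / p)).support.card := by
    intro p hp
    have hpp := Nat.prime_of_mem_primeFactors hp
    by_contra hcon
    push Not at hcon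
    apply hA
    refine (Cfsg.Agent.S0711.result G (k := 2 * m ^ 2) (by omega) hmn hG (g ^ (N / p))
      (G.pow_mem hgG _) ?_ ?_).2
    · intro h1
      have h2 : N ∣ N / p := orderOf_dvd_of_pow_eq_one h1
      have h3 : 0 < N / p := Nat.div_pos (Nat.le_of_dvd hNpos (hpN p hp)) hpp.pos
      have h4 := Nat.le_of_dvd h3 h2
      have h5 : N / p < N := Nat.div_lt_self hNpos hpp.one_lt
      omega
    · have : 2 * (2 * m ^ 2) = 4 * m ^ 2 := by ring
      omega
  -- cycle lengths
  let ell : α → ℕ := fun x => Function.minimalPeriod g x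
  have hellpos : ∀ x, 0 < ell x := by
    intro x
    apply Function.IsPeriodicPt.minimalPeriod_pos hNpos
    show (g : α → α)^[N] x = x
    rw [← Equiv.Perm.coe_pow, hN, pow_orderOf_eq_one]
    rfl
  have hellle : ∀ x, ell x ≤ Fintype.card α := by
    intro x
    exact Function.minimalPeriod_le_card
  have helldvd : ∀ x, ∀ p ∈ B.primeFactors, x ∈ (g ^ (N / p)).support →
      p ^ B.factorization p ∣ ell x := by
    intro x p hp hx
    have hpp := Nat.prime_of_mem_primeFactors hp
    have h1 : ell x ∣ N := by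
      apply Function.IsPeriodicPt.minimalPeriod_dvd
      show (g : α → α)^[N] x = x
      rw [← Equiv.Perm.coe_pow, hN, pow_orderOf_eq_one]
      rfl
    have h2 : ¬ ell x ∣ N / p := by
      intro h
      rw [Equiv.Perm.mem_support] at hx
      apply hx
      have h3 : Function.IsPeriodicPt g (N / p) x :=
        (Function.isPeriodicPt_minimalPeriod g x).trans_dvd h
      have h4 : (g : α → α)^[N / p] x = x := h3
      rwa [← Equiv.Perm.coe_pow] at h4
    -- valuations
    obtain ⟨c, hc⟩ := h1
    have hNe : N ≠ 0 := hNpos.ne'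
    have hcp : ¬ p ∣ c := by
      rintro ⟨d, rfl⟩
      apply h2
      refine ⟨d, ?_⟩
      rw [hc, mul_left_comm, Nat.mul_div_cancel_left _ hpp.pos]
    have hcop : Nat.Coprime (p ^ B.factorization p) c :=
      Nat.Coprime.pow_left _ ((Nat.Prime.coprime_iff_not_dvd hpp).mpr hcp)
    have h5 := hdvd p hp
    rw [hc] at h5
    exact hcop.dvd_of_dvd_mul_right h5
  -- the product over the points
  have hprodx : ∀ x, ∏ p ∈ B.primeFactors.filter (fun p => x ∈ (g ^ (N / p)).support),
      p ^ B.factorization p ≤ Fintype.card α := by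
    intro x
    refine le_trans (Nat.le_of_dvd (hellpos x) ?_) (hellle x)
    apply Finset.prod_dvd_of_isRelPrime
    · intro p hp r hr hpr
      rw [Finset.mem_coe, Finset.mem_filter] at hp hr
      exact Nat.coprime_iff_isRelPrime.mp
        (Nat.Coprime.pow _ _ ((Nat.coprime_primes (Nat.prime_of_mem_primeFactors hp.1)
          (Nat.prime_of_mem_primeFactors hr.1)).mpr hpr))
    · intro p hp
      rw [Finset.mem_filter] at hp
      exact helldvd x p hp.1 hp.2
  have hswap : ∏ x : α, ∏ p ∈ B.primeFactors.filter (fun p => x ∈ (g ^ (N / p)).support),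
      p ^ B.factorization p
      = ∏ p ∈ B.primeFactors, (p ^ B.factorization p) ^ (g ^ (N / p)).support.card := by
    have h1 : ∀ x : α, ∏ p ∈ B.primeFactors.filter (fun p => x ∈ (g ^ (N / p)).support),
        p ^ B.factorization p = ∏ p ∈ B.primeFactors,
          if x ∈ (g ^ (N / p)).support then p ^ B.factorization p else 1 := by
      intro x
      rw [Finset.prod_filter]
    simp_rw [h1]
    rw [Finset.prod_comm]
    apply Finset.prod_congr rfl
    intro p _
    rw [Finset.prod_ite_mem, Finset.univ_inter, Finset.prod_const]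
  have hBs : B ^ (4 * m ^ 2 - 2) ≤ (Fintype.card α) ^ (Fintype.card α) := by
    calc B ^ (4 * m ^ 2 - 2)
        = (∏ p ∈ B.primeFactors, p ^ B.factorization p) ^ (4 * m ^ 2 - 2) := by
          congr 1
          exact (Nat.prod_factorization_pow_eq_self hBpos.ne').symm
      _ = ∏ p ∈ B.primeFactors, (p ^ B.factorization p) ^ (4 * m ^ 2 - 2) := by
          rw [Finset.prod_pow]
      _ ≤ ∏ p ∈ B.primeFactors, (p ^ B.factorization p) ^ (g ^ (N / p)).support.card := by
          apply Finset.prod_le_prod'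
          intro p hp
          exact Nat.pow_le_pow_right (pow_pos (Nat.prime_of_mem_primeFactors hp).pos _)
            (hsupp p hp)
      _ = ∏ x : α, ∏ p ∈ B.primeFactors.filter (fun p => x ∈ (g ^ (N / p)).support),
            p ^ B.factorization p := hswap.symm
      _ ≤ ∏ _x : α, Fintype.card α := Finset.prod_le_prod' fun x _ => hprodx x
      _ = (Fintype.card α) ^ (Fintype.card α) := by
          rw [Finset.prod_const, Finset.card_univ]
  calc 4 ^ (m * (4 * m ^ 2 - 2)) = (4 ^ m) ^ (4 * m ^ 2 - 2) := by rw [pow_mul]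
    _ ≤ (2 * m * B) ^ (4 * m ^ 2 - 2) :=
        Nat.pow_le_pow_left (Nat.four_pow_le_two_mul_self_mul_centralBinom m (by omega)) _
    _ = (2 * m) ^ (4 * m ^ 2 - 2) * B ^ (4 * m ^ 2 - 2) := by rw [mul_pow]
    _ ≤ (2 * m) ^ (4 * m ^ 2 - 2) * (Fintype.card α) ^ (Fintype.card α) :=
        Nat.mul_le_mul_left _ hBs

end Cfsg.Agent.PermutationGroups.PSTransTwo
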