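import Mathlib

/-! The potential (random sequence / entropy) lemma for bounding the order of a permutation
group, used for the Praeger-Saxl bound. -/

set_option autoImplicit false

namespace Cfsg.Agent.PermutationGroups.PSPotential

open Finset

/-- the recursively defined logarithm of the bound, `r` is the number of points still to be
fixed -/
noncomputable def F (a : ℕ → ℝ) (n : ℕ) : ℕ → ℝ → ℝ
  | 0, _ => 0
  | r + 1, w => Real.log (1 + w / ((r : ℝ) + 1)) + F a n r (a (n - (r + 1)) * w)

theorem F_zero (a : ℕ → ℝ) (n : ℕ) (w : ℝ) : F a n 0 w = 0 := rfl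

theorem F_succ (a : ℕ → ℝ) (n r : ℕ) (w : ℝ) :
    F a n (r + 1) w = Real.log (1 + w / ((r : ℝ) + 1)) + F a n r (a (n - (r + 1)) * w) := rfl

theorem F_mono (a : ℕ → ℝ) (n : ℕ) (ha : ∀ t, 0 ≤ a t) (r : ℕ) :
    ∀ x y : ℝ, 0 ≤ x → x ≤ y → F a n r x ≤ F a n r y := by
  induction r with
  | zero => intro x y _ _; exact le_rfl
  | succ r ih =>
    intro x y hx hxy
    rw [F_succ, F_succ]
    apply add_le_add
    · apply Real.log_le_log
      · positivity
      · gcongr
    · apply ih
      · exact mul_nonneg (ha _) hx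
      · exact mul_le_mul_of_nonneg_left hxy (ha _)

theorem log_concave (c : ℝ) (hc : 0 ≤ c) :
    ConcaveOn ℝ (Set.Ici (0 : ℝ)) (fun w => Real.log (1 + w * c)) := by
  refine ⟨convex_Ici 0, ?_⟩
  intro x hx y hy s t hs ht hst
  have hx' : (0 : ℝ) ≤ x := hx
  have hy' : (0 : ℝ) ≤ y := hy
  have h1 : (1 + x * c) ∈ Set.Ioi (0 : ℝ) := by
    show (0 : ℝ) < 1 + x * c
    positivity
  have h2 : (1 + y * c) ∈ Set.Ioi (0 : ℝ) := by
    show (0 : ℝ) < 1 + y * c
    positivity
  have := strictConcaveOn_log_Ioi.concaveOn.2 h1 h2 hs ht hst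
  simp only [smul_eq_mul] at this ⊢
  have e : s * (1 + x * c) + t * (1 + y * c) = 1 + (s * x + t * y) * c := by
    calc s * (1 + x * c) + t * (1 + y * c) = (s + t) + (s * x + t * y) * c := by ring
      _ = _ := by rw [hst]
  rwa [e] at this

theorem F_concave (a : ℕ → ℝ) (n : ℕ) (ha : ∀ t, 0 ≤ a t) (r : ℕ) :
    ConcaveOn ℝ (Set.Ici (0 : ℝ)) (F a n r) := by
  induction r with
  | zero =>
    have : F a n 0 = fun _ => (0 : ℝ) := by funext x; rfl
    rw [this]
    exact concaveOn_const 0 (convex_Ici 0)
  | succ r ih =>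
    have e : F a n (r + 1) = (fun w => Real.log (1 + w * ((r : ℝ) + 1)⁻¹)) +
        (fun w => F a n r (a (n - (r + 1)) * w)) := by
      funext w
      rw [F_succ]
      rfl
    rw [e]
    apply ConcaveOn.add
    · exact log_concave _ (by positivity)
    · refine ⟨convex_Ici 0, ?_⟩
      intro x hx y hy s t hs ht hst
      have hx' : (0 : ℝ) ≤ x := hx
      have hy' : (0 : ℝ) ≤ y := hy
      have := ih.2 (show a (n - (r + 1)) * x ∈ Set.Ici (0 : ℝ) from mul_nonneg (ha _) hx')
        (show a (n - (r + 1)) * y ∈ Set.Ici (0 : ℝ) from mul_nonneg (ha _) hy') hs ht hst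
      simp only [smul_eq_mul] at this ⊢
      have e : s * (a (n - (r + 1)) * x) + t * (a (n - (r + 1)) * y) =
        a (n - (r + 1)) * (s * x + t * y) := by ring
      rwa [e] at this

section Group

variable {G X : Type*} [Group G] [MulAction G X]

/-- the pairs of distinct points outside `T` in a common orbit of the pointwise stabiliser -/
def linked (G : Type*) {X : Type*} [Group G] [MulAction G X] (T : Finset X) : Set (X × X) :=
  {p | p.1 ∉ T ∧ p.2 ∉ T ∧ p.1 ≠ p.2 ∧
    p.2 ∈ MulAction.orbit (fixingSubgroup G (T : Set X)) p.1}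

theorem orbit_not_mem (T : Finset X) {z y : X} (hz : z ∉ T)
    (hy : y ∈ MulAction.orbit (fixingSubgroup G (T : Set X)) z) : y ∉ T := by
  obtain ⟨g, rfl⟩ := hy
  intro h
  apply hz
  have hg := g.2
  have h1 : (g : G) • z ∈ T := h
  have h2 : ((g : G)⁻¹) • ((g : G) • z) = (g : G) • z :=
    (mem_fixingSubgroup_iff G).1 (inv_mem hg) _ h1
  rw [inv_smul_smul] at h2
  rw [h2]
  exact h1

variable [Fintype X] [DecidableEq X]

/-- the sum of the orbit lengths over the points outside `T` -/
theorem sum_card_orbit (T : Finset X) :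
    ∑ z ∈ Tᶜ, Nat.card (MulAction.orbit (fixingSubgroup G (T : Set X)) z) =
      Nat.card (linked G T) + Tᶜ.card := by
  classical
  have h1 : ∀ z : X, Nat.card (MulAction.orbit (fixingSubgroup G (T : Set X)) z) =
      (univ.filter (fun y => y ∈ MulAction.orbit (fixingSubgroup G (T : Set X)) z)).card := by
    intro z
    rw [Nat.card_eq_fintype_card, Fintype.card_subtype]
  have h2 : ∀ z ∈ Tᶜ, Nat.card (MulAction.orbit (fixingSubgroup G (T : Set X)) z) =
      (univ.filter (fun y => y ∉ T ∧ z ≠ y ∧
        y ∈ MulAction.orbit (fixingSubgroup G (T : Set X)) z)).card + 1 := by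
    intro z hz
    rw [mem_compl] at hz
    rw [h1]
    have : univ.filter (fun y => y ∈ MulAction.orbit (fixingSubgroup G (T : Set X)) z) =
        insert z (univ.filter (fun y => y ∉ T ∧ z ≠ y ∧
        y ∈ MulAction.orbit (fixingSubgroup G (T : Set X)) z)) := by
      ext y
      simp only [mem_filter, mem_univ, true_and, mem_insert]
      constructor
      · intro hy
        by_cases hyz : y = z
        · exact Or.inl hyz
        · exact Or.inr ⟨orbit_not_mem T hz hy, fun h => hyz h.symm, hy⟩
      · rintro (rfl | ⟨_, _, h⟩)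
        · exact MulAction.mem_orbit_self _
        · exact h
    rw [this, card_insert_of_notMem]
    simp
  rw [sum_congr rfl h2, sum_add_distrib, sum_const, smul_eq_mul, mul_one]
  congr 1
  rw [← card_sigma]
  rw [Nat.card_eq_fintype_card, ← Fintype.card_coe]
  apply Fintype.card_congr
  refine
    { toFun := fun s => ⟨(s.1.1, s.1.2), ?_⟩
      invFun := fun p => ⟨⟨p.1.1, p.1.2⟩, ?_⟩
      left_inv := ?_
      right_inv := ?_ }
  · have := s.2
    rw [mem_sigma, mem_compl, mem_filter] at this
    exact ⟨this.1, this.2.2.1, this.2.2.2.1, this.2.2.2.2⟩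
  · rw [mem_sigma, mem_compl, mem_filter]
    exact ⟨p.2.1, mem_univ _, p.2.2.1, p.2.2.2.1, p.2.2.2.2⟩
  · intro s; rfl
  · intro p; rfl

/-- orbit-stabiliser for pointwise stabilisers -/
theorem card_fixing_insert (T : Finset X) (z : X) :
    Nat.card (fixingSubgroup G (T : Set X)) =
      Nat.card (MulAction.orbit (fixingSubgroup G (T : Set X)) z) *
        Nat.card (fixingSubgroup G ((insert z T : Finset X) : Set X)) := by
  rw [← Nat.card_congr (MulAction.orbitProdStabilizerEquivGroup (fixingSubgroup G (T : Set X)) z),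
    Nat.card_prod]
  congr 1
  apply Nat.card_congr
  refine
    { toFun := fun g => ⟨(g.1 : G), ?_⟩
      invFun := fun g => ⟨⟨g.1, ?_⟩, ?_⟩
      left_inv := ?_
      right_inv := ?_ }
  · rw [mem_fixingSubgroup_iff]
    intro y hy
    rw [coe_insert, Set.mem_insert_iff] at hy
    rcases hy with rfl | hy
    · exact g.2
    · exact (mem_fixingSubgroup_iff G).1 g.1.2 y hy
  · rw [mem_fixingSubgroup_iff]
    intro y hy
    exact (mem_fixingSubgroup_iff G).1 g.2 y (by rw [coe_insert]; exact Set.mem_insert_of_mem z hy)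
  · exact (mem_fixingSubgroup_iff G).1 g.2 z (by rw [coe_insert]; exact Set.mem_insert z _)
  · intro g; rfl
  · intro g; rfl

/-- the logarithm of the order of a pointwise stabiliser is bounded by the potential -/
theorem log_card_fixing_le [FaithfulSMul G X] (w : Finset X → ℝ) (a : ℕ → ℝ) (ha : ∀ t, 0 ≤ a t)
    (hw : ∀ T : Finset X, (Nat.card (linked G T) : ℝ) ≤ w T)
    (hrec : ∀ T : Finset X, T.card < Fintype.card X → ∑ z ∈ Tᶜ, w (insert z T) ≤
      ((Fintype.card X : ℝ) - T.card) * (a T.card * w T)) (r : ℕ) :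
    ∀ T : Finset X, T.card + r = Fintype.card X →
      Real.log (Nat.card (fixingSubgroup G (T : Set X))) ≤ F a (Fintype.card X) r (w T) := by
  have : Finite G := Finite.of_injective (MulAction.toPermHom G X) MulAction.toPerm_injective
  have hw0 : ∀ T, 0 ≤ w T := fun T => (Nat.cast_nonneg _).trans (hw T)
  induction r with
  | zero =>
    intro T hT
    have hT' : T = univ := by
      rw [← card_eq_iff_eq_univ]; omega
    rw [F_zero, hT']
    have : Nat.card (fixingSubgroup G ((univ : Finset X) : Set X)) = 1 := by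
      rw [Nat.card_eq_one_iff_unique]
      refine ⟨⟨?_⟩, ⟨1⟩⟩
      intro g h
      apply Subtype.ext
      apply eq_of_smul_eq_smul (α := X)
      intro x
      rw [(mem_fixingSubgroup_iff G).1 g.2 x (by simp), (mem_fixingSubgroup_iff G).1 h.2 x (by simp)]
    rw [this]
    simp
  | succ r ih =>
    intro T hT
    have hTc : Tᶜ.card = r + 1 := by rw [card_compl]; omega
    have hTc' : (Tᶜ.card : ℝ) = (r : ℝ) + 1 := by rw [hTc]; push_cast; ring
    have hr1 : (0 : ℝ) < (r : ℝ) + 1 := by positivity
    have hn : ((Fintype.card X : ℝ) - T.card) = (r : ℝ) + 1 := by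
      rw [← hT]; push_cast; ring
    have hTn : Fintype.card X - (r + 1) = T.card := by omega
    -- logarithm of the orbit lengths
    have hpos : ∀ z : X, 0 < Nat.card (MulAction.orbit (fixingSubgroup G (T : Set X)) z) := by
      intro z
      have : Nonempty (MulAction.orbit (fixingSubgroup G (T : Set X)) z) :=
        ⟨⟨z, MulAction.mem_orbit_self z⟩⟩
      exact Nat.card_pos
    have hsplit : ∀ z ∈ Tᶜ, Real.log (Nat.card (fixingSubgroup G (T : Set X))) ≤
        Real.log (Nat.card (MulAction.orbit (fixingSubgroup G (T : Set X)) z)) +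
          F a (Fintype.card X) r (w (insert z T)) := by
      intro z hz
      rw [card_fixing_insert T z, Nat.cast_mul, Real.log_mul]
      · have := ih (insert z T) (by
          rw [card_insert_of_notMem (mem_compl.1 hz)]; omega)
        linarith
      · exact_mod_cast (hpos z).ne'
      · exact_mod_cast (Nat.card_pos (α := fixingSubgroup G ((insert z T : Finset X) : Set X))).ne'
    have hsum : ((r : ℝ) + 1) * Real.log (Nat.card (fixingSubgroup G (T : Set X))) ≤
        ∑ z ∈ Tᶜ, Real.log (Nat.card (MulAction.orbit (fixingSubgroup G (T : Set X)) z)) +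
          ∑ z ∈ Tᶜ, F a (Fintype.card X) r (w (insert z T)) := by
      rw [← sum_add_distrib, ← hTc', ← nsmul_eq_mul, ← sum_const]
      exact sum_le_sum hsplit
    -- Jensen for the orbit lengths
    have hJ1 : ∑ z ∈ Tᶜ, ((r : ℝ) + 1)⁻¹ *
        Real.log (Nat.card (MulAction.orbit (fixingSubgroup G (T : Set X)) z)) ≤
        Real.log (1 + w T / ((r : ℝ) + 1)) := by
      have h := strictConcaveOn_log_Ioi.concaveOn.le_map_sum (t := Tᶜ)
        (w := fun _ => ((r : ℝ) + 1)⁻¹)
        (p := fun z => (Nat.card (MulAction.orbit (fixingSubgroup G (T : Set X)) z) : ℝ))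
        (fun _ _ => by positivity) (by
          rw [sum_const, nsmul_eq_mul, hTc']
          exact mul_inv_cancel₀ hr1.ne') (fun z _ => by
          show (0 : ℝ) < _
          exact_mod_cast hpos z)
      simp only [smul_eq_mul] at h
      refine h.trans (Real.log_le_log ?_ ?_)
      · rw [← mul_sum]
        apply mul_pos (inv_pos.2 hr1)
        apply sum_pos
        · intro z _
          exact_mod_cast hpos z
        · rw [← card_pos, hTc]; omega
      · rw [← mul_sum, ← Nat.cast_sum, sum_card_orbit, Nat.cast_add, hTc']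
        rw [mul_add, inv_mul_cancel₀ hr1.ne', add_comm, inv_mul_eq_div]
        gcongr
        exact hw T
    have hJ2 : ∑ z ∈ Tᶜ, ((r : ℝ) + 1)⁻¹ * F a (Fintype.card X) r (w (insert z T)) ≤
        F a (Fintype.card X) r (a T.card * w T) := by
      have h := (F_concave a (Fintype.card X) ha r).le_map_sum (t := Tᶜ)
        (w := fun _ => ((r : ℝ) + 1)⁻¹) (p := fun z => w (insert z T))
        (fun _ _ => by positivity) (by
          rw [sum_const, nsmul_eq_mul, hTc']
          exact mul_inv_cancel₀ hr1.ne') (fun z _ => hw0 _)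
      simp only [smul_eq_mul] at h
      refine h.trans (F_mono a _ ha r _ _ ?_ ?_)
      · apply sum_nonneg
        intro z _
        exact mul_nonneg (by positivity) (hw0 _)
      · rw [← mul_sum, inv_mul_le_iff₀ hr1]
        have := hrec T (by omega)
        rwa [hn] at this
    rw [F_succ, hTn]
    have h3 : Real.log (Nat.card (fixingSubgroup G (T : Set X))) =
        ((r : ℝ) + 1)⁻¹ * (((r : ℝ) + 1) * Real.log (Nat.card (fixingSubgroup G (T : Set X)))) := by
      rw [← mul_assoc, inv_mul_cancel₀ hr1.ne', one_mul]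
    rw [h3]
    calc ((r : ℝ) + 1)⁻¹ * (((r : ℝ) + 1) * Real.log (Nat.card (fixingSubgroup G (T : Set X))))
        ≤ ((r : ℝ) + 1)⁻¹ * (∑ z ∈ Tᶜ,
            Real.log (Nat.card (MulAction.orbit (fixingSubgroup G (T : Set X)) z)) +
          ∑ z ∈ Tᶜ, F a (Fintype.card X) r (w (insert z T))) := by gcongr
      _ = ∑ z ∈ Tᶜ, ((r : ℝ) + 1)⁻¹ *
            Real.log (Nat.card (MulAction.orbit (fixingSubgroup G (T : Set X)) z)) +
          ∑ z ∈ Tᶜ, ((r : ℝ) + 1)⁻¹ * F a (Fintype.card X) r (w (insert z T)) := by
          rw [mul_add, mul_sum, mul_sum]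
      _ ≤ _ := add_le_add hJ1 hJ2

/-- The potential lemma: if `w T` bounds the number of ordered pairs of distinct points outside
`T` lying in a common orbit of the pointwise stabiliser of `T`, and the average of `w (T + z)`
over the points `z` outside `T` is at most `a |T| * w T`, then the order of the group is at most
`∏ (1 + W t / (n - t))` where `W 0 = w ∅` and `W (t + 1) = a t * W t`. -/
theorem card_le_prod [FaithfulSMul G X] (w : Finset X → ℝ) (a W : ℕ → ℝ) (ha : ∀ t, 0 ≤ a t)
    (hw : ∀ T : Finset X, (Nat.card (linked G T) : ℝ) ≤ w T)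
    (hrec : ∀ T : Finset X, T.card < Fintype.card X → ∑ z ∈ Tᶜ, w (insert z T) ≤
      ((Fintype.card X : ℝ) - T.card) * (a T.card * w T))
    (hW0 : w ∅ ≤ W 0) (hW : ∀ t, W (t + 1) = a t * W t) :
    (Nat.card G : ℝ) ≤ ∏ t ∈ range (Fintype.card X), (1 + W t / ((Fintype.card X : ℝ) - t)) := by
  have : Finite G := Finite.of_injective (MulAction.toPermHom G X) MulAction.toPerm_injective
  have hw0 : ∀ T, 0 ≤ w T := fun T => (Nat.cast_nonneg _).trans (hw T)
  have hWpos : ∀ t, 0 ≤ W t := by
    intro t
    induction t with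
    | zero => exact (hw0 ∅).trans hW0
    | succ t ih => rw [hW]; exact mul_nonneg (ha t) ih
  -- the product form of `F`
  have hF : ∀ r, r ≤ Fintype.card X → F a (Fintype.card X) r (W (Fintype.card X - r)) =
      Real.log (∏ t ∈ Ico (Fintype.card X - r) (Fintype.card X),
        (1 + W t / ((Fintype.card X : ℝ) - t))) := by
    intro r
    induction r with
    | zero => intro _; simp [F_zero]
    | succ r ih =>
      intro hr
      have e : Fintype.card X - (r + 1) + 1 = Fintype.card X - r := by omega
      rw [F_succ, ← hW, e, ih (by omega),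
        prod_eq_prod_Ico_succ_bot (show Fintype.card X - (r + 1) < Fintype.card X by omega), e,
        Real.log_mul]
      · have : ((Fintype.card X : ℝ) - ((Fintype.card X - (r + 1) : ℕ) : ℝ)) = (r : ℝ) + 1 := by
          rw [Nat.cast_sub hr]; push_cast; ring
        rw [this]
      · have h1 : (0 : ℝ) ≤ (Fintype.card X : ℝ) - ((Fintype.card X - (r + 1) : ℕ) : ℝ) := by
          rw [Nat.cast_sub hr]; push_cast; linarith [(Nat.cast_nonneg r : (0 : ℝ) ≤ r)]
        have h2 := div_nonneg (hWpos (Fintype.card X - (r + 1))) h1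
        linarith
      · apply (prod_pos ?_).ne'
        intro t ht
        rw [mem_Ico] at ht
        have h1 : (0 : ℝ) ≤ (Fintype.card X : ℝ) - t := by
          have : (t : ℝ) ≤ (Fintype.card X : ℝ) := by exact_mod_cast ht.2.le
          linarith
        have h2 := div_nonneg (hWpos t) h1
        linarith
  have hG : Nat.card (fixingSubgroup G ((∅ : Finset X) : Set X)) = Nat.card G := by
    have : fixingSubgroup G ((∅ : Finset X) : Set X) = ⊤ := by
      rw [eq_top_iff]
      intro g _
      rw [mem_fixingSubgroup_iff]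
      intro y hy
      simp at hy
    rw [this]
    exact Nat.card_congr Subgroup.topEquiv.toEquiv
  have h1 := log_card_fixing_le (G := G) w a ha hw hrec (Fintype.card X) ∅ (by simp)
  rw [hG] at h1
  have h2 := h1.trans (F_mono a (Fintype.card X) ha (Fintype.card X) _ _ (hw0 ∅) hW0)
  have h3 := hF (Fintype.card X) le_rfl
  rw [Nat.sub_self] at h3
  rw [h3, ← range_eq_Ico] at h2
  have hprod : (0 : ℝ) < ∏ t ∈ range (Fintype.card X), (1 + W t / ((Fintype.card X : ℝ) - t)) := by
    apply prod_pos
    intro t ht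
    rw [mem_range] at ht
    have h1 : (0 : ℝ) ≤ (Fintype.card X : ℝ) - t := by
      have : (t : ℝ) ≤ (Fintype.card X : ℝ) := by exact_mod_cast ht.le
      linarith
    have h2 := div_nonneg (hWpos t) h1
    linarith
  exact (Real.log_le_log_iff (by exact_mod_cast Nat.card_pos) hprod).1 h2

end Group

end Cfsg.Agent.PermutationGroups.PSPotential
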