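import Mathlib

/-!
# Bochert's bound for primitive groups (part (B) of the proof of S0725)
-/

set_option autoImplicit false

namespace Cfsg.Agent.PermutationGroups.PSBochert

open Equiv.Perm

theorem app_inv {α : Type*} (x : Equiv.Perm α) (z : α) : x (x⁻¹ z) = z :=
  x.apply_symm_apply z

theorem inv_app {α : Type*} (x : Equiv.Perm α) (z : α) : x⁻¹ (x z) = z :=
  x.symm_apply_apply z

/-- The commutator of two permutations whose supports meet in exactly one point is a 3-cycle. -/
theorem isThreeCycle_commutator {α : Type*} [Fintype α] [DecidableEq α] (x y : Equiv.Perm α)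
    (δ : α) (hx : x δ ≠ δ) (hy : y δ ≠ δ) (h : ∀ z, x z ≠ z → y z ≠ z → z = δ) :
    (x * y * x⁻¹ * y⁻¹).IsThreeCycle := by
  classical
  have hxs : ∀ z, x z ≠ z → x (x z) ≠ x z := fun z hz e => hz (x.injective e)
  have hys : ∀ z, y z ≠ z → y (y z) ≠ y z := fun z hz e => hz (y.injective e)
  have hxi : ∀ z, x z ≠ z → x (x⁻¹ z) ≠ x⁻¹ z := by
    intro z hz e
    rw [app_inv] at e
    apply hz
    conv_lhs => rw [e]
    exact app_inv x z
  have hyi : ∀ z, y z ≠ z → y (y⁻¹ z) ≠ y⁻¹ z := by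
    intro z hz e
    rw [app_inv] at e
    apply hz
    conv_lhs => rw [e]
    exact app_inv y z
  have hxinv : ∀ z, x z = z → x⁻¹ z = z := fun z hz => by
    rw [Equiv.Perm.inv_eq_iff_eq]; exact hz.symm
  have hyinv : ∀ z, y z = z → y⁻¹ z = z := fun z hz => by
    rw [Equiv.Perm.inv_eq_iff_eq]; exact hz.symm
  -- points in one support different from `δ` are fixed by the other
  have hxy : ∀ z, x z ≠ z → z ≠ δ → y z = z := fun z h1 h2 => by
    by_contra h3; exact h2 (h z h1 h3)
  have hyx : ∀ z, y z ≠ z → z ≠ δ → x z = z := fun z h1 h2 => by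
    by_contra h3; exact h2 (h z h3 h1)
  have e1 : (x * y * x⁻¹ * y⁻¹) (y δ) = δ := by
    have h1 : x⁻¹ δ ≠ δ := by
      intro e
      apply hx
      rw [Equiv.Perm.inv_eq_iff_eq] at e
      exact e.symm
    simp only [Equiv.Perm.mul_apply, inv_app]
    rw [hxy (x⁻¹ δ) (hxi δ hx) h1, app_inv]
  have e2 : (x * y * x⁻¹ * y⁻¹) δ = x δ := by
    have h1 : y⁻¹ δ ≠ δ := by
      intro e
      apply hy
      rw [Equiv.Perm.inv_eq_iff_eq] at e
      exact e.symm
    simp only [Equiv.Perm.mul_apply]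
    rw [hxinv _ (hyx (y⁻¹ δ) (hyi δ hy) h1), app_inv]
  have e3 : (x * y * x⁻¹ * y⁻¹) (x δ) = y δ := by
    simp only [Equiv.Perm.mul_apply]
    rw [hyinv _ (hxy (x δ) (hxs δ hx) hx), inv_app, hyx (y δ) (hys δ hy) hy]
  have e4 : ∀ z, z ≠ δ → z ≠ x δ → z ≠ y δ → (x * y * x⁻¹ * y⁻¹) z = z := by
    intro z h1 h2 h3
    simp only [Equiv.Perm.mul_apply]
    by_cases hzy : y z = z
    · rw [hyinv z hzy]
      by_cases hzx : x z = z
      · rw [hxinv z hzx, hzy, hzx]
      · have h4 : x⁻¹ z ≠ δ := by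
          intro e
          rw [Equiv.Perm.inv_eq_iff_eq] at e
          exact h2 e
        rw [hxy _ (hxi z hzx) h4, app_inv]
    · have h4 : y⁻¹ z ≠ δ := by
        intro e
        rw [Equiv.Perm.inv_eq_iff_eq] at e
        exact h3 e
      rw [hxinv _ (hyx _ (hyi z hzy) h4), app_inv, hyx z hzy h1]
  have hxyne : x δ ≠ y δ := by
    intro e
    have h1 : x (x δ) ≠ x δ := hxs δ hx
    have h2 : y (x δ) ≠ x δ := by
      have := hys δ hy
      rwa [← e] at this
    exact hx (h _ h1 h2)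
  rw [← card_support_eq_three_iff]
  have hsupp : (x * y * x⁻¹ * y⁻¹).support = {δ, x δ, y δ} := by
    ext z
    rw [Equiv.Perm.mem_support, Finset.mem_insert, Finset.mem_insert, Finset.mem_singleton]
    constructor
    · intro hz
      by_contra hcon
      push Not at hcon
      exact hz (e4 z hcon.1 hcon.2.1 hcon.2.2)
    · rintro (rfl | rfl | rfl)
      · rw [e2]; exact hx
      · rw [e3]; exact hxyne.symm
      · rw [e1]; exact hy.symm
  rw [hsupp, Finset.card_insert_of_notMem, Finset.card_insert_of_notMem, Finset.card_singleton]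
  · rw [Finset.mem_singleton]; exact hxyne
  · rw [Finset.mem_insert, Finset.mem_singleton]
    push Not
    exact ⟨hx.symm, hy.symm⟩

/-- A primitive group not containing the alternating group has a base of at most half the
points. -/
theorem exists_base {α : Type*} [Fintype α] [DecidableEq α] (G : Subgroup (Equiv.Perm α))
    (hG : MulAction.IsPreprimitive G α) (hA : ¬ alternatingGroup α ≤ G) :
    ∃ Δ : Finset α, 2 * Δ.card ≤ Fintype.card α ∧
      ∀ g ∈ G, (∀ a ∈ Δ, g a = a) → g = 1 := by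
  classical
  let P : Finset α → Prop := fun Δ => ∀ g ∈ G, (∀ a ∈ Δ, g a = a) → g = 1
  have hP : (Finset.univ.filter P).Nonempty := ⟨Finset.univ, by
    rw [Finset.mem_filter]
    refine ⟨Finset.mem_univ _, fun g _ hg => ?_⟩
    ext a
    exact hg a (Finset.mem_univ a)⟩
  obtain ⟨Δ, hΔ, hmin⟩ := Finset.exists_min_image _ (fun Δ : Finset α => Δ.card) hP
  rw [Finset.mem_filter] at hΔ
  refine ⟨Δ, ?_, hΔ.2⟩
  by_contra hcon
  push Not at hcon
  have hlt : ∀ T : Finset α, T.card < Δ.card → ∃ g ∈ G, (∀ a ∈ T, g a = a) ∧ g ≠ 1 := by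
    intro T hT
    by_contra hcon2
    push Not at hcon2
    have := hmin T (by
      rw [Finset.mem_filter]
      exact ⟨Finset.mem_univ _, hcon2⟩)
    omega
  obtain ⟨x, hxG, hx, hx1⟩ := hlt Δᶜ (by
    rw [Finset.card_compl]
    omega)
  obtain ⟨δ, hδ⟩ : ∃ δ, x δ ≠ δ := by
    by_contra hcon2
    push Not at hcon2
    exact hx1 (Equiv.ext hcon2)
  have hδΔ : δ ∈ Δ := by
    by_contra h
    exact hδ (hx δ (Finset.mem_compl.2 h))
  obtain ⟨y, hyG, hy, hy1⟩ := hlt (Δ.erase δ) (Finset.card_erase_lt_of_mem hδΔ)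
  have hyδ : y δ ≠ δ := by
    intro h
    apply hy1
    apply hΔ.2 y hyG
    intro a ha
    by_cases had : a = δ
    · rw [had]; exact h
    · exact hy a (Finset.mem_erase.2 ⟨had, ha⟩)
  have h3 : (x * y * x⁻¹ * y⁻¹).IsThreeCycle := by
    apply isThreeCycle_commutator x y δ hδ hyδ
    intro z hzx hzy
    have hzΔ : z ∈ Δ := by
      by_contra h
      exact hzx (hx z (Finset.mem_compl.2 h))
    by_contra hzδ
    exact hzy (hy z (Finset.mem_erase.2 ⟨hzδ, hzΔ⟩))
  apply hA
  apply alternatingGroup_le_of_isPreprimitive_of_isThreeCycle_mem hG h3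
  exact G.mul_mem (G.mul_mem (G.mul_mem hxG hyG) (G.inv_mem hxG)) (G.inv_mem hyG)

/-- **Bochert's bound**: a primitive permutation group of degree `n` not containing the
alternating group satisfies `|G| * ⌊(n+1)/2⌋! ≤ n!`. -/
theorem bochert {α : Type*} [Fintype α] [DecidableEq α] (G : Subgroup (Equiv.Perm α))
    (hG : MulAction.IsPreprimitive G α) (hA : ¬ alternatingGroup α ≤ G) :
    Nat.card G * Nat.factorial ((Fintype.card α + 1) / 2) ≤ Nat.factorial (Fintype.card α) := by
  classical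
  obtain ⟨Δ, hΔ, hbase⟩ := exists_base G hG hA
  let S := {a : α // a ∉ Δ}
  have hS : Fintype.card S = Fintype.card α - Δ.card := by
    rw [Fintype.card_subtype_compl, Fintype.card_coe]
  let F : G × Equiv.Perm S → Equiv.Perm α := fun p => p.1.1 * Equiv.Perm.ofSubtype p.2
  have hfix : ∀ (σ : Equiv.Perm S) (a : α), a ∈ Δ → Equiv.Perm.ofSubtype σ a = a := by
    intro σ a ha
    exact Equiv.Perm.ofSubtype_apply_of_not_mem σ (by simpa using ha)
  have hF : Function.Injective F := by
    rintro ⟨g, σ⟩ ⟨g', σ'⟩ h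
    have h1 : g.1 * Equiv.Perm.ofSubtype σ = g'.1 * Equiv.Perm.ofSubtype σ' := h
    have h2 : g'.1⁻¹ * g.1 = Equiv.Perm.ofSubtype (σ' * σ⁻¹) := by
      rw [map_mul, map_inv]
      rw [inv_mul_eq_iff_eq_mul, ← mul_assoc, ← h1, mul_assoc, mul_inv_cancel, mul_one]
    have h3 : g'.1⁻¹ * g.1 = 1 := by
      apply hbase _ (G.mul_mem (G.inv_mem g'.2) g.2)
      intro a ha
      rw [h2]
      exact hfix _ a ha
    have h4 : g.1 = g'.1 := by
      rw [inv_mul_eq_one] at h3; exact h3.symm
    have h5 : Equiv.Perm.ofSubtype σ = Equiv.Perm.ofSubtype σ' := by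
      rw [h4] at h1
      exact mul_left_cancel h1
    rw [Prod.mk.injEq]
    exact ⟨Subtype.ext h4, Equiv.Perm.ofSubtype_injective h5⟩
  have h1 := Nat.card_le_card_of_injective F hF
  rw [Nat.card_prod, Nat.card_eq_fintype_card (α := Equiv.Perm S), Fintype.card_perm, hS,
    Nat.card_eq_fintype_card (α := Equiv.Perm α), Fintype.card_perm] at h1
  refine le_trans (Nat.mul_le_mul_left _ (Nat.factorial_le ?_)) h1
  omega

/-- The bound `4 ^ n` for small `n`. -/
theorem card_le_four_pow {α : Type*} [Fintype α] [DecidableEq α] (G : Subgroup (Equiv.Perm α))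
    (hG : MulAction.IsPreprimitive G α) (hA : ¬ alternatingGroup α ≤ G)
    (hn : Fintype.card α ≤ 21 ∨ Fintype.card α = 23) :
    Nat.card G ≤ 4 ^ Fintype.card α := by
  have h := bochert G hG hA
  have key : ∀ n : ℕ, n ≤ 23 → (n ≤ 21 ∨ n = 23) →
      Nat.factorial n ≤ 4 ^ n * Nat.factorial ((n + 1) / 2) := by
    intro n hn1 hn2
    have : n ∈ Finset.range 24 := Finset.mem_range.2 (by omega)
    have h2 : ∀ m ∈ Finset.range 24, (m ≤ 21 ∨ m = 23) →
      Nat.factorial m ≤ 4 ^ m * Nat.factorial ((m + 1) / 2) := by decide +kernel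
    exact h2 n this hn2
  have h2 := key (Fintype.card α) (by omega) hn
  exact Nat.le_of_mul_le_mul_right (h.trans h2) (Nat.factorial_pos _)

end Cfsg.Agent.PermutationGroups.PSBochert
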