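import Mathlib
import Cfsg.Prelude.Def_Perm
import Cfsg.Agent.Lib.PGroupFixedVector
import Cfsg.Agent.PermutationGroups.SylowTransitive

/-!
The permutation module in characteristic `p` of a transitive group of degree `p ^ f`: every nonzero
submodule contains the constants, every proper submodule lies in the sum-zero functions.
-/

set_option autoImplicit false

namespace Cfsg.Agent.PermutationGroups.PermModulePPower

open Cfsg

theorem permRep_apply {K G Ω : Type*} [CommSemiring K] [Group G] [MulAction G Ω] (g : G)
    (v : Ω → K) (x : Ω) : permRep K G Ω g v x = v (g⁻¹ • x) := rfl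

/-- In the permutation module in characteristic `p` of a transitive group of degree `p ^ f`, every
nonzero invariant subspace contains the constant functions. -/
theorem one_mem_of_invariant {K G Ω : Type*} [Field K] [Group G] [Finite G] [MulAction G Ω]
    [Fintype Ω] [MulAction.IsPretransitive G Ω] {p f : ℕ} [Fact p.Prime] [CharP K p]
    (hcard : Fintype.card Ω = p ^ f) (W : Submodule K (Ω → K))
    (hW : ∀ g : G, ∀ v ∈ W, permRep K G Ω g v ∈ W) (hW0 : W ≠ ⊥) : (fun _ => 1 : Ω → K) ∈ W := by
  classical
  obtain ⟨P⟩ : Nonempty (Sylow p G) := inferInstance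
  haveI : MulAction.IsPretransitive P Ω :=
    SylowTransitive.isPretransitive_sylow (f := f) (by rw [Nat.card_eq_fintype_card, hcard]) P
  obtain ⟨v, hvW, hv0, hv⟩ := Lib.PGroupFixedVector.exists_mem_ne_zero_fixed_rep (K := K)
    P.isPGroup' ((permRep K G Ω).comp (Subgroup.subtype (P : Subgroup G))) W
    (fun g v hv => hW g v hv) hW0
  have hconst : ∀ x y : Ω, v x = v y := by
    intro x y
    obtain ⟨g, hg⟩ := MulAction.exists_smul_eq P x y
    have h1 : permRep K G Ω (g : G) v = v := hv g
    have h2 := congrFun h1 y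
    rw [permRep_apply, ← hg] at h2
    rw [← hg, ← h2]
    congr 1
    change x = ((g : G))⁻¹ • ((g : G) • x)
    simp
  obtain ⟨x₀, hx₀⟩ : ∃ x, v x ≠ 0 := by
    by_contra hcon
    push Not at hcon
    exact hv0 (funext hcon)
  have : (fun _ => 1 : Ω → K) = (v x₀)⁻¹ • v := by
    funext x
    simp only [Pi.smul_apply, smul_eq_mul]
    rw [hconst x x₀, inv_mul_cancel₀ hx₀]
  rw [this]
  exact W.smul_mem _ hvW

/-- In the permutation module in characteristic `p` of a transitive group of degree `p ^ f`, every
proper invariant subspace consists of functions with sum zero. -/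
theorem sum_eq_zero_of_invariant {K G Ω : Type*} [Field K] [Group G] [Finite G] [MulAction G Ω]
    [Fintype Ω] [MulAction.IsPretransitive G Ω] {p f : ℕ} [Fact p.Prime] [CharP K p]
    (hcard : Fintype.card Ω = p ^ f) (W : Submodule K (Ω → K))
    (hW : ∀ g : G, ∀ v ∈ W, permRep K G Ω g v ∈ W) (hW0 : W ≠ ⊤) :
    ∀ v ∈ W, ∑ x, v x = 0 := by
  classical
  obtain ⟨φ, hφ0, hφ⟩ := Submodule.exists_le_ker_of_lt_top W (lt_top_iff_ne_top.2 hW0)
  let U : Submodule K (Ω → K) :=
    { carrier := {u | ∀ w ∈ W, ∑ x, u x * w x = 0}
      add_mem' := by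
        intro a b ha hb w hw
        simp only [Pi.add_apply, add_mul, Finset.sum_add_distrib]
        rw [ha w hw, hb w hw, add_zero]
      zero_mem' := by intro w _; simp
      smul_mem' := by
        intro c a ha w hw
        simp only [Pi.smul_apply, smul_eq_mul, mul_assoc]
        rw [← Finset.mul_sum, ha w hw, mul_zero] }
  have hU : ∀ g : G, ∀ u ∈ U, permRep K G Ω g u ∈ U := by
    intro g u hu w hw
    have h1 : ∑ x, u x * (permRep K G Ω g⁻¹ w) x = 0 := hu _ (hW g⁻¹ w hw)
    rw [← h1]
    refine Fintype.sum_equiv (MulAction.toPerm g⁻¹) _ _ (fun x => ?_)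
    simp only [permRep_apply, MulAction.toPerm_apply, inv_inv, smul_inv_smul]
  have hU0 : U ≠ ⊥ := by
    rw [Submodule.ne_bot_iff]
    refine ⟨fun x => φ (Pi.single x 1), ?_, ?_⟩
    · intro w hw
      have h1 : φ w = 0 := hφ hw
      rw [← h1]
      conv_rhs => rw [← Finset.univ_sum_single w]
      rw [map_sum]
      refine Finset.sum_congr rfl (fun x _ => ?_)
      have : (Pi.single x (w x) : Ω → K) = w x • Pi.single x 1 := by
        rw [← Pi.single_smul, smul_eq_mul, mul_one]
      rw [this, map_smul, smul_eq_mul, mul_comm]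
    · intro h0
      apply hφ0
      apply LinearMap.pi_ext
      intro i c
      have h1 : φ (Pi.single i 1) = 0 := congrFun h0 i
      have : (Pi.single i c : Ω → K) = c • Pi.single i 1 := by
        rw [← Pi.single_smul, smul_eq_mul, mul_one]
      rw [this, map_smul, h1, smul_zero, LinearMap.zero_apply]
  have h1 := one_mem_of_invariant hcard U hU hU0
  intro v hv
  have := h1 v hv
  simpa using this

end Cfsg.Agent.PermutationGroups.PermModulePPower
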