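import Mathlib
import Cfsg.Agent.PermutationGroups.PrimeDegree

/-!
Transitive permutation groups of odd prime degree `p` in which the normaliser of a Sylow
`p`-subgroup has even order: the points can be labelled by `ZMod p` so that `x ↦ x + 1` and
`x ↦ -x` belong to the group.
-/

set_option autoImplicit false

namespace Cfsg.Agent.PermutationGroups.PrimeInvolution

open Cfsg.Agent.PermutationGroups.PrimeDegree

/-- The order of a transitive permutation group of prime degree `p` is divisible by `p` exactly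
once. -/
theorem card_eq_mul {α : Type*} [Fintype α] {p : ℕ} [Fact p.Prime]
    (hα : Fintype.card α = p) (G : Subgroup (Equiv.Perm α)) [MulAction.IsPretransitive G α] :
    ∃ m, Nat.card G = m * p ∧ m.Coprime p := by
  classical
  have hp : p.Prime := Fact.out
  have : Nonempty α := by
    rw [← Fintype.card_pos_iff, hα]; exact hp.pos
  obtain ⟨a₀⟩ := this
  have hdvd : p ∣ Nat.card G := by
    have h1 := MulAction.index_stabilizer_of_transitive G a₀
    rw [Nat.card_eq_fintype_card, hα] at h1
    rw [← h1]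
    exact Subgroup.index_dvd_card _
  obtain ⟨m, hm⟩ := hdvd
  refine ⟨m, by rw [hm, mul_comm], ?_⟩
  have h1 : Nat.card G ∣ p.factorial := by
    have h2 := Subgroup.card_subgroup_dvd_card G
    rwa [Nat.card_eq_fintype_card (α := Equiv.Perm α), Fintype.card_perm, hα] at h2
  obtain ⟨q, hq⟩ : ∃ q, p = q + 1 := ⟨p - 1, by have := hp.pos; omega⟩
  have h3 : m ∣ q.factorial := by
    rw [hm] at h1
    have h4 : p.factorial = p * q.factorial := by
      rw [hq, Nat.factorial_succ]
    rw [h4] at h1
    exact Nat.dvd_of_mul_dvd_mul_left hp.pos h1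
  rw [Nat.Coprime, Nat.gcd_comm]
  apply (Nat.Prime.coprime_iff_not_dvd hp).2
  intro h
  have := (hp.dvd_factorial).1 (h.trans h3)
  omega

/-- A Sylow `p`-subgroup of a transitive permutation group of prime degree `p` has order `p`. -/
theorem card_sylow {α : Type*} [Fintype α] {p : ℕ} [Fact p.Prime]
    (hα : Fintype.card α = p) (G : Subgroup (Equiv.Perm α)) [MulAction.IsPretransitive G α]
    (P : Sylow p G) : Nat.card (P : Subgroup G) = p := by
  have hp : p.Prime := Fact.out
  obtain ⟨m, hm, hmp⟩ := card_eq_mul hα G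
  have hm0 : m ≠ 0 := by
    rintro rfl
    rw [zero_mul] at hm
    exact Nat.card_pos.ne' hm
  rw [P.card_eq_multiplicity, hm]
  rw [Nat.factorization_mul hm0 hp.ne_zero]
  simp only [Finsupp.coe_add, Pi.add_apply]
  rw [hp.factorization_self, Nat.factorization_eq_zero_of_not_dvd]
  · simp
  · exact (Nat.Prime.coprime_iff_not_dvd hp).1 hmp.symm

/-- Labelling of the points by `ZMod p` with `x ↦ x + 1` and `x ↦ - x` in the group. -/
theorem exists_equiv_zmod_neg {α : Type*} [Fintype α] {p : ℕ} [Fact p.Prime] (hp2 : p ≠ 2)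
    (hα : Fintype.card α = p) (G : Subgroup (Equiv.Perm α)) [MulAction.IsPretransitive G α]
    (P : Sylow p G) (heven : Even (Nat.card (Subgroup.normalizer ((P : Subgroup G) : Set G)))) :
    ∃ (e : α ≃ ZMod p) (σ s : Equiv.Perm α), σ ∈ G ∧ s ∈ G ∧ (∀ a, e (σ a) = e a + 1) ∧
      (∀ a, e (s a) = - e a) := by
  classical
  have hp : p.Prime := Fact.out
  obtain ⟨e, σ, hσG, hσ⟩ := exists_equiv_zmod hα G
  have hpow : ∀ k : ℕ, ∀ a, e ((σ ^ k) a) = e a + k := by
    intro k
    induction k with
    | zero => intro a; simp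
    | succ k ih =>
      intro a
      rw [pow_succ', Equiv.Perm.mul_apply, hσ, ih]
      push_cast
      ring
  have hord : orderOf (⟨σ, hσG⟩ : G) = p := by
    rw [← Subgroup.orderOf_coe]
    apply orderOf_eq_prime
    · ext a
      apply e.injective
      rw [hpow]
      simp
    · intro h
      have h' : σ = 1 := h
      have := hσ (e.symm 0)
      rw [h'] at this
      simp at this
  have hQ : IsPGroup p (Subgroup.zpowers (⟨σ, hσG⟩ : G)) := by
    apply IsPGroup.of_card (n := 1)
    rw [Nat.card_zpowers, hord, pow_one]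
  obtain ⟨P', hP'⟩ := hQ.exists_le_sylow
  have hP'eq : (P' : Subgroup G) = Subgroup.zpowers (⟨σ, hσG⟩ : G) := by
    symm
    apply Subgroup.eq_of_le_of_card_ge hP'
    rw [card_sylow hα G P', Nat.card_zpowers, hord]
  have hcard : Even (Nat.card (Subgroup.normalizer ((P' : Subgroup G) : Set G))) := by
    have h1 : (Subgroup.normalizer ((P : Subgroup G) : Set G)).index =
        (Subgroup.normalizer ((P' : Subgroup G) : Set G)).index := by
      have h2 := P.card_eq_index_normalizer
      have h3 := P'.card_eq_index_normalizer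
      exact h2.symm.trans h3
    have h4 := Subgroup.card_mul_index (Subgroup.normalizer ((P : Subgroup G) : Set G))
    have h5 := Subgroup.card_mul_index (Subgroup.normalizer ((P' : Subgroup G) : Set G))
    rw [← h4, ← h1] at h5
    have h6 : (Subgroup.normalizer ((P : Subgroup G) : Set G)).index ≠ 0 :=
      Subgroup.index_ne_zero_of_finite
    rw [Nat.eq_of_mul_eq_mul_right (Nat.pos_of_ne_zero h6) h5]
    exact heven
  rw [hP'eq] at hcard
  obtain ⟨⟨s₀, hs₀⟩, hs₀ord⟩ := exists_prime_orderOf_dvd_card' 2 hcard.two_dvd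
  have hs₀ord' : orderOf s₀ = 2 := by
    rw [← hs₀ord]
    exact Subgroup.orderOf_mk s₀ hs₀ |>.symm
  obtain ⟨s₁, hs₁⟩ := s₀
  have hs₁ord : orderOf s₁ = 2 := by
    rw [← hs₀ord']
    exact Subgroup.orderOf_mk s₁ hs₁ |>.symm
  -- s₁ σ s₁⁻¹ = σ ^ k
  have hconj : ∃ k : ℕ, s₁ * σ * s₁⁻¹ = σ ^ k := by
    have h1 := (Subgroup.mem_normalizer_iff.1 hs₀ (⟨σ, hσG⟩ : G)).1 (Subgroup.mem_zpowers _)
    rw [mem_zpowers_iff_mem_range_orderOf, Finset.mem_image] at h1
    obtain ⟨k, -, hk⟩ := h1
    exact ⟨k, (congrArg Subtype.val hk).symm⟩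
  obtain ⟨k, hk⟩ := hconj
  have hsq : s₁ * s₁ = 1 := by
    rw [← pow_two, ← hs₁ord, pow_orderOf_eq_one]
  have hsσ : ∀ a, s₁ (σ a) = (σ ^ k) (s₁ a) := by
    intro a
    rw [← hk]
    simp
  set b : ZMod p := e (s₁ (e.symm 0)) with hb
  have haff : ∀ n : ℕ, e (s₁ (e.symm n)) = k * n + b := by
    intro n
    induction n with
    | zero => simp [hb]
    | succ n ih =>
      have h1 : e.symm ((n + 1 : ℕ) : ZMod p) = σ (e.symm n) := by
        rw [e.symm_apply_eq, hσ]
        simp
      rw [h1, hsσ, hpow, ih]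
      push_cast
      ring
  have haff' : ∀ a, e (s₁ a) = k * e a + b := by
    intro a
    have := haff (e a).val
    rw [ZMod.natCast_val, ZMod.cast_id] at this
    simpa using this
  have hss : ∀ a, s₁ (s₁ a) = a := fun a => by
    rw [← Equiv.Perm.mul_apply, hsq]; rfl
  have hk2 : ∀ x : ZMod p, (k : ZMod p) * (k * x + b) + b = x := by
    intro x
    have := haff' (s₁ (e.symm x))
    rw [hss, haff'] at this
    simpa using this.symm
  have hkb : (k : ZMod p) * b + b = 0 := by
    have := hk2 0
    simpa using this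
  have hkk : (k : ZMod p) * k = 1 := by
    have := hk2 1
    linear_combination this - hkb
  have h2 : (2 : ZMod p) ≠ 0 := by
    intro h
    have h3 : ((2 : ℕ) : ZMod p) = 0 := by exact_mod_cast h
    rw [ZMod.natCast_eq_zero_iff] at h3
    exact hp2 ((Nat.prime_dvd_prime_iff_eq hp Nat.prime_two).1 h3)
  have hk1 : (k : ZMod p) = -1 := by
    have h3 : ((k : ZMod p) - 1) * (k + 1) = 0 := by linear_combination hkk
    rcases mul_eq_zero.1 h3 with h4 | h4
    · exfalso
      have h5 : (k : ZMod p) = 1 := by linear_combination h4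
      rw [h5] at hkb haff'
      have h6 : b = 0 := by
        have : 2 * b = 0 := by linear_combination hkb
        exact (mul_eq_zero.1 this).resolve_left h2
      have h7 : s₁ = 1 := by
        ext a
        apply e.injective
        rw [haff', h6]
        simp
      rw [h7, orderOf_one] at hs₁ord
      omega
    · linear_combination h4
  obtain ⟨τ, hτG, hτ⟩ := exists_translation G e σ hσG hσ (-b)
  refine ⟨e, σ, τ * s₁, hσG, G.mul_mem hτG hs₁, hσ, fun a => ?_⟩
  rw [Equiv.Perm.mul_apply, hτ, haff', hk1]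
  ring

end Cfsg.Agent.PermutationGroups.PrimeInvolution
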