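import Mathlib.Algebra.Algebra.ZMod
import Mathlib.Algebra.Field.ZMod
import Mathlib.FieldTheory.Finiteness
import Mathlib.LinearAlgebra.FreeModule.Finite.Matrix
import Mathlib.LinearAlgebra.FreeModule.PID
import Mathlib.LinearAlgebra.Matrix.FiniteDimensional
import Mathlib.RingTheory.IntegralDomain
import Mathlib.RingTheory.LittleWedderburn
import Mathlib.GroupTheory.GroupAction.ConjAct
import Mathlib.Tactic

set_option autoImplicit false

namespace Cfsg.Agent.PermutationGroups.RegularCount

open Module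

variable {p : ℕ} [Fact p.Prime] {V : Type*} [AddCommGroup V] [Module (ZMod p) V] [Finite V]

/-- `H` a group of linear maps of a finite vector space acting freely on the non-zero vectors and `N` a
non-commutative subgroup acting irreducibly.  Then `|V| = q ^ m` where `q = p ^ d` is the number of elements of the
field of endomorphisms commuting with `N`, `m ≥ 2` and the centraliser of `N` is cyclic of order dividing `q - 1`. -/
theorem exists_count (H : Subgroup (V ≃ₗ[ZMod p] V))
    (hfree : ∀ h : H, ∀ v : V, v ≠ 0 → (h : V ≃ₗ[ZMod p] V) v = v → h = 1)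
    (N : Subgroup H) (hNna : ¬ IsMulCommutative N)
    (hirr : ∀ W : Submodule (ZMod p) V,
      (∀ n ∈ N, ∀ v ∈ W, ((n : H) : V ≃ₗ[ZMod p] V) v ∈ W) → W = ⊥ ∨ W = ⊤) :
    ∃ d m : ℕ, 0 < d ∧ 2 ≤ m ∧ Nat.card V = (p ^ d) ^ m ∧
      Nat.card (Subgroup.centralizer (N : Set H)) ∣ p ^ d - 1 ∧
      IsCyclic (Subgroup.centralizer (N : Set H)) := by
  classical
  -- `V` is nontrivial
  have hVnt : Nontrivial V := by
    by_contra h
    rw [not_nontrivial_iff_subsingleton] at h
    apply hNna
    refine ⟨⟨fun a b => ?_⟩⟩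
    apply Subtype.ext
    apply Subtype.ext
    ext v
    exact Subsingleton.elim _ _
  obtain ⟨u, hu⟩ := exists_ne (0 : V)
  set S : Set (End (ZMod p) V) :=
    (fun n : H => ((n : V ≃ₗ[ZMod p] V) : End (ZMod p) V)) '' (N : Set H) with hS
  set D : Subalgebra (ZMod p) (End (ZMod p) V) := Subalgebra.centralizer (ZMod p) S with hDdef
  have hD : ∀ k ∈ D, ∀ n ∈ N, ∀ v : V, k ((n : V ≃ₗ[ZMod p] V) v) = (n : V ≃ₗ[ZMod p] V) (k v) := by
    intro k hk n hn v
    have h1 := (Subalgebra.mem_centralizer_iff (ZMod p)).1 hk _ (⟨n, hn, rfl⟩ : _ ∈ S)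
    exact (DFunLike.congr_fun h1 v).symm
  have hinj : ∀ k ∈ D, k ≠ 0 → ∀ v : V, k v = 0 → v = 0 := by
    intro k hk hk0 v hv
    rcases hirr (LinearMap.ker k) (by
      intro n hn v hv
      rw [LinearMap.mem_ker] at hv ⊢
      rw [hD k hk n hn, hv, map_zero]) with h | h
    · have : v ∈ LinearMap.ker k := hv
      rw [h] at this
      simpa using this
    · exact absurd (LinearMap.ker_eq_top.1 h) hk0
  have hDnt : Nontrivial D := inferInstance
  have hDnz : NoZeroDivisors D := by
    refine ⟨fun {a b} hab => ?_⟩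
    by_contra hcon
    push Not at hcon
    obtain ⟨ha, hb⟩ := hcon
    have hab' : (a : End (ZMod p) V) * b = 0 := congrArg Subtype.val hab
    have h1 : (a : End (ZMod p) V) ((b : End (ZMod p) V) u) = 0 := DFunLike.congr_fun hab' u
    have h2 := hinj a a.2 (fun h => ha (Subtype.ext h)) _ h1
    exact hu (hinj b b.2 (fun h => hb (Subtype.ext h)) _ h2)
  have hDdom : IsDomain D := NoZeroDivisors.to_isDomain D
  have hfE : Finite (End (ZMod p) V) :=
    Finite.of_injective (fun f : End (ZMod p) V => (f : V → V)) DFunLike.coe_injective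
  have hfD : Finite D := inferInstance
  have hfld : IsField D := Finite.isDomain_to_isField D
  have hDcomm : ∀ a ∈ D, ∀ b ∈ D, a * b = b * a := by
    intro a ha b hb
    exact congrArg Subtype.val (hfld.mul_comm ⟨a, ha⟩ ⟨b, hb⟩)
  let _ : Field D := hfld.toField
  have hfDV : Module.Finite D V := Module.Finite.of_finite
  have hcardV : Nat.card V = Nat.card D ^ finrank D V := Module.natCard_eq_pow_finrank
  have hcardD : Nat.card D = p ^ finrank (ZMod p) D := by
    rw [Module.natCard_eq_pow_finrank (K := ZMod p), Nat.card_zmod]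
  have hdpos : 0 < finrank (ZMod p) D := finrank_pos
  refine ⟨finrank (ZMod p) D, finrank D V, hdpos, ?_, ?_, ?_, ?_⟩
  · by_contra hlt
    push Not at hlt
    have hpos : 0 < finrank D V := finrank_pos
    have h1 : finrank D V = 1 := by omega
    obtain ⟨v, hv, hspan⟩ := finrank_eq_one_iff'.1 h1
    apply hNna
    refine ⟨⟨fun a b => ?_⟩⟩
    obtain ⟨c, hc⟩ := hspan (((a : H) : V ≃ₗ[ZMod p] V) v)
    obtain ⟨d, hd⟩ := hspan (((b : H) : V ≃ₗ[ZMod p] V) v)
    have hc' : (c : End (ZMod p) V) v = ((a : H) : V ≃ₗ[ZMod p] V) v := hc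
    have hd' : (d : End (ZMod p) V) v = ((b : H) : V ≃ₗ[ZMod p] V) v := hd
    have e1 : ((a : H) : V ≃ₗ[ZMod p] V) (((b : H) : V ≃ₗ[ZMod p] V) v) =
        ((b : H) : V ≃ₗ[ZMod p] V) (((a : H) : V ≃ₗ[ZMod p] V) v) := by
      rw [← hc', ← hd', ← hD d d.2 a a.2, ← hD c c.2 b b.2, ← hc', ← hd']
      have := hDcomm d d.2 c c.2
      exact DFunLike.congr_fun this v
    have e2 := hfree ((a * b)⁻¹ * (b * a) : N) v hv (by
      have : (((a * b)⁻¹ * (b * a) : N) : H).1 v =
        (((a : H) : V ≃ₗ[ZMod p] V) * ((b : H) : V ≃ₗ[ZMod p] V)).symm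
          (((b : H) : V ≃ₗ[ZMod p] V) (((a : H) : V ≃ₗ[ZMod p] V) v)) := rfl
      rw [this, ← e1]
      exact LinearEquiv.symm_apply_apply
        (((a : H) : V ≃ₗ[ZMod p] V) * ((b : H) : V ≃ₗ[ZMod p] V)) v)
    have e3 : (a * b)⁻¹ * (b * a) = 1 := Subtype.ext e2
    exact (inv_mul_eq_one.1 e3)
  · rw [hcardV, hcardD]
  · -- the centraliser embeds into the multiplicative group of `D`
    let f : Subgroup.centralizer (N : Set H) →* D :=
      { toFun := fun c => ⟨((c : H) : V ≃ₗ[ZMod p] V), by
          rw [hDdef, Subalgebra.mem_centralizer_iff]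
          rintro _ ⟨n, hn, rfl⟩
          have h1 := Subgroup.mem_centralizer_iff.1 c.2 n hn
          have h2 : (n : V ≃ₗ[ZMod p] V) * ((c : H) : V ≃ₗ[ZMod p] V) =
            ((c : H) : V ≃ₗ[ZMod p] V) * (n : V ≃ₗ[ZMod p] V) := congrArg Subtype.val h1
          ext v
          exact DFunLike.congr_fun h2 v⟩
        map_one' := rfl
        map_mul' := fun a b => rfl }
    have hf : Function.Injective f := by
      intro a b hab
      have h1 : (((a : H) : V ≃ₗ[ZMod p] V) : End (ZMod p) V) = ((b : H) : V ≃ₗ[ZMod p] V) :=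
        congrArg Subtype.val hab
      apply Subtype.ext
      apply Subtype.ext
      ext v
      exact DFunLike.congr_fun h1 v
    have hfu : Function.Injective f.toHomUnits := by
      intro a b hab
      apply hf
      exact congrArg Units.val hab
    have h1 : Nat.card (Subgroup.centralizer (N : Set H)) ∣ Nat.card Dˣ :=
      Subgroup.card_dvd_of_injective _ hfu
    rw [← hcardD]
    rwa [Nat.card_units] at h1
  · let f : Subgroup.centralizer (N : Set H) →* D :=
      { toFun := fun c => ⟨((c : H) : V ≃ₗ[ZMod p] V), by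
          rw [hDdef, Subalgebra.mem_centralizer_iff]
          rintro _ ⟨n, hn, rfl⟩
          have h1 := Subgroup.mem_centralizer_iff.1 c.2 n hn
          have h2 : (n : V ≃ₗ[ZMod p] V) * ((c : H) : V ≃ₗ[ZMod p] V) =
            ((c : H) : V ≃ₗ[ZMod p] V) * (n : V ≃ₗ[ZMod p] V) := congrArg Subtype.val h1
          ext v
          exact DFunLike.congr_fun h2 v⟩
        map_one' := rfl
        map_mul' := fun a b => rfl }
    have hf : Function.Injective f := by
      intro a b hab
      have h1 : (((a : H) : V ≃ₗ[ZMod p] V) : End (ZMod p) V) = ((b : H) : V ≃ₗ[ZMod p] V) :=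
        congrArg Subtype.val hab
      apply Subtype.ext
      apply Subtype.ext
      ext v
      exact DFunLike.congr_fun h1 v
    have hfH : Finite (V ≃ₗ[ZMod p] V) :=
      Finite.of_injective (fun f : V ≃ₗ[ZMod p] V => (f : V → V)) DFunLike.coe_injective
    exact isCyclic_of_injective_ringHom f hf

/-- The order of a group acting regularly on the non-zero vectors. -/
theorem card_add_one [Nontrivial V] (H : Subgroup (V ≃ₗ[ZMod p] V))
    (hreg : ∀ v w : V, v ≠ 0 → w ≠ 0 → ∃! h : H, (h : V ≃ₗ[ZMod p] V) v = w) :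
    Nat.card H + 1 = Nat.card V := by
  classical
  obtain ⟨v, hv0⟩ := exists_ne (0 : V)
  have hfH : Finite (V ≃ₗ[ZMod p] V) :=
    Finite.of_injective (fun f : V ≃ₗ[ZMod p] V => (f : V → V)) DFunLike.coe_injective
  have e : H ≃ {v : V // v ≠ 0} := by
    refine Equiv.ofBijective (fun h => ⟨(h : V ≃ₗ[ZMod p] V) v, ?_⟩) ⟨?_, ?_⟩
    · intro h0
      exact hv0 ((LinearEquiv.map_eq_zero_iff _).1 h0)
    · intro h h' hh
      have hh' : (h : V ≃ₗ[ZMod p] V) v = (h' : V ≃ₗ[ZMod p] V) v := congrArg Subtype.val hh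
      have hne : (h' : V ≃ₗ[ZMod p] V) v ≠ 0 := by
        intro h0
        exact hv0 ((LinearEquiv.map_eq_zero_iff _).1 h0)
      exact (hreg v _ hv0 hne).unique hh' rfl
    · rintro ⟨u, hu⟩
      obtain ⟨h, hh, _⟩ := hreg v u hv0 hu
      exact ⟨h, Subtype.ext hh⟩
  rw [Nat.card_congr e, ← Finite.card_option]
  exact Nat.card_congr ((Equiv.optionSubtype (0 : V)).symm (Equiv.refl _)).1


omit [Finite V] in
theorem eq_one_of_reg (H : Subgroup (V ≃ₗ[ZMod p] V))
    (hreg : ∀ v w : V, v ≠ 0 → w ≠ 0 → ∃! h : H, (h : V ≃ₗ[ZMod p] V) v = w) :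
    ∀ h : H, ∀ v : V, v ≠ 0 → (h : V ≃ₗ[ZMod p] V) v = v → h = 1 := by
  intro h v hv hh
  exact (hreg v v hv hv).unique hh rfl

/-- `[H : C_H(N)]` divides `|Aut N|` and is divisible by `[N : Z(N)]`. -/
theorem index_centralizer_dvd {G : Type*} [Group G] [Finite G] (N : Subgroup G) [hN : N.Normal] :
    (Subgroup.centralizer (N : Set G)).index ∣ Nat.card (MulAut N) := by
  have hker : (MulAut.conjNormal : G →* MulAut N).ker = Subgroup.centralizer (N : Set G) := by
    ext g
    rw [MonoidHom.mem_ker, Subgroup.mem_centralizer_iff]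
    constructor
    · intro h n hn
      have h1 := congrArg (fun f : MulAut N => ((f ⟨n, hn⟩ : N) : G)) h
      simp only [MulAut.conjNormal_apply, MulAut.one_apply] at h1
      rw [mul_inv_eq_iff_eq_mul] at h1
      exact h1.symm
    · intro h
      ext ⟨n, hn⟩
      rw [MulAut.conjNormal_apply, MulAut.one_apply, mul_inv_eq_iff_eq_mul]
      exact (h n hn).symm
  rw [← hker, Subgroup.index_ker]
  exact Subgroup.card_subgroup_dvd_card _

theorem index_center_dvd {G : Type*} [Group G] [Finite G] (N : Subgroup G) [hN : N.Normal] :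
    (Subgroup.center N).index ∣ (Subgroup.centralizer (N : Set G)).index := by
  have h1 : (Subgroup.centralizer (N : Set G)).subgroupOf N = Subgroup.center N := by
    ext ⟨n, hn⟩
    rw [Subgroup.mem_subgroupOf, Subgroup.mem_center_iff, Subgroup.mem_centralizer_iff]
    constructor
    · rintro h ⟨m, hm⟩
      exact Subtype.ext (h m hm)
    · intro h m hm
      exact congrArg Subtype.val (h ⟨m, hm⟩)
  rw [← h1]
  exact Subgroup.relIndex_dvd_index_of_normal _ _

end Cfsg.Agent.PermutationGroups.RegularCount
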