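import Mathlib

/-!
# The swapping involution of a sharply 3-transitive group is inversion
-/

set_option autoImplicit false

namespace Cfsg.Agent.PermutationGroups.SharpThreeOddField

/-- A multiplicative involution `τ` of a field of characteristic not two with fixed points `1`, `-1`
only, satisfying `τ (1 + τ y) = 1 - τ (1 + y)`, is inversion. -/
theorem eq_inv {K : Type*} [Field K] (h2 : (2 : K) ≠ 0) (τ : K → K)
    (hτ0 : ∀ y, y ≠ 0 → τ y ≠ 0) (hττ : ∀ y, y ≠ 0 → τ (τ y) = y)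
    (hmul : ∀ x y, x ≠ 0 → y ≠ 0 → τ (x * y) = τ x * τ y)
    (hfix : ∀ y, y ≠ 0 → τ y = y → y = 1 ∨ y = -1) (hneg : τ (-1) = -1)
    (hrel : ∀ y, y ≠ 0 → y ≠ -1 → τ (1 + τ y) = 1 - τ (1 + y)) (y : K) (hy : y ≠ 0) :
    τ y = y⁻¹ := by
  have h1 : τ 1 = 1 := by
    have h := hmul 1 1 one_ne_zero one_ne_zero
    rw [mul_one] at h
    have h3 : τ 1 * (τ 1 - 1) = 0 := by rw [mul_sub, ← h, mul_one, sub_self]
    rcases mul_eq_zero.1 h3 with h4 | h4
    · exact absurd h4 (hτ0 1 one_ne_zero)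
    · exact sub_eq_zero.1 h4
  have hinv : ∀ x, x ≠ 0 → τ x⁻¹ = (τ x)⁻¹ := by
    intro x hx
    have h := hmul x x⁻¹ hx (inv_ne_zero hx)
    rw [mul_inv_cancel₀ hx, h1] at h
    exact eq_inv_of_mul_eq_one_right h.symm
  have hχ : ∀ x, x ≠ 0 → x * τ x = 1 ∨ x * τ x = -1 := by
    intro x hx
    refine hfix _ (mul_ne_zero hx (hτ0 x hx)) ?_
    rw [hmul _ _ hx (hτ0 x hx), hττ x hx, mul_comm]
  have hχneg : ∀ x, x ≠ 0 → x * τ x = 1 → (-x) * τ (-x) = 1 := by
    intro x hx h
    have h3 : τ (-x) = - τ x := by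
      have h4 := hmul (-1) x (by simp) hx
      rw [neg_one_mul, hneg, neg_one_mul] at h4
      exact h4
    rw [h3, neg_mul_neg, h]
  have hP : ∀ x, x ≠ 0 → x ≠ -1 → x * τ x = 1 → (1 + x) * τ (1 + x) = 1 := by
    intro x hx hx1 h
    have h3 : 1 + x ≠ 0 := by
      intro h4
      apply hx1
      linear_combination h4
    have h4 : τ x = x⁻¹ := eq_inv_of_mul_eq_one_right h
    have h5 := hrel x hx hx1
    have h6 : 1 + τ x = (1 + x) * x⁻¹ := by
      rw [h4]
      field_simp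
      ring
    rw [h6, hmul _ _ h3 (inv_ne_zero hx), hinv x hx, h4, inv_inv] at h5
    linear_combination h5
  have hP' : ∀ x, x ≠ 0 → x ≠ 1 → x * τ x = 1 → (x - 1) * τ (x - 1) = 1 := by
    intro x hx hx1 h
    have h3 := hP (-x) (neg_ne_zero.2 hx) (by simpa using hx1) (hχneg x hx h)
    have h4 : 1 + -x ≠ 0 := by
      intro h4
      apply hx1
      linear_combination -h4
    have h5 := hχneg _ h4 h3
    have h6 : -(1 + -x) = x - 1 := by ring
    rwa [h6] at h5
  rcases hχ y hy with h | h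
  · exact eq_inv_of_mul_eq_one_right h
  exfalso
  have hne : (1 : K) ≠ -1 := by
    intro h3
    apply h2
    linear_combination h3
  have hy1 : 1 + y ≠ 0 := by
    intro h3
    have h4 : y = -1 := by linear_combination h3
    rw [h4, hneg] at h
    apply hne
    linear_combination h
  have h3 : (1 + y) * τ (1 + y) = -1 := by
    rcases hχ (1 + y) hy1 with h3 | h3
    · exfalso
      have h4 := hP' (1 + y) hy1 (by simpa using hy) h3
      rw [add_sub_cancel_left] at h4
      exact hne (h4.symm.trans h)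
    · exact h3
  have h4 : ((1 + y) * y⁻¹) * τ ((1 + y) * y⁻¹) = 1 := by
    rw [hmul _ _ hy1 (inv_ne_zero hy), hinv y hy]
    have h5 : (1 + y) * y⁻¹ * (τ (1 + y) * (τ y)⁻¹) = ((1 + y) * τ (1 + y)) * (y * τ y)⁻¹ := by
      rw [mul_inv]
      ring
    rw [h5, h3, h]
    norm_num
  have h5 : (1 + y) * y⁻¹ ≠ 1 := by
    intro h5
    rw [mul_inv_eq_one₀ hy] at h5
    apply one_ne_zero (α := K)
    linear_combination h5
  have h6 := hP' _ (mul_ne_zero hy1 (inv_ne_zero hy)) h5 h4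
  have h7 : (1 + y) * y⁻¹ - 1 = y⁻¹ := by
    field_simp
    ring
  rw [h7, hinv y hy, ← mul_inv, h, inv_neg, inv_one] at h6
  exact hne h6.symm

end Cfsg.Agent.PermutationGroups.SharpThreeOddField
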