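import Mathlib

/-!
# Two lemmas for sharply 3-transitive groups of degree `p ^ f + 1`, `p` and `f` odd

* `exists_ne_zero_of_conj`: an odd-dimensional version of "no element is inverted".
* `comm_of_involution`: a finite group with an involutory automorphism fixing only `1` and the
  unique involution `z`, `z` outside the commutator subgroup, and no elements conjugate to their
  inverse except those with trivial square, is commutative.
-/

set_option autoImplicit false

namespace Cfsg.Agent.PermutationGroups.SharpThreeOddGroup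

open Module

/-- If `x` conjugates `n` to `n'` and `n'` to `n` in odd dimension, characteristic not 2, then `n`
and `n'` agree on some non-zero vector. -/
theorem exists_ne_zero_of_conj {F V : Type*} [Field F] [AddCommGroup V] [Module F V]
    [FiniteDimensional F V] (h2 : (2 : F) ≠ 0) (hodd : Odd (finrank F V)) (x n n' : V →ₗ[F] V)
    (hx : LinearMap.det x ≠ 0) (h1 : x * n = n' * x) (h1' : x * n' = n * x) :
    ∃ v : V, v ≠ 0 ∧ n v = n' v := by
  have h3 : x * (n - n') = -((n - n') * x) := by
    rw [mul_sub, sub_mul, h1, h1']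
    abel
  have h4 : LinearMap.det x * LinearMap.det (n - n') =
      -(LinearMap.det (n - n') * LinearMap.det x) := by
    rw [← map_mul, h3, ← map_mul]
    have h5 : -((n - n') * x) = (-1 : F) • ((n - n') * x) := by
      rw [neg_one_smul]
    rw [h5, LinearMap.det_smul, hodd.neg_one_pow, neg_one_mul]
  have h5 : LinearMap.det (n - n') = 0 := by
    have h6 : 2 * (LinearMap.det x * LinearMap.det (n - n')) = 0 := by
      rw [two_mul]
      nth_rewrite 1 [h4]
      ring
    rcases mul_eq_zero.1 h6 with h | h
    · exact absurd h h2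
    · rcases mul_eq_zero.1 h with h | h
      · exact absurd h hx
      · exact h
  have h6 := LinearMap.bot_lt_ker_of_det_eq_zero h5
  obtain ⟨v, hv, hv0⟩ := (Submodule.ne_bot_iff _).1 h6.ne'
  refine ⟨v, hv0, ?_⟩
  rw [LinearMap.mem_ker, LinearMap.sub_apply, sub_eq_zero] at hv
  exact hv

/-- See the module docstring. -/
theorem comm_of_involution {H : Type*} [Group H] [Finite H] (σ : H ≃* H)
    (hσ : ∀ h, σ (σ h) = h) (z : H) (hfix : ∀ h, σ h = h → h = 1 ∨ h = z)
    (hinvol : ∀ h : H, h * h = 1 → h = 1 ∨ h = z) (hz' : z ∉ commutator H)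
    (hreal : ∀ x n : H, x * n * x⁻¹ = n⁻¹ → n * n = 1) (a b : H) : a * b = b * a := by
  classical
  have := Fintype.ofFinite H
  have hM1 : ∀ n ∈ commutator H, n * n = 1 → n = 1 := by
    intro n hn hnn
    rcases hinvol n hnn with h | h
    · exact h
    · rw [h] at hn
      exact absurd hn hz'
  have hMσ : ∀ n ∈ commutator H, σ n ∈ commutator H := by
    intro n hn
    have h1 : (commutator H).map σ.toMonoidHom = commutator H :=
      Subgroup.characteristic_iff_map_eq.1 inferInstance σ
    rw [← h1]
    exact ⟨n, hn, rfl⟩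
  have hMfix : ∀ n ∈ commutator H, σ n = n → n = 1 := by
    intro n hn hnn
    rcases hfix n hnn with h | h
    · exact h
    · rw [h] at hn
      exact absurd hn hz'
  -- `σ` inverts the commutator subgroup
  have hinv : ∀ n ∈ commutator H, σ n = n⁻¹ := by
    let f : commutator H → commutator H := fun n =>
      ⟨(n : H)⁻¹ * σ n, mul_mem (inv_mem n.2) (hMσ n n.2)⟩
    have hf : Function.Injective f := by
      intro n k hnk
      have h1 : (n : H)⁻¹ * σ n = (k : H)⁻¹ * σ k := congrArg Subtype.val hnk
      have h2 : (k : H) * (n : H)⁻¹ = σ (k * (n : H)⁻¹) := by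
        rw [map_mul, map_inv]
        rw [eq_mul_inv_iff_mul_eq, mul_assoc, h1, mul_inv_cancel_left]
      have h3 := hMfix _ (mul_mem k.2 (inv_mem n.2)) h2.symm
      rw [mul_inv_eq_one] at h3
      exact Subtype.ext h3.symm
    have hf' := Finite.surjective_of_injective hf
    intro n hn
    obtain ⟨k, hk⟩ := hf' ⟨n, hn⟩
    have h1 : (k : H)⁻¹ * σ k = n := congrArg Subtype.val hk
    rw [← h1, map_mul, map_inv, hσ, mul_inv_rev, inv_inv]
  have hMab : ∀ n ∈ commutator H, ∀ k ∈ commutator H, n * k = k * n := by
    intro n hn k hk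
    have h1 := hinv _ (mul_mem hn hk)
    rw [map_mul, hinv n hn, hinv k hk, ← mul_inv_rev] at h1
    exact (inv_injective h1).symm
  -- the elements `h⁻¹ * σ h` centralise it
  have hcent : ∀ h : H, ∀ n ∈ commutator H, (h⁻¹ * σ h) * n = n * (h⁻¹ * σ h) := by
    intro h n hn
    have hn' : n⁻¹ ∈ commutator H := inv_mem hn
    have h1 := hinv (h * n⁻¹ * h⁻¹) (Subgroup.Normal.conj_mem inferInstance _ hn' h)
    rw [map_mul, map_mul, hinv _ hn', inv_inv, map_inv] at h1
    have h2 : (h * n⁻¹ * h⁻¹)⁻¹ = h * n * h⁻¹ := by group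
    rw [h2] at h1
    calc (h⁻¹ * σ h) * n = h⁻¹ * (σ h * n * (σ h)⁻¹) * σ h := by group
      _ = h⁻¹ * (h * n * h⁻¹) * σ h := by rw [h1]
      _ = n * (h⁻¹ * σ h) := by group
  set A : Subgroup H := Subgroup.closure (Set.range (fun h : H => h⁻¹ * σ h)) with hA
  have hAcent : ∀ x ∈ A, ∀ n ∈ commutator H, x * n = n * x := by
    intro x hx n hn
    induction hx using Subgroup.closure_induction with
    | mem x hx => obtain ⟨h, rfl⟩ := hx; exact hcent h n hn
    | one => rw [one_mul, mul_one]
    | mul x y _ _ hx hy => rw [mul_assoc, hy, ← mul_assoc, hx, mul_assoc]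
    | inv x _ hx => rw [inv_mul_eq_iff_eq_mul, ← mul_assoc, hx, mul_inv_cancel_right]
  -- `A` has index at most two
  have hsq : ∀ x : H, x * x ∈ A := by
    have hcard : Fintype.card H ≤ 2 * Nat.card A := by
      have h1 := Finset.card_le_mul_card_image (f := fun h : H => h⁻¹ * σ h)
        (Finset.univ : Finset H) 2 (by
          intro a ha
          obtain ⟨h, -, rfl⟩ := Finset.mem_image.1 ha
          have h2 : (Finset.univ.filter (fun k : H => k⁻¹ * σ k = h⁻¹ * σ h)) ⊆ {h, z * h} := by
            intro k hk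
            rw [Finset.mem_filter] at hk
            have h3 : σ (k * h⁻¹) = k * h⁻¹ := by
              rw [map_mul, map_inv, mul_inv_eq_iff_eq_mul, mul_assoc, ← hk.2, mul_inv_cancel_left]
            rw [Finset.mem_insert, Finset.mem_singleton]
            rcases hfix _ h3 with h4 | h4
            · left
              exact mul_inv_eq_one.1 h4
            · right
              exact mul_inv_eq_iff_eq_mul.1 h4
          exact (Finset.card_le_card h2).trans Finset.card_le_two)
      rw [Finset.card_univ] at h1
      refine h1.trans (Nat.mul_le_mul_left 2 ?_)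
      rw [Nat.card_eq_fintype_card, Fintype.card_subtype]
      apply Finset.card_le_card
      intro x hx
      obtain ⟨h, -, rfl⟩ := Finset.mem_image.1 hx
      rw [Finset.mem_filter]
      exact ⟨Finset.mem_univ _, Subgroup.subset_closure ⟨h, rfl⟩⟩
    have hidx : A.index = 1 ∨ A.index = 2 := by
      have h1 := A.index_mul_card
      have h2 : A.index ≠ 0 := Subgroup.index_ne_zero_of_finite
      have h3 : 0 < Nat.card A := Nat.card_pos
      rw [Nat.card_eq_fintype_card (α := H)] at h1
      rw [← h1] at hcard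
      have h4 := Nat.le_of_mul_le_mul_right hcard h3
      omega
    intro x
    rcases hidx with h | h
    · rw [Subgroup.index_eq_one] at h
      rw [h]
      exact Subgroup.mem_top _
    · exact Subgroup.mul_self_mem_of_index_two h x
  -- the commutator subgroup is central
  have hMc : ∀ n ∈ commutator H, ∀ x : H, x * n = n * x := by
    intro n hn x
    have hm : x * n * x⁻¹ * n⁻¹ ∈ commutator H :=
      mul_mem (Subgroup.Normal.conj_mem inferInstance _ hn x) (inv_mem hn)
    have hxn : x * n * x⁻¹ ∈ commutator H := Subgroup.Normal.conj_mem inferInstance _ hn x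
    have h1 : x * (x * n * x⁻¹ * n⁻¹) * x⁻¹ = (x * n * x⁻¹ * n⁻¹)⁻¹ := by
      have h2 : (x * x) * n = n * (x * x) := hAcent _ (hsq x) n hn
      have h3 : x * (x * n * x⁻¹ * n⁻¹) * x⁻¹ = ((x * x) * n) * (x * x)⁻¹ * (x * n * x⁻¹)⁻¹ := by
        group
      rw [h3, h2, mul_inv_cancel_right, mul_inv_rev _ n⁻¹, inv_inv]
    have h2 := hM1 _ hm (hreal x _ h1)
    rw [mul_inv_eq_one, mul_inv_eq_iff_eq_mul] at h2
    exact h2
  -- commutators of elements
  have hcom : ∀ x y : H, x * y * x⁻¹ * y⁻¹ ∈ commutator H := fun x y =>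
    Subgroup.commutator_mem_commutator (Subgroup.mem_top x) (Subgroup.mem_top y)
  -- if `x * x` commutes with `y` then `x` commutes with `y`
  have hroot : ∀ x y : H, (x * x) * y = y * (x * x) → x * y = y * x := by
    intro x y hxy
    set c := x * y * x⁻¹ * y⁻¹ with hc
    have hcM : c ∈ commutator H := hcom x y
    have h1 : x * y = c * y * x := by rw [hc]; group
    have h2 : c * c = 1 := by
      have h3 : x * x * y = c * c * (y * (x * x)) := by
        calc x * x * y = x * (x * y) := by group
          _ = (x * c) * y * x := by rw [h1]; group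
          _ = c * (x * y) * x := by rw [hMc c hcM x]; group
          _ = c * c * (y * (x * x)) := by rw [h1]; group
      rw [hxy] at h3
      exact (mul_eq_right.1 h3.symm)
    have h3 := hM1 c hcM h2
    rw [h1, h3, one_mul]
  -- the generators of `A` commute
  have hDcomm : ∀ h k : H, (h⁻¹ * σ h) * (k⁻¹ * σ k) = (k⁻¹ * σ k) * (h⁻¹ * σ h) := by
    intro h k
    set x := h⁻¹ * σ h with hx
    set y := k⁻¹ * σ k with hy
    have hσx : σ x = x⁻¹ := by rw [hx, map_mul, map_inv, hσ, mul_inv_rev, inv_inv]
    have hσy : σ y = y⁻¹ := by rw [hy, map_mul, map_inv, hσ, mul_inv_rev, inv_inv]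
    set c := x * y * x⁻¹ * y⁻¹ with hc
    have hcM : c ∈ commutator H := hcom x y
    have h1 : x * y = c * (y * x) := by rw [hc]; group
    have h2 : σ c = c := by
      have h3 : σ c = x⁻¹ * y⁻¹ * (x * y) := by
        rw [hc, map_mul, map_mul, map_mul, map_inv, map_inv, hσx, hσy]; group
      rw [h3, h1]
      calc x⁻¹ * y⁻¹ * (c * (y * x)) = x⁻¹ * (y⁻¹ * c) * y * x := by group
        _ = x⁻¹ * (c * y⁻¹) * y * x := by rw [hMc c hcM y⁻¹]
        _ = (x⁻¹ * c) * x := by group
        _ = c := by rw [hMc c hcM x⁻¹]; group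
    have h3 : c * c = 1 := by
      have h4 := hinv c hcM
      rw [h2] at h4
      exact mul_eq_one_iff_eq_inv.2 h4
    rw [h1, hM1 c hcM h3, one_mul]
  have hAab : ∀ x ∈ A, ∀ y ∈ A, x * y = y * x := by
    have h1 : ∀ k : H, ∀ x ∈ A, x * (k⁻¹ * σ k) = (k⁻¹ * σ k) * x := by
      intro k x hx
      induction hx using Subgroup.closure_induction with
      | mem x hx => obtain ⟨h, rfl⟩ := hx; exact hDcomm h k
      | one => rw [one_mul, mul_one]
      | mul x y _ _ hx hy => rw [mul_assoc, hy, ← mul_assoc, hx, mul_assoc]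
      | inv x _ hx => rw [inv_mul_eq_iff_eq_mul, ← mul_assoc, hx, mul_inv_cancel_right]
    intro x hx y hy
    induction hy using Subgroup.closure_induction with
    | mem y hy => obtain ⟨k, rfl⟩ := hy; exact h1 k x hx
    | one => rw [one_mul, mul_one]
    | mul y z _ _ hy hz => rw [← mul_assoc, hy, mul_assoc, hz, ← mul_assoc]
    | inv y _ hy => rw [mul_inv_eq_iff_eq_mul, mul_assoc, hy, inv_mul_cancel_left]
  -- `A` is central
  have hAc : ∀ x ∈ A, ∀ y : H, y * x = x * y := by
    intro x hx y
    exact hroot y x (hAab _ (hsq y) x hx)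
  exact hroot a b (hAc _ (hsq a) b).symm

end Cfsg.Agent.PermutationGroups.SharpThreeOddGroup
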