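import Mathlib

/-!
The regular normal abelian subgroup of a finite sharply 2-transitive group (elementary counting).
-/

set_option autoImplicit false

namespace Cfsg.Agent.PermutationGroups.SharplyTwoTransitive

/-- In a finite sharply 2-transitive group the identity and the fixed-point-free elements form a
regular normal abelian subgroup, all of whose non-identity elements are conjugate. -/
theorem exists_regular_normal {G α : Type*} [Group G] [MulAction G α] [Finite α] [Nontrivial α]
    (hT : ∀ a b c d : α, a ≠ b → c ≠ d → ∃ g : G, g • a = c ∧ g • b = d)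
    (hU : ∀ (g : G) (a b : α), a ≠ b → g • a = a → g • b = b → g = 1) :
    ∃ N : Subgroup G, N.Normal ∧ (∀ g : G, g ∈ N ↔ g = 1 ∨ ∀ a : α, g • a ≠ a) ∧
      (∀ x ∈ N, ∀ y ∈ N, x * y = y * x) ∧ (∀ a b : α, ∃ x ∈ N, x • a = b) ∧
      Nat.card N = Nat.card α ∧
      (∀ x ∈ N, ∀ y ∈ N, x ≠ 1 → y ≠ 1 → ∃ g : G, g * x * g⁻¹ = y) := by
  classical
  obtain ⟨a₀, b₀, hab⟩ := exists_pair_ne α
  have := Fintype.ofFinite α
  -- `G` is finite of order `n (n - 1)`
  have e : G ≃ {x : α × α // x ∈ (Finset.univ : Finset α).offDiag} := by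
    refine Equiv.ofBijective (fun g => ⟨(g • a₀, g • b₀), ?_⟩) ⟨?_, ?_⟩
    · simp [Finset.mem_offDiag, hab]
    · intro g h hgh
      have h1 : (g • a₀, g • b₀) = (h • a₀, h • b₀) := congrArg Subtype.val hgh
      rw [Prod.mk.injEq] at h1
      have := hU (h⁻¹ * g) a₀ b₀ hab (by rw [mul_smul, h1.1, inv_smul_smul])
        (by rw [mul_smul, h1.2, inv_smul_smul])
      exact (inv_mul_eq_one.mp this).symm
    · rintro ⟨⟨c, d⟩, hcd⟩
      rw [Finset.mem_offDiag] at hcd
      obtain ⟨g, hg1, hg2⟩ := hT a₀ b₀ c d hab hcd.2.2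
      exact ⟨g, Subtype.ext (Prod.ext hg1 hg2)⟩
  have : Finite G := Finite.of_equiv _ e.symm
  have := Fintype.ofFinite G
  set n := Fintype.card α with hn
  have hn2 : 2 ≤ n := by
    have := Fintype.one_lt_card (α := α)
    omega
  have hcG : Fintype.card G = n * (n - 1) := by
    rw [Fintype.card_congr e, Fintype.card_coe, Finset.offDiag_card, Finset.card_univ, ← hn]
    rw [Nat.mul_sub, mul_one]
  -- the fixed-point-free elements
  set F : Finset G := Finset.univ.filter (fun g => ∀ a : α, g • a ≠ a) with hF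
  have hmF : ∀ g : G, g ∈ F ↔ ∀ a : α, g • a ≠ a := fun g => by simp [hF]
  have h1F : (1 : G) ∉ F := by
    rw [hmF]; push Not; exact ⟨a₀, one_smul _ _⟩
  have htrans : MulAction.IsPretransitive G α := by
    refine ⟨fun a b => ?_⟩
    obtain ⟨c, hc⟩ := exists_ne a
    obtain ⟨d, hd⟩ := exists_ne b
    obtain ⟨g, hg, _⟩ := hT a c b d hc.symm hd.symm
    exact ⟨g, hg⟩
  have hcF : F.card = n - 1 := by
    have hB := MulAction.sum_card_fixedBy_eq_card_orbits_mul_card_group G α
    have hone : Fintype.card (Quotient (MulAction.orbitRel G α)) = 1 := by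
      have := (MulAction.pretransitive_iff_subsingleton_quotient G α).1 htrans
      have : Nonempty (Quotient (MulAction.orbitRel G α)) := ⟨Quotient.mk _ a₀⟩
      exact Fintype.card_eq_one_iff_nonempty_unique.2
        ⟨⟨⟨Quotient.mk _ a₀⟩, fun x => Subsingleton.elim _ _⟩⟩
    rw [hone, one_mul] at hB
    have hterm : ∀ g : G, ((Fintype.card (MulAction.fixedBy α g) : ℕ) : ℤ) - 1 =
        (if g = 1 then (n : ℤ) - 1 else 0) - (if g ∈ F then 1 else 0) := by
      intro g
      by_cases hg : g = 1
      · subst hg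
        rw [if_pos rfl, if_neg h1F, sub_zero]
        have : Fintype.card (MulAction.fixedBy α (1 : G)) = n := by
          rw [hn]
          refine Fintype.card_congr (Equiv.subtypeUnivEquiv ?_)
          intro x
          simp
        rw [this]
      · rw [if_neg hg]
        by_cases hgF : g ∈ F
        · rw [if_pos hgF]
          have : Fintype.card (MulAction.fixedBy α g) = 0 := by
            rw [Fintype.card_eq_zero_iff]
            exact ⟨fun x => (hmF g).1 hgF x.1 x.2⟩
          rw [this]; simp
        · rw [if_neg hgF]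
          have : Fintype.card (MulAction.fixedBy α g) = 1 := by
            rw [hmF] at hgF
            push Not at hgF
            obtain ⟨a, ha⟩ := hgF
            rw [Fintype.card_eq_one_iff]
            refine ⟨⟨a, ha⟩, fun y => ?_⟩
            by_contra hne
            exact hg (hU g y.1 a (fun h => hne (Subtype.ext h)) y.2 ha)
          rw [this]; simp
    have hsum : ∑ g : G, (((Fintype.card (MulAction.fixedBy α g) : ℕ) : ℤ) - 1) = 0 := by
      rw [Finset.sum_sub_distrib]
      have : (∑ g : G, ((Fintype.card (MulAction.fixedBy α g) : ℕ) : ℤ)) = Fintype.card G := by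
        rw [← hB]; push_cast; rfl
      rw [this]; simp
    rw [Finset.sum_congr rfl (fun g _ => hterm g), Finset.sum_sub_distrib] at hsum
    rw [Finset.sum_ite_eq' Finset.univ (1 : G) (fun _ => (n : ℤ) - 1)] at hsum
    simp only [Finset.mem_univ, if_true, Finset.sum_boole] at hsum
    have h3 : (Finset.univ.filter (fun g => g ∈ F)) = F := by ext; simp
    rw [h3] at hsum
    omega
  -- each fibre of conjugation has exactly `n` elements
  have hfib : ∀ x ∈ F, ∀ y ∈ F, (Finset.univ.filter (fun g : G => g * x * g⁻¹ = y)).card = n := by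
    intro x hx
    have hle : ∀ y ∈ F, (Finset.univ.filter (fun g : G => g * x * g⁻¹ = y)).card ≤ n := by
      intro y _
      rw [hn, ← Finset.card_univ]
      refine Finset.card_le_card_of_injOn (fun g => g • a₀) (fun _ _ => Finset.mem_univ _) ?_
      intro g hg h hh hgh
      simp only [Finset.coe_filter, Finset.mem_univ, true_and, Set.mem_ofPred_eq] at hg hh
      have hcom : (h⁻¹ * g) * x = x * (h⁻¹ * g) := by
        have : g * x * g⁻¹ = h * x * h⁻¹ := hg.trans hh.symm
        calc (h⁻¹ * g) * x = h⁻¹ * (g * x * g⁻¹) * g := by group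
          _ = h⁻¹ * (h * x * h⁻¹) * g := by rw [this]
          _ = x * (h⁻¹ * g) := by group
      have hfix : (h⁻¹ * g) • a₀ = a₀ := by
        have : g • a₀ = h • a₀ := hgh
        rw [mul_smul, this, inv_smul_smul]
      have := hU (h⁻¹ * g) a₀ (x • a₀) ((hmF x).1 hx a₀).symm hfix
        (by rw [← mul_smul, hcom, mul_smul, hfix])
      exact (inv_mul_eq_one.mp this).symm
    have hmap : ∀ g ∈ (Finset.univ : Finset G), g * x * g⁻¹ ∈ F := by
      intro g _
      rw [hmF] at hx ⊢
      intro a ha
      apply hx (g⁻¹ • a)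
      rw [mul_smul, mul_smul] at ha
      have := congrArg (fun t => g⁻¹ • t) ha
      simpa using this
    have hsum := Finset.card_eq_sum_card_fiberwise (f := fun g : G => g * x * g⁻¹) (t := F) hmap
    rw [Finset.card_univ, hcG] at hsum
    have hsum2 : ∑ y ∈ F, (Finset.univ.filter (fun g : G => g * x * g⁻¹ = y)).card = ∑ y ∈ F, n := by
      rw [← hsum, Finset.sum_const, hcF, smul_eq_mul, mul_comm]
    exact (Finset.sum_eq_sum_iff_of_le hle).1 hsum2
  have hconj : ∀ x ∈ F, ∀ y ∈ F, ∃ g : G, g * x * g⁻¹ = y := by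
    intro x hx y hy
    have := hfib x hx y hy
    have hpos : 0 < (Finset.univ.filter (fun g : G => g * x * g⁻¹ = y)).card := by omega
    obtain ⟨g, hg⟩ := Finset.card_pos.1 hpos
    exact ⟨g, by simpa using hg⟩
  -- centralisers
  have hcent : ∀ x ∈ F, ∀ g : G, g * x = x * g ↔ g = 1 ∨ g ∈ F := by
    intro x hx
    have hsub : (Finset.univ.filter (fun g : G => g * x * g⁻¹ = x)) ⊆ insert 1 F := by
      intro g hg
      simp only [Finset.mem_filter, Finset.mem_univ, true_and] at hg
      rw [Finset.mem_insert]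
      by_contra hcon
      push Not at hcon
      obtain ⟨h1, h2⟩ := hcon
      rw [hmF] at h2
      push Not at h2
      obtain ⟨a, ha⟩ := h2
      apply h1
      have hcom : g * x = x * g := by rw [← mul_inv_eq_iff_eq_mul]; exact hg
      exact hU g a (x • a) ((hmF x).1 hx a).symm ha (by rw [← mul_smul, hcom, mul_smul, ha])
    have heq : (Finset.univ.filter (fun g : G => g * x * g⁻¹ = x)) = insert 1 F := by
      apply Finset.eq_of_subset_of_card_le hsub
      rw [hfib x hx x hx, Finset.card_insert_of_notMem h1F, hcF]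
      omega
    intro g
    have : g ∈ (Finset.univ.filter (fun g : G => g * x * g⁻¹ = x)) ↔ g ∈ insert 1 F := by rw [heq]
    rw [Finset.mem_insert, Finset.mem_filter] at this
    rw [← this, ← mul_inv_eq_iff_eq_mul]
    simp
  have hFne : F.Nonempty := by
    rw [← Finset.card_pos, hcF]; omega
  obtain ⟨x₀, hx₀⟩ := hFne
  have hmN : ∀ g : G, g ∈ Subgroup.centralizer {x₀} ↔ g = 1 ∨ g ∈ F := by
    intro g
    rw [Subgroup.mem_centralizer_singleton_iff]
    exact hcent x₀ hx₀ g
  have hcN : Nat.card (Subgroup.centralizer {x₀} : Subgroup G) = n := by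
    have h1 : Nat.card (Subgroup.centralizer {x₀} : Subgroup G) = (insert 1 F : Finset G).card := by
      rw [← Fintype.card_coe, ← Nat.card_eq_fintype_card]
      refine Nat.card_congr (Equiv.subtypeEquivRight ?_)
      intro g
      rw [hmN, Finset.mem_insert]
    rw [h1, Finset.card_insert_of_notMem h1F, hcF]
    omega
  have hN1 : ∀ g ∈ Subgroup.centralizer {x₀}, ∀ a : α, g • a = a → g = 1 := by
    intro g hg a hga
    rcases (hmN g).1 hg with h | h
    · exact h
    · exact absurd hga ((hmF g).1 h a)
  refine ⟨Subgroup.centralizer {x₀}, ?_, ?_, ?_, ?_, ?_, ?_⟩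
  · refine ⟨fun x hx g => ?_⟩
    rw [hmN] at hx ⊢
    rcases hx with rfl | hx
    · left; group
    · right
      rw [hmF] at hx ⊢
      intro a ha
      apply hx (g⁻¹ • a)
      rw [mul_smul, mul_smul] at ha
      have := congrArg (fun t => g⁻¹ • t) ha
      simpa using this
  · intro g
    rw [hmN, hmF]
  · intro x hx y hy
    rw [hmN] at hx
    rcases hx with rfl | hx
    · rw [one_mul, mul_one]
    · rw [hmN] at hy
      exact ((hcent x hx y).2 hy).symm
  · intro a b
    have hinj : Function.Injective (fun g : (Subgroup.centralizer {x₀} : Subgroup G) => (g : G) • a) := by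
      intro g h hgh
      have hgh' : (g : G) • a = (h : G) • a := hgh
      have h1 : (h : G)⁻¹ * g = 1 := by
        refine hN1 _ (mul_mem (inv_mem h.2) g.2) a ?_
        rw [mul_smul, hgh', inv_smul_smul]
      exact Subtype.ext (inv_mul_eq_one.mp h1).symm
    have hbij := (Nat.bijective_iff_injective_and_card _).2
      ⟨hinj, by rw [hcN, Nat.card_eq_fintype_card]⟩
    obtain ⟨g, hg⟩ := hbij.2 b
    exact ⟨g, g.2, hg⟩
  · rw [hcN, Nat.card_eq_fintype_card]
  · intro x hx y hy hx1 hy1
    rw [hmN] at hx hy
    exact hconj x (hx.resolve_left hx1) y (hy.resolve_left hy1)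

end Cfsg.Agent.PermutationGroups.SharplyTwoTransitive
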