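import Mathlib
import Cfsg.Agent.PermutationGroups.SharplyTwoTransitive
import Cfsg.Agent.PermutationGroups.SharpThreeOddGroup

/-!
# Sharply 2-transitive groups of degree `p ^ f` with `p` and `f` odd: facts on point stabilisers
-/

set_option autoImplicit false

namespace Cfsg.Agent.PermutationGroups.SharpTwoOdd

open Module MulAction

universe u

theorem exists_rep_aux' {T V : Type u} [Group T] [AddCommGroup V] (p f : ℕ) [Fact p.Prime]
    [Module (ZMod p) V] (hcard : Nat.card V = p ^ f) (c : T → (V →+ V))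
    (hc1 : ∀ x, c 1 x = x) (hc : ∀ s t x, c (s * t) x = c s (c t x)) :
    ∃ (_ : FiniteDimensional (ZMod p) V)
      (ρ : T →* Module.End (ZMod p) V), finrank (ZMod p) V = f ∧
      ∀ (t : T) (n : V), ρ t n = c t n := by
  classical
  have hfin : Finite V := Nat.finite_of_card_ne_zero (by
    rw [hcard]; exact pow_ne_zero _ (Fact.out : p.Prime).ne_zero)
  have hfd : FiniteDimensional (ZMod p) V := Module.Finite.of_finite
  let φ : T → Module.End (ZMod p) V := fun t => AddMonoidHom.toZModLinearMap p (c t)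
  have hφ : ∀ t : T, ∀ x : V, φ t x = c t x := fun t x => rfl
  have hφ1 : φ 1 = 1 := by
    refine LinearMap.ext fun x => ?_
    rw [hφ, hc1]
    rfl
  have hφ2 : ∀ s t, φ (s * t) = (φ s) * (φ t) := by
    intro s t
    refine LinearMap.ext fun x => ?_
    rw [Module.End.mul_apply, hφ, hφ, hφ, hc]
  let ρ : T →* Module.End (ZMod p) V :=
    { toFun := φ
      map_one' := hφ1
      map_mul' := hφ2 }
  refine ⟨hfd, ρ, ?_, ?_⟩
  · have h1 : Nat.card V = Nat.card (ZMod p) ^ finrank (ZMod p) V :=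
      Module.natCard_eq_pow_finrank
    rw [hcard, Nat.card_zmod] at h1
    exact (Nat.pow_right_injective (Fact.out : p.Prime).two_le h1).symm
  · intro t n
    rfl

theorem exists_rep_aux {T A : Type u} [Group T] [CommGroup A] (p f : ℕ) [Fact p.Prime]
    (hexp : ∀ x : A, x ^ p = 1) (hcard : Nat.card A = p ^ f) (c : T → (A →* A))
    (hc1 : ∀ x, c 1 x = x) (hc : ∀ s t x, c (s * t) x = c s (c t x)) :
    ∃ (V : Type u) (_ : AddCommGroup V) (_ : Module (ZMod p) V) (_ : FiniteDimensional (ZMod p) V)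
      (ρ : T →* Module.End (ZMod p) V) (e : A ≃ V), finrank (ZMod p) V = f ∧ e 1 = 0 ∧
      ∀ (t : T) (n : A), ρ t (e n) = e (c t n) := by
  have i2 : Module (ZMod p) (Additive A) := AddCommGroup.zmodModule (n := p) (by
    intro x
    apply Additive.toMul.injective
    change (Additive.toMul x) ^ p = 1
    exact hexp _)
  have h2 : Nat.card (Additive A) = Nat.card A := Nat.card_congr Additive.toMul
  obtain ⟨i3, ρ, h3, h4⟩ := exists_rep_aux' (T := T) (V := Additive A) p f (h2.trans hcard)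
    (fun t => MonoidHom.toAdditive (c t)) hc1 hc
  exact ⟨Additive A, inferInstance, i2, i3, ρ, Additive.ofMul, h3, rfl, fun t n => h4 t n⟩

/-- The conjugation representation of a group on an elementary abelian normal subgroup. -/
theorem exists_rep {T : Type u} [Group T] (N : Subgroup T) [N.Normal] (p f : ℕ) [Fact p.Prime]
    (hNc : ∀ x ∈ N, ∀ y ∈ N, x * y = y * x) (hexp : ∀ x ∈ N, x ^ p = 1)
    (hcard : Nat.card N = p ^ f) :
    ∃ (V : Type u) (_ : AddCommGroup V) (_ : Module (ZMod p) V) (_ : FiniteDimensional (ZMod p) V)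
      (ρ : T →* Module.End (ZMod p) V) (e : N ≃ V), finrank (ZMod p) V = f ∧ e 1 = 0 ∧
      ∀ (t : T) (n : N), ρ t (e n) = e ⟨t * n * t⁻¹, Subgroup.Normal.conj_mem ‹_› _ n.2 t⟩ := by
  let _ : CommGroup N :=
    { N.toGroup with
      mul_comm := fun x y => Subtype.ext (hNc x x.2 y y.2) }
  obtain ⟨V, i1, i2, i3, ρ, e, h1, h2, h3⟩ := exists_rep_aux (T := T) (A := N) p f
    (fun x => Subtype.ext (hexp _ x.2)) hcard
    (fun t => { toFun := fun n => ⟨t * n * t⁻¹, Subgroup.Normal.conj_mem ‹_› _ n.2 t⟩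
                map_one' := Subtype.ext (by
                  change t * 1 * t⁻¹ = 1
                  group)
                map_mul' := fun a b => Subtype.ext (by
                  change t * (a * b) * t⁻¹ = t * a * t⁻¹ * (t * b * t⁻¹)
                  group) })
    (fun x => Subtype.ext (by
      change (1 : T) * x * 1⁻¹ = x
      group))
    (fun s t x => Subtype.ext (by
      change (s * t : T) * x * (s * t)⁻¹ = s * (t * x * t⁻¹) * s⁻¹
      group))
  exact ⟨V, i1, i2, i3, ρ, e, h1, h2, h3⟩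

/-- A group acting freely on an elementary abelian group of order `p ^ f`, `p` and `f` odd. -/
theorem free_facts {T : Type u} [Group T] (N : Subgroup T) [N.Normal] (p f : ℕ) [Fact p.Prime]
    (hp2 : p ≠ 2) (hf : Odd f)
    (hNc : ∀ x ∈ N, ∀ y ∈ N, x * y = y * x) (hexp : ∀ x ∈ N, x ^ p = 1)
    (hcard : Nat.card N = p ^ f) (H : Subgroup T)
    (hfree : ∀ h ∈ H, ∀ n ∈ N, n ≠ 1 → h * n * h⁻¹ = n → h = 1) :
    (∀ x n : H, x * n * x⁻¹ = n⁻¹ → n * n = 1) ∧
    (∀ a b : H, a * a = 1 → b * b = 1 → a ≠ 1 → b ≠ 1 → a = b) ∧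
    (∀ z : H, z * z = 1 → z ≠ 1 → z ∉ commutator H) := by
  obtain ⟨V, i1, i2, i3, ρ, e, hfr, he1, he⟩ := exists_rep N p f hNc hexp hcard
  have hp : p.Prime := Fact.out
  have h2p : (2 : ZMod p) ≠ 0 := by
    intro h
    have h1 : ((2 : ℕ) : ZMod p) = 0 := by exact_mod_cast h
    rw [ZMod.natCast_eq_zero_iff] at h1
    exact hp2 ((Nat.prime_dvd_prime_iff_eq hp Nat.prime_two).1 h1)
  have hfix : ∀ h ∈ H, ∀ v : V, v ≠ 0 → ρ h v = v → h = 1 := by
    intro h hh v hv hhv
    obtain ⟨n, rfl⟩ := e.surjective v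
    rw [he] at hhv
    have h1 := congrArg Subtype.val (e.injective hhv)
    refine hfree h hh n n.2 ?_ h1
    intro hn
    apply hv
    rw [← he1]
    congr 1
    exact Subtype.ext hn
  have hneg : ∀ a ∈ H, a * a = 1 → a ≠ 1 → ∀ v : V, ρ a v = -v := by
    intro a ha haa ha1 v
    have h1 : ρ a (v + ρ a v) = v + ρ a v := by
      rw [map_add, ← Module.End.mul_apply, ← map_mul, haa, map_one, Module.End.one_apply, add_comm]
    by_contra hcon
    apply ha1
    refine hfix a ha (v + ρ a v) ?_ h1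
    intro h2
    exact hcon (eq_neg_of_add_eq_zero_right h2)
  have hdet : ∀ a : T, LinearMap.det (ρ a) ≠ 0 := by
    intro a
    have h1 : IsUnit (LinearMap.det (ρ a)) := ((Group.isUnit a).map ρ).map LinearMap.det
    exact h1.ne_zero
  refine ⟨?_, ?_, ?_⟩
  · intro x n hxn
    have h1 : (x : T) * (n : T) * (x : T)⁻¹ = (n : T)⁻¹ := congrArg Subtype.val hxn
    have h2 : (x : T) * n = (n : T)⁻¹ * x := by
      rw [← h1]
      group
    have h3 : (x : T) * (n : T)⁻¹ = n * x := by
      have h5 : ((x : T) * (n : T) * (x : T)⁻¹)⁻¹ = n := by rw [h1, inv_inv]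
      calc (x : T) * (n : T)⁻¹ = ((x : T) * (n : T) * (x : T)⁻¹)⁻¹ * x := by group
        _ = n * x := by rw [h5]
    obtain ⟨v, hv, hnv⟩ := SharpThreeOddGroup.exists_ne_zero_of_conj h2p (by rw [hfr]; exact hf)
      (ρ x) (ρ n) (ρ (n : T)⁻¹) (hdet x) (by rw [← map_mul, ← map_mul, h2])
      (by rw [← map_mul, ← map_mul, h3])
    have h4 : ρ ((n : T) * n) v = v := by
      rw [map_mul, Module.End.mul_apply, hnv, ← Module.End.mul_apply, ← map_mul, mul_inv_cancel,
        map_one, Module.End.one_apply]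
    exact Subtype.ext (hfix _ (mul_mem n.2 n.2) v hv h4)
  · intro a b haa hbb ha hb
    have h1 : ∀ v : V, ρ ((a : T) * b) v = v := by
      intro v
      rw [map_mul, Module.End.mul_apply, hneg b b.2 (congrArg Subtype.val hbb)
        (fun h => hb (Subtype.ext h)), map_neg, hneg a a.2 (congrArg Subtype.val haa)
        (fun h => ha (Subtype.ext h)), neg_neg]
    have hpos : 0 < finrank (ZMod p) V := by rw [hfr]; exact hf.pos
    have hnt : Nontrivial V := Module.nontrivial_of_finrank_pos hpos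
    obtain ⟨v, hv⟩ := exists_ne (0 : V)
    have h2 := hfix _ (mul_mem a.2 b.2) v hv (h1 v)
    have h3 : a * b = 1 := Subtype.ext h2
    have h4 := eq_inv_of_mul_eq_one_left h3
    rw [h4]
    exact (eq_inv_of_mul_eq_one_left hbb).symm
  · intro z hzz hz hzc
    let δ : H →* (ZMod p)ˣ := (LinearMap.det.comp (ρ.comp H.subtype)).toHomUnits
    have h1 : z ∈ δ.ker := Abelianization.commutator_subset_ker δ hzc
    have h2 : LinearMap.det (ρ (z : T)) = 1 := congrArg Units.val (MonoidHom.mem_ker.1 h1)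
    have h3 : ρ (z : T) = (-1 : ZMod p) • LinearMap.id := by
      refine LinearMap.ext fun v => ?_
      rw [hneg z z.2 (congrArg Subtype.val hzz) (fun h => hz (Subtype.ext h)), LinearMap.smul_apply,
        neg_one_smul, LinearMap.id_apply]
    rw [h3, LinearMap.det_smul, LinearMap.det_id, mul_one, hfr, hf.neg_one_pow] at h2
    apply h2p
    calc (2 : ZMod p) = 1 + 1 := one_add_one_eq_two.symm
      _ = -1 + 1 := by rw [h2]
      _ = 0 := by ring

end Cfsg.Agent.PermutationGroups.SharpTwoOdd
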