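import Mathlib
import Cfsg.Agent.PermutationGroups.SharpThreeEvenMain
import Cfsg.Agent.PermutationGroups.SharpTwoOdd
import Cfsg.Agent.PermutationGroups.SharpThreeOddField

/-!
# Sharply 3-transitive groups of degree `p ^ f + 1`, `p` and `f` odd
-/

set_option autoImplicit false

namespace Cfsg.Agent.PermutationGroups.SharpThreeOddMain

open Equiv

universe u

/-- Sharply 2-transitive groups of degree `p ^ f`, `p` and `f` odd. -/
theorem two_facts {K : Type u} [Finite K] [Nontrivial K] (p f : ℕ) [Fact p.Prime]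
    (hp2 : p ≠ 2) (hf : Odd f) (hK : Nat.card K = p ^ f)
    (T : Subgroup (Perm K))
    (hT2 : ∀ a b a' b' : K, a ≠ b → a' ≠ b' → ∃ g ∈ T, g a = a' ∧ g b = b')
    (hTs : ∀ g ∈ T, ∀ a b : K, a ≠ b → g a = a → g b = b → g = 1) (o : K) :
    ∃ N : Subgroup (Perm K), N ≤ T ∧ (∀ x ∈ N, ∀ y ∈ N, x * y = y * x) ∧
      (∀ x, ∃ a ∈ N, a o = x) ∧ (∀ g ∈ T, ∀ a ∈ N, g * a * g⁻¹ ∈ N) ∧
      (∀ x n : MulAction.stabilizer T o, x * n * x⁻¹ = n⁻¹ → n * n = 1) ∧
      (∀ a b : MulAction.stabilizer T o, a * a = 1 → b * b = 1 → a ≠ 1 → b ≠ 1 → a = b) ∧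
      (∀ z : MulAction.stabilizer T o, z * z = 1 → z ≠ 1 →
        z ∉ commutator (MulAction.stabilizer T o)) := by
  have hsm : ∀ (g : T) (x : K), g • x = (g : Perm K) x := fun g x => rfl
  have hU : ∀ (g : T) (a b : K), a ≠ b → g • a = a → g • b = b → g = 1 := by
    intro g a b hab ha hb
    exact Subtype.ext (hTs g g.2 a b hab ha hb)
  obtain ⟨N, hNn, hNmem, hNc, hNt, hNcard, hNconj⟩ :=
    SharplyTwoTransitive.exists_regular_normal (G := T) (α := K)
      (by
        intro a b c d hab hcd
        obtain ⟨g, hg, h1, h2⟩ := hT2 a b c d hab hcd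
        exact ⟨⟨g, hg⟩, h1, h2⟩) hU
  have hp : p.Prime := Fact.out
  have hexp : ∀ x ∈ N, x ^ p = 1 := by
    have hfin : Finite N := Nat.finite_of_card_ne_zero (by
      rw [hNcard, hK]; exact pow_ne_zero _ hp.ne_zero)
    have hdvd : p ∣ Nat.card N := by
      rw [hNcard, hK]
      exact dvd_pow_self p hf.pos.ne'
    obtain ⟨x₀, hx₀⟩ := exists_prime_orderOf_dvd_card' p hdvd
    have hx1 : (x₀ : T) ^ p = 1 := by
      have h := pow_orderOf_eq_one x₀
      rw [hx₀] at h
      exact congrArg Subtype.val h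
    have hx2 : (x₀ : T) ≠ 1 := by
      intro h
      have h3 : x₀ = 1 := Subtype.ext h
      rw [h3, orderOf_one] at hx₀
      exact hp.one_lt.ne hx₀
    intro x hx
    by_cases hx3 : x = 1
    · rw [hx3, one_pow]
    · obtain ⟨g, hg⟩ := hNconj x₀ x₀.2 x hx hx2 hx3
      rw [← hg, conj_pow, hx1, mul_one, mul_inv_cancel]
  have hfree : ∀ h ∈ MulAction.stabilizer T o, ∀ n ∈ N, n ≠ 1 → h * n * h⁻¹ = n → h = 1 := by
    intro h hh n hn hn1 hc
    rw [MulAction.mem_stabilizer_iff] at hh
    have h1 : n • o ≠ o := by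
      rcases (hNmem n).1 hn with h2 | h2
      · exact absurd h2 hn1
      · exact h2 o
    refine hU h o (n • o) h1.symm hh ?_
    have h2 : h * n = n * h := by
      rw [mul_inv_eq_iff_eq_mul] at hc
      exact hc
    rw [← mul_smul, h2, mul_smul, hh]
  obtain ⟨hA, hB, hC⟩ := SharpTwoOdd.free_facts N p f hp2 hf hNc hexp (hNcard.trans hK)
    (MulAction.stabilizer T o) hfree
  refine ⟨N.map T.subtype, ?_, ?_, ?_, ?_, hA, hB, hC⟩
  · rintro _ ⟨x, _, rfl⟩
    exact x.2
  · rintro _ ⟨x, hx, rfl⟩ _ ⟨y, hy, rfl⟩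
    rw [← map_mul, hNc x hx y hy, map_mul]
  · intro x
    obtain ⟨a, ha, hax⟩ := hNt o x
    exact ⟨_, ⟨a, ha, rfl⟩, hax⟩
  · rintro g hg _ ⟨a, ha, rfl⟩
    exact ⟨⟨g, hg⟩ * a * ⟨g, hg⟩⁻¹, hNn.conj_mem a ha _, rfl⟩

/-- The structure of a sharply 3-transitive group of degree `p ^ f + 1`, `p` and `f` odd. -/
theorem core1 {K : Type u} [Fintype K] [Nontrivial K] (p f : ℕ) [Fact p.Prime]
    (hp2 : p ≠ 2) (hf : Odd f) (hK : Nat.card K = p ^ f)
    (G : Subgroup (Perm (Option K)))
    (h3 : ∀ a b c a' b' c' : Option K, a ≠ b → a ≠ c → b ≠ c → a' ≠ b' → a' ≠ c' → b' ≠ c' →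
      ∃ g ∈ G, g a = a' ∧ g b = b' ∧ g c = c')
    (hs : ∀ g ∈ G, ∀ a b c : Option K, a ≠ b → a ≠ c → b ≠ c → g a = a → g b = b → g c = c → g = 1) :
    ∃ F : Field K, (∀ b : K, ∃ g ∈ G, g none = none ∧ ∀ y : K, g (some y) = some (F.add b y)) ∧
      (∀ a : K, a ≠ F.zero → ∃ g ∈ G, g none = none ∧ ∀ y : K, g (some y) = some (F.mul a y)) ∧
      (∃ g ∈ G, g none = some F.zero ∧ g (some F.zero) = none ∧
        ∀ y : K, y ≠ F.zero → g (some y) = some (F.inv y)) := by
  classical
  obtain ⟨o, e, hoe'⟩ := exists_pair_ne K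
  have he : e ≠ o := hoe'.symm
  have hno : (none : Option K) ≠ some o := by simp
  have hne : (none : Option K) ≠ some e := by simp
  have hoe : (some o : Option K) ≠ some e := fun h => he (Option.some.inj h).symm
  -- The stabiliser as a group of permutations of `K`
  let T : Subgroup (Perm K) :=
    { carrier := {p | (Equiv.optionCongr p : Perm (Option K)) ∈ G}
      mul_mem' := by
        intro p q hp hq
        show Equiv.optionCongr (p * q) ∈ G
        rw [SharpThreeEvenMain.optionCongr_mul']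
        exact G.mul_mem hp hq
      one_mem' := by
        show Equiv.optionCongr (1 : Perm K) ∈ G
        rw [Equiv.optionCongr_one]
        exact G.one_mem
      inv_mem' := by
        intro p hp
        have : (Equiv.optionCongr p⁻¹ : Perm (Option K)) = (Equiv.optionCongr p : Perm (Option K))⁻¹ := by
          apply eq_inv_of_mul_eq_one_left
          rw [← SharpThreeEvenMain.optionCongr_mul', inv_mul_cancel, Equiv.optionCongr_one]
        show (Equiv.optionCongr p⁻¹ : Perm (Option K)) ∈ G
        rw [this]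
        exact G.inv_mem hp }
  have hTmem : ∀ p : Perm K, p ∈ T ↔ (Equiv.optionCongr p : Perm (Option K)) ∈ G := fun p => Iff.rfl
  have hlift : ∀ g ∈ G, g none = none → ∃ p ∈ T, (Equiv.optionCongr p : Perm (Option K)) = g := by
    intro g hg h
    have h1 := map_equiv_removeNone g
    rw [h, Equiv.swap_self] at h1
    have h2 : ((Equiv.refl (Option K) : Perm (Option K)) * g) = g := rfl
    rw [h2] at h1
    exact ⟨removeNone g, by rw [hTmem, h1]; exact hg, h1⟩
  have hT2 : ∀ a b a' b' : K, a ≠ b → a' ≠ b' → ∃ g ∈ T, g a = a' ∧ g b = b' := by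
    intro a b a' b' hab hab'
    obtain ⟨g, hg, h1, h2, h4⟩ := h3 none (some a) (some b) none (some a') (some b') (by simp)
      (by simp) (by simpa using hab) (by simp) (by simp) (by simpa using hab')
    obtain ⟨p, hp, hpg⟩ := hlift g hg h1
    refine ⟨p, hp, ?_, ?_⟩
    · rw [← hpg] at h2
      exact Option.some.inj h2
    · rw [← hpg] at h4
      exact Option.some.inj h4
  have hTs : ∀ g ∈ T, ∀ a b : K, a ≠ b → g a = a → g b = b → g = 1 := by
    intro g hg a b hab ha hb
    have h1 := hs _ hg none (some a) (some b) (by simp) (by simp) (by simpa using hab) rfl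
      (congrArg some ha) (congrArg some hb)
    rw [← Equiv.optionCongr_one] at h1
    exact Equiv.optionCongr_injective h1
  obtain ⟨N, hNT, hNc, hNt, hTN, hA, hB, hC⟩ := two_facts p f hp2 hf hK T hT2 hTs o
  -- the swapping involution
  obtain ⟨t, htG, ht1, ht2, ht3⟩ := h3 none (some o) (some e) (some o) none (some e) hno hne hoe
    hno.symm hoe hne
  have htt : t * t = 1 := by
    apply hs _ (G.mul_mem htG htG) _ _ _ hno hne hoe
    · rw [Perm.mul_apply, ht1, ht2]
    · rw [Perm.mul_apply, ht2, ht1]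
    · rw [Perm.mul_apply, ht3, ht3]
  have htt' : ∀ x, t (t x) = x := by
    intro x
    rw [← Perm.mul_apply, htt, Perm.one_apply]
  have htne : t ≠ 1 := by
    intro h
    rw [h] at ht1
    exact hno ht1
  -- the two fixed points of `t`
  obtain ⟨e', he'e, hte'⟩ : ∃ e' : K, e' ≠ e ∧ t (some e') = some e' := by
    have hpar := SharpEven.card_fixed_mod_two t htt
    have hodd : Odd (Fintype.card K) := by
      rw [← Nat.card_eq_fintype_card, hK]
      exact ((Fact.out : p.Prime).odd_of_ne_two hp2).pow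
    have h6 : Fintype.card (Option K) % 2 = 0 := by
      rw [Fintype.card_option]
      rcases hodd with ⟨k, hk⟩
      omega
    rw [h6] at hpar
    have h7 : 1 < (Finset.univ.filter (fun y => t y = y)).card := by
      have h8 : 0 < (Finset.univ.filter (fun y => t y = y)).card :=
        Finset.card_pos.2 ⟨some e, by simp [ht3]⟩
      omega
    obtain ⟨x, hx, hxe⟩ := Finset.exists_mem_ne h7 (some e)
    rw [Finset.mem_filter] at hx
    cases x with
    | none =>
      rw [ht1] at hx
      exact absurd hx.2 (by simp)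
    | some x =>
      exact ⟨x, fun h => hxe (by rw [h]), hx.2⟩
  have htfix : ∀ x : Option K, t x = x → x = some e ∨ x = some e' := by
    intro x hx
    by_contra hcon
    push Not at hcon
    apply htne
    exact hs t htG x (some e) (some e') hcon.1 hcon.2 (by simpa using he'e.symm) hx ht3 hte'
  have he'o : e' ≠ o := by
    intro h
    rw [h, ht2] at hte'
    exact absurd hte' (by simp)
  -- the automorphism `σ` of the two point stabiliser
  have hσex : ∀ h : MulAction.stabilizer T o, ∃ k : MulAction.stabilizer T o,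
      (Equiv.optionCongr ((k : T) : Perm K) : Perm (Option K)) =
        t * Equiv.optionCongr ((h : T) : Perm K) * t := by
    intro h
    have hh0 : ((h : T) : Perm K) o = o := h.2
    obtain ⟨q, hq, hqq⟩ := hlift (t * Equiv.optionCongr ((h : T) : Perm K) * t)
      (G.mul_mem (G.mul_mem htG (h : T).2) htG) (by
        rw [Perm.mul_apply, Perm.mul_apply, ht1]
        change t (some (((h : T) : Perm K) o)) = none
        rw [hh0, ht2])
    refine ⟨⟨⟨q, hq⟩, ?_⟩, hqq⟩
    rw [MulAction.mem_stabilizer_iff]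
    change q o = o
    have h4 : (Equiv.optionCongr q : Perm (Option K)) (some o) = some o := by
      rw [hqq, Perm.mul_apply, Perm.mul_apply, ht2]
      change t none = some o
      exact ht1
    exact Option.some.inj h4
  choose σ hσ using hσex
  have hinj : ∀ a b : MulAction.stabilizer T o,
      (Equiv.optionCongr ((a : T) : Perm K) : Perm (Option K)) =
        Equiv.optionCongr ((b : T) : Perm K) → a = b := by
    intro a b hab
    exact Subtype.ext (Subtype.ext (Equiv.optionCongr_injective hab))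
  have hσσ : ∀ h, σ (σ h) = h := by
    intro h
    apply hinj
    rw [hσ, hσ]
    have : t * (t * Equiv.optionCongr ((h : T) : Perm K) * t) * t =
      (t * t) * Equiv.optionCongr ((h : T) : Perm K) * (t * t) := by group
    rw [this, htt, one_mul, mul_one]
  have hσmul : ∀ a b, σ (a * b) = σ a * σ b := by
    intro a b
    apply hinj
    rw [hσ]
    change t * Equiv.optionCongr (((a : T) : Perm K) * ((b : T) : Perm K)) * t =
      Equiv.optionCongr (((σ a : T) : Perm K) * ((σ b : T) : Perm K))
    rw [SharpThreeEvenMain.optionCongr_mul', SharpThreeEvenMain.optionCongr_mul', hσ, hσ]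
    have : t * Equiv.optionCongr ((a : T) : Perm K) * t * (t * Equiv.optionCongr ((b : T) : Perm K) * t) =
      t * Equiv.optionCongr ((a : T) : Perm K) * (t * t) * Equiv.optionCongr ((b : T) : Perm K) * t := by
      group
    rw [this, htt, mul_one]
    group
  let σ' : MulAction.stabilizer T o ≃* MulAction.stabilizer T o :=
    { toFun := σ
      invFun := σ
      left_inv := hσσ
      right_inv := hσσ
      map_mul' := hσmul }
  -- `σ h e = t (h e)`
  have hσe : ∀ (h : MulAction.stabilizer T o) (x y : K), t (some x) = some y →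
      some (((σ h : T) : Perm K) y) = t (some (((h : T) : Perm K) x)) := by
    intro h x y hxy
    have h4 : (Equiv.optionCongr ((σ h : T) : Perm K) : Perm (Option K)) (some y) =
      t (some (((h : T) : Perm K) x)) := by
      rw [hσ, Perm.mul_apply, Perm.mul_apply, ← hxy, htt']
      rfl
    exact h4
  have hH1 : ∀ h : MulAction.stabilizer T o, ((h : T) : Perm K) e = e → h = 1 := by
    intro h hh
    exact Subtype.ext (Subtype.ext (hTs _ (h : T).2 o e hoe' h.2 hh))
  have hHu : ∀ h k : MulAction.stabilizer T o, ((h : T) : Perm K) e = ((k : T) : Perm K) e →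
      h = k := by
    intro h k hhk
    have h4 := hH1 (k⁻¹ * h) (by
      change ((k : T) : Perm K)⁻¹ (((h : T) : Perm K) e) = e
      rw [hhk]
      exact Equiv.symm_apply_apply _ _)
    exact (inv_mul_eq_one.1 h4).symm
  have hHt' : ∀ x, x ≠ o → ∃ h : MulAction.stabilizer T o, ((h : T) : Perm K) e = x := by
    intro x hx
    obtain ⟨g, hg, h1, h2⟩ := hT2 o e o x hoe' (Ne.symm hx)
    exact ⟨⟨⟨g, hg⟩, h1⟩, h2⟩
  obtain ⟨z, hz⟩ := hHt' e' he'o
  have hz1 : z ≠ 1 := by
    intro h
    rw [h] at hz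
    exact he'e hz.symm
  have hfix : ∀ h, σ' h = h → h = 1 ∨ h = z := by
    intro h hh
    have h4 := hσe h e e ht3
    have h5 : σ h = h := hh
    rw [h5] at h4
    rcases htfix _ h4.symm with h6 | h6
    · exact Or.inl (hH1 h (Option.some.inj h6))
    · exact Or.inr (hHu h z (by rw [hz, Option.some.inj h6]))
  have hσz : σ' z = z := by
    apply hHu
    have h4 := hσe z e e ht3
    rw [hz, hte'] at h4
    rw [hz]
    exact Option.some.inj h4
  have hzz : z * z = 1 := by
    rcases hfix (z * z) (by rw [map_mul, hσz]) with h4 | h4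
    · exact h4
    · exact absurd (mul_eq_left.1 h4) hz1
  have hinvol : ∀ h : MulAction.stabilizer T o, h * h = 1 → h = 1 ∨ h = z := by
    intro h hh
    by_cases h4 : h = 1
    · exact Or.inl h4
    · exact Or.inr (hB h z hh hzz h4 hz1)
  have hcomm := SharpThreeOddGroup.comm_of_involution σ' hσσ z hfix hinvol (hC z hzz hz1) hA
  let H : Subgroup (Perm K) := T ⊓ MulAction.stabilizer (Perm K) o
  have hHT : ∀ h ∈ H, h ∈ T := fun h hh => hh.1
  have hH0 : ∀ h ∈ H, h o = o := fun h hh => hh.2
  have hHt : ∀ x, x ≠ o → ∃ h ∈ H, h e = x := by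
    intro x hx
    obtain ⟨g, hg, h1, h2⟩ := hT2 o e o x he.symm (Ne.symm hx)
    exact ⟨g, ⟨hg, h1⟩, h2⟩
  have hHc : ∀ a ∈ H, ∀ b ∈ H, a * b = b * a := by
    intro a ha b hb
    have h1 := hcomm ⟨⟨a, ha.1⟩, ha.2⟩ ⟨⟨b, hb.1⟩, hb.2⟩
    exact congrArg (fun x : MulAction.stabilizer T o => ((x : T) : Perm K)) h1
  obtain ⟨F, hF1, hF2, hF0, hFe⟩ := FieldOfAffine.exists_field N H o e he.symm hNc hNt hHc hH0 hHt
    (fun h hh a ha => hTN h (hHT h hh) a ha)
  have htnone : ∀ y : K, y ≠ o → ∃ w : K, w ≠ o ∧ t (some y) = some w := by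
    intro y hy
    rcases hw : t (some y) with _ | w
    · exfalso
      have h4 := htt' (some y)
      rw [hw, ht1] at h4
      exact hy (Option.some.inj h4).symm
    · refine ⟨w, ?_, rfl⟩
      intro hwo
      have h4 := htt' (some y)
      rw [hw, hwo, ht2] at h4
      exact absurd h4 (by simp)
  have hinv : ∀ y : K, y ≠ o → t (some y) = some (F.inv y) := by
    let _ := F
    have e0 : (0 : K) = o := hF0
    have e1 : (1 : K) = e := hFe
    have hH2 : ∀ (h : MulAction.stabilizer T o) (y : K),
        ((h : T) : Perm K) y = ((h : T) : Perm K) e * y := fun h y => hF2 _ ⟨(h : T).2, h.2⟩ y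
    have hN2 : ∀ a ∈ N, ∀ y, a y = a o + y := hF1
    let τ : K → K := fun y => (t (some y)).getD o
    have hτ : ∀ y, y ≠ 0 → t (some y) = some (τ y) ∧ τ y ≠ 0 := by
      intro y hy
      obtain ⟨w, hw1, hw2⟩ := htnone y (by rwa [e0] at hy)
      have h4 : τ y = w := by
        change (t (some y)).getD o = w
        rw [hw2]
        rfl
      rw [h4]
      exact ⟨hw2, by rwa [e0]⟩
    have hττ : ∀ y, y ≠ 0 → τ (τ y) = y := by
      intro y hy
      have h4 := (hτ _ (hτ y hy).2).1
      rw [← (hτ y hy).1, htt'] at h4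
      exact (Option.some.inj h4).symm
    have he'1 : e' = -1 := by
      have h4 : ((z : T) : Perm K) (((z : T) : Perm K) e) = e := by
        have h5 := congrArg (fun x : MulAction.stabilizer T o => ((x : T) : Perm K) e) hzz
        exact h5
      rw [hz, hH2, hz, ← e1] at h4
      rcases mul_self_eq_one_iff.1 h4 with h5 | h5
      · exact absurd (h5.trans e1) he'e
      · exact h5
    have h2 : (2 : K) ≠ 0 := by
      intro h4
      apply he'e
      rw [he'1, ← e1]
      linear_combination -h4
    have hmul : ∀ x y, x ≠ 0 → y ≠ 0 → τ (x * y) = τ x * τ y := by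
      intro x y hx hy
      obtain ⟨h, hh⟩ := hHt' x (by rwa [e0] at hx)
      have h4 := hσe h e e ht3
      rw [hh, (hτ x hx).1] at h4
      have h5 := hσe h y (τ y) (hτ y hy).1
      rw [hH2 h, hh, (hτ _ (mul_ne_zero hx hy)).1, hH2 (σ h), Option.some.inj h4] at h5
      exact (Option.some.inj h5).symm
    have hfix' : ∀ y, y ≠ 0 → τ y = y → y = 1 ∨ y = -1 := by
      intro y hy hy2
      have h4 := (hτ y hy).1
      rw [hy2] at h4
      rcases htfix _ h4 with h5 | h5
      · exact Or.inl ((Option.some.inj h5).trans e1.symm)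
      · exact Or.inr ((Option.some.inj h5).trans he'1)
    have hneg : τ (-1) = -1 := by
      have h4 := (hτ (-1) (by simp)).1
      rw [← he'1, hte', he'1] at h4
      exact (Option.some.inj h4).symm
    have hrel : ∀ y, y ≠ 0 → y ≠ -1 → τ (1 + τ y) = 1 - τ (1 + y) := by
      intro y hy hy1
      obtain ⟨a, haN, hao⟩ := hNt e
      have ha : ∀ y, a y = 1 + y := by
        intro y
        rw [hN2 a haN, hao, e1]
      let A : Perm (Option K) := Equiv.optionCongr a
      let Z : Perm (Option K) := Equiv.optionCongr ((z : T) : Perm K)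
      have hAG : A ∈ G := hNT haN
      have hZG : Z ∈ G := (z : T).2
      have hA1 : ∀ y : K, A (some y) = some (1 + y) := fun y => congrArg some (ha y)
      have hA0 : A none = none := rfl
      have hZ1 : ∀ y : K, Z (some y) = some (-y) := by
        intro y
        change some (((z : T) : Perm K) y) = _
        rw [hH2, hz, he'1, neg_one_mul]
      have hZ0 : Z none = none := rfl
      have ht2' : t (some 0) = none := by rw [e0]; exact ht2
      have ht1' : t none = some 0 := by rw [e0]; exact ht1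
      have ht3' : t (some 1) = some 1 := by rw [e1]; exact ht3
      have hte'' : t (some (-1)) = some (-1) := by rw [← he'1]; exact hte'
      have hkey : t * A * t = A * Z * t * A := by
        have h4 : (t * A * t)⁻¹ * (A * Z * t * A) = 1 := by
          refine hs _ (G.mul_mem (G.inv_mem (G.mul_mem (G.mul_mem htG hAG) htG))
            (G.mul_mem (G.mul_mem (G.mul_mem hAG hZG) htG) hAG)) none (some 0) (some (-1))
            (by simp) (by simp) (by simp) ?_ ?_ ?_
          · rw [Perm.mul_apply, Perm.inv_eq_iff_eq]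
            simp only [Perm.mul_apply, hA0, ht1', hZ1, hA1, neg_zero, add_zero, ht3']
          · rw [Perm.mul_apply, Perm.inv_eq_iff_eq]
            simp only [Perm.mul_apply, hA0, ht1', ht2', hZ1, hA1, add_zero, ht3', add_neg_cancel]
          · rw [Perm.mul_apply, Perm.inv_eq_iff_eq]
            simp only [Perm.mul_apply, hA0, ht2', hZ0, hA1, hte'', add_neg_cancel]
        exact inv_mul_eq_one.1 h4
      have h5 := congrArg (fun g : Perm (Option K) => g (some y)) hkey
      have hy3 : 1 + y ≠ 0 := by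
        intro h6
        apply hy1
        linear_combination h6
      have hy4 : 1 + τ y ≠ 0 := by
        intro h6
        apply hy1
        have h7 : τ y = -1 := by linear_combination h6
        have h8 := hττ y hy
        rw [h7, hneg] at h8
        exact h8.symm
      simp only [Perm.mul_apply, (hτ y hy).1, hA1, (hτ _ hy3).1, (hτ _ hy4).1, hZ1] at h5
      rw [Option.some.inj h5, sub_eq_add_neg]
    intro y hy
    have hy0 : y ≠ 0 := by rwa [e0]
    have h4 := SharpThreeOddField.eq_inv h2 τ (fun y hy => (hτ y hy).2) hττ hmul hfix' hneg hrel y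
      hy0
    rw [(hτ y hy0).1, h4]
  refine ⟨F, ?_, ?_, ?_⟩
  · intro b
    obtain ⟨a, ha, hab⟩ := hNt b
    refine ⟨Equiv.optionCongr a, hNT ha, rfl, ?_⟩
    intro y
    show some (a y) = _
    rw [hF1 a ha y, hab]
  · intro a ha0
    rw [hF0] at ha0
    obtain ⟨h, hh, hha⟩ := hHt a ha0
    refine ⟨Equiv.optionCongr h, hHT h hh, rfl, ?_⟩
    intro y
    show some (h y) = _
    rw [hF2 h hh y, hha]
  · rw [hF0]
    exact ⟨t, htG, ht1, ht2, hinv⟩

/-- Transport of an elementary sharply 3-transitive group to `Option (Fin (p ^ f))` and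
conclusion. -/
theorem main {α : Type*} [Fintype α] {p f : ℕ} (hp : p.Prime) (hp2 : p ≠ 2) (hf : Odd f)
    (hα : Fintype.card α = p ^ f + 1) (G : Subgroup (Perm α))
    (h3 : ∀ a b c a' b' c' : α, a ≠ b → a ≠ c → b ≠ c → a' ≠ b' → a' ≠ c' → b' ≠ c' →
      ∃ g ∈ G, g a = a' ∧ g b = b' ∧ g c = c')
    (hs : ∀ g ∈ G, ∀ a b c : α, a ≠ b → a ≠ c → b ≠ c → g a = a → g b = b → g c = c → g = 1) :
    ∃ (F : Type) (_ : Field F) (_ : Fintype F), Fintype.card F = p ^ f ∧
      Nonempty (G ≃* Matrix.ProjGenLinGroup (Fin 2) F) := by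
  classical
  have : Fact p.Prime := ⟨hp⟩
  have hcard : Fintype.card α = Fintype.card (Option (Fin (p ^ f))) := by
    rw [hα, Fintype.card_option, Fintype.card_fin]
  let ε : α ≃ Option (Fin (p ^ f)) := Fintype.equivOfCardEq hcard
  let E : Perm α ≃* Perm (Option (Fin (p ^ f))) := ε.permCongrHom
  have hE : ∀ (g : Perm α) (x : α), E g (ε x) = ε (g x) := by
    intro g x
    show ε (g (ε.symm (ε x))) = ε (g x)
    rw [ε.symm_apply_apply]
  let G' : Subgroup (Perm (Option (Fin (p ^ f)))) := G.map E.toMonoidHom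
  have h3' : ∀ a b c a' b' c' : Option (Fin (p ^ f)), a ≠ b → a ≠ c → b ≠ c → a' ≠ b' → a' ≠ c' → b' ≠ c' →
      ∃ g ∈ G', g a = a' ∧ g b = b' ∧ g c = c' := by
    intro a b c a' b' c' h1 h2 h3a h4 h5 h6
    obtain ⟨g, hg, hga, hgb, hgc⟩ := h3 (ε.symm a) (ε.symm b) (ε.symm c) (ε.symm a') (ε.symm b')
      (ε.symm c') (ε.symm.injective.ne h1) (ε.symm.injective.ne h2) (ε.symm.injective.ne h3a)
      (ε.symm.injective.ne h4) (ε.symm.injective.ne h5) (ε.symm.injective.ne h6)
    refine ⟨E g, ⟨g, hg, rfl⟩, ?_, ?_, ?_⟩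
    · have := hE g (ε.symm a)
      rwa [hga, ε.apply_symm_apply, ε.apply_symm_apply] at this
    · have := hE g (ε.symm b)
      rwa [hgb, ε.apply_symm_apply, ε.apply_symm_apply] at this
    · have := hE g (ε.symm c)
      rwa [hgc, ε.apply_symm_apply, ε.apply_symm_apply] at this
  have hs' : ∀ g ∈ G', ∀ a b c : Option (Fin (p ^ f)), a ≠ b → a ≠ c → b ≠ c →
      g a = a → g b = b → g c = c → g = 1 := by
    rintro _ ⟨g, hg, rfl⟩ a b c h1 h2 h3a ha hb hc
    have key : ∀ x : Option (Fin (p ^ f)), E.toMonoidHom g x = x → g (ε.symm x) = ε.symm x := by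
      intro x hx
      have h4 := hE g (ε.symm x)
      rw [ε.apply_symm_apply] at h4
      have h5 : E g x = x := hx
      rw [h5] at h4
      exact (ε.symm_apply_eq.2 h4).symm
    have h7 := hs g hg _ _ _ (ε.symm.injective.ne h1) (ε.symm.injective.ne h2)
      (ε.symm.injective.ne h3a) (key a ha) (key b hb) (key c hc)
    rw [h7, map_one]
  have hlt : 1 < p ^ f := Nat.one_lt_pow hf.pos.ne' hp.one_lt
  have : Nontrivial (Fin (p ^ f)) := Fin.nontrivial_iff_two_le.2 hlt
  obtain ⟨F, hN, hH, ht⟩ := core1 p f hp2 hf (Nat.card_fin _) G' h3' hs'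
  refine ⟨Fin (p ^ f), F, inferInstance, Fintype.card_fin _, ?_⟩
  let _ := F
  have hcore := SharpThreeEven.core2 (K := Fin (p ^ f)) G' h3' hs' hN hH ht
  obtain ⟨e2⟩ := hcore
  have e1 : G ≃* G' := E.subgroupMap G
  exact ⟨e1.trans e2⟩

end Cfsg.Agent.PermutationGroups.SharpThreeOddMain
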