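import Mathlib
import Cfsg.Agent.PermutationGroups.Wielandt2pFourier

/-!
# Primitive groups of degree `2p`: the centraliser algebra argument
-/

set_option autoImplicit false
set_option linter.unusedSectionVars false

namespace Cfsg.Agent.PermutationGroups.Wielandt2p

open Matrix Cfsg.Agent.PermutationGroups.Wielandt2pFourier
open scoped Pointwise

section TwoByTwo

variable {K : Type*} [Field K]

theorem idem_two (M : Matrix Bool Bool K) (h : M * M = M) :
    M = 0 ∨ M = 1 ∨ (M true true + M false false = 1 ∧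
      M true true * M false false - M true false * M false true = 0) := by
  have e : ∀ i j, M i true * M true j + M i false * M false j = M i j := by
    intro i j
    have := congrFun (congrFun h i) j
    rw [Matrix.mul_apply, Fintype.sum_bool] at this
    exact this
  by_cases ht : M true true + M false false = 1
  · right; right
    refine ⟨ht, ?_⟩
    have h1 := e true true
    linear_combination (M true true) * ht - h1
  · have h1 : M true false = 0 := by
      have h2 : M true false * (M true true + M false false - 1) = 0 := by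
        linear_combination e true false
      rcases mul_eq_zero.mp h2 with h3 | h3
      · exact h3
      · exact absurd (sub_eq_zero.mp h3) ht
    have h1' : M false true = 0 := by
      have h2 : M false true * (M true true + M false false - 1) = 0 := by
        linear_combination e false true
      rcases mul_eq_zero.mp h2 with h3 | h3
      · exact h3
      · exact absurd (sub_eq_zero.mp h3) ht
    have h4 : M true true * M true true = M true true := by
      have := e true true
      rw [h1, zero_mul, add_zero] at this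
      exact this
    have h5 : M false false * M false false = M false false := by
      have := e false false
      rw [h1', zero_mul, zero_add] at this
      exact this
    have h6 : M true true = 0 ∨ M true true = 1 := by
      rcases mul_eq_zero.mp (show M true true * (M true true - 1) = 0 by
        linear_combination h4) with h7 | h7
      · exact Or.inl h7
      · exact Or.inr (sub_eq_zero.mp h7)
    have h7 : M false false = 0 ∨ M false false = 1 := by
      rcases mul_eq_zero.mp (show M false false * (M false false - 1) = 0 by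
        linear_combination h5) with h7 | h7
      · exact Or.inl h7
      · exact Or.inr (sub_eq_zero.mp h7)
    rcases h6 with h6 | h6 <;> rcases h7 with h7 | h7
    · left
      ext i j
      cases i <;> cases j <;> simp [h1, h1', h6, h7]
    · exact absurd (by rw [h6, h7, zero_add]) ht
    · exact absurd (by rw [h6, h7, add_zero]) ht
    · right; left
      ext i j
      cases i <;> cases j <;> simp [h1, h1', h6, h7]

theorem rank_one_identity (F N : Matrix Bool Bool K)
    (h : F true true * F false false - F true false * F false true = 0) :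
    F * N * F = ((N * F) true true + (N * F) false false) • F := by
  ext i j
  simp only [Matrix.mul_apply, Fintype.sum_bool, Matrix.smul_apply, smul_eq_mul]
  cases i <;> cases j
  · linear_combination (-N true true) * h
  · linear_combination (N false true) * h
  · linear_combination (N true false) * h
  · linear_combination (-N false false) * h

end TwoByTwo

section Setup

variable {p : ℕ} [Fact p.Prime] {G : Type*} [Group G] {α : Type*} [Fintype α] [MulAction G α]

/-- coordinates on `α` adapted to an element with two `p`-cycles -/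
structure Coord (p : ℕ) (G : Type*) [Group G] (α : Type*) [MulAction G α] where
  e : α ≃ Bool × ZMod p
  g₀ : G
  hg : ∀ b x, g₀ • e.symm (b, x) = e.symm (b, x + 1)

/-- invariant matrices -/
def Inv (G : Type*) [Group G] {α : Type*} [MulAction G α] (A : Matrix α α ℚ) : Prop :=
  ∀ (g : G) (x y : α), A (g • x) (g • y) = A x y

theorem Inv.add {A B : Matrix α α ℚ} (hA : Inv G A) (hB : Inv G B) : Inv G (A + B) := by
  intro g x y
  simp only [Matrix.add_apply, hA g x y, hB g x y]

theorem Inv.sub {A B : Matrix α α ℚ} (hA : Inv G A) (hB : Inv G B) : Inv G (A - B) := by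
  intro g x y
  simp only [Matrix.sub_apply, hA g x y, hB g x y]

theorem Inv.smul (c : ℚ) {A : Matrix α α ℚ} (hA : Inv G A) : Inv G (c • A) := by
  intro g x y
  simp only [Matrix.smul_apply, hA g x y]

theorem Inv.transpose {A : Matrix α α ℚ} (hA : Inv G A) : Inv G Aᵀ := by
  intro g x y
  simp only [Matrix.transpose_apply, hA g y x]

theorem Inv.one [DecidableEq α] : Inv G (1 : Matrix α α ℚ) := by
  intro g x y
  simp only [Matrix.one_apply, smul_left_cancel_iff]

theorem Inv.mul {A B : Matrix α α ℚ} (hA : Inv G A) (hB : Inv G B) : Inv G (A * B) := by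
  intro g x y
  simp only [Matrix.mul_apply]
  refine (Fintype.sum_equiv (MulAction.toPerm g) _ _ (fun z => ?_)).symm
  change A x z * B z y = A (g • x) (g • z) * B (g • z) (g • y)
  rw [hA, hB]

/-- the all-ones matrix -/
def J (α : Type*) : Matrix α α ℚ := fun _ _ => 1

theorem Inv.J : Inv G (J α) := fun _ _ _ => rfl

namespace Coord

variable (S : Coord p G α)

/-- points -/
def pt (b : Bool) (x : ZMod p) : α := S.e.symm (b, x)

theorem pow_smul_pt (n : ℕ) (b : Bool) (x : ZMod p) :
    S.g₀ ^ n • S.pt b x = S.pt b (x + n) := by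
  induction n with
  | zero => simp
  | succ n ih =>
    rw [pow_succ', mul_smul, ih]
    unfold pt
    rw [S.hg]
    push_cast
    rw [add_assoc]

theorem inv_shift {A : Matrix α α ℚ} (hA : Inv G A) (b c : Bool) (x y z : ZMod p) :
    A (S.pt b (x + z)) (S.pt c (y + z)) = A (S.pt b x) (S.pt c y) := by
  have h := hA (S.g₀ ^ z.val) (S.pt b x) (S.pt c y)
  rw [pow_smul_pt, pow_smul_pt, ZMod.natCast_zmod_val] at h
  exact h

theorem inv_sub {A : Matrix α α ℚ} (hA : Inv G A) (b c : Bool) (x y : ZMod p) :
    A (S.pt b x) (S.pt c y) = A (S.pt b 0) (S.pt c (y - x)) := by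
  have h := S.inv_shift hA b c 0 (y - x) x
  rw [zero_add, sub_add_cancel] at h
  exact h

theorem sum_eq {M : Type*} [AddCommMonoid M] (f : α → M) :
    ∑ a, f a = ∑ b : Bool, ∑ x : ZMod p, f (S.pt b x) := by
  rw [← Fintype.sum_prod_type (fun z : Bool × ZMod p => f (S.pt z.1 z.2))]
  exact Fintype.sum_equiv S.e _ _ (fun a => by simp [pt])

theorem exists_pt (a : α) : ∃ b x, a = S.pt b x :=
  ⟨(S.e a).1, (S.e a).2, by simp [pt]⟩

theorem pt_inj {b c : Bool} {x y : ZMod p} (h : S.pt b x = S.pt c y) : b = c ∧ x = y := by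
  have := S.e.symm.injective h
  exact ⟨congrArg Prod.fst this, congrArg Prod.snd this⟩

/-- Fourier transform of an invariant matrix -/
noncomputable def hat (ψ : AddChar (ZMod p) ℂ) (A : Matrix α α ℚ) : Matrix Bool Bool ℂ :=
  fun b c => ∑ x : ZMod p, (A (S.pt b 0) (S.pt c x) : ℂ) * ψ x

theorem hat_apply (ψ : AddChar (ZMod p) ℂ) (A : Matrix α α ℚ) (b c : Bool) :
    S.hat ψ A b c = ∑ x : ZMod p, (A (S.pt b 0) (S.pt c x) : ℂ) * ψ x := rfl

theorem hat_sub (ψ : AddChar (ZMod p) ℂ) (A B : Matrix α α ℚ) :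
    S.hat ψ (A - B) = S.hat ψ A - S.hat ψ B := by
  ext b c
  simp only [hat_apply, Matrix.sub_apply, Rat.cast_sub, sub_mul, Finset.sum_sub_distrib]

theorem hat_smul (ψ : AddChar (ZMod p) ℂ) (c : ℚ) (A : Matrix α α ℚ) :
    S.hat ψ (c • A) = (c : ℂ) • S.hat ψ A := by
  ext b d
  simp only [hat_apply, Matrix.smul_apply, smul_eq_mul, Rat.cast_mul, mul_assoc, Finset.mul_sum]

theorem hat_mul (ψ : AddChar (ZMod p) ℂ) (A : Matrix α α ℚ) {B : Matrix α α ℚ} (hB : Inv G B) :
    S.hat ψ (A * B) = S.hat ψ A * S.hat ψ B := by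
  ext b d
  rw [Matrix.mul_apply]
  simp only [hat_apply, Matrix.mul_apply]
  have h1 : ∀ x : ZMod p, ((∑ j, A (S.pt b 0) j * B j (S.pt d x) : ℚ) : ℂ) * ψ x
      = ∑ c : Bool, ∑ y : ZMod p, ((A (S.pt b 0) (S.pt c y) : ℂ) * ψ y) *
        ((B (S.pt c 0) (S.pt d (x - y)) : ℂ) * ψ (x - y)) := by
    intro x
    rw [S.sum_eq]
    push_cast
    rw [Finset.sum_mul]
    refine Finset.sum_congr rfl (fun c _ => ?_)
    rw [Finset.sum_mul]
    refine Finset.sum_congr rfl (fun y _ => ?_)
    rw [S.inv_sub hB c d y x]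
    have h2 : ψ x = ψ y * ψ (x - y) := by rw [← AddChar.map_add_eq_mul, add_sub_cancel]
    rw [h2]
    ring
  simp only [h1]
  rw [Finset.sum_comm]
  refine Finset.sum_congr rfl (fun c _ => ?_)
  rw [Finset.sum_comm, Finset.sum_mul_sum]
  refine Finset.sum_congr rfl (fun y _ => ?_)
  exact Fintype.sum_equiv (Equiv.subRight y) _ _ (fun x => rfl)

theorem hat_one [DecidableEq α] (ψ : AddChar (ZMod p) ℂ) :
    S.hat ψ (1 : Matrix α α ℚ) = 1 := by
  ext b c
  rw [hat_apply, Matrix.one_apply]
  by_cases hbc : b = c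
  · subst hbc
    rw [if_pos rfl, Finset.sum_eq_single 0]
    · simp
    · intro x _ hx
      have : S.pt b 0 ≠ S.pt b x := fun h => hx (S.pt_inj h).2.symm
      simp [this]
    · intro h
      exact absurd (Finset.mem_univ _) h
  · rw [if_neg hbc]
    apply Finset.sum_eq_zero
    intro x _
    have : S.pt b 0 ≠ S.pt c x := fun h => hbc (S.pt_inj h).1
    simp [this]

/-- block sums -/
def blk (A : Matrix α α ℚ) (b c : Bool) : ℚ := ∑ x : ZMod p, A (S.pt b 0) (S.pt c x)

theorem blk_def (A : Matrix α α ℚ) (b c : Bool) :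
    S.blk A b c = ∑ x : ZMod p, A (S.pt b 0) (S.pt c x) := rfl

/-- row sum -/
def rs (A : Matrix α α ℚ) (a : α) : ℚ := ∑ z, A a z

theorem rs_def (A : Matrix α α ℚ) (a : α) : rs A a = ∑ z, A a z := rfl

theorem rs_smul {A : Matrix α α ℚ} (hA : Inv G A) (g : G) (a : α) : rs A (g • a) = rs A a := by
  rw [rs_def, rs_def]
  refine (Fintype.sum_equiv (MulAction.toPerm g) _ _ (fun z => ?_)).symm
  exact (hA g a z).symm

theorem rs_const [MulAction.IsPretransitive G α] {A : Matrix α α ℚ} (hA : Inv G A) (a b : α) :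
    rs A a = rs A b := by
  obtain ⟨g, rfl⟩ := MulAction.exists_smul_eq G a b
  rw [rs_smul hA]

theorem cs_eq_rs [MulAction.IsPretransitive G α] {A : Matrix α α ℚ} (hA : Inv G A) (a b : α) :
    rs Aᵀ a = rs A b := by
  have h1 : ∑ x, rs A x = ∑ y, rs Aᵀ y := by
    simp only [rs_def, Matrix.transpose_apply]
    exact Finset.sum_comm
  have h2 : ∑ x, rs A x = Fintype.card α * rs A b := by
    rw [Finset.sum_congr rfl (fun x _ => rs_const hA x b), Finset.sum_const, nsmul_eq_mul]
    rfl
  have h3 : ∑ x, rs Aᵀ x = Fintype.card α * rs Aᵀ a := by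
    rw [Finset.sum_congr rfl (fun x _ => rs_const hA.transpose x a), Finset.sum_const,
      nsmul_eq_mul]
    rfl
  have h4 : (Fintype.card α : ℚ) ≠ 0 := by
    have : Nonempty α := ⟨a⟩
    exact_mod_cast Fintype.card_ne_zero
  rw [h2, h3] at h1
  exact (mul_left_cancel₀ h4 h1).symm

theorem rs_eq_blk (A : Matrix α α ℚ) (b : Bool) :
    rs A (S.pt b 0) = S.blk A b true + S.blk A b false := by
  rw [rs_def, S.sum_eq, Fintype.sum_bool]
  rfl

theorem blk_transpose {A : Matrix α α ℚ} (hA : Inv G A) (b c : Bool) :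
    S.blk Aᵀ b c = S.blk A c b := by
  rw [blk_def, blk_def]
  refine Fintype.sum_equiv (Equiv.neg (ZMod p)) _ _ (fun x => ?_)
  rw [Matrix.transpose_apply, S.inv_sub hA c b x 0, zero_sub]
  rfl

theorem blk_symm [MulAction.IsPretransitive G α] {A : Matrix α α ℚ} (hA : Inv G A) :
    S.blk A false true = S.blk A true false ∧ S.blk A false false = S.blk A true true := by
  have h1 := S.rs_eq_blk A true
  have h2 := S.rs_eq_blk A false
  have h3 := S.rs_eq_blk Aᵀ true
  rw [S.blk_transpose hA, S.blk_transpose hA] at h3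
  have h4 := rs_const hA (S.pt true 0) (S.pt false 0)
  have h5 := cs_eq_rs hA (S.pt true 0) (S.pt true 0)
  constructor <;> linarith

/-- the eigenvalue on the vector `1_X - 1_Y` -/
def lam (A : Matrix α α ℚ) : ℚ := S.blk A true true - S.blk A true false

theorem lam_def (A : Matrix α α ℚ) : S.lam A = S.blk A true true - S.blk A true false := rfl

/-- the vector `1_X - 1_Y` -/
def u (a : α) : ℚ := if (S.e a).1 then 1 else -1

theorem u_pt (b : Bool) (x : ZMod p) : S.u (S.pt b x) = if b then 1 else -1 := by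
  simp [u, pt]

theorem u_mul_self (a : α) : S.u a * S.u a = 1 := by
  unfold u
  split_ifs <;> norm_num

theorem sum_mul_u [MulAction.IsPretransitive G α] {A : Matrix α α ℚ} (hA : Inv G A) (a : α) :
    ∑ z, A a z * S.u z = S.lam A * S.u a := by
  obtain ⟨b, x, rfl⟩ := S.exists_pt a
  obtain ⟨h1, h2⟩ := S.blk_symm hA
  have h3 : ∀ c : Bool, ∑ y : ZMod p, A (S.pt b x) (S.pt c y) * S.u (S.pt c y)
      = S.blk A b c * (if c then 1 else -1) := by
    intro c
    rw [blk_def, Finset.sum_mul]
    refine Fintype.sum_equiv (Equiv.subRight x) _ _ (fun y => ?_)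
    rw [S.u_pt, S.inv_sub hA b c x y]
    rfl
  rw [S.sum_eq, Fintype.sum_bool, h3, h3, S.u_pt, lam_def]
  cases b
  · rw [h1, h2]
    norm_num
    ring
  · norm_num
    ring

theorem lam_mul [MulAction.IsPretransitive G α] {A B : Matrix α α ℚ} (hA : Inv G A)
    (hB : Inv G B) : S.lam (A * B) = S.lam A * S.lam B := by
  have h1 := S.sum_mul_u (hA.mul hB) (S.pt true 0)
  have h2 : ∑ z, (A * B) (S.pt true 0) z * S.u z = S.lam A * S.lam B * S.u (S.pt true 0) := by
    simp only [Matrix.mul_apply, Finset.sum_mul]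
    rw [Finset.sum_comm]
    have h3 : ∀ y, ∑ z, A (S.pt true 0) y * B y z * S.u z
        = S.lam B * (A (S.pt true 0) y * S.u y) := by
      intro y
      simp only [mul_assoc]
      rw [← Finset.mul_sum, S.sum_mul_u hB y]
      ring
    simp only [h3]
    rw [← Finset.mul_sum, S.sum_mul_u hA]
    ring
  rw [h2, S.u_pt] at h1
  simpa using h1.symm

theorem lam_transpose [MulAction.IsPretransitive G α] {A : Matrix α α ℚ} (hA : Inv G A) :
    S.lam Aᵀ = S.lam A := by
  rw [lam_def, lam_def, S.blk_transpose hA, S.blk_transpose hA, (S.blk_symm hA).1]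

theorem lam_smul (c : ℚ) (A : Matrix α α ℚ) : S.lam (c • A) = c * S.lam A := by
  simp only [lam_def, blk_def, Matrix.smul_apply, smul_eq_mul, ← Finset.mul_sum]
  ring

theorem lam_sub (A B : Matrix α α ℚ) : S.lam (A - B) = S.lam A - S.lam B := by
  simp only [lam_def, blk_def, Matrix.sub_apply, Finset.sum_sub_distrib]
  ring

theorem lam_one [DecidableEq α] : S.lam (1 : Matrix α α ℚ) = 1 := by
  have h1 : S.blk (1 : Matrix α α ℚ) true true = 1 := by
    rw [blk_def, Finset.sum_eq_single 0]
    · simp
    · intro x _ hx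
      have : S.pt true 0 ≠ S.pt true x := fun h => hx (S.pt_inj h).2.symm
      simp [this]
    · intro h
      exact absurd (Finset.mem_univ _) h
  have h2 : S.blk (1 : Matrix α α ℚ) true false = 0 := by
    rw [blk_def]
    apply Finset.sum_eq_zero
    intro x _
    have : S.pt true 0 ≠ S.pt false x := fun h => Bool.noConfusion (S.pt_inj h).1
    simp [this]
  rw [lam_def, h1, h2, sub_zero]

theorem lam_J : S.lam (J α) = 0 := by
  rw [lam_def]
  exact sub_self _

/-- the averaged projection onto the translates of `u` -/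
noncomputable def Ep [Fintype G] : Matrix α α ℚ := fun a b => (Nat.card G : ℚ)⁻¹ * ∑ g : G, S.u (g • a) * S.u (g • b)

theorem Ep_apply [Fintype G] (a b : α) :
    S.Ep a b = (Nat.card G : ℚ)⁻¹ * ∑ g : G, S.u (g • a) * S.u (g • b) := rfl

theorem Ep_inv [Fintype G] : Inv G S.Ep := by
  intro h a b
  rw [Ep_apply, Ep_apply]
  congr 1
  refine Fintype.sum_equiv (Equiv.mulRight h) _ _ (fun g => ?_)
  rw [smul_smul, smul_smul]
  rfl

theorem Ep_symm [Fintype G] (a b : α) : S.Ep a b = S.Ep b a := by
  rw [Ep_apply, Ep_apply]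
  congr 1
  exact Finset.sum_congr rfl (fun g _ => mul_comm _ _)

theorem Ep_transpose [Fintype G] : (S.Ep)ᵀ = S.Ep := by
  ext a b
  exact S.Ep_symm b a

theorem Ep_diag [Fintype G] (a : α) : S.Ep a a = 1 := by
  rw [Ep_apply]
  simp only [u_mul_self, Finset.sum_const, nsmul_eq_mul, mul_one]
  rw [Nat.card_eq_fintype_card]
  exact inv_mul_cancel₀ (by exact_mod_cast Fintype.card_ne_zero)

theorem mul_Ep [Fintype G] [MulAction.IsPretransitive G α] {A : Matrix α α ℚ} (hA : Inv G A) :
    A * S.Ep = S.lam A • S.Ep := by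
  ext a b
  rw [Matrix.mul_apply, Matrix.smul_apply, smul_eq_mul]
  simp only [Ep_apply, Finset.mul_sum]
  rw [Finset.sum_comm]
  refine Finset.sum_congr rfl (fun g _ => ?_)
  have h1 : ∑ z, A a z * S.u (g • z) = S.lam A * S.u (g • a) := by
    rw [← S.sum_mul_u hA (g • a)]
    refine Fintype.sum_equiv (MulAction.toPerm g) _ _ (fun z => ?_)
    change A a z * S.u (g • z) = A (g • a) (g • z) * S.u (g • z)
    rw [hA]
  calc ∑ z, A a z * ((Nat.card G : ℚ)⁻¹ * (S.u (g • z) * S.u (g • b)))
      = ((Nat.card G : ℚ)⁻¹ * S.u (g • b)) * ∑ z, A a z * S.u (g • z) := by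
        rw [Finset.mul_sum]
        exact Finset.sum_congr rfl (fun z _ => by ring)
    _ = S.lam A * ((Nat.card G : ℚ)⁻¹ * (S.u (g • a) * S.u (g • b))) := by
        rw [h1]
        ring

theorem Ep_mul [Fintype G] [MulAction.IsPretransitive G α] {A : Matrix α α ℚ} (hA : Inv G A) :
    S.Ep * A = S.lam A • S.Ep := by
  have h1 := congrArg Matrix.transpose (S.mul_Ep hA.transpose)
  rw [Matrix.transpose_mul, Matrix.transpose_transpose, Matrix.transpose_smul, Ep_transpose,
    S.lam_transpose hA] at h1
  exact h1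

theorem one_le_lam_Ep [Fintype G] [MulAction.IsPretransitive G α] : 1 ≤ S.lam S.Ep := by
  have h1 := congrFun (congrFun (S.mul_Ep S.Ep_inv) (S.pt true 0)) (S.pt true 0)
  rw [Matrix.smul_apply, Ep_diag, smul_eq_mul, mul_one, Matrix.mul_apply] at h1
  rw [← h1]
  have h2 : ∀ z, 0 ≤ S.Ep (S.pt true 0) z * S.Ep z (S.pt true 0) := by
    intro z
    rw [S.Ep_symm z]
    exact mul_self_nonneg _
  have h3 := Finset.single_le_sum (f := fun z => S.Ep (S.pt true 0) z * S.Ep z (S.pt true 0))
    (fun z _ => h2 z) (Finset.mem_univ (S.pt true 0))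
  simpa [Ep_diag] using h3

/-- an invariant matrix with constant blocks is a multiple of `J` -/
theorem const_of_blocks (hP : MulAction.IsPreprimitive G α) {A : Matrix α α ℚ} (hA : Inv G A)
    (h : ∀ b c x y, A (S.pt b 0) (S.pt c x) = A (S.pt b 0) (S.pt c y)) (a b a' b' : α) :
    A a b = A a' b' := by
  have hT : MulAction.IsPretransitive G α := hP.toIsPretransitive
  have hp0 : (p : ℚ) ≠ 0 := by exact_mod_cast (Fact.out : p.Prime).ne_zero
  have hcard : Fintype.card (ZMod p) = p := ZMod.card p
  have hblk : ∀ b c, S.blk A b c = p * A (S.pt b 0) (S.pt c 0) := by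
    intro b c
    rw [blk_def, Finset.sum_congr rfl (fun x _ => h b c x 0), Finset.sum_const, nsmul_eq_mul,
      Finset.card_univ, hcard]
  obtain ⟨h1, h2⟩ := S.blk_symm hA
  rw [hblk, hblk] at h1 h2
  have h1' := mul_left_cancel₀ hp0 h1
  have h2' := mul_left_cancel₀ hp0 h2
  have hval : ∀ b c x y, A (S.pt b x) (S.pt c y) = A (S.pt b 0) (S.pt c 0) := by
    intro b c x y
    rw [S.inv_sub hA]
    exact h b c _ _
  have key : A (S.pt true 0) (S.pt true 0) = A (S.pt true 0) (S.pt false 0) := by
    by_contra hne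
    -- the set X is a block
    let B : Set α := {a | ∃ x, a = S.pt true x}
    have hmem : ∀ a, a ∈ B ↔ A (S.pt true 0) a = A (S.pt true 0) (S.pt true 0) := by
      intro a
      obtain ⟨b, x, rfl⟩ := S.exists_pt a
      constructor
      · rintro ⟨y, hy⟩
        obtain ⟨rfl, rfl⟩ := S.pt_inj hy
        rw [hval]
      · intro hb
        cases b
        · rw [hval] at hb
          exact absurd hb.symm hne
        · exact ⟨x, rfl⟩
    -- relation `A a b = A t t` means same block
    have hrel : ∀ b c x y, A (S.pt b x) (S.pt c y) = A (S.pt true 0) (S.pt true 0) ↔ b = c := by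
      intro b c x y
      rw [hval]
      cases b <;> cases c
      · simp [h2']
      · simp only [h1', reduceCtorEq, iff_false]
        exact fun h => hne h.symm
      · simp only [reduceCtorEq, iff_false]
        exact fun h => hne h.symm
      · simp
    have hblock : MulAction.IsBlock G B := by
      rw [MulAction.isBlock_iff_smul_eq_or_disjoint]
      intro g
      by_cases hd : Disjoint (g • B) B
      · exact Or.inr hd
      · left
        rw [Set.not_disjoint_iff] at hd
        obtain ⟨_, ⟨_, ⟨x, rfl⟩, rfl⟩, ⟨y, hy⟩⟩ := hd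
        have hy : g • S.pt true x = S.pt true y := hy
        have hfw : ∀ z, z ∈ B → g • z ∈ B := by
          rintro _ ⟨z, rfl⟩
          obtain ⟨c, w, hw⟩ := S.exists_pt (g • S.pt true z)
          have h3 := hA g (S.pt true x) (S.pt true z)
          rw [hy, hw, hval true true x z] at h3
          have h4 := (hrel true c y w).mp h3
          exact ⟨w, by rw [hw, ← h4]⟩
        have hbw : ∀ z, g • z ∈ B → z ∈ B := by
          intro z hz
          obtain ⟨c, w, rfl⟩ := S.exists_pt z
          obtain ⟨v, hv⟩ := hz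
          have h3 := hA g (S.pt true x) (S.pt c w)
          rw [hy, hv, hval true true y v] at h3
          have h4 := (hrel true c x w).mp h3.symm
          exact ⟨w, by rw [← h4]⟩
        ext z
        constructor
        · rintro ⟨z', hz', rfl⟩
          exact hfw z' hz'
        · intro hz
          refine ⟨g⁻¹ • z, hbw _ ?_, smul_inv_smul g z⟩
          rw [smul_inv_smul]
          exact hz
    rcases hP.isTrivialBlock_of_isBlock hblock with h3 | h3
    · have h4 := h3 ⟨0, rfl⟩ ⟨1, rfl⟩
      exact zero_ne_one (S.pt_inj h4).2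
    · have h4 : S.pt false 0 ∈ B := by rw [h3]; trivial
      obtain ⟨x, hx⟩ := h4
      exact Bool.noConfusion (S.pt_inj hx).1
  have hall : ∀ a b, A a b = A (S.pt true 0) (S.pt true 0) := by
    intro a b
    obtain ⟨b1, x1, rfl⟩ := S.exists_pt a
    obtain ⟨b2, x2, rfl⟩ := S.exists_pt b
    rw [hval]
    cases b1 <;> cases b2
    · exact h2'
    · rw [h1', key]
    · exact key.symm
    · rfl
  rw [hall a b, hall a' b']

/-- the kernel property of an additive character -/
def Faithful (ψ : AddChar (ZMod p) ℂ) : Prop :=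
  ∀ f : ZMod p → ℚ, ∑ x, (f x : ℂ) * ψ x = 0 → ∀ x y, f x = f y

theorem blocks_of_hat_eq_zero {ψ : AddChar (ZMod p) ℂ} (hψ : Faithful ψ) {A : Matrix α α ℚ}
    (h : S.hat ψ A = 0) (b c : Bool) (x y : ZMod p) :
    A (S.pt b 0) (S.pt c x) = A (S.pt b 0) (S.pt c y) := by
  apply hψ (fun x => A (S.pt b 0) (S.pt c x))
  have := congrFun (congrFun h b) c
  rw [hat_apply] at this
  exact this

/-- two-transitivity in elementary form -/
def TwoTrans (G : Type*) [Group G] (α : Type*) [MulAction G α] : Prop :=
  ∀ a b a' b' : α, a ≠ b → a' ≠ b' → ∃ g : G, g • a = a' ∧ g • b = b'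

/-- the idempotent -/
noncomputable def E [Fintype G] : Matrix α α ℚ := (S.lam S.Ep)⁻¹ • S.Ep

theorem E_def [Fintype G] : S.E = (S.lam S.Ep)⁻¹ • S.Ep := rfl

theorem E_inv [Fintype G] : Inv G S.E := S.Ep_inv.smul _

theorem mul_E [Fintype G] [MulAction.IsPretransitive G α] {A : Matrix α α ℚ} (hA : Inv G A) :
    A * S.E = S.lam A • S.E := by
  rw [E_def, Matrix.mul_smul, S.mul_Ep hA, smul_comm]

theorem E_mul [Fintype G] [MulAction.IsPretransitive G α] {A : Matrix α α ℚ} (hA : Inv G A) :
    S.E * A = S.lam A • S.E := by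
  rw [E_def, Matrix.smul_mul, S.Ep_mul hA, smul_comm]

theorem lam_E [Fintype G] [MulAction.IsPretransitive G α] : S.lam S.E = 1 := by
  rw [E_def, lam_smul]
  exact inv_mul_cancel₀ (ne_of_gt (lt_of_lt_of_le zero_lt_one S.one_le_lam_Ep))

theorem E_mul_E [Fintype G] [MulAction.IsPretransitive G α] : S.E * S.E = S.E := by
  rw [S.mul_E S.E_inv, S.lam_E, one_smul]

/-- orbital matrix -/
noncomputable def orb (a b : α) : Matrix α α ℚ :=
  open Classical in fun x y => if ∃ g : G, g • a = x ∧ g • b = y then 1 else 0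

theorem twoTrans_of_hat_eq_one [Fintype G] [DecidableEq α] (hP : MulAction.IsPreprimitive G α)
    {ψ : AddChar (ZMod p) ℂ} (hψ : Faithful ψ) (h : S.hat ψ S.E = 1) : TwoTrans G α := by
  classical
  have hT : MulAction.IsPretransitive G α := hP.toIsPretransitive
  have h0 : S.hat ψ (S.E - 1) = 0 := by rw [hat_sub, h, hat_one, sub_self]
  have hinv : Inv G (S.E - 1) := S.E_inv.sub Inv.one
  have hconst := S.const_of_blocks hP hinv (S.blocks_of_hat_eq_zero hψ h0)
  let c : ℚ := (S.E - 1) (S.pt true 0) (S.pt true 0)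
  have hc : ∀ a b, (S.E - 1) a b = c := fun a b => hconst a b _ _
  have hE : ∀ a b, S.E a b = c + (1 : Matrix α α ℚ) a b := by
    intro a b
    rw [← hc a b, Matrix.sub_apply, sub_add_cancel]
  have key : ∀ A : Matrix α α ℚ, Inv G A → ∀ a b, a ≠ b →
      A a b = S.lam A * c - c * rs A a := by
    intro A hA a b hab
    have h1 := congrFun (congrFun (S.mul_E hA) a) b
    rw [Matrix.mul_apply, Matrix.smul_apply, smul_eq_mul, hE, Matrix.one_apply_ne hab, add_zero]
      at h1
    have h2 : ∑ z, A a z * S.E z b = c * rs A a + A a b := by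
      have h3 : ∀ z, A a z * S.E z b = c * A a z + A a z * (1 : Matrix α α ℚ) z b := by
        intro z
        rw [hE]
        ring
      simp only [h3]
      rw [Finset.sum_add_distrib, ← Finset.mul_sum, rs_def]
      congr 1
      simp [Matrix.one_apply]
    rw [h2] at h1
    linarith
  intro a b a' b' hab hab'
  let A : Matrix α α ℚ := fun x y => if ∃ g : G, g • a = x ∧ g • b = y then 1 else 0
  have hA : Inv G A := by
    intro g x y
    have : (∃ k : G, k • a = g • x ∧ k • b = g • y) ↔ (∃ k : G, k • a = x ∧ k • b = y) := by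
      constructor
      · rintro ⟨k, h1, h2⟩
        exact ⟨g⁻¹ * k, by rw [mul_smul, h1, inv_smul_smul], by rw [mul_smul, h2, inv_smul_smul]⟩
      · rintro ⟨k, h1, h2⟩
        exact ⟨g * k, by rw [mul_smul, h1], by rw [mul_smul, h2]⟩
    simp only [A, this]
  have h1 := key A hA a b hab
  have h2 := key A hA a' b' hab'
  rw [rs_const hA a' a, ← h1] at h2
  have h3 : A a b = 1 := if_pos ⟨1, one_smul _ _, one_smul _ _⟩
  rw [h3] at h2
  by_contra hcon
  have h4 : A a' b' = 0 := if_neg hcon
  rw [h4] at h2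
  exact zero_ne_one h2

theorem hat_E_ne_zero [Fintype G] (hP : MulAction.IsPreprimitive G α)
    {ψ : AddChar (ZMod p) ℂ} (hψ : Faithful ψ) : S.hat ψ S.E ≠ 0 := by
  intro h
  have hT : MulAction.IsPretransitive G α := hP.toIsPretransitive
  have hconst := S.const_of_blocks hP S.E_inv (S.blocks_of_hat_eq_zero hψ h)
  have h1 := S.lam_E
  rw [lam_def] at h1
  have h2 : S.blk S.E true true = S.blk S.E true false := by
    rw [blk_def, blk_def]
    exact Finset.sum_congr rfl (fun x _ => hconst _ _ _ _)
  rw [h2, sub_self] at h1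
  exact zero_ne_one h1

/-- the third case -/
structure RankOne [Fintype G] (ψ : AddChar (ZMod p) ℂ) : Prop where
  tr : S.hat ψ S.E true true + S.hat ψ S.E false false = 1
  det : S.hat ψ S.E true true * S.hat ψ S.E false false
    - S.hat ψ S.E true false * S.hat ψ S.E false true = 0

theorem trichotomy [Fintype G] [DecidableEq α] (hP : MulAction.IsPreprimitive G α)
    {ψ : AddChar (ZMod p) ℂ} (hψ : Faithful ψ) : TwoTrans G α ∨ S.RankOne ψ := by
  have hT : MulAction.IsPretransitive G α := hP.toIsPretransitive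
  have h1 : S.hat ψ S.E * S.hat ψ S.E = S.hat ψ S.E := by
    rw [← S.hat_mul ψ S.E S.E_inv, S.E_mul_E]
  rcases idem_two _ h1 with h | h | h
  · exact absurd h (S.hat_E_ne_zero hP hψ)
  · exact Or.inl (S.twoTrans_of_hat_eq_one hP hψ h)
  · exact Or.inr ⟨h.1, h.2⟩

/-- the second character -/
noncomputable def th (ψ : AddChar (ZMod p) ℂ) (A : Matrix α α ℚ) : ℂ :=
  S.hat ψ A true true + S.hat ψ A false false - S.lam A

theorem th_def (ψ : AddChar (ZMod p) ℂ) (A : Matrix α α ℚ) :
    S.th ψ A = S.hat ψ A true true + S.hat ψ A false false - S.lam A := rfl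

theorem hat_decomp [Fintype G] [DecidableEq α] [MulAction.IsPretransitive G α]
    {ψ : AddChar (ZMod p) ℂ} (hR : S.RankOne ψ) {A : Matrix α α ℚ} (hA : Inv G A) :
    S.hat ψ A = (S.lam A : ℂ) • S.hat ψ S.E + S.th ψ A • (1 - S.hat ψ S.E) := by
  set M := S.hat ψ S.E with hM
  set N := S.hat ψ A with hN
  have hMM : M * M = M := by
    rw [hM, ← S.hat_mul ψ S.E S.E_inv, S.E_mul_E]
  have hNM : N * M = (S.lam A : ℂ) • M := by
    rw [hM, hN, ← S.hat_mul ψ A S.E_inv, S.mul_E hA, hat_smul]
  have hMN : M * N = (S.lam A : ℂ) • M := by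
    rw [hM, hN, ← S.hat_mul ψ S.E hA, S.E_mul hA, hat_smul]
  have htr := hR.tr
  have hdet := hR.det
  rw [← hM] at htr hdet
  have hF : (1 - M) true true * (1 - M) false false - (1 - M) true false * (1 - M) false true
      = 0 := by
    simp only [Matrix.sub_apply, Matrix.one_apply]
    norm_num
    linear_combination hdet - htr
  have h1 := rank_one_identity (1 - M) N hF
  have h2 : (1 - M) * N * (1 - M) = N - (S.lam A : ℂ) • M := by
    have h3 : (1 - M) * N * (1 - M) = N - N * M - M * N + M * N * M := by noncomm_ring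
    rw [h3, hNM, hMN, Matrix.smul_mul, hMM]
    abel
  have h4 : N * (1 - M) = N - (S.lam A : ℂ) • M := by
    rw [mul_sub, mul_one, hNM]
  have h5 : (N * (1 - M)) true true + (N * (1 - M)) false false = S.th ψ A := by
    rw [h4, th_def, ← hN]
    simp only [Matrix.sub_apply, Matrix.smul_apply, smul_eq_mul]
    linear_combination (-(S.lam A : ℂ)) * htr
  rw [h2, h5] at h1
  rw [← h1]
  abel

theorem th_mul [Fintype G] [DecidableEq α] [MulAction.IsPretransitive G α]
    {ψ : AddChar (ZMod p) ℂ} (hR : S.RankOne ψ) {A B : Matrix α α ℚ} (hA : Inv G A)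
    (hB : Inv G B) : S.th ψ (A * B) = S.th ψ A * S.th ψ B := by
  have hMM : S.hat ψ S.E * S.hat ψ S.E = S.hat ψ S.E := by
    rw [← S.hat_mul ψ S.E S.E_inv, S.E_mul_E]
  have h1 : S.hat ψ (A * B) = ((S.lam A : ℂ) * S.lam B) • S.hat ψ S.E
      + (S.th ψ A * S.th ψ B) • (1 - S.hat ψ S.E) := by
    rw [S.hat_mul ψ A hB, S.hat_decomp hR hA, S.hat_decomp hR hB]
    simp only [add_mul, mul_add, Matrix.smul_mul, Matrix.mul_smul, mul_sub, sub_mul, mul_one,
      one_mul, hMM, sub_self, smul_zero, sub_zero, add_zero, zero_add, smul_smul]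
    rw [mul_comm (S.lam B : ℂ), mul_comm (S.th ψ B)]
  have htr := hR.tr
  rw [th_def, h1, S.lam_mul hA hB]
  simp only [Matrix.add_apply, Matrix.smul_apply, smul_eq_mul, Matrix.sub_apply, Matrix.one_apply]
  push_cast
  linear_combination ((S.lam A : ℂ) * S.lam B - S.th ψ A * S.th ψ B) * htr

/-- the homomorphism to the group ring -/
def Th (A : Matrix α α ℚ) (x : ZMod p) : ℚ :=
  A (S.pt true 0) (S.pt true x) + A (S.pt false 0) (S.pt false x) - (if x = 0 then S.lam A else 0)

theorem Th_def (A : Matrix α α ℚ) (x : ZMod p) : S.Th A x =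
    A (S.pt true 0) (S.pt true x) + A (S.pt false 0) (S.pt false x)
      - (if x = 0 then S.lam A else 0) := rfl

theorem sum_Th [MulAction.IsPretransitive G α] {A : Matrix α α ℚ} (hA : Inv G A) (a : α) :
    ∑ x, S.Th A x = rs A a := by
  simp only [Th_def, Finset.sum_sub_distrib, Finset.sum_add_distrib]
  rw [Finset.sum_ite_eq' Finset.univ (0 : ZMod p) (fun _ => S.lam A), if_pos (Finset.mem_univ _)]
  change S.blk A true true + S.blk A false false - S.lam A = _
  rw [rs_const hA a (S.pt true 0), S.rs_eq_blk, (S.blk_symm hA).2, lam_def]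
  ring

theorem sum_Th_mul (ψ : AddChar (ZMod p) ℂ) (A : Matrix α α ℚ) :
    ∑ x, (S.Th A x : ℂ) * ψ x = S.th ψ A := by
  have h1 : ∀ x, (S.Th A x : ℂ) * ψ x = (A (S.pt true 0) (S.pt true x) : ℂ) * ψ x
      + (A (S.pt false 0) (S.pt false x) : ℂ) * ψ x - (if x = 0 then (S.lam A : ℂ) else 0) := by
    intro x
    rw [Th_def]
    by_cases hx : x = 0
    · subst hx
      rw [if_pos rfl, if_pos rfl, AddChar.map_zero_eq_one]
      push_cast
      ring
    · rw [if_neg hx, if_neg hx]
      push_cast
      ring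
  simp only [h1, Finset.sum_sub_distrib, Finset.sum_add_distrib]
  rw [Finset.sum_ite_eq' Finset.univ (0 : ZMod p) (fun _ => (S.lam A : ℂ)),
    if_pos (Finset.mem_univ _)]
  rfl

theorem Th_transpose [MulAction.IsPretransitive G α] {A : Matrix α α ℚ} (hA : Inv G A)
    (x : ZMod p) : S.Th Aᵀ x = S.Th A (-x) := by
  rw [Th_def, Th_def, S.lam_transpose hA, Matrix.transpose_apply, Matrix.transpose_apply,
    S.inv_sub hA true true x 0, S.inv_sub hA false false x 0, zero_sub]
  simp only [neg_eq_zero]

theorem rs_mul [MulAction.IsPretransitive G α] {A B : Matrix α α ℚ} (hB : Inv G B) (a : α) :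
    rs (A * B) a = rs A a * rs B a := by
  simp only [rs_def, Matrix.mul_apply]
  rw [Finset.sum_comm, Finset.sum_mul]
  refine Finset.sum_congr rfl (fun z _ => ?_)
  rw [← Finset.mul_sum]
  congr 1
  exact rs_const hB z a

/-- equality in the group ring is detected by augmentation and `ψ` -/
theorem eq_of_aug_of_ev {ψ : AddChar (ZMod p) ℂ} (hψ : Faithful ψ) (f h : ZMod p → ℚ)
    (h1 : ∑ x, f x = ∑ x, h x) (h2 : ∑ x, (f x : ℂ) * ψ x = ∑ x, (h x : ℂ) * ψ x)
    (x : ZMod p) : f x = h x := by
  have h3 : ∑ x, ((f x - h x : ℚ) : ℂ) * ψ x = 0 := by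
    simp only [Rat.cast_sub, sub_mul, Finset.sum_sub_distrib]
    rw [h2, sub_self]
  have h4 := hψ (fun x => f x - h x) h3
  have h5 : ∑ y : ZMod p, (f y - h y) = p * (f x - h x) := by
    rw [Finset.sum_congr rfl (fun y _ => h4 y x), Finset.sum_const, nsmul_eq_mul,
      Finset.card_univ, ZMod.card]
  rw [Finset.sum_sub_distrib, h1, sub_self] at h5
  have hp0 : (p : ℚ) ≠ 0 := by exact_mod_cast (Fact.out : p.Prime).ne_zero
  have h6 : f x - h x = 0 := by
    rcases mul_eq_zero.mp h5.symm with h7 | h7
    · exact absurd h7 hp0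
    · exact h7
  linarith

/-- the key identity (F) -/
theorem key_identity [Fintype G] [DecidableEq α] [MulAction.IsPretransitive G α]
    {ψ : AddChar (ZMod p) ℂ} (hψ : Faithful ψ) (hR : S.RankOne ψ) {A B : Matrix α α ℚ}
    (hA : Inv G A) (hB : Inv G B) :
    ∑ x, S.Th A x * S.Th B x = (A * Bᵀ) (S.pt true 0) (S.pt true 0)
      + (A * Bᵀ) (S.pt false 0) (S.pt false 0) - S.lam A * S.lam B := by
  let c : ZMod p → ℚ := fun x => ∑ y, S.Th A y * S.Th B (y - x)
  have hc : ∀ x, c x = S.Th (A * Bᵀ) x := by
    apply eq_of_aug_of_ev hψ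
    · rw [S.sum_Th (hA.mul hB.transpose) (S.pt true 0), rs_mul hB.transpose,
        cs_eq_rs hB (S.pt true 0) (S.pt true 0), ← S.sum_Th hA, ← S.sum_Th hB]
      simp only [c]
      rw [Finset.sum_comm, Finset.sum_mul]
      refine Finset.sum_congr rfl (fun y _ => ?_)
      rw [← Finset.mul_sum]
      congr 1
      exact Fintype.sum_equiv (Equiv.subLeft y) _ _ (fun x => rfl)
    · rw [S.sum_Th_mul, S.th_mul hR hA hB.transpose, ← S.sum_Th_mul, ← S.sum_Th_mul]
      simp only [c]
      have h1 : ∀ x, ((∑ y, S.Th A y * S.Th B (y - x) : ℚ) : ℂ) * ψ x =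
          ∑ y, ((S.Th A y : ℂ) * ψ y) * ((S.Th Bᵀ (x - y) : ℂ) * ψ (x - y)) := by
        intro x
        push_cast
        rw [Finset.sum_mul]
        refine Finset.sum_congr rfl (fun y _ => ?_)
        have h2 : ψ x = ψ y * ψ (x - y) := by rw [← AddChar.map_add_eq_mul, add_sub_cancel]
        rw [S.Th_transpose hB, neg_sub, h2]
        ring
      simp only [h1]
      rw [Finset.sum_comm, Finset.sum_mul]
      refine Finset.sum_congr rfl (fun y _ => ?_)
      rw [← Finset.mul_sum]
      congr 1
      exact Fintype.sum_equiv (Equiv.subRight y) _ _ (fun x => rfl)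
  have h0 := hc 0
  simp only [c, sub_zero] at h0
  rw [h0, Th_def, if_pos rfl, S.lam_mul hA hB.transpose, S.lam_transpose hB]

theorem Th_E [Fintype G] [DecidableEq α] [MulAction.IsPretransitive G α]
    {ψ : AddChar (ZMod p) ℂ} (hψ : Faithful ψ) (hR : S.RankOne ψ) (x : ZMod p) :
    S.Th S.E x = 0 := by
  apply eq_of_aug_of_ev hψ (S.Th S.E) (fun _ => 0)
  · rw [Finset.sum_const_zero, S.sum_Th S.E_inv (S.pt true 0)]
    have h1 := congrFun (congrFun (S.E_mul (Inv.J (G := G) (α := α))) (S.pt true 0)) (S.pt true 0)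
    rw [S.lam_J, zero_smul, Matrix.mul_apply] at h1
    rw [rs_def]
    simpa [J] using h1
  · rw [S.sum_Th_mul, th_def, S.lam_E]
    have h2 := hR.tr
    rw [h2]
    simp

theorem lam_Ep [Fintype G] [DecidableEq α] [MulAction.IsPretransitive G α]
    {ψ : AddChar (ZMod p) ℂ} (hψ : Faithful ψ) (hR : S.RankOne ψ) : S.lam S.Ep = 2 := by
  have h1 := S.Th_E hψ hR 0
  rw [Th_def, if_pos rfl, S.lam_E, E_def, Matrix.smul_apply, Matrix.smul_apply, Ep_diag, Ep_diag]
    at h1
  have h2 := S.one_le_lam_Ep
  have h3 : S.lam S.Ep ≠ 0 := by linarith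
  simp only [smul_eq_mul, mul_one] at h1
  field_simp at h1
  linarith

theorem Ep_diag_blocks [Fintype G] [DecidableEq α] [MulAction.IsPretransitive G α]
    {ψ : AddChar (ZMod p) ℂ} (hψ : Faithful ψ) (hR : S.RankOne ψ) {x : ZMod p} (hx : x ≠ 0) :
    S.Ep (S.pt true 0) (S.pt true x) + S.Ep (S.pt false 0) (S.pt false x) = 0 := by
  have h1 := S.Th_E hψ hR x
  rw [Th_def, if_neg hx, E_def, Matrix.smul_apply, Matrix.smul_apply, S.lam_Ep hψ hR] at h1
  simp only [smul_eq_mul] at h1
  linarith

/-- `-1` is not an entry of `Ep` (primitivity) -/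
theorem Ep_ne_neg_one [Fintype G] [DecidableEq α] (hP : MulAction.IsPreprimitive G α)
    {ψ : AddChar (ZMod p) ℂ} (hψ : Faithful ψ) (hR : S.RankOne ψ) (a b : α) :
    S.Ep a b ≠ -1 := by
  intro h
  have hT : MulAction.IsPretransitive G α := hP.toIsPretransitive
  have hcard : (Nat.card G : ℚ) ≠ 0 := by
    have : (Fintype.card G : ℚ) ≠ 0 := by exact_mod_cast Fintype.card_ne_zero
    rwa [Nat.card_eq_fintype_card]
  have hpm : ∀ a b : α, S.u a * S.u b = 1 ∨ S.u a * S.u b = -1 := by
    intro a b
    unfold u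
    split_ifs <;> norm_num
  -- all products are -1
  have h1 : ∑ g : G, (S.u (g • a) * S.u (g • b) + 1) = 0 := by
    rw [Ep_apply] at h
    have h2 : ∑ g : G, S.u (g • a) * S.u (g • b) = - (Nat.card G : ℚ) := by
      have h3 : (Nat.card G : ℚ) * ((Nat.card G : ℚ)⁻¹ * ∑ g : G, S.u (g • a) * S.u (g • b))
          = (Nat.card G : ℚ) * (-1) := by rw [h]
      rw [← mul_assoc, mul_inv_cancel₀ hcard, one_mul] at h3
      rw [h3]
      ring
    rw [Finset.sum_add_distrib, h2, Finset.sum_const, nsmul_eq_mul, Finset.card_univ,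
      Nat.card_eq_fintype_card]
    ring
  have h2 : ∀ g : G, S.u (g • a) * S.u (g • b) = -1 := by
    intro g
    have h3 := (Finset.sum_eq_zero_iff_of_nonneg (fun g _ => by
      rcases hpm (g • a) (g • b) with h4 | h4 <;> rw [h4] <;> norm_num)).mp h1 g
      (Finset.mem_univ g)
    linarith
  let B : Set α := {c | ∀ g : G, S.u (g • a) * S.u (g • c) = S.u a * S.u c}
  have ha : a ∈ B := by
    intro g
    rw [u_mul_self, u_mul_self]
  have hb : b ∈ B := by
    intro g
    have h3 := h2 1
    rw [one_smul, one_smul] at h3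
    rw [h2 g, h3]
  have hblock : MulAction.IsBlock G B := by
    rw [MulAction.isBlock_iff_smul_eq_or_disjoint]
    intro h
    by_cases hd : Disjoint (h • B) B
    · exact Or.inr hd
    · left
      rw [Set.not_disjoint_iff] at hd
      obtain ⟨_, ⟨c, hc, rfl⟩, hhc⟩ := hd
      have hhc : ∀ g : G, S.u (g • a) * S.u (g • h • c) = S.u a * S.u (h • c) := hhc
      -- `z ∈ B` iff products with `c` constant
      have hBc : ∀ z, z ∈ B ↔ ∀ g : G, S.u (g • c) * S.u (g • z) = S.u c * S.u z := by
        intro z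
        constructor
        · intro hz g
          have h3 := hc g
          have h4 := hz g
          have h5 := S.u_mul_self (g • a)
          have h6 := S.u_mul_self a
          calc S.u (g • c) * S.u (g • z)
              = (S.u (g • a) * S.u (g • a)) * (S.u (g • c) * S.u (g • z)) := by rw [h5, one_mul]
            _ = (S.u (g • a) * S.u (g • c)) * (S.u (g • a) * S.u (g • z)) := by ring
            _ = (S.u a * S.u c) * (S.u a * S.u z) := by rw [h3, h4]
            _ = (S.u a * S.u a) * (S.u c * S.u z) := by ring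
            _ = S.u c * S.u z := by rw [h6, one_mul]
        · intro hz g
          have h3 := hc g
          have h4 := hz g
          have h5 := S.u_mul_self (g • c)
          have h6 := S.u_mul_self c
          calc S.u (g • a) * S.u (g • z)
              = (S.u (g • c) * S.u (g • c)) * (S.u (g • a) * S.u (g • z)) := by rw [h5, one_mul]
            _ = (S.u (g • a) * S.u (g • c)) * (S.u (g • c) * S.u (g • z)) := by ring
            _ = (S.u a * S.u c) * (S.u c * S.u z) := by rw [h3, h4]
            _ = (S.u c * S.u c) * (S.u a * S.u z) := by ring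
            _ = S.u a * S.u z := by rw [h6, one_mul]
      have hBhc : ∀ z, z ∈ B ↔ ∀ g : G, S.u (g • h • c) * S.u (g • z) = S.u (h • c) * S.u z := by
        intro z
        constructor
        · intro hz g
          have h3 := hhc g
          have h4 := hz g
          have h5 := S.u_mul_self (g • a)
          have h6 := S.u_mul_self a
          calc S.u (g • h • c) * S.u (g • z)
              = (S.u (g • a) * S.u (g • a)) * (S.u (g • h • c) * S.u (g • z)) := by
                rw [h5, one_mul]
            _ = (S.u (g • a) * S.u (g • h • c)) * (S.u (g • a) * S.u (g • z)) := by ring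
            _ = (S.u a * S.u (h • c)) * (S.u a * S.u z) := by rw [h3, h4]
            _ = (S.u a * S.u a) * (S.u (h • c) * S.u z) := by ring
            _ = S.u (h • c) * S.u z := by rw [h6, one_mul]
        · intro hz g
          have h3 := hhc g
          have h4 := hz g
          have h5 := S.u_mul_self (g • h • c)
          have h6 := S.u_mul_self (h • c)
          calc S.u (g • a) * S.u (g • z)
              = (S.u (g • h • c) * S.u (g • h • c)) * (S.u (g • a) * S.u (g • z)) := by
                rw [h5, one_mul]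
            _ = (S.u (g • a) * S.u (g • h • c)) * (S.u (g • h • c) * S.u (g • z)) := by ring
            _ = (S.u a * S.u (h • c)) * (S.u (h • c) * S.u z) := by rw [h3, h4]
            _ = (S.u (h • c) * S.u (h • c)) * (S.u a * S.u z) := by ring
            _ = S.u a * S.u z := by rw [h6, one_mul]
      have htrans : ∀ z, z ∈ B ↔ h • z ∈ B := by
        intro z
        rw [hBc, hBhc]
        constructor
        · intro hz g
          have h3 := hz (g * h)
          have h4 := hz h
          rw [mul_smul, mul_smul] at h3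
          rw [h3, h4]
        · intro hz g
          have h3 := hz (g * h⁻¹)
          have h4 := hz h⁻¹
          rw [mul_smul, inv_smul_smul, mul_smul, inv_smul_smul] at h3
          rw [inv_smul_smul, inv_smul_smul] at h4
          rw [h3, h4]
      ext z
      constructor
      · rintro ⟨z', hz', rfl⟩
        exact (htrans z').mp hz'
      · intro hz
        refine ⟨h⁻¹ • z, (htrans _).mpr ?_, smul_inv_smul h z⟩
        rw [smul_inv_smul]
        exact hz
  rcases hP.isTrivialBlock_of_isBlock hblock with h3 | h3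
  · have h4 := h3 ha hb
    rw [← h4, Ep_diag] at h
    norm_num at h
  · -- then `Ep` is `u u^T`
    have hall : ∀ c, c ∈ B := fun c => by rw [h3]; trivial
    have hEp : ∀ x y, S.Ep x y = S.u x * S.u y := by
      intro x y
      have h5 : ∀ g : G, S.u (g • x) * S.u (g • y) = S.u x * S.u y := by
        intro g
        have h6 := hall x g
        have h7 := hall y g
        have h8 := S.u_mul_self (g • a)
        have h9 := S.u_mul_self a
        calc S.u (g • x) * S.u (g • y)
            = (S.u (g • a) * S.u (g • a)) * (S.u (g • x) * S.u (g • y)) := by rw [h8, one_mul]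
          _ = (S.u (g • a) * S.u (g • x)) * (S.u (g • a) * S.u (g • y)) := by ring
          _ = (S.u a * S.u x) * (S.u a * S.u y) := by rw [h6, h7]
          _ = (S.u a * S.u a) * (S.u x * S.u y) := by ring
          _ = S.u x * S.u y := by rw [h9, one_mul]
      rw [Ep_apply]
      simp only [h5, Finset.sum_const, nsmul_eq_mul, Finset.card_univ]
      rw [← mul_assoc, Nat.card_eq_fintype_card, inv_mul_cancel₀, one_mul]
      exact_mod_cast Fintype.card_ne_zero
    have h5 := S.Ep_diag_blocks hψ hR (one_ne_zero : (1 : ZMod p) ≠ 0)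
    rw [hEp, hEp, u_pt, u_pt, u_pt, u_pt] at h5
    norm_num at h5

/-- the orbital classes -/
abbrev Cls (G : Type*) [Group G] (α : Type*) [MulAction G α] :=
  MulAction.orbitRel.Quotient G (α × α)

/-- the class of a pair -/
def cls (G : Type*) [Group G] {α : Type*} [MulAction G α] (a b : α) : Cls G α :=
  Quotient.mk _ (a, b)

theorem cls_eq_iff (a b c d : α) : cls G a b = cls G c d ↔ ∃ g : G, g • a = c ∧ g • b = d := by
  unfold cls
  rw [Quotient.eq, MulAction.orbitRel_apply]
  constructor
  · rintro ⟨g, hg⟩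
    refine ⟨g⁻¹, ?_, ?_⟩
    · rw [inv_smul_eq_iff]
      exact (congrArg Prod.fst hg).symm
    · rw [inv_smul_eq_iff]
      exact (congrArg Prod.snd hg).symm
  · rintro ⟨g, h1, h2⟩
    refine ⟨g⁻¹, ?_⟩
    change (g⁻¹ • c, g⁻¹ • d) = (a, b)
    rw [← h1, ← h2, inv_smul_smul, inv_smul_smul]

theorem cls_smul (g : G) (a b : α) : cls G (g • a) (g • b) = cls G a b :=
  ((cls_eq_iff a b (g • a) (g • b)).mpr ⟨g, rfl, rfl⟩).symm

/-- orbital matrices -/
noncomputable def om (j : Cls G α) : Matrix α α ℚ :=
  open Classical in fun a b => if cls G a b = j then 1 else 0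

theorem om_apply (j : Cls G α) (a b : α) [Decidable (cls G a b = j)] :
    om j a b = if cls G a b = j then 1 else 0 := by
  unfold om
  congr

theorem om_pos {j : Cls G α} {a b : α} (h : cls G a b = j) : om j a b = 1 := by
  classical
  rw [om_apply, if_pos h]

theorem om_neg {j : Cls G α} {a b : α} (h : cls G a b ≠ j) : om j a b = 0 := by
  classical
  rw [om_apply, if_neg h]

theorem om_nonneg (j : Cls G α) (a b : α) : 0 ≤ om j a b := by
  by_cases h : cls G a b = j
  · rw [om_pos h]; exact zero_le_one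
  · rw [om_neg h]

theorem om_inv (j : Cls G α) : Inv G (om j) := by
  intro g a b
  by_cases h : cls G a b = j
  · rw [om_pos h, om_pos ((cls_smul g a b).trans h)]
  · rw [om_neg h, om_neg (fun h' => h ((cls_smul g a b).symm.trans h'))]

theorem om_mul_self (j : Cls G α) (a b : α) : om j a b * om j a b = om j a b := by
  by_cases h : cls G a b = j
  · rw [om_pos h, one_mul]
  · rw [om_neg h, zero_mul]

theorem om_mul_ne {i j : Cls G α} (hij : i ≠ j) (a b : α) : om i a b * om j a b = 0 := by
  by_cases h : cls G a b = i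
  · rw [om_neg (j := j) (fun h' => hij (h.symm.trans h')), mul_zero]
  · rw [om_neg h, zero_mul]

theorem cls_diag_ne {a b c : α} (h : b ≠ c) : cls G a a ≠ cls G b c := by
  intro h'
  obtain ⟨g, h1, h2⟩ := (cls_eq_iff a a b c).mp h'
  exact h (h1.symm.trans h2)

theorem entry_eq_of_cls {A : Matrix α α ℚ} (hA : Inv G A) {a b c d : α}
    (h : cls G a b = cls G c d) : A a b = A c d := by
  obtain ⟨g, rfl, rfl⟩ := (cls_eq_iff a b c d).mp h
  exact (hA g a b).symm

/-- the diagonal trace function -/
noncomputable def dd (j : Cls G α) (x : ZMod p) : ℚ :=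
  om j (S.pt true 0) (S.pt true x) + om j (S.pt false 0) (S.pt false x)

theorem dd_def (j : Cls G α) (x : ZMod p) : S.dd j x =
    om j (S.pt true 0) (S.pt true x) + om j (S.pt false 0) (S.pt false x) := rfl

/-- the subdegree -/
noncomputable def K (j : Cls G α) : ℚ := rs (om j) (S.pt true 0)

/-- the eigenvalue -/
noncomputable def L (j : Cls G α) : ℚ := S.lam (om j)

theorem dd_nonneg (j : Cls G α) (x : ZMod p) : 0 ≤ S.dd j x :=
  add_nonneg (om_nonneg _ _ _) (om_nonneg _ _ _)

theorem dd_mul (j : Cls G α) (x : ZMod p) : 0 ≤ S.dd j x * (2 - S.dd j x) := by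
  rw [dd_def]
  by_cases h1 : cls G (S.pt true 0) (S.pt true x) = j <;>
  by_cases h2 : cls G (S.pt false 0) (S.pt false x) = j
  · rw [om_pos h1, om_pos h2]; norm_num
  · rw [om_pos h1, om_neg h2]; norm_num
  · rw [om_neg h1, om_pos h2]; norm_num
  · rw [om_neg h1, om_neg h2]; norm_num

section Transitive

variable [MulAction.IsPretransitive G α]

theorem K_eq (j : Cls G α) (a : α) : S.K j = rs (om j) a := rs_const (om_inv j) _ _

theorem L_eq [Fintype G] (a b : α) : S.L (cls G a b) = S.Ep a b * S.K (cls G a b) := by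
  have h1 := congrFun (congrFun (S.mul_Ep (om_inv (cls G a b))) a) a
  rw [Matrix.smul_apply, Ep_diag, smul_eq_mul, mul_one, Matrix.mul_apply] at h1
  rw [L, ← h1, S.K_eq _ a, rs_def, Finset.mul_sum]
  refine Finset.sum_congr rfl (fun z _ => ?_)
  by_cases h : cls G a z = cls G a b
  · rw [om_pos h, one_mul, mul_one, S.Ep_symm, entry_eq_of_cls S.Ep_inv h]
  · rw [om_neg h, zero_mul, mul_zero]

theorem K_pos (a b : α) : 0 < S.K (cls G a b) := by
  rw [S.K_eq _ a, rs_def]
  have h1 := Finset.single_le_sum (f := fun z => om (cls G a b) a z)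
    (fun z _ => om_nonneg _ _ _) (Finset.mem_univ b)
  have h2 : om (cls G a b) a b = 1 := om_pos rfl
  have h3 : om (cls G a b) a b ≤ ∑ z, om (cls G a b) a z := h1
  rw [h2] at h3
  linarith

theorem sum_dd (j : Cls G α) : ∑ x, S.dd j x = S.K j + S.L j := by
  simp only [dd_def, Finset.sum_add_distrib]
  change S.blk (om j) true true + S.blk (om j) false false = _
  rw [K, L, S.rs_eq_blk, (S.blk_symm (om_inv j)).2, lam_def]
  ring

theorem Th_om (j : Cls G α) (x : ZMod p) :
    S.Th (om j) x = S.dd j x - (if x = 0 then S.L j else 0) := rfl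

theorem dd_zero {j : Cls G α} (hj : ∀ a, cls G a a ≠ j) : S.dd j 0 = 0 := by
  rw [dd_def, om_neg (hj _), om_neg (hj _), add_zero]

theorem sum_Th_om {i j : Cls G α} (hi : ∀ a, cls G a a ≠ i) (hj : ∀ a, cls G a a ≠ j) :
    ∑ x, S.Th (om i) x * S.Th (om j) x = ∑ x, S.dd i x * S.dd j x + S.L i * S.L j := by
  have h1 : ∀ x, S.Th (om i) x * S.Th (om j) x =
      S.dd i x * S.dd j x + (if x = 0 then S.L i * S.L j else 0) := by
    intro x
    rw [Th_om, Th_om]
    by_cases hx : x = 0
    · subst hx
      rw [S.dd_zero hi, S.dd_zero hj, if_pos rfl, if_pos rfl, if_pos rfl]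
      ring
    · rw [if_neg hx, if_neg hx, if_neg hx]
      ring
  simp only [h1, Finset.sum_add_distrib]
  rw [Finset.sum_ite_eq' Finset.univ (0 : ZMod p) (fun _ => S.L i * S.L j),
    if_pos (Finset.mem_univ _)]

theorem FF_ne [Fintype G] [DecidableEq α] {ψ : AddChar (ZMod p) ℂ} (hψ : Faithful ψ)
    (hR : S.RankOne ψ) {i j : Cls G α} (hi : ∀ a, cls G a a ≠ i) (hj : ∀ a, cls G a a ≠ j)
    (hij : i ≠ j) : ∑ x, S.dd i x * S.dd j x = -2 * S.L i * S.L j := by
  have h1 := S.key_identity hψ hR (om_inv i) (om_inv j)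
  rw [S.sum_Th_om hi hj] at h1
  have h2 : ∀ a, (om i * (om j)ᵀ) a a = 0 := by
    intro a
    rw [Matrix.mul_apply]
    exact Finset.sum_eq_zero (fun z _ => om_mul_ne hij a z)
  rw [h2, h2] at h1
  change _ = 0 + 0 - S.L i * S.L j at h1
  linarith

theorem FF_eq [Fintype G] [DecidableEq α] {ψ : AddChar (ZMod p) ℂ} (hψ : Faithful ψ)
    (hR : S.RankOne ψ) {j : Cls G α} (hj : ∀ a, cls G a a ≠ j) :
    ∑ x, S.dd j x * S.dd j x = 2 * S.K j - 2 * S.L j * S.L j := by
  have h1 := S.key_identity hψ hR (om_inv j) (om_inv j)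
  rw [S.sum_Th_om hj hj] at h1
  have h2 : ∀ a, (om j * (om j)ᵀ) a a = S.K j := by
    intro a
    rw [Matrix.mul_apply, S.K_eq j a, rs_def]
    exact Finset.sum_congr rfl (fun z _ => om_mul_self j a z)
  rw [h2, h2] at h1
  change _ = S.K j + S.K j - S.L j * S.L j at h1
  linarith

theorem rs_Ep [Fintype G] (a : α) : rs S.Ep a = 0 := by
  have h1 := congrFun (congrFun (S.Ep_mul (Inv.J (G := G) (α := α))) a) a
  rw [S.lam_J, zero_smul, Matrix.mul_apply] at h1
  rw [rs_def]
  simpa [J] using h1

theorem exists_neg [Fintype G] [DecidableEq α] {ψ : AddChar (ZMod p) ℂ} (hψ : Faithful ψ)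
    (hR : S.RankOne ψ) : ∃ a b : α, S.Ep a b < 0 := by
  by_contra hcon
  push Not at hcon
  have h1 := S.lam_Ep hψ hR
  have h2 := S.rs_Ep (S.pt true 0)
  rw [S.rs_eq_blk] at h2
  rw [lam_def] at h1
  have h3 : 0 ≤ S.blk S.Ep true false := Finset.sum_nonneg (fun x _ => hcon _ _)
  linarith

theorem blk_om_nat (j : Cls G α) (b c : Bool) : ∃ n : ℕ, S.blk (om j) b c = n := by
  classical
  refine ⟨(Finset.univ.filter (fun x => cls G (S.pt b 0) (S.pt c x) = j)).card, ?_⟩
  rw [blk_def]
  simp only [om_apply]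
  rw [Finset.sum_boole]

end Transitive

end Coord

open Coord

variable (S : Coord p G α)

/-- the analysis in the rank one case -/
theorem rank_one_case [Fintype G] [DecidableEq α] (hP : MulAction.IsPreprimitive G α)
    {ψ : AddChar (ZMod p) ℂ} (hψ : Faithful ψ) (hR : S.RankOne ψ) :
    ∃ m : ℕ, 0 < m ∧ p = 2 * m ^ 2 + 2 * m + 1 ∧ ∃ jp jm : Cls G α, jp ≠ jm ∧
      (∀ a b : α, a ≠ b → cls G a b = jp ∨ cls G a b = jm) ∧
      (∀ a, cls G a a ≠ jp) ∧ (∀ a, cls G a a ≠ jm) ∧
      S.K jp = m * (2 * m + 1) ∧ S.K jm = (m + 1) * (2 * m + 1) := by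
  have hT : MulAction.IsPretransitive G α := hP.toIsPretransitive
  -- positivity of `K + L`
  have hKL : ∀ a b : α, 0 < S.K (cls G a b) + S.L (cls G a b) := by
    intro a b
    have h1 : 0 ≤ S.K (cls G a b) + S.L (cls G a b) := by
      rw [← S.sum_dd]
      exact Finset.sum_nonneg (fun x _ => S.dd_nonneg _ x)
    have h2 := S.K_pos a b
    have h3 := S.Ep_ne_neg_one hP hψ hR a b
    rw [S.L_eq] at h1 ⊢
    have h4 : S.K (cls G a b) + S.Ep a b * S.K (cls G a b)
        = S.K (cls G a b) * (1 + S.Ep a b) := by ring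
    rw [h4] at h1 ⊢
    have h5 : 0 ≤ 1 + S.Ep a b := nonneg_of_mul_nonneg_right h1 h2
    have h6 : 1 + S.Ep a b ≠ 0 := fun h => h3 (by linarith)
    exact mul_pos h2 (lt_of_le_of_ne h5 (Ne.symm h6))
  -- a negative orbital
  obtain ⟨a₁, b₁, hab₁⟩ := S.exists_neg hψ hR
  set jm := cls G a₁ b₁ with hjm
  have hne₁ : a₁ ≠ b₁ := by
    rintro rfl
    rw [S.Ep_diag] at hab₁
    linarith
  have hjm_nd : ∀ a, cls G a a ≠ jm := fun a => cls_diag_ne hne₁
  have hLm : S.L jm < 0 := by
    rw [hjm, S.L_eq]
    exact mul_neg_of_neg_of_pos hab₁ (S.K_pos a₁ b₁)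
  -- it meets the diagonal blocks
  have hex : ∃ x, S.dd jm x ≠ 0 := by
    by_contra hcon
    push Not at hcon
    have h1 := hKL a₁ b₁
    rw [← S.sum_dd, Finset.sum_eq_zero (fun x _ => hcon x)] at h1
    exact lt_irrefl _ h1
  obtain ⟨x₁, hx₁⟩ := hex
  have hx₁0 : x₁ ≠ 0 := by
    rintro rfl
    exact hx₁ (S.dd_zero hjm_nd)
  have hpt : ∀ (b : Bool) (x : ZMod p), x ≠ 0 → S.pt b 0 ≠ S.pt b x :=
    fun b x hx h => hx (S.pt_inj h).2.symm
  have hLsign : ∀ a b : α, (S.L (cls G a b) = 0 ↔ S.Ep a b = 0) ∧
      (0 < S.L (cls G a b) ↔ 0 < S.Ep a b) ∧ (S.L (cls G a b) < 0 ↔ S.Ep a b < 0) := by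
    intro a b
    have h1 := S.K_pos a b
    rw [S.L_eq]
    refine ⟨?_, ?_, ?_⟩
    · constructor
      · intro h
        rcases mul_eq_zero.mp h with h2 | h2
        · exact h2
        · exact absurd h2 (ne_of_gt h1)
      · intro h
        rw [h, zero_mul]
    · exact mul_pos_iff_of_pos_right h1
    · constructor
      · intro h
        by_contra h2
        push Not at h2
        have := mul_nonneg h2 h1.le
        linarith
      · intro h
        exact mul_neg_of_neg_of_pos h h1
  -- the positive orbital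
  obtain ⟨jp, a₂, b₂, hjp, hne₂, hab₂⟩ : ∃ (jp : Cls G α) (a₂ b₂ : α), jp = cls G a₂ b₂ ∧ a₂ ≠ b₂ ∧
      0 < S.Ep a₂ b₂ := by
    have h1 := S.Ep_diag_blocks hψ hR hx₁0
    by_cases h2 : cls G (S.pt true 0) (S.pt true x₁) = jm
    · refine ⟨_, S.pt false 0, S.pt false x₁, rfl, hpt _ _ hx₁0, ?_⟩
      have h3 : S.Ep (S.pt true 0) (S.pt true x₁) < 0 := by
        rw [← (hLsign _ _).2.2, h2]
        exact hLm
      linarith
    · have h4 : cls G (S.pt false 0) (S.pt false x₁) = jm := by
        by_contra h5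
        apply hx₁
        rw [S.dd_def, om_neg h2, om_neg h5, add_zero]
      refine ⟨_, S.pt true 0, S.pt true x₁, rfl, hpt _ _ hx₁0, ?_⟩
      have h3 : S.Ep (S.pt false 0) (S.pt false x₁) < 0 := by
        rw [← (hLsign _ _).2.2, h4]
        exact hLm
      linarith
  have hjp_nd : ∀ a, cls G a a ≠ jp := fun a => by rw [hjp]; exact cls_diag_ne hne₂
  have hLp : 0 < S.L jp := by
    rw [hjp, (hLsign _ _).2.1]
    exact hab₂
  have hpm : jp ≠ jm := by
    rintro h
    rw [h] at hLp
    linarith
  -- all other orbitals have `L = 0`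
  have hother : ∀ j : Cls G α, (∀ a, cls G a a ≠ j) → j ≠ jp → j ≠ jm → S.L j = 0 := by
    intro j hj h1 h2
    have h3 := S.FF_ne hψ hR hj hjp_nd h1
    have h4 := S.FF_ne hψ hR hj hjm_nd h2
    have h5 : 0 ≤ ∑ x, S.dd j x * S.dd jp x :=
      Finset.sum_nonneg (fun x _ => mul_nonneg (S.dd_nonneg _ _) (S.dd_nonneg _ _))
    have h6 : 0 ≤ ∑ x, S.dd j x * S.dd jm x :=
      Finset.sum_nonneg (fun x _ => mul_nonneg (S.dd_nonneg _ _) (S.dd_nonneg _ _))
    rw [h3] at h5
    rw [h4] at h6
    have h7 : S.L j ≤ 0 := by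
      by_contra h8
      push Not at h8
      have := mul_pos h8 hLp
      nlinarith
    have h8 : 0 ≤ S.L j := by
      by_contra h9
      push Not at h9
      have := mul_pos_of_neg_of_neg h9 hLm
      nlinarith
    linarith
  have hcases : ∀ a b : α, a ≠ b → (S.L (cls G a b) = 0 ∧ cls G a b ≠ jp ∧ cls G a b ≠ jm) ∨
      (cls G a b = jp) ∨ (cls G a b = jm) := by
    intro a b hab
    by_cases h1 : cls G a b = jp
    · exact Or.inr (Or.inl h1)
    · by_cases h2 : cls G a b = jm
      · exact Or.inr (Or.inr h2)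
      · exact Or.inl ⟨hother _ (fun c => cls_diag_ne hab) h1 h2, h1, h2⟩
  -- comparison of `d_+` and `d_-`
  have hdd : ∀ x, S.dd jp x = S.dd jm x ∧ S.dd jp x * S.dd jp x = S.dd jp x ∧
      (S.L (cls G (S.pt true 0) (S.pt true x)) ≠ 0 → x ≠ 0 → S.dd jp x = 1) := by
    intro x
    by_cases hx : x = 0
    · subst hx
      rw [S.dd_zero hjp_nd, S.dd_zero hjm_nd]
      exact ⟨rfl, by norm_num, fun _ h => absurd rfl h⟩
    · have h1 := S.Ep_diag_blocks hψ hR hx
      have hA := hLsign (S.pt true 0) (S.pt true x)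
      have hB := hLsign (S.pt false 0) (S.pt false x)
      rcases hcases _ _ (hpt true x hx) with ⟨h2, h3, h4⟩ | h2 | h2
      · have h5 : S.L (cls G (S.pt false 0) (S.pt false x)) = 0 := by
          rw [hB.1]
          have := hA.1.mp h2
          linarith
        have h6 : cls G (S.pt false 0) (S.pt false x) ≠ jp := by
          intro h
          rw [h] at h5
          linarith
        have h7 : cls G (S.pt false 0) (S.pt false x) ≠ jm := by
          intro h
          rw [h] at h5
          linarith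
        rw [S.dd_def, S.dd_def, om_neg h3, om_neg h4, om_neg h6, om_neg h7]
        exact ⟨rfl, by norm_num, fun h => absurd h2 h⟩
      · have h5 : S.L (cls G (S.pt false 0) (S.pt false x)) < 0 := by
          rw [hB.2.2]
          have := hA.2.1.mp (by rw [h2]; exact hLp)
          linarith
        have h6 : cls G (S.pt false 0) (S.pt false x) = jm := by
          rcases hcases _ _ (hpt false x hx) with ⟨h7, _, _⟩ | h7 | h7
          · rw [h7] at h5; exact absurd h5 (lt_irrefl _)
          · rw [h7] at h5; linarith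
          · exact h7
        rw [S.dd_def, S.dd_def, om_pos h2, om_neg (j := jp) (by rw [h6]; exact hpm.symm),
          om_neg (j := jm) (by rw [h2]; exact hpm), om_pos h6]
        exact ⟨by norm_num, by norm_num, fun _ _ => by norm_num⟩
      · have h5 : 0 < S.L (cls G (S.pt false 0) (S.pt false x)) := by
          rw [hB.2.1]
          have := hA.2.2.mp (by rw [h2]; exact hLm)
          linarith
        have h6 : cls G (S.pt false 0) (S.pt false x) = jp := by
          rcases hcases _ _ (hpt false x hx) with ⟨h7, _, _⟩ | h7 | h7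
          · rw [h7] at h5; exact absurd h5 (lt_irrefl _)
          · exact h7
          · rw [h7] at h5; linarith
        rw [S.dd_def, S.dd_def, om_pos h2, om_neg (j := jm) (by rw [h6]; exact hpm),
          om_neg (j := jp) (by rw [h2]; exact hpm.symm), om_pos h6]
        exact ⟨by norm_num, by norm_num, fun _ _ => by norm_num⟩
  -- numerical identities
  have e1 := S.sum_dd jp
  have e2 := S.sum_dd jm
  have e3 := S.FF_eq hψ hR hjp_nd
  have e4 := S.FF_ne hψ hR hjp_nd hjm_nd hpm
  rw [Finset.sum_congr rfl (fun x _ => (hdd x).2.1)] at e3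
  rw [Finset.sum_congr rfl (fun x _ => by rw [← (hdd x).1, (hdd x).2.1])] at e4
  rw [← Finset.sum_congr rfl (fun x _ => (hdd x).1)] at e2
  set f := ∑ x, S.dd jp x with hf
  have e5 : f = 2 * S.L jp * (S.L jp + 1) := by linarith
  have e6 : S.L jm = -(S.L jp + 1) := by
    have h1 : 2 * S.L jp * (S.L jm + (S.L jp + 1)) = 0 := by linarith
    rcases mul_eq_zero.mp h1 with h2 | h2
    · linarith
    · linarith
  have e7 : S.K jp = S.L jp * (2 * S.L jp + 1) := by linarith
  have e8 : S.K jm = (S.L jp + 1) * (2 * S.L jp + 1) := by linarith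
  -- no other orbitals
  have hno : ∀ a b : α, a ≠ b → cls G a b = jp ∨ cls G a b = jm := by
    intro a b hab
    rcases hcases a b hab with ⟨h1, h2, h3⟩ | h1 | h1
    · exfalso
      set j := cls G a b with hj
      have hj_nd : ∀ c, cls G c c ≠ j := fun c => cls_diag_ne hab
      have g1 := S.sum_dd j
      have g2 := S.FF_eq hψ hR hj_nd
      rw [h1] at g1 g2
      have g3 : ∑ x, S.dd j x * (2 - S.dd j x) = 0 := by
        have : ∀ x, S.dd j x * (2 - S.dd j x) = 2 * S.dd j x - S.dd j x * S.dd j x :=
          fun x => by ring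
        simp only [this]
        rw [Finset.sum_sub_distrib, ← Finset.mul_sum, g1, g2]
        ring
      have g4 := (Finset.sum_eq_zero_iff_of_nonneg (fun x _ => S.dd_mul j x)).mp g3
      have g5 : ∀ x, om j (S.pt true 0) (S.pt true x) = om j (S.pt false 0) (S.pt false x) := by
        intro x
        have g6 := g4 x (Finset.mem_univ x)
        rw [S.dd_def] at g6
        by_cases k1 : cls G (S.pt true 0) (S.pt true x) = j <;>
        by_cases k2 : cls G (S.pt false 0) (S.pt false x) = j
        · rw [om_pos k1, om_pos k2]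
        · rw [om_pos k1, om_neg k2] at g6; norm_num at g6
        · rw [om_neg k1, om_pos k2] at g6; norm_num at g6
        · rw [om_neg k1, om_neg k2]
      have hc : S.hat ψ (om j) true true ≠ 0 := by
        intro h
        rw [S.hat_apply] at h
        have g6 := hψ _ h
        have g7 : ∀ x, S.dd j x = 0 := by
          intro x
          have g8 : om j (S.pt true 0) (S.pt true x) = 0 :=
            (g6 x 0).trans (om_neg (hj_nd _))
          rw [S.dd_def, ← g5 x, g8, add_zero]
        rw [Finset.sum_eq_zero (fun x _ => g7 x)] at g1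
        have := S.K_pos a b
        rw [← hj] at this
        linarith
      have hc2 : S.hat ψ (om j) false false = S.hat ψ (om j) true true := by
        rw [S.hat_apply, S.hat_apply]
        exact Finset.sum_congr rfl (fun x _ => by rw [g5 x])
      have hRinv : Inv G (S.Ep - 1) := S.Ep_inv.sub Inv.one
      have hRtr : S.hat ψ (S.Ep - 1) false false = - S.hat ψ (S.Ep - 1) true true := by
        rw [S.hat_apply, S.hat_apply, ← Finset.sum_neg_distrib]
        refine Finset.sum_congr rfl (fun x _ => ?_)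
        have g6 : (S.Ep - 1) (S.pt false 0) (S.pt false x)
            = - (S.Ep - 1) (S.pt true 0) (S.pt true x) := by
          by_cases hx : x = 0
          · subst hx
            simp [S.Ep_diag]
          · have g7 := S.Ep_diag_blocks hψ hR hx
            rw [Matrix.sub_apply, Matrix.sub_apply, Matrix.one_apply_ne (hpt _ _ hx),
              Matrix.one_apply_ne (hpt _ _ hx)]
            linarith
        rw [g6]
        push_cast
        ring
      have g8 : (S.Ep - 1) * om j = - om j := by
        rw [sub_mul, S.Ep_mul (om_inv j), one_mul]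
        change S.L j • S.Ep - om j = _
        rw [h1, zero_smul, zero_sub]
      have g9 : om j * (S.Ep - 1) = - om j := by
        rw [mul_sub, S.mul_Ep (om_inv j), mul_one]
        change S.L j • S.Ep - om j = _
        rw [h1, zero_smul, zero_sub]
      have hneg : S.hat ψ (- om j) = - S.hat ψ (om j) := by
        have := S.hat_smul ψ (-1) (om j)
        simpa using this
      have k1 : S.hat ψ (S.Ep - 1) * S.hat ψ (om j) = - S.hat ψ (om j) := by
        rw [← S.hat_mul ψ _ (om_inv j), g8, hneg]
      have k2 : S.hat ψ (om j) * S.hat ψ (S.Ep - 1) = - S.hat ψ (om j) := by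
        rw [← S.hat_mul ψ _ hRinv, g9, hneg]
      have k3 := congrFun (congrFun k1 true) true
      have k4 := congrFun (congrFun k2 false) false
      rw [Matrix.mul_apply, Fintype.sum_bool, Matrix.neg_apply] at k3 k4
      rw [hRtr, hc2] at k4
      have k5 : S.hat ψ (S.Ep - 1) true true * S.hat ψ (om j) true true = 0 := by
        linear_combination (1 / 2) * k3 - (1 / 2) * k4
      rcases mul_eq_zero.mp k5 with k6 | k6
      · rw [S.hat_apply] at k6
        have k7 := hψ _ k6 x₁ 0
        simp only [Matrix.sub_apply, S.Ep_diag, Matrix.one_apply_eq, sub_self,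
          Matrix.one_apply_ne (hpt _ _ hx₁0), sub_zero] at k7
        -- contradiction with `x₁`
        have k8 := (hLsign (S.pt true 0) (S.pt true x₁)).1.mpr k7
        rcases hcases _ _ (hpt true x₁ hx₁0) with ⟨_, h3', h4'⟩ | h' | h'
        · have k9 := S.Ep_diag_blocks hψ hR hx₁0
          rw [k7, zero_add] at k9
          have k10 := (hLsign (S.pt false 0) (S.pt false x₁)).1.mpr k9
          apply hx₁
          rw [S.dd_def, om_neg h4', om_neg, add_zero]
          intro h
          rw [h] at k10
          linarith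
        · rw [h'] at k8
          linarith
        · rw [h'] at k8
          linarith
      · exact hc k6
    · exact Or.inl h1
    · exact Or.inr h1
  -- `f = p - 1`
  have e9 : f = p - 1 := by
    have h1 : ∀ x ∈ Finset.univ.erase (0 : ZMod p), S.dd jp x = 1 := by
      intro x hx
      have hx0 : x ≠ 0 := (Finset.mem_erase.mp hx).1
      apply (hdd x).2.2 _ hx0
      rcases hno _ _ (hpt true x hx0) with h | h
      · rw [h]; exact ne_of_gt hLp
      · rw [h]; exact ne_of_lt hLm
    rw [hf, ← Finset.add_sum_erase _ _ (Finset.mem_univ (0 : ZMod p)), S.dd_zero hjp_nd,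
      Finset.sum_congr rfl h1, Finset.sum_const, nsmul_eq_mul, Finset.card_erase_of_mem
      (Finset.mem_univ _), Finset.card_univ, ZMod.card, mul_one, zero_add, Nat.cast_sub
      (Fact.out : p.Prime).one_lt.le, Nat.cast_one]
  -- integrality
  obtain ⟨n1, hn1⟩ := S.blk_om_nat jp true true
  obtain ⟨n2, hn2⟩ := S.blk_om_nat jp true false
  have hLn : S.L jp = ((n1 : ℤ) - (n2 : ℤ) : ℤ) := by
    push_cast
    rw [← hn1, ← hn2]
    rfl
  have hpos : 0 < (n1 : ℤ) - (n2 : ℤ) := by
    have : (0 : ℚ) < (((n1 : ℤ) - (n2 : ℤ) : ℤ) : ℚ) := by rw [← hLn]; exact hLp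
    exact_mod_cast this
  obtain ⟨m, hm⟩ := Int.eq_ofNat_of_zero_le hpos.le
  rw [hm] at hLn hpos
  have hLm' : S.L jp = (m : ℚ) := by rw [hLn]; norm_cast
  refine ⟨m, by exact_mod_cast hpos, ?_, jp, jm, hpm, hno, hjp_nd, hjm_nd, ?_, ?_⟩
  · rw [e9, hLm'] at e5
    have : (p : ℚ) = ((2 * m ^ 2 + 2 * m + 1 : ℕ) : ℚ) := by
      push_cast
      linarith
    exact_mod_cast this
  · rw [e7, hLm']
  · rw [e8, hLm']

theorem K_eq_card [MulAction.IsPretransitive G α] (j : Cls G α) (a : α) :
    S.K j = (Nat.card {b // cls G a b = j} : ℚ) := by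
  classical
  rw [S.K_eq j a, rs_def]
  simp only [om_apply]
  rw [Finset.sum_boole, Nat.card_eq_fintype_card, Fintype.card_subtype]

omit [Fintype α] [MulAction G α] in
/-- main theorem -/
theorem main [Finite G] {α : Type*} [Fintype α] [MulAction G α]
    (hP : MulAction.IsPreprimitive G α) (S : Coord p G α) :
    (∀ a b c d : α, a ≠ b → c ≠ d → ∃ g : G, g • a = c ∧ g • b = d) ∨
    ∃ m : ℕ, 0 < m ∧ p = 2 * m ^ 2 + 2 * m + 1 ∧ ∃ r : α → α → Prop,
      (∀ a b c d : α, a ≠ b → c ≠ d →
        ((r a b ↔ r c d) ↔ ∃ g : G, g • a = c ∧ g • b = d)) ∧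
      (∀ a : α, Nat.card {b // b ≠ a ∧ r a b} = m * (2 * m + 1)) ∧
      (∀ a : α, Nat.card {b // b ≠ a ∧ ¬ r a b} = (m + 1) * (2 * m + 1)) := by
  classical
  cases nonempty_fintype G
  have hT : MulAction.IsPretransitive G α := hP.toIsPretransitive
  obtain ⟨ψ, hψ⟩ := exists_char (p := p)
  rcases S.trichotomy hP hψ with h | hR
  · exact Or.inl h
  · right
    obtain ⟨m, hm, hp, jp, jm, hpm, hno, hjp, hjm, hKp, hKm⟩ := rank_one_case S hP hψ hR
    refine ⟨m, hm, hp, fun a b => cls G a b = jp, ?_, ?_, ?_⟩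
    · intro a b c d hab hcd
      rw [← cls_eq_iff]
      constructor
      · intro h
        rcases hno a b hab with h1 | h1
        · rw [h1, h.mp h1]
        · rcases hno c d hcd with h2 | h2
          · rw [h2, h.mpr h2]
          · rw [h1, h2]
      · intro h
        change (cls G a b = jp ↔ cls G c d = jp)
        rw [h]
    · intro a
      have h1 : Nat.card {b // b ≠ a ∧ cls G a b = jp} = Nat.card {b // cls G a b = jp} := by
        apply Nat.card_congr
        exact Equiv.subtypeEquivRight (fun b => ⟨fun h => h.2, fun h => ⟨by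
          rintro rfl
          exact hjp _ h, h⟩⟩)
      have h2 : (Nat.card {b // cls G a b = jp} : ℚ) = ((m * (2 * m + 1) : ℕ) : ℚ) := by
        rw [← K_eq_card S jp a, hKp]
        push_cast
        ring
      rw [h1]
      exact_mod_cast h2
    · intro a
      have h1 : Nat.card {b // b ≠ a ∧ ¬ cls G a b = jp} = Nat.card {b // cls G a b = jm} := by
        apply Nat.card_congr
        refine Equiv.subtypeEquivRight (fun b => ⟨fun h => ?_, fun h => ⟨?_, ?_⟩⟩)
        · exact (hno a b (Ne.symm h.1)).resolve_left h.2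
        · rintro rfl
          exact hjm _ h
        · rw [h]
          exact hpm.symm
      have h2 : (Nat.card {b // cls G a b = jm} : ℚ) = (((m + 1) * (2 * m + 1) : ℕ) : ℚ) := by
        rw [← K_eq_card S jm a, hKm]
        push_cast
        ring
      rw [h1]
      exact_mod_cast h2

end Setup

end Cfsg.Agent.PermutationGroups.Wielandt2p
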