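import Mathlib

/-!
# Wielandt's theorem on primitive groups of degree `2p`: transport of the conclusion

Translation between a primitive group `G` on `α` with a labelling `e : α ≃ Bool × ZMod p`, and
the transported group on `Bool × ZMod p`.
-/

set_option autoImplicit false

namespace Cfsg.Agent.PermutationGroups.WielandtTwoPFinal

open MulAction Equiv

variable {α : Type*}

/-- The group transported to `β`. -/
def transport {β : Type*} (e : α ≃ β) (G : Subgroup (Perm α)) : Subgroup (Perm β) :=
  G.map e.permCongrHom.toMonoidHom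

theorem mem_transport {β : Type*} (e : α ≃ β) (G : Subgroup (Perm α)) (h : Perm β) :
    h ∈ transport e G ↔ ∃ g ∈ G, ∀ x, h x = e (g (e.symm x)) := by
  constructor
  · rintro ⟨g, hg, rfl⟩
    exact ⟨g, hg, fun x => rfl⟩
  · rintro ⟨g, hg, h1⟩
    refine ⟨g, hg, ?_⟩
    ext x
    exact (h1 x).symm

/-- In a primitive group of composite degree `2p`, a one-point stabiliser fixes no other
point. -/
theorem exists_fix_move [Fintype α] {p : ℕ} (hp : p.Prime) (hα : Fintype.card α = 2 * p)
    {G : Subgroup (Perm α)} (hG : IsPreprimitive G α) {a b : α} (hab : a ≠ b) :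
    ∃ g ∈ G, g a = a ∧ g b ≠ b := by
  classical
  by_contra hcon
  push Not at hcon
  have htr := hG.toIsPretransitive
  have hfin : Finite G := inferInstance
  -- all stabilisers have the same order
  have hcardst : ∀ c d : α, Nat.card (stabilizer G c) = Nat.card (stabilizer G d) := by
    intro c d
    obtain ⟨g, hg⟩ := MulAction.exists_smul_eq G c d
    rw [← hg]
    exact Nat.card_congr (MulAction.stabilizerEquivStabilizer rfl).toEquiv
  have hle : stabilizer G a ≤ stabilizer G b := by
    intro g hg
    exact hcon g g.2 hg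
  have heq : stabilizer G a = stabilizer G b :=
    Subgroup.eq_of_le_of_card_ge hle (hcardst b a).le
  -- the block of points with the same stabiliser
  let B : Set α := {c | stabilizer G c = stabilizer G a}
  have hB : IsBlock G B := by
    rw [isBlock_iff_smul_eq_of_nonempty]
    intro g hg
    obtain ⟨c, hc1, hc2⟩ := hg
    obtain ⟨d, hd, rfl⟩ := hc1
    change stabilizer G d = stabilizer G a at hd
    change stabilizer G (g • d) = stabilizer G a at hc2
    have h1 : ∀ x : α, stabilizer G (g • x) = (stabilizer G x).map (MulAut.conj g).toMonoidHom :=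
      fun x => MulAction.stabilizer_smul_eq_stabilizer_map_conj g x
    have h2 : (stabilizer G a).map (MulAut.conj g).toMonoidHom = stabilizer G a := by
      rw [← hd, ← h1, hc2, hd]
    have h3 : ∀ x : α, stabilizer G (g • x) = stabilizer G a ↔ stabilizer G x = stabilizer G a := by
      intro x
      rw [h1]
      constructor
      · intro h
        rw [← h2] at h
        exact Subgroup.map_injective (MulAut.conj g).injective h
      · intro h
        rw [h, h2]
    ext x
    constructor
    · rintro ⟨y, hy, rfl⟩
      exact (h3 y).2 hy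
    · intro hx
      refine ⟨g⁻¹ • x, ?_, by simp⟩
      change stabilizer G (g⁻¹ • x) = stabilizer G a
      rw [← h3, smul_inv_smul]
      exact hx
  have hBuniv : B = Set.univ := by
    rcases hG.isTrivialBlock_of_isBlock hB with h | h
    · exact absurd (h (show a ∈ B from rfl) (show b ∈ B from heq.symm)) hab
    · exact h
  have hbot : stabilizer G a = ⊥ := by
    rw [eq_bot_iff]
    intro g hg
    rw [Subgroup.mem_bot]
    apply Subtype.ext
    ext x
    have : x ∈ B := by rw [hBuniv]; trivial
    have h1 : g ∈ stabilizer G x := by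
      rw [show stabilizer G x = stabilizer G a from this]; exact hg
    exact h1
  have : Nontrivial α := ⟨⟨a, b, hab⟩⟩
  have hco : IsCoatom (stabilizer G a) := (isCoatom_stabilizer_iff_preprimitive G a).2 hG
  have hcardG : Nat.card G = 2 * p := by
    have h1 := Subgroup.index_mul_card (stabilizer G a)
    rw [MulAction.index_stabilizer_of_transitive, hbot, Subgroup.card_bot, mul_one,
      Nat.card_eq_fintype_card, hα] at h1
    exact h1.symm
  have : Fact p.Prime := ⟨hp⟩
  obtain ⟨g, hg⟩ := exists_prime_orderOf_dvd_card' (G := G) p (by rw [hcardG]; exact Dvd.intro_left 2 rfl)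
  rw [hbot] at hco
  have h2 : Subgroup.zpowers g = ⊤ := by
    apply hco.2
    rw [bot_lt_iff_ne_bot, Ne, Subgroup.zpowers_eq_bot]
    rintro rfl
    rw [orderOf_one] at hg
    exact hp.one_lt.ne hg
  have h3 : Nat.card (Subgroup.zpowers g) = Nat.card G := by rw [h2]; simp
  rw [Nat.card_zpowers, hg, hcardG] at h3
  have := hp.pos
  omega

/-- The two parts of the labelling are not a block system of a primitive group. -/
theorem exists_not_block [Fintype α] {p : ℕ} (hp : p.Prime)
    {G : Subgroup (Perm α)} (hG : IsPreprimitive G α) (e : α ≃ Bool × ZMod p) :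
    ∃ g ∈ G, ∃ a b : α, (e a).1 = (e b).1 ∧ (e (g a)).1 ≠ (e (g b)).1 := by
  by_contra hcon
  push Not at hcon
  let B : Set α := {c | (e c).1 = false}
  have : Fact p.Prime := ⟨hp⟩
  have h2 : (1 : ZMod p) ≠ 0 := one_ne_zero
  have hB : IsBlock G B := by
    rw [isBlock_iff_smul_eq_of_nonempty]
    intro g hg
    obtain ⟨c, hc1, hc2⟩ := hg
    obtain ⟨d, hd, rfl⟩ := hc1
    change (e d).1 = false at hd
    change (e (g • d)).1 = false at hc2
    have h3 : ∀ x : α, (e (g • x)).1 = false ↔ (e x).1 = false := by
      intro x
      constructor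
      · intro h
        have h4 := hcon _ (g⁻¹).2 (g • d) (g • x) (by rw [hc2, h])
        have h5 : ((g⁻¹ : G) : Perm α) (g • d) = d := inv_smul_smul g d
        have h6 : ((g⁻¹ : G) : Perm α) (g • x) = x := inv_smul_smul g x
        rw [h5, h6] at h4
        rw [← h4, hd]
      · intro h
        have h4 := hcon _ g.2 d x (by rw [hd, h])
        exact h4.symm.trans hc2
    ext x
    constructor
    · rintro ⟨y, hy, rfl⟩
      exact (h3 y).2 hy
    · intro hx
      refine ⟨g⁻¹ • x, ?_, by simp⟩
      change (e (g⁻¹ • x)).1 = false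
      rw [← h3, smul_inv_smul]
      exact hx
  rcases hG.isTrivialBlock_of_isBlock hB with h | h
  · have h1 := h (show e.symm (false, 0) ∈ B by simp [B]) (show e.symm (false, 1) ∈ B by simp [B])
    have h3 := e.symm.injective h1
    rw [Prod.mk.injEq] at h3
    exact h2 h3.2.symm
  · have h1 : e.symm (true, 0) ∈ B := by rw [h]; trivial
    change (e (e.symm (true, 0))).1 = false at h1
    rw [Equiv.apply_symm_apply] at h1
    exact absurd h1 (by simp)

/-- The final translation, in rank three. -/
theorem rank_three_of_relation [Fintype α] {G : Subgroup (Perm α)}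
    {k l : ℕ} (hk : 0 < k) (hl : 0 < l)
    (r : α → α → Prop)
    (hr : ∀ a b c d, a ≠ b → c ≠ d → ((r a b ↔ r c d) ↔ ∃ g ∈ G, g a = c ∧ g b = d))
    (h1 : ∀ a, Nat.card {b // b ≠ a ∧ r a b} = k)
    (h2 : ∀ a, Nat.card {b // b ≠ a ∧ ¬ r a b} = l) (a₀ : α) :
    Nat.card (orbitRel.Quotient (stabilizer G a₀) α) = 3 ∧
      ∀ b : α, b ≠ a₀ → Nat.card (orbit (stabilizer G a₀) b) = k ∨
        Nat.card (orbit (stabilizer G a₀) b) = l := by
  classical
  have horb : ∀ b c : α, b ≠ a₀ → (c ∈ orbit (stabilizer G a₀) b ↔
      (c ≠ a₀ ∧ (r a₀ b ↔ r a₀ c))) := by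
    intro b c hb
    constructor
    · rintro ⟨g, rfl⟩
      have hg : (g : Perm α) a₀ = a₀ := g.2
      have hgb : (g : Perm α) b ≠ a₀ := by
        intro h
        exact hb ((g : Perm α).injective (h.trans hg.symm))
      exact ⟨hgb, (hr a₀ b a₀ ((g : Perm α) b) hb.symm hgb.symm).2 ⟨g, g.1.2, hg, rfl⟩⟩
    · rintro ⟨hc, h⟩
      obtain ⟨g, hg, hga, hgb⟩ := (hr a₀ b a₀ c hb.symm hc.symm).1 h
      exact ⟨⟨⟨g, hg⟩, hga⟩, hgb⟩
  have ha₀ : ∀ c : α, c ∈ orbit (stabilizer G a₀) a₀ ↔ c = a₀ := by
    intro c
    constructor
    · rintro ⟨g, rfl⟩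
      exact g.2
    · rintro rfl
      exact mem_orbit_self _
  refine ⟨?_, ?_⟩
  · let φ : α → Fin 3 := fun c => if c = a₀ then 0 else if r a₀ c then 1 else 2
    have hφ : ∀ c d, orbitRel (stabilizer G a₀) α c d ↔ φ c = φ d := by
      intro c d
      rw [orbitRel_apply]
      by_cases hd : d = a₀
      · subst hd
        rw [ha₀]
        by_cases hc : c = d
        · simp [hc]
        · simp only [hc, φ, if_true, if_false, false_iff]
          split_ifs <;> decide
      · rw [horb d c hd]
        by_cases hc : c = a₀
        · simp only [hc, φ, hd, if_true, if_false, ne_eq, not_true_eq_false, false_and, false_iff]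
          split_ifs <;> decide
        · simp only [hc, φ, hd, if_false, ne_eq, not_false_eq_true, true_and]
          by_cases h3 : r a₀ c <;> by_cases h4 : r a₀ d <;> simp [h3, h4]
    let ψ : orbitRel.Quotient (stabilizer G a₀) α → Fin 3 :=
      Quotient.lift φ (fun c d h => (hφ c d).1 h)
    have hbij : Function.Bijective ψ := by
      constructor
      · intro x y
        induction x using Quotient.inductionOn with
        | h c =>
          induction y using Quotient.inductionOn with
          | h d =>
            intro h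
            exact Quotient.sound ((hφ c d).2 h)
      · intro i
        have h1' : Nonempty {b // b ≠ a₀ ∧ r a₀ b} := by
          have := h1 a₀
          exact (Nat.card_pos_iff.1 (by omega)).1
        have h2' : Nonempty {b // b ≠ a₀ ∧ ¬ r a₀ b} := by
          have := h2 a₀
          exact (Nat.card_pos_iff.1 (by omega)).1
        obtain ⟨b, hb, hb'⟩ := h1'
        obtain ⟨c, hc, hc'⟩ := h2'
        fin_cases i
        · exact ⟨Quotient.mk _ a₀, by simp [ψ, φ]⟩
        · exact ⟨Quotient.mk _ b, by simp [ψ, φ, hb, hb']⟩
        · exact ⟨Quotient.mk _ c, by simp [ψ, φ, hc, hc']⟩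
    rw [Nat.card_eq_of_bijective ψ hbij]
    simp
  · intro b hb
    by_cases hrb : r a₀ b
    · left
      rw [← h1 a₀]
      apply Nat.card_congr
      apply Equiv.subtypeEquivRight
      intro c
      rw [horb b c hb]
      simp [hrb]
    · right
      rw [← h2 a₀]
      apply Nat.card_congr
      apply Equiv.subtypeEquivRight
      intro c
      rw [horb b c hb]
      simp [hrb]

end Cfsg.Agent.PermutationGroups.WielandtTwoPFinal
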