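import Mathlib

/-!
# Wielandt's theorem on primitive groups of degree `2p`: the reduction

A primitive group of degree `2p` is doubly transitive or contains an element with two
`p`-cycles, and then the points can be labelled by `Bool × ZMod p`.
-/

set_option autoImplicit false

namespace Cfsg.Agent.PermutationGroups.WielandtTwoPReduction

open MulAction Equiv

variable {α : Type*} [Fintype α] [DecidableEq α]

/-- A primitive group of degree `2p` containing a `p`-cycle is doubly transitive. -/
theorem two_transitive_of_cycle {p : ℕ} (hp : p.Prime) (hα : Fintype.card α = 2 * p)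
    {G : Subgroup (Perm α)} (hG : IsPreprimitive G α) {g : Perm α} (hg : g ∈ G)
    (hgc : g.IsCycle) (hgo : orderOf g = p) : IsMultiplyPretransitive G α 2 := by
  have hgp : g.support.card = p := by rw [← hgc.orderOf, hgo]
  have hcard : ((g.support : Set α)ᶜ).ncard + p = Nat.card α := by
    have h1 := Set.ncard_add_ncard_compl (g.support : Set α)
    rw [Set.ncard_coe_finset, hgp] at h1
    omega
  have hα' : Nat.card α = 2 * p := by rw [Nat.card_eq_fintype_card, hα]
  have h2 := hp.two_le
  refine hG.is_two_pretransitive (s := (g.support : Set α)ᶜ) (n := p - 1) (by omega) (by omega) ?_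
  exact Equiv.Perm.isPretransitive_of_isCycle_mem hgc hg

/-- An element of order `p` on `2p` points which is not a cycle has no fixed points. -/
theorem apply_ne_of_not_isCycle {p : ℕ} (hp : p.Prime) (hα : Fintype.card α = 2 * p)
    {g : Perm α} (hgo : orderOf g = p) (hgc : ¬ g.IsCycle) (a : α) : g a ≠ a := by
  intro ha
  apply hgc
  refine Equiv.Perm.isCycle_of_prime_order (by rw [hgo]; exact hp) ?_
  rw [hgo, ← hα, ← Finset.card_univ]
  apply Finset.card_lt_card
  refine ⟨Finset.subset_univ _, fun h => ?_⟩
  have := h (Finset.mem_univ a)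
  rw [Perm.mem_support] at this
  exact this ha

omit [Fintype α] [DecidableEq α] in
theorem pow_apply_eq_iff {p : ℕ} (hp : p.Prime) {g : Perm α} (hgo : orderOf g = p)
    (hfix : ∀ a, g a ≠ a) (a : α) (k l : ℕ) : (g ^ k) a = (g ^ l) a ↔ k ≡ l [MOD p] := by
  constructor
  · intro h
    wlog hkl : k ≤ l generalizing k l
    · exact (this l k h.symm (by omega)).symm
    obtain ⟨m, rfl⟩ := Nat.exists_eq_add_of_le hkl
    have h1 : (g ^ m) a = a := by
      rw [pow_add, Perm.mul_apply] at h
      exact ((g ^ k).injective h).symm
    by_contra hne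
    have hm : ¬ p ∣ m := by
      intro hd
      apply hne
      obtain ⟨c, rfl⟩ := hd
      unfold Nat.ModEq
      simp
    have hco : Nat.Coprime m p := (hp.coprime_iff_not_dvd.2 hm).symm
    -- g is a power of g ^ m
    have h2 : (orderOf g).Coprime m := by rw [hgo]; exact hco.symm
    obtain ⟨n, hn⟩ := exists_pow_eq_self_of_coprime (x := g) (n := m) (by rw [hgo]; exact hco)
    apply hfix a
    calc g a = ((g ^ m) ^ n) a := by rw [hn]
      _ = a := by
        have : ∀ n : ℕ, ((g ^ m) ^ n) a = a := by
          intro n
          induction n with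
          | zero => rfl
          | succ n ih => rw [pow_succ, Perm.mul_apply, h1, ih]
        exact this n
  · intro h
    have : g ^ k = g ^ l := by
      rw [pow_eq_pow_iff_modEq, hgo]; exact h
    rw [this]

omit [DecidableEq α] in
/-- The labelling of the points by `Bool × ZMod p`. -/
theorem exists_labelling {p : ℕ} (hp : p.Prime) (hα : Fintype.card α = 2 * p)
    {g : Perm α} (hgo : orderOf g = p) (hfix : ∀ a, g a ≠ a) :
    ∃ e : α ≃ Bool × ZMod p, ∀ a, e (g a) = ((e a).1, (e a).2 + 1) := by
  have : Fact p.Prime := ⟨hp⟩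
  have : NeZero p := ⟨hp.ne_zero⟩
  have hne : Nonempty α := by
    rw [← Fintype.card_pos_iff, hα]
    have := hp.pos
    omega
  obtain ⟨a⟩ := hne
  -- a point outside the orbit of `a`
  obtain ⟨b, hb⟩ : ∃ b, ∀ i : ℕ, (g ^ i) a ≠ b := by
    by_contra hcon
    push Not at hcon
    have hsurj : Function.Surjective (fun i : ZMod p => (g ^ i.val) a) := by
      intro b
      obtain ⟨i, hi⟩ := hcon b
      refine ⟨(i : ZMod p), ?_⟩
      rw [← hi]
      apply (pow_apply_eq_iff hp hgo hfix a _ _).2
      rw [ZMod.val_natCast]
      exact Nat.mod_modEq i p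
    have := Fintype.card_le_of_surjective _ hsurj
    rw [hα, ZMod.card] at this
    have := hp.pos
    omega
  let f : Bool × ZMod p → α := fun x => (g ^ x.2.val) (if x.1 then b else a)
  have hfs : ∀ x : Bool × ZMod p, f (x.1, x.2 + 1) = g (f x) := by
    rintro ⟨s, i⟩
    change (g ^ (i + 1).val) (if s then b else a) = g ((g ^ i.val) (if s then b else a))
    rw [← Perm.mul_apply, ← pow_succ']
    apply (pow_apply_eq_iff hp hgo hfix _ _ _).2
    have : (i + 1).val = (i.val + 1) % p := by
      rw [ZMod.val_add]
      conv_rhs => rw [Nat.add_mod]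
      rw [ZMod.val_one_eq_one_mod, Nat.mod_eq_of_lt (ZMod.val_lt i)]
    rw [this]
    exact Nat.mod_modEq _ _
  have hinj : Function.Injective f := by
    have key : ∀ i j : ZMod p, (g ^ i.val) a ≠ (g ^ j.val) b := by
      intro i j h
      apply hb (i.val + (p - j.val))
      rw [add_comm, pow_add, Perm.mul_apply, h, ← Perm.mul_apply, ← pow_add,
        Nat.sub_add_cancel (ZMod.val_lt j).le, ← hgo, pow_orderOf_eq_one, Perm.one_apply]
    have key2 : ∀ (c : α) (i j : ZMod p), (g ^ i.val) c = (g ^ j.val) c → i = j := by
      intro c i j h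
      have h1 := (pow_apply_eq_iff hp hgo hfix c _ _).1 h
      apply ZMod.val_injective
      exact Nat.ModEq.eq_of_lt_of_lt h1 (ZMod.val_lt i) (ZMod.val_lt j)
    rintro ⟨s, i⟩ ⟨t, j⟩ h
    change (g ^ i.val) (if s then b else a) = (g ^ j.val) (if t then b else a) at h
    cases s <;> cases t
    · simp only [Bool.false_eq_true, if_false] at h
      rw [key2 a i j h]
    · simp only [Bool.false_eq_true, if_false, if_true] at h
      exact absurd h (key i j)
    · simp only [Bool.false_eq_true, if_false, if_true] at h
      exact absurd h.symm (key j i)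
    · simp only [if_true] at h
      rw [key2 b i j h]
  have hbij : Function.Bijective f := by
    rw [Fintype.bijective_iff_injective_and_card]
    refine ⟨hinj, ?_⟩
    rw [Fintype.card_prod, Fintype.card_bool, ZMod.card, hα]
  refine ⟨(Equiv.ofBijective f hbij).symm, fun c => ?_⟩
  apply (Equiv.ofBijective f hbij).injective
  rw [Equiv.apply_symm_apply]
  change g c = f (((Equiv.ofBijective f hbij).symm c).1, ((Equiv.ofBijective f hbij).symm c).2 + 1)
  rw [hfs]
  congr 1
  exact ((Equiv.ofBijective f hbij).apply_symm_apply c).symm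

/-- A primitive group of degree `2p` is doubly transitive or contains an element with two
`p`-cycles. -/
theorem two_transitive_or_exists_labelling {p : ℕ} (hp : p.Prime)
    (hα : Fintype.card α = 2 * p) {G : Subgroup (Perm α)} (hG : IsPreprimitive G α) :
    IsMultiplyPretransitive G α 2 ∨
      ∃ g ∈ G, ∃ e : α ≃ Bool × ZMod p, ∀ a, e (g a) = ((e a).1, (e a).2 + 1) := by
  have : Fact p.Prime := ⟨hp⟩
  have hne : Nonempty α := by
    rw [← Fintype.card_pos_iff, hα]
    have := hp.pos
    omega
  obtain ⟨a⟩ := hne
  have := hG.toIsPretransitive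
  have hdvd : p ∣ Nat.card G := by
    have h1 : Nat.card α ∣ Nat.card G := by
      rw [← MulAction.index_stabilizer_of_transitive G a]
      exact Subgroup.index_dvd_card _
    exact (Dvd.intro_left 2 (by rw [Nat.card_eq_fintype_card, hα])).trans h1
  obtain ⟨g, hg⟩ := exists_prime_orderOf_dvd_card' p hdvd
  have hgo : orderOf (g : Perm α) = p := by rw [Subgroup.orderOf_coe, hg]
  by_cases hgc : (g : Perm α).IsCycle
  · exact Or.inl (two_transitive_of_cycle hp hα hG g.2 hgc hgo)
  · right
    refine ⟨g, g.2, ?_⟩
    exact exists_labelling hp hα hgo (apply_ne_of_not_isCycle hp hα hgo hgc)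

end Cfsg.Agent.PermutationGroups.WielandtTwoPReduction
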