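import Mathlib

set_option autoImplicit false

/-!
# Freely acting groups of units: polynomial relations from orders

`G` a group of units of a ring `E` such that `g - 1` is a unit for all `1 ≠ g ∈ G`.
-/

namespace Cfsg.Agent.PermutationGroups.ZassOrders

theorem n2 {E : Type*} [Ring E] : (2 : E) = 1 + 1 := by norm_num
theorem n3 {E : Type*} [Ring E] : (3 : E) = 1 + 1 + 1 := by norm_num
theorem n4 {E : Type*} [Ring E] : (4 : E) = 1 + 1 + 1 + 1 := by norm_num
theorem n5 {E : Type*} [Ring E] : (5 : E) = 1 + 1 + 1 + 1 + 1 := by norm_num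
theorem n6 {E : Type*} [Ring E] : (6 : E) = 1 + 1 + 1 + 1 + 1 + 1 := by norm_num
theorem n8 {E : Type*} [Ring E] : (8 : E) = (1 + 1) * (1 + 1 + 1 + 1) := by norm_num
theorem n10 {E : Type*} [Ring E] : (10 : E) = (1 + 1) * (1 + 1 + 1 + 1 + 1) := by norm_num
theorem n12 {E : Type*} [Ring E] : (12 : E) = (1 + 1) * (1 + 1 + 1 + 1 + 1 + 1) := by norm_num
theorem n16 {E : Type*} [Ring E] : (16 : E) = (1 + 1 + 1 + 1) * (1 + 1 + 1 + 1) := by norm_num
theorem n20 {E : Type*} [Ring E] : (20 : E) = (1 + 1 + 1 + 1) * (1 + 1 + 1 + 1 + 1) := by norm_num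

/-- noncommutative ring identities, numerals included -/
local macro "nc" : tactic =>
  `(tactic| ((try simp only [n2, n3, n4, n5, n6, n8, n10, n12, n16, n20]); noncomm_ring))

variable {E : Type*} [Ring E] {G : Subgroup Eˣ}

theorem pow_sub_one_isUnit (hfree : ∀ g ∈ G, g ≠ 1 → IsUnit ((g : E) - 1)) {g : Eˣ}
    (hg : g ∈ G) {n : ℕ} (h : g ^ n ≠ 1) : IsUnit ((g : E) ^ n - 1) := by
  have := hfree (g ^ n) (pow_mem hg n) h
  rwa [Units.val_pow_eq_pow_val] at this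

theorem coe_pow_eq_one {g : Eˣ} {n : ℕ} (h : g ^ n = 1) : (g : E) ^ n = 1 := by
  rw [← Units.val_pow_eq_pow_val, h, Units.val_one]

theorem pow_ne_one_of_order {g : Eˣ} {n m : ℕ} (h : orderOf g = n) (hm : ¬ n ∣ m) :
    g ^ m ≠ 1 := fun h1 => hm (h ▸ orderOf_dvd_of_pow_eq_one h1)

theorem poly_three (hfree : ∀ g ∈ G, g ≠ 1 → IsUnit ((g : E) - 1)) {g : Eˣ}
    (hg : g ∈ G) (h : orderOf g = 3) : (g : E) ^ 2 + g + 1 = 0 := by
  have h1 : g ^ 1 ≠ 1 := pow_ne_one_of_order h (by norm_num)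
  have h2 := pow_sub_one_isUnit hfree hg h1
  have h3 : (g : E) ^ 3 = 1 := coe_pow_eq_one (h ▸ pow_orderOf_eq_one g)
  rw [pow_one] at h2
  refine (h2.mul_right_eq_zero).mp ?_
  have : ((g : E) - 1) * ((g : E) ^ 2 + g + 1) = (g : E) ^ 3 - 1 := by nc
  rw [this, h3, sub_self]

theorem poly_four (hfree : ∀ g ∈ G, g ≠ 1 → IsUnit ((g : E) - 1)) {g : Eˣ}
    (hg : g ∈ G) (h : orderOf g = 4) : (g : E) ^ 2 + 1 = 0 := by
  have h1 : g ^ 2 ≠ 1 := pow_ne_one_of_order h (by norm_num)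
  have h2 := pow_sub_one_isUnit hfree hg h1
  have h3 : (g : E) ^ 4 = 1 := coe_pow_eq_one (h ▸ pow_orderOf_eq_one g)
  refine (h2.mul_right_eq_zero).mp ?_
  have : ((g : E) ^ 2 - 1) * ((g : E) ^ 2 + 1) = (g : E) ^ 4 - 1 := by nc
  rw [this, h3, sub_self]

theorem poly_six (hfree : ∀ g ∈ G, g ≠ 1 → IsUnit ((g : E) - 1)) {g : Eˣ}
    (hg : g ∈ G) (h : orderOf g = 6) : (g : E) ^ 2 - g + 1 = 0 := by
  have h1 : g ^ 2 ≠ 1 := pow_ne_one_of_order h (by norm_num)
  have h1' : g ^ 3 ≠ 1 := pow_ne_one_of_order h (by norm_num)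
  have h2 := pow_sub_one_isUnit hfree hg h1
  have h2' := pow_sub_one_isUnit hfree hg h1'
  have h3 : (g : E) ^ 6 = 1 := coe_pow_eq_one (h ▸ pow_orderOf_eq_one g)
  have h4 : (g : E) ^ 3 + 1 = 0 := by
    refine (h2'.mul_right_eq_zero).mp ?_
    have : ((g : E) ^ 3 - 1) * ((g : E) ^ 3 + 1) = (g : E) ^ 6 - 1 := by nc
    rw [this, h3, sub_self]
  refine (h2.mul_right_eq_zero).mp ?_
  have : ((g : E) ^ 2 - 1) * ((g : E) ^ 2 - g + 1) = ((g : E) - 1) * ((g : E) ^ 3 + 1) := by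
    nc
  rw [this, h4, mul_zero]

theorem poly_ten (hfree : ∀ g ∈ G, g ≠ 1 → IsUnit ((g : E) - 1)) {g : Eˣ}
    (hg : g ∈ G) (h : orderOf g = 10) : (g : E) ^ 4 - g ^ 3 + g ^ 2 - g + 1 = 0 := by
  have h1 : g ^ 2 ≠ 1 := pow_ne_one_of_order h (by norm_num)
  have h1' : g ^ 5 ≠ 1 := pow_ne_one_of_order h (by norm_num)
  have h2 := pow_sub_one_isUnit hfree hg h1
  have h2' := pow_sub_one_isUnit hfree hg h1'
  have h3 : (g : E) ^ 10 = 1 := coe_pow_eq_one (h ▸ pow_orderOf_eq_one g)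
  have h4 : (g : E) ^ 5 + 1 = 0 := by
    refine (h2'.mul_right_eq_zero).mp ?_
    have : ((g : E) ^ 5 - 1) * ((g : E) ^ 5 + 1) = (g : E) ^ 10 - 1 := by nc
    rw [this, h3, sub_self]
  refine (h2.mul_right_eq_zero).mp ?_
  have : ((g : E) ^ 2 - 1) * ((g : E) ^ 4 - g ^ 3 + g ^ 2 - g + 1) =
      ((g : E) - 1) * ((g : E) ^ 5 + 1) := by
    nc
  rw [this, h4, mul_zero]

/-- inverse of an element of order three -/
theorem inv_three {x : Eˣ} (hx : (x : E) ^ 2 + x + 1 = 0) : ((x⁻¹ : Eˣ) : E) = -(x : E) - 1 := by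
  have h1 : (x : E) * (-(x : E) - 1) = 1 := by
    have : (x : E) * (-(x : E) - 1) = 1 - ((x : E) ^ 2 + x + 1) := by nc
    rw [this, hx, sub_zero]
  calc ((x⁻¹ : Eˣ) : E) = ((x⁻¹ : Eˣ) : E) * ((x : E) * (-(x : E) - 1)) := by rw [h1, mul_one]
    _ = -(x : E) - 1 := by rw [← mul_assoc, Units.inv_mul, one_mul]

theorem sq_of_three {x : Eˣ} (hx : (x : E) ^ 2 + x + 1 = 0) :
    (2 * (x : E) + 1) * (2 * (x : E) + 1) = -3 := by
  have : (2 * (x : E) + 1) * (2 * (x : E) + 1) = 4 * ((x : E) ^ 2 + x + 1) - 3 := by nc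
  rw [this, hx, mul_zero, zero_sub]

/-- the anticommutator in terms of the `trace` of `x w` -/
theorem anti_eq {x w : Eˣ} (hx : (x : E) ^ 2 + x + 1 = 0) (hw : (w : E) ^ 2 + w + 1 = 0) :
    (2 * (x : E) + 1) * (2 * (w : E) + 1) + (2 * (w : E) + 1) * (2 * (x : E) + 1) =
      4 * (((x * w : Eˣ) : E) + (((x * w)⁻¹ : Eˣ) : E)) - 2 := by
  rw [mul_inv_rev, Units.val_mul, Units.val_mul, inv_three hx, inv_three hw]
  nc

/-- `x` and `w` commute if their anticommutator is `-6` -/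
theorem eq_of_anti [Nontrivial E] (hfree : ∀ g ∈ G, g ≠ 1 → IsUnit ((g : E) - 1)) (h2 : IsUnit (2 : E))
    {x w : Eˣ} (hxG : x ∈ G) (hwG : w ∈ G)
    (hx : (x : E) ^ 2 + x + 1 = 0) (hw : (w : E) ^ 2 + w + 1 = 0)
    (hS : (2 * (x : E) + 1) * (2 * (w : E) + 1) + (2 * (w : E) + 1) * (2 * (x : E) + 1) = -6) :
    x = w := by
  by_contra hne
  have h1 : x * w⁻¹ ≠ 1 := fun h => hne (mul_inv_eq_one.mp h)
  have hu := hfree _ (mul_mem hxG (inv_mem hwG)) h1
  rw [Units.val_mul, inv_three hw] at hu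
  -- the element `x w⁻¹ - 1` squares to zero
  have hw' : (w : E) * w = -w - 1 := by
    have : (w : E) * w = ((w : E) ^ 2 + w + 1) - w - 1 := by nc
    rw [this, hw]; simp
  have hx' : (x : E) * x = -x - 1 := by
    have : (x : E) * x = ((x : E) ^ 2 + x + 1) - x - 1 := by nc
    rw [this, hx]; simp
  have h4 : (4 : E) * ((x : E) * w + w * x + x + w + 2) = 0 := by
    have : (4 : E) * ((x : E) * w + w * x + x + w + 2) =
      ((2 * (x : E) + 1) * (2 * (w : E) + 1) + (2 * (w : E) + 1) * (2 * (x : E) + 1)) + 6 := by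
      nc
    rw [this, hS]; simp
  have hu4 : IsUnit (4 : E) := by
    have : (4 : E) = 2 * 2 := by norm_num
    rw [this]; exact h2.mul h2
  have h5 : (x : E) * w + w * x + x + w + 2 = 0 := (hu4.mul_right_eq_zero).mp h4
  have h6 : (w : E) * x = -(x * w) - x - w - 2 := by
    have : (w : E) * x = ((x : E) * w + w * x + x + w + 2) - x * w - x - w - 2 := by
      nc
    rw [this, h5]; nc
  have hsq : ((x : E) * (-w - 1) - 1) * ((x : E) * (-w - 1) - 1) = 0 := by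
    have e1 : (w : E) * (x * w) = (w * x) * w := by rw [mul_assoc]
    have e2 : ((x : E) * (-w - 1) - 1) * ((x : E) * (-w - 1) - 1) =
      x * (w * x) * w + x * (w * x) + (x * x) * w + x * x + 2 * (x * w) + 2 * x + 1 := by
      nc
    rw [e2, h6, hx']
    have e3 : (x : E) * (-(x * w) - x - w - 2) * w + x * (-(x * w) - x - w - 2) +
      (-x - 1) * w + (-x - 1) + 2 * (x * w) + 2 * x + 1 =
      -((x * x) * (w * w)) - (x * x) * w - x * (w * w) - 2 * (x * w) - (x * x) * w - x * x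
       - x * w - 2 * x + (-x - 1) * w + (-x - 1) + 2 * (x * w) + 2 * x + 1 := by nc
    rw [e3, hx', hw']
    nc
  have h7 : (x : E) * (-w - 1) - 1 = 0 := (hu.mul_right_eq_zero).mp hsq
  rw [h7] at hu
  exact not_isUnit_zero hu

/-- the value of the anticommutator for two elements of order three -/
theorem anti_cases [Nontrivial E] (hfree : ∀ g ∈ G, g ≠ 1 → IsUnit ((g : E) - 1)) (h2 : IsUnit (2 : E))
    {x w : Eˣ} (hxG : x ∈ G) (hwG : w ∈ G) (hx3 : orderOf x = 3) (hw3 : orderOf w = 3)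
    (hord : orderOf (x * w) = 1 ∨ orderOf (x * w) = 3 ∨ orderOf (x * w) = 4 ∨
      orderOf (x * w) = 6 ∨ orderOf (x * w) = 10) {S : E}
    (hS : S = (2 * (x : E) + 1) * (2 * (w : E) + 1) + (2 * (w : E) + 1) * (2 * (x : E) + 1)) :
    (S = 6 ∧ w = x⁻¹) ∨ (S = -6 ∧ w = x) ∨ S = -2 ∨ S = 2 ∨ S * S = 20 := by
  have hx := poly_three hfree hxG hx3
  have hw := poly_three hfree hwG hw3
  have hgG : x * w ∈ G := mul_mem hxG hwG
  have hA := anti_eq hx hw
  rw [← hS] at hA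
  have hcancel : ((x * w : Eˣ) : E) * (((x * w)⁻¹ : Eˣ) : E) = 1 := Units.mul_inv _
  have hcancel' : (((x * w)⁻¹ : Eˣ) : E) * ((x * w : Eˣ) : E) = 1 := Units.inv_mul _
  rcases hord with h | h | h | h | h
  · left
    have h1 : x * w = 1 := orderOf_eq_one_iff.mp h
    refine ⟨?_, (eq_inv_of_mul_eq_one_right h1)⟩
    rw [hA, h1, inv_one, Units.val_one]
    norm_num
  · right; left
    have h3 := poly_three hfree hgG h
    have h4 := inv_three h3
    have h5 : S = -6 := by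
      rw [hA, h4]
      nc
    refine ⟨h5, ?_⟩
    exact (eq_of_anti hfree h2 hxG hwG hx hw (by rw [← hS, h5])).symm
  · right; right; left
    have h3 := poly_four hfree hgG h
    have h4 : (((x * w)⁻¹ : Eˣ) : E) = -((x * w : Eˣ) : E) := by
      have h5 : ((x * w : Eˣ) : E) * (-((x * w : Eˣ) : E)) = 1 := by
        have : ((x * w : Eˣ) : E) * (-((x * w : Eˣ) : E)) = 1 - (((x * w : Eˣ) : E) ^ 2 + 1) := by
          nc
        rw [this, h3, sub_zero]
      calc (((x * w)⁻¹ : Eˣ) : E) = (((x * w)⁻¹ : Eˣ) : E) *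
            (((x * w : Eˣ) : E) * (-((x * w : Eˣ) : E))) := by rw [h5, mul_one]
        _ = _ := by rw [← mul_assoc, hcancel', one_mul]
    rw [hA, h4]; nc
  · right; right; right; left
    have h3 := poly_six hfree hgG h
    have h4 : (((x * w)⁻¹ : Eˣ) : E) = 1 - ((x * w : Eˣ) : E) := by
      have h5 : ((x * w : Eˣ) : E) * (1 - ((x * w : Eˣ) : E)) = 1 := by
        have : ((x * w : Eˣ) : E) * (1 - ((x * w : Eˣ) : E)) =
          1 - (((x * w : Eˣ) : E) ^ 2 - ((x * w : Eˣ) : E) + 1) := by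
          nc
        rw [this, h3, sub_zero]
      calc (((x * w)⁻¹ : Eˣ) : E) = (((x * w)⁻¹ : Eˣ) : E) *
            (((x * w : Eˣ) : E) * (1 - ((x * w : Eˣ) : E))) := by rw [h5, mul_one]
        _ = _ := by rw [← mul_assoc, hcancel', one_mul]
    rw [hA, h4]; nc
  · right; right; right; right
    have h3 := poly_ten hfree hgG h
    rw [hA]
    generalize ((x * w : Eˣ) : E) = g at *
    generalize (((x * w)⁻¹ : Eˣ) : E) = v at *
    have hvv : v * v * (g ^ 4 - g ^ 3 + g ^ 2 - g + 1) = g * g - g + 1 - v + v * v := by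
      have e1 : v * v * (g ^ 4 - g ^ 3 + g ^ 2 - g + 1) =
        v * (v * g) * g * g * g - v * (v * g) * g * g + v * (v * g) * g - v * (v * g) + v * v := by
        nc
      rw [e1, hcancel', mul_one, hcancel', one_mul]
    rw [h3, mul_zero] at hvv
    have e2 : (4 * (g + v) - 2) * (4 * (g + v) - 2) =
      16 * (g * g - g + 1 - v + v * v) + 16 * (g * v) + 16 * (v * g) - 16 + 4 := by
      nc
    rw [e2, ← hvv, hcancel, hcancel']
    norm_num

end Cfsg.Agent.PermutationGroups.ZassOrders
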