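import Mathlib

set_option autoImplicit false

/-!
# Quaternion frames in a noncommutative ring

`i, j` in a ring `E` with `i² = j² = -1`, `ji = -ij`.  Every element of `E` (2 invertible) is
uniquely `a + b i + c j + d ij` with `a, b, c, d` commuting with `i, j`.
-/

namespace Cfsg.Agent.PermutationGroups.ZassQuat

variable {E : Type*} [Ring E]

/-- a quaternion frame in the ring `E` -/
structure QFrame (i j : E) : Prop where
  ii : i * i = -1
  jj : j * j = -1
  ji : j * i = -(i * j)

/-- `a` commutes with the frame -/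
def Cen (i j a : E) : Prop := i * a = a * i ∧ j * a = a * j

/-- `a + b i + c j + d ij` -/
def ev (i j a b c d : E) : E := a + b * i + c * j + d * (i * j)

theorem ev_def (i j a b c d : E) : ev i j a b c d = a + b * i + c * j + d * (i * j) := rfl

section cen
variable {i j a b : E}

theorem Cen.mk' (h1 : i * a = a * i) (h2 : j * a = a * j) : Cen i j a := ⟨h1, h2⟩

theorem Cen.add (ha : Cen i j a) (hb : Cen i j b) : Cen i j (a + b) :=
  ⟨by rw [mul_add, add_mul, ha.1, hb.1], by rw [mul_add, add_mul, ha.2, hb.2]⟩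

theorem Cen.sub (ha : Cen i j a) (hb : Cen i j b) : Cen i j (a - b) :=
  ⟨by rw [mul_sub, sub_mul, ha.1, hb.1], by rw [mul_sub, sub_mul, ha.2, hb.2]⟩

theorem Cen.neg (ha : Cen i j a) : Cen i j (-a) :=
  ⟨by rw [mul_neg, neg_mul, ha.1], by rw [mul_neg, neg_mul, ha.2]⟩

theorem Cen.mul (ha : Cen i j a) (hb : Cen i j b) : Cen i j (a * b) :=
  ⟨by rw [← mul_assoc, ha.1, mul_assoc, hb.1, mul_assoc],
   by rw [← mul_assoc, ha.2, mul_assoc, hb.2, mul_assoc]⟩

theorem Cen.zero : Cen i j 0 := ⟨by simp, by simp⟩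

theorem Cen.one : Cen i j 1 := ⟨by simp, by simp⟩

theorem Cen.natCast (n : ℕ) : Cen i j (n : E) :=
  ⟨(Nat.cast_commute n i).eq.symm, (Nat.cast_commute n j).eq.symm⟩

theorem Cen.intCast (n : ℤ) : Cen i j (n : E) :=
  ⟨(Int.cast_commute n i).eq.symm, (Int.cast_commute n j).eq.symm⟩

theorem Cen.ofNat (n : ℕ) [n.AtLeastTwo] : Cen i j (OfNat.ofNat n : E) := by
  rw [← Nat.cast_ofNat]
  exact Cen.natCast n

end cen

section frame
variable {i j : E} (h : QFrame i j)
include h

theorem ev_mul {a b c d a' b' c' d' : E}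
    (ha : Cen i j a') (hb : Cen i j b') (hc : Cen i j c') (hd : Cen i j d') :
    ev i j a b c d * ev i j a' b' c' d' =
      ev i j (a * a' - b * b' - c * c' - d * d') (a * b' + b * a' + c * d' - d * c')
        (a * c' - b * d' + c * a' + d * b') (a * d' + b * c' - c * b' + d * a') := by
  have hii := h.ii
  have hjj := h.jj
  have hji := h.ji
  -- move `i`, `j` to the right
  have m1 : ∀ x y : E, Cen i j y → x * i * y = x * y * i := fun x y hy => by
    rw [mul_assoc, hy.1, ← mul_assoc]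
  have m2 : ∀ x y : E, Cen i j y → x * j * y = x * y * j := fun x y hy => by
    rw [mul_assoc, hy.2, ← mul_assoc]
  have m3 : ∀ x y : E, Cen i j y → x * (i * j) * y = x * y * (i * j) := fun x y hy => by
    rw [← mul_assoc, m2 _ _ hy, m1 _ _ hy, mul_assoc]
  have jij : j * (i * j) = i := by
    rw [← mul_assoc, hji, neg_mul, mul_assoc, hjj, mul_neg, mul_one, neg_neg]
  have iji : i * j * i = j := by
    rw [mul_assoc, hji, mul_neg, ← mul_assoc, hii, neg_mul, one_mul, neg_neg]
  have iij : i * (i * j) = -j := by rw [← mul_assoc, hii, neg_mul, one_mul]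
  have ijj : i * j * j = -i := by rw [mul_assoc, hjj, mul_neg, mul_one]
  have ijij : i * j * (i * j) = -1 := by rw [← mul_assoc, iji, hjj]
  unfold ev
  simp only [mul_add, add_mul]
  simp only [← mul_assoc (b * i), ← mul_assoc (c * j), ← mul_assoc (d * (i * j))]
  simp only [m1 _ _ ha, m1 _ _ hb, m1 _ _ hc, m1 _ _ hd, m2 _ _ ha, m2 _ _ hb, m2 _ _ hc,
    m2 _ _ hd, m3 _ _ ha, m3 _ _ hb, m3 _ _ hc, m3 _ _ hd]
  simp only [mul_assoc (b * b'), mul_assoc (b * c'), mul_assoc (b * d'), mul_assoc (c * b'),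
    mul_assoc (c * c'), mul_assoc (c * d'), mul_assoc (d * b'), mul_assoc (d * c'),
    mul_assoc (d * d'), hii, hjj, hji, jij, iji, iij, ijj, ijij]
  noncomm_ring

/-- the averaging operator -/
theorem avg_ev {a b c d : E} (ha : Cen i j a) (hb : Cen i j b) (hc : Cen i j c)
    (hd : Cen i j d) :
    ev i j a b c d - i * ev i j a b c d * i - j * ev i j a b c d * j
      - (i * j) * ev i j a b c d * (i * j) = 4 * a := by
  have e1 : i = ev i j 0 1 0 0 := by simp [ev]
  have e2 : j = ev i j 0 0 1 0 := by simp [ev]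
  have e3 : i * j = ev i j 0 0 0 1 := by simp [ev]
  have f1 : i * ev i j a b c d * i = ev i j 0 1 0 0 * ev i j a b c d * ev i j 0 1 0 0 := by
    rw [← e1]
  have f2 : j * ev i j a b c d * j = ev i j 0 0 1 0 * ev i j a b c d * ev i j 0 0 1 0 := by
    rw [← e2]
  have f3 : (i * j) * ev i j a b c d * (i * j) =
      ev i j 0 0 0 1 * ev i j a b c d * ev i j 0 0 0 1 := by
    rw [← e3]
  rw [f1, f2, f3]
  rw [ev_mul h ha hb hc hd, ev_mul h ha hb hc hd, ev_mul h ha hb hc hd]
  rw [ev_mul h Cen.zero Cen.one Cen.zero Cen.zero, ev_mul h Cen.zero Cen.zero Cen.one Cen.zero,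
    ev_mul h Cen.zero Cen.zero Cen.zero Cen.one]
  unfold ev
  noncomm_ring

theorem eq_zero_of_ev_eq_zero (h2 : IsUnit (2 : E)) {a b c d : E} (ha : Cen i j a)
    (hb : Cen i j b) (hc : Cen i j c) (hd : Cen i j d) (h0 : ev i j a b c d = 0) : a = 0 := by
  have := avg_ev h ha hb hc hd
  rw [h0] at this
  simp only [mul_zero, zero_mul, sub_zero] at this
  have h4 : (4 : E) = 2 * 2 := by norm_num
  rw [h4, mul_assoc] at this
  have h1 : (2 : E) * a = 0 := (h2.mul_right_eq_zero).mp this.symm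
  exact (h2.mul_right_eq_zero).mp h1

theorem ev_eq_zero (h2 : IsUnit (2 : E)) {a b c d : E} (ha : Cen i j a)
    (hb : Cen i j b) (hc : Cen i j c) (hd : Cen i j d) (h0 : ev i j a b c d = 0) :
    a = 0 ∧ b = 0 ∧ c = 0 ∧ d = 0 := by
  refine ⟨eq_zero_of_ev_eq_zero h h2 ha hb hc hd h0, ?_, ?_, ?_⟩
  · have : ev i j a b c d * ev i j 0 (-1) 0 0 = 0 := by rw [h0, zero_mul]
    rw [ev_mul h Cen.zero (Cen.one.neg) Cen.zero Cen.zero] at this
    have hh := eq_zero_of_ev_eq_zero h h2 (by simpa using hb) (by simpa using ha.neg)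
      (by simpa using hd.neg) (by simpa using hc) this
    simpa using hh
  · have : ev i j a b c d * ev i j 0 0 (-1) 0 = 0 := by rw [h0, zero_mul]
    rw [ev_mul h Cen.zero Cen.zero (Cen.one.neg) Cen.zero] at this
    have hh := eq_zero_of_ev_eq_zero h h2 (by simpa using hc) (by simpa using hd)
      (by simpa using ha.neg) (by simpa using hb.neg) this
    simpa using hh
  · have : ev i j a b c d * ev i j 0 0 0 (-1) = 0 := by rw [h0, zero_mul]
    rw [ev_mul h Cen.zero Cen.zero Cen.zero (Cen.one.neg)] at this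
    have hh := eq_zero_of_ev_eq_zero h h2 (by simpa using hd) (by simpa using hc.neg)
      (by simpa using hb) (by simpa using ha.neg) this
    simpa using hh

theorem ev_inj (h2 : IsUnit (2 : E)) {a b c d a' b' c' d' : E} (ha : Cen i j a)
    (hb : Cen i j b) (hc : Cen i j c) (hd : Cen i j d) (ha' : Cen i j a')
    (hb' : Cen i j b') (hc' : Cen i j c') (hd' : Cen i j d')
    (h0 : ev i j a b c d = ev i j a' b' c' d') :
    a = a' ∧ b = b' ∧ c = c' ∧ d = d' := by
  have h1 : ev i j (a - a') (b - b') (c - c') (d - d') = 0 := by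
    have : ev i j (a - a') (b - b') (c - c') (d - d') = ev i j a b c d - ev i j a' b' c' d' := by
      unfold ev; noncomm_ring
    rw [this, h0, sub_self]
  obtain ⟨h3, h4, h5, h6⟩ := ev_eq_zero h h2 (ha.sub ha') (hb.sub hb') (hc.sub hc') (hd.sub hd') h1
  exact ⟨sub_eq_zero.mp h3, sub_eq_zero.mp h4, sub_eq_zero.mp h5, sub_eq_zero.mp h6⟩

theorem cen_avg (f : E) : Cen i j (f - i * f * i - j * f * j - (i * j) * f * (i * j)) := by
  have hii := h.ii
  have hjj := h.jj
  have hji := h.ji
  have hii' : ∀ x : E, i * (i * x) = -x := fun x => by rw [← mul_assoc, hii, neg_mul, one_mul]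
  have hjj' : ∀ x : E, j * (j * x) = -x := fun x => by rw [← mul_assoc, hjj, neg_mul, one_mul]
  have hji' : ∀ x : E, j * (i * x) = -(i * (j * x)) := fun x => by
    rw [← mul_assoc, hji, neg_mul, mul_assoc]
  constructor <;>
  · simp only [mul_sub, sub_mul, mul_assoc, hii, hjj, hji, hii', hjj', hji', mul_neg, neg_mul,
      mul_one, neg_neg]
    abel

theorem exists_ev (h2 : IsUnit (2 : E)) (f : E) : ∃ a b c d : E, Cen i j a ∧ Cen i j b ∧
    Cen i j c ∧ Cen i j d ∧ f = ev i j a b c d := by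
  have hii := h.ii
  have hjj := h.jj
  have hji := h.ji
  have hii' : ∀ x : E, i * (i * x) = -x := fun x => by rw [← mul_assoc, hii, neg_mul, one_mul]
  have hjj' : ∀ x : E, j * (j * x) = -x := fun x => by rw [← mul_assoc, hjj, neg_mul, one_mul]
  have hji' : ∀ x : E, j * (i * x) = -(i * (j * x)) := fun x => by
    rw [← mul_assoc, hji, neg_mul, mul_assoc]
  obtain ⟨u, hu⟩ := h2
  have hu1 : (↑(u⁻¹) : E) * 2 = 1 := by rw [← hu]; exact u.inv_mul
  have hcomm : ∀ x : E, (↑(u⁻¹) : E) * x = x * ↑(u⁻¹) := fun x => by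
    have h1 : Commute (u : E) x := by
      rw [hu]
      exact Nat.cast_commute 2 x
    exact (h1.units_inv_left).eq
  set v : E := (↑(u⁻¹) : E) * ↑(u⁻¹) with hv
  have hvc : ∀ x : E, v * x = x * v := fun x => by
    rw [hv, mul_assoc, hcomm x, ← mul_assoc, hcomm x, mul_assoc]
  have hv4 : v * 4 = 1 := by
    have : (4 : E) = 2 * 2 := by norm_num
    rw [hv, this, mul_assoc, ← mul_assoc _ (2 : E) 2, hu1, one_mul, hu1]
  have hvC : Cen i j v := ⟨(hvc i).symm, (hvc j).symm⟩
  refine ⟨v * (f - i * f * i - j * f * j - (i * j) * f * (i * j)),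
    v * ((-(f * i)) - i * (-(f * i)) * i - j * (-(f * i)) * j - (i * j) * (-(f * i)) * (i * j)),
    v * ((-(f * j)) - i * (-(f * j)) * i - j * (-(f * j)) * j - (i * j) * (-(f * j)) * (i * j)),
    v * ((-(f * (i * j))) - i * (-(f * (i * j))) * i - j * (-(f * (i * j))) * j -
      (i * j) * (-(f * (i * j))) * (i * j)),
    hvC.mul (cen_avg h _), hvC.mul (cen_avg h _), hvC.mul (cen_avg h _), hvC.mul (cen_avg h _), ?_⟩
  have key : 4 * f = ev i j (f - i * f * i - j * f * j - (i * j) * f * (i * j))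
    ((-(f * i)) - i * (-(f * i)) * i - j * (-(f * i)) * j - (i * j) * (-(f * i)) * (i * j))
    ((-(f * j)) - i * (-(f * j)) * i - j * (-(f * j)) * j - (i * j) * (-(f * j)) * (i * j))
    ((-(f * (i * j))) - i * (-(f * (i * j))) * i - j * (-(f * (i * j))) * j -
      (i * j) * (-(f * (i * j))) * (i * j)) := by
    unfold ev
    simp only [mul_sub, sub_mul, mul_assoc, hii, hjj, hji, hii', hjj', hji', mul_neg, neg_mul,
      mul_one, neg_neg]
    noncomm_ring
  calc f = v * (4 * f) := by rw [← mul_assoc, hv4, one_mul]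
    _ = _ := by
      rw [key]
      unfold ev
      simp only [mul_add, mul_assoc]

end frame

end Cfsg.Agent.PermutationGroups.ZassQuat
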