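import Mathlib
import Cfsg.Agent.PermutationGroups.ZassQuat
import Cfsg.Agent.PermutationGroups.ZassOrders

set_option autoImplicit false

/-!
# Elements of order three relative to a quaternion frame
-/

namespace Cfsg.Agent.PermutationGroups.ZassFrame

open Cfsg.Agent.PermutationGroups.ZassQuat Cfsg.Agent.PermutationGroups.ZassOrders

/-- noncommutative ring identities, numerals included -/
local macro "nc" : tactic =>
  `(tactic| ((try simp only [n2, n3, n4, n5, n6, n8, n10, n12, n16, n20]); noncomm_ring))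

variable {E : Type*} [Ring E]

theorem ev_add {i j a b c d a' b' c' d' : E} :
    ev i j a b c d + ev i j a' b' c' d' = ev i j (a + a') (b + b') (c + c') (d + d') := by
  unfold ev; nc

theorem ev_neg {i j a b c d : E} : -ev i j a b c d = ev i j (-a) (-b) (-c) (-d) := by
  unfold ev; nc

theorem ev_scalar {i j a : E} : ev i j a 0 0 0 = a := by unfold ev; simp

section frame
variable {i j : E} (h : QFrame i j)
include h

theorem anti1 {z a b c : E} (hz : Cen i j z) (ha : Cen i j a) (hb : Cen i j b) (hc : Cen i j c) :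
    ev i j 0 1 1 1 * ev i j z a b c + ev i j z a b c * ev i j 0 1 1 1 =
      ev i j (-2 * (a + b + c)) (2 * z) (2 * z) (2 * z) := by
  rw [ev_mul h hz ha hb hc, ev_mul h Cen.zero Cen.one Cen.one Cen.one, ev_add]
  congr 1 <;> nc

theorem anti2 {z a b c : E} (hz : Cen i j z) (ha : Cen i j a) (hb : Cen i j b) (hc : Cen i j c) :
    ev i j 0 1 (-1) (-1) * ev i j z a b c + ev i j z a b c * ev i j 0 1 (-1) (-1) =
      ev i j (-2 * (a - b - c)) (2 * z) (-2 * z) (-2 * z) := by
  rw [ev_mul h hz ha hb hc, ev_mul h Cen.zero Cen.one Cen.one.neg Cen.one.neg, ev_add]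
  congr 1 <;> nc

theorem anti3 {z a b c : E} (hz : Cen i j z) (ha : Cen i j a) (hb : Cen i j b) (hc : Cen i j c) :
    ev i j 0 (-1) 1 (-1) * ev i j z a b c + ev i j z a b c * ev i j 0 (-1) 1 (-1) =
      ev i j (-2 * (-a + b - c)) (-2 * z) (2 * z) (-2 * z) := by
  rw [ev_mul h hz ha hb hc, ev_mul h Cen.zero Cen.one.neg Cen.one Cen.one.neg, ev_add]
  congr 1 <;> nc

theorem anti4 {z a b c : E} (hz : Cen i j z) (ha : Cen i j a) (hb : Cen i j b) (hc : Cen i j c) :
    ev i j 0 (-1) (-1) 1 * ev i j z a b c + ev i j z a b c * ev i j 0 (-1) (-1) 1 =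
      ev i j (-2 * (-a - b + c)) (-2 * z) (-2 * z) (2 * z) := by
  rw [ev_mul h hz ha hb hc, ev_mul h Cen.zero Cen.one.neg Cen.one.neg Cen.one, ev_add]
  congr 1 <;> nc

theorem conj_i {z a b c : E} (hz : Cen i j z) (ha : Cen i j a) (hb : Cen i j b) (hc : Cen i j c) :
    i * ev i j z a b c * (-i) = ev i j z a (-b) (-c) := by
  have e1 : i * ev i j z a b c * (-i) = ev i j 0 1 0 0 * ev i j z a b c * ev i j 0 (-1) 0 0 := by
    simp [ev]
  rw [e1, ev_mul h hz ha hb hc, ev_mul h Cen.zero Cen.one.neg Cen.zero Cen.zero]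
  congr 1 <;> nc

theorem conj_j {z a b c : E} (hz : Cen i j z) (ha : Cen i j a) (hb : Cen i j b) (hc : Cen i j c) :
    j * ev i j z a b c * (-j) = ev i j z (-a) b (-c) := by
  have e1 : j * ev i j z a b c * (-j) = ev i j 0 0 1 0 * ev i j z a b c * ev i j 0 0 (-1) 0 := by
    simp [ev]
  rw [e1, ev_mul h hz ha hb hc, ev_mul h Cen.zero Cen.zero Cen.one.neg Cen.zero]
  congr 1 <;> nc

/-- conjugation by `x = (-1 + i + j + k)/2` -/
theorem conj_x {z a b c : E} (hz : Cen i j z) (ha : Cen i j a) (hb : Cen i j b) (hc : Cen i j c) :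
    ev i j (-1) 1 1 1 * ev i j z a b c = ev i j z b c a * ev i j (-1) 1 1 1 := by
  rw [ev_mul h hz ha hb hc, ev_mul h Cen.one.neg Cen.one Cen.one Cen.one]
  congr 1 <;> nc

theorem sq_ev {z a b c : E} (hz : Cen i j z) (ha : Cen i j a) (hb : Cen i j b) (hc : Cen i j c) :
    ev i j z a b c * ev i j z a b c =
      ev i j (z * z - a * a - b * b - c * c) (z * a + a * z + (b * c - c * b))
        (z * b + b * z + (c * a - a * c)) (z * c + c * z + (a * b - b * a)) := by
  rw [ev_mul h hz ha hb hc]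
  congr 1 <;> nc

end frame

end Cfsg.Agent.PermutationGroups.ZassFrame
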