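import Mathlib
import Cfsg.Agent.PermutationGroups.ZassFrame

set_option autoImplicit false

/-!
# Elements of order three relative to a quaternion frame: algebra
-/

namespace Cfsg.Agent.PermutationGroups.ZassClaim

open Cfsg.Agent.PermutationGroups.ZassQuat Cfsg.Agent.PermutationGroups.ZassOrders
  Cfsg.Agent.PermutationGroups.ZassFrame

/-- noncommutative ring identities, numerals included -/
local macro "nc" : tactic =>
  `(tactic| ((try simp only [n2, n3, n4, n5, n6, n8, n10, n12, n16, n20]); noncomm_ring))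

variable {E : Type*} [Ring E]

theorem cancel_two (h2 : IsUnit (2 : E)) {a : E} (h : 2 * a = 0) : a = 0 :=
  (h2.mul_right_eq_zero).mp h

theorem cancel_four (h2 : IsUnit (2 : E)) {a : E} (h : 4 * a = 0) : a = 0 := by
  apply cancel_two h2
  apply cancel_two h2
  linear_combination (norm := nc) h

section frame
variable {i j : E} (h : QFrame i j)
include h

theorem from_sq (h2 : IsUnit (2 : E)) {s z p q r : E} (hs : Cen i j s) (hz : Cen i j z)
    (hp : p = 2 * z ∨ p = -2 * z) (hq : q = 2 * z ∨ q = -2 * z) (hr : r = 2 * z ∨ r = -2 * z)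
    (hS : ev i j (-2 * s) p q r * ev i j (-2 * s) p q r = 20) :
    s * s - 3 * (z * z) = 5 ∧ s * z + z * s = 0 := by
  have c2 : Cen i j (2 : E) := Cen.ofNat 2
  have hpC : Cen i j p := by
    rcases hp with rfl | rfl
    · exact c2.mul hz
    · exact c2.neg.mul hz
  have hqC : Cen i j q := by
    rcases hq with rfl | rfl
    · exact c2.mul hz
    · exact c2.neg.mul hz
  have hrC : Cen i j r := by
    rcases hr with rfl | rfl
    · exact c2.mul hz
    · exact c2.neg.mul hz
  have hsC : Cen i j (-2 * s) := c2.neg.mul hs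
  rw [sq_ev h hsC hpC hqC hrC] at hS
  have h20 : (20 : E) = ev i j 20 0 0 0 := by unfold ev; simp
  rw [h20] at hS
  have hps : p * p = 4 * (z * z) := by rcases hp with rfl | rfl <;> nc
  have hqs : q * q = 4 * (z * z) := by rcases hq with rfl | rfl <;> nc
  have hrs : r * r = 4 * (z * z) := by rcases hr with rfl | rfl <;> nc
  have hqr : q * r - r * q = 0 := by
    rcases hq with rfl | rfl <;> rcases hr with rfl | rfl <;> nc
  obtain ⟨e1, e2, -, -⟩ := ev_inj h h2
    (((hsC.mul hsC).sub (hpC.mul hpC)).sub (hqC.mul hqC) |>.sub (hrC.mul hrC))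
    (((hsC.mul hpC).add (hpC.mul hsC)).add ((hqC.mul hrC).sub (hrC.mul hqC)))
    (((hsC.mul hqC).add (hqC.mul hsC)).add ((hrC.mul hpC).sub (hpC.mul hrC)))
    (((hsC.mul hrC).add (hrC.mul hsC)).add ((hpC.mul hqC).sub (hqC.mul hpC)))
    (Cen.ofNat 20) Cen.zero Cen.zero Cen.zero hS
  constructor
  · have : 4 * (s * s - 3 * (z * z) - 5) = 0 := by
      linear_combination (norm := nc) e1 + hps + hqs + hrs
    have := cancel_four h2 this
    linear_combination (norm := nc) this
  · rw [hqr, add_zero] at e2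
    apply cancel_four h2
    rcases hp with rfl | rfl
    · linear_combination (norm := nc) -e2
    · linear_combination (norm := nc) e2

/-- Case B of Claim 1: all four anticommutators square to 20. -/
theorem caseB (h2 : IsUnit (2 : E)) {z a b c : E} (hz : Cen i j z)
    (ha : Cen i j a) (hb : Cen i j b) (hc : Cen i j c)
    (hsq : ev i j z a b c * ev i j z a b c = -3)
    (h1 : ev i j (-2 * (a + b + c)) (2 * z) (2 * z) (2 * z) *
      ev i j (-2 * (a + b + c)) (2 * z) (2 * z) (2 * z) = 20)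
    (h2' : ev i j (-2 * (a - b - c)) (2 * z) (-2 * z) (-2 * z) *
      ev i j (-2 * (a - b - c)) (2 * z) (-2 * z) (-2 * z) = 20)
    (h3 : ev i j (-2 * (-a + b - c)) (-2 * z) (2 * z) (-2 * z) *
      ev i j (-2 * (-a + b - c)) (-2 * z) (2 * z) (-2 * z) = 20)
    (h4 : ev i j (-2 * (-a - b + c)) (-2 * z) (-2 * z) (2 * z) *
      ev i j (-2 * (-a - b + c)) (-2 * z) (-2 * z) (2 * z) = 20) :
    z * z = -1 ∧ a * z + z * a = 0 ∧ b * z + z * b = 0 ∧ c * z + z * c = 0 ∧
    a * b = 0 ∧ b * a = 0 ∧ a * c = 0 ∧ c * a = 0 ∧ b * c = 0 ∧ c * b = 0 ∧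
    a * a + b * b + c * c = 2 := by
  obtain ⟨q1, r1⟩ := from_sq h h2 ((ha.add hb).add hc) hz (Or.inl rfl) (Or.inl rfl) (Or.inl rfl) h1
  obtain ⟨q2, r2⟩ := from_sq h h2 ((ha.sub hb).sub hc) hz (Or.inl rfl) (Or.inr rfl) (Or.inr rfl) h2'
  obtain ⟨q3, r3⟩ := from_sq h h2 ((ha.neg.add hb).sub hc) hz (Or.inr rfl) (Or.inl rfl) (Or.inr rfl) h3
  obtain ⟨q4, r4⟩ := from_sq h h2 ((ha.neg.sub hb).add hc) hz (Or.inr rfl) (Or.inr rfl) (Or.inl rfl) h4
  have haz : a * z + z * a = 0 := by
    apply cancel_two h2; linear_combination (norm := nc) r1 + r2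
  have hbz : b * z + z * b = 0 := by
    apply cancel_two h2; linear_combination (norm := nc) r1 + r3
  have hcz : c * z + z * c = 0 := by
    apply cancel_two h2; linear_combination (norm := nc) r1 + r4
  -- anticommutation of the a, b, c
  have e12 : a * b + b * a + (a * c + c * a) = 0 := by
    apply cancel_two h2; linear_combination (norm := nc) q1 - q2
  have e13 : a * b + b * a + (b * c + c * b) = 0 := by
    apply cancel_two h2; linear_combination (norm := nc) q1 - q3
  have e14 : a * c + c * a + (b * c + c * b) = 0 := by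
    apply cancel_two h2; linear_combination (norm := nc) q1 - q4
  have ab : a * b + b * a = 0 := by
    apply cancel_two h2; linear_combination (norm := nc) e12 + e13 - e14
  have ac : a * c + c * a = 0 := by
    apply cancel_two h2; linear_combination (norm := nc) e12 - e13 + e14
  have bc : b * c + c * b = 0 := by
    apply cancel_two h2; linear_combination (norm := nc) e13 + e14 - e12
  rw [sq_ev h hz ha hb hc] at hsq
  have h3' : (-3 : E) = ev i j (-3) 0 0 0 := by unfold ev; simp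
  rw [h3'] at hsq
  obtain ⟨f1, f2, f3, f4⟩ := ev_inj h h2
    (((hz.mul hz).sub (ha.mul ha)).sub (hb.mul hb) |>.sub (hc.mul hc))
    (((hz.mul ha).add (ha.mul hz)).add ((hb.mul hc).sub (hc.mul hb)))
    (((hz.mul hb).add (hb.mul hz)).add ((hc.mul ha).sub (ha.mul hc)))
    (((hz.mul hc).add (hc.mul hz)).add ((ha.mul hb).sub (hb.mul ha)))
    (Cen.ofNat 3).neg Cen.zero Cen.zero Cen.zero hsq
  have bc' : b * c = 0 := by
    apply cancel_two h2; linear_combination (norm := nc) f2 - haz + bc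
  have cb' : c * b = 0 := by
    linear_combination (norm := nc) bc - bc'
  have ca' : c * a = 0 := by
    apply cancel_two h2; linear_combination (norm := nc) f3 - hbz + ac
  have ac' : a * c = 0 := by
    linear_combination (norm := nc) ac - ca'
  have ab' : a * b = 0 := by
    apply cancel_two h2; linear_combination (norm := nc) f4 - hcz + ab
  have ba' : b * a = 0 := by
    linear_combination (norm := nc) ab - ab'
  have hsum : a * a + b * b + c * c = 5 + 3 * (z * z) := by
    linear_combination (norm := nc) q1 - ab - ac - bc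
  have hzz : z * z = -1 := by
    have : 2 * (z * z + 1) = 0 := by
      linear_combination (norm := nc) -f1 - hsum
    have := cancel_two h2 this
    linear_combination (norm := nc) this
  refine ⟨hzz, haz, hbz, hcz, ab', ba', ac', ca', bc', cb', ?_⟩
  rw [hsum, hzz]; nc

end frame

/-- if `g² - t g + 1 = 0` and `P t² = P` then `P t = ± P` by freeness -/
theorem scalar_of_sq {G : Subgroup Eˣ} (hfree : ∀ g ∈ G, g ≠ 1 → IsUnit ((g : E) - 1))
    (h2 : IsUnit (2 : E)) {g : Eˣ} (hg : g ∈ G) {t P : E}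
    (hq : (g : E) * g - t * g + 1 = 0) (hP : P * t * t = P) : P * t = P ∨ P * t = -P := by
  have e1 : P * (t + 1) * ((g : E) ^ 3 + 1) = 0 := by
    linear_combination (norm := nc) P * (t + 1) * hq * ((g : E) + 1) + hP * g * (g + 1)
  have e2 : P * (t - 1) * ((g : E) ^ 3 - 1) = 0 := by
    linear_combination (norm := nc) P * (t - 1) * hq * ((g : E) - 1) + hP * g * (g - 1)
  by_cases h3 : g ^ 3 = 1
  · right
    have h3' : (g : E) ^ 3 = 1 := coe_pow_eq_one h3
    rw [h3'] at e1
    have : 2 * (P * (t + 1)) = 0 := by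
      linear_combination (norm := nc) e1
    have := cancel_two h2 this
    linear_combination (norm := nc) this
  · left
    have hu := pow_sub_one_isUnit hfree hg h3
    have := (hu.mul_left_eq_zero).mp e2
    linear_combination (norm := nc) this

/-- the running hypotheses -/
structure Ctx (G : Subgroup Eˣ) (i j x : Eˣ) : Prop where
  free : ∀ g ∈ G, g ≠ 1 → IsUnit ((g : E) - 1)
  h2 : IsUnit (2 : E)
  h3 : IsUnit (3 : E)
  hi : i ∈ G
  hj : j ∈ G
  hx : x ∈ G
  frame : QFrame (i : E) (j : E)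
  hxe : 2 * (x : E) + 1 = ev (i : E) (j : E) 0 1 1 1
  hord : ∀ y ∈ G, ∀ w ∈ G, orderOf y = 3 → orderOf w = 3 →
    (orderOf (y * w) = 1 ∨ orderOf (y * w) = 3 ∨ orderOf (y * w) = 4 ∨
      orderOf (y * w) = 6 ∨ orderOf (y * w) = 10)

section ctx
variable {G : Subgroup Eˣ} {i j x : Eˣ} (C : Ctx G i j x)
include C

theorem inv_i : ((i⁻¹ : Eˣ) : E) = -i := by
  have h1 : (i : E) * (-i) = 1 := by
    rw [mul_neg, C.frame.ii, neg_neg]
  calc ((i⁻¹ : Eˣ) : E) = ((i⁻¹ : Eˣ) : E) * ((i : E) * (-i)) := by rw [h1, mul_one]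
    _ = _ := by rw [← mul_assoc, Units.inv_mul, one_mul]

theorem inv_j : ((j⁻¹ : Eˣ) : E) = -j := by
  have h1 : (j : E) * (-j) = 1 := by
    rw [mul_neg, C.frame.jj, neg_neg]
  calc ((j⁻¹ : Eˣ) : E) = ((j⁻¹ : Eˣ) : E) * ((j : E) * (-j)) := by rw [h1, mul_one]
    _ = _ := by rw [← mul_assoc, Units.inv_mul, one_mul]

theorem conj_i_eq {w : Eˣ} {z a b c : E} (hz : Cen (i : E) j z) (ha : Cen (i : E) j a)
    (hb : Cen (i : E) j b) (hc : Cen (i : E) j c)
    (hw : 2 * (w : E) + 1 = ev (i : E) j z a b c) :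
    2 * ((i * w * i⁻¹ : Eˣ) : E) + 1 = ev (i : E) j z a (-b) (-c) := by
  rw [Units.val_mul, Units.val_mul, inv_i C, ← conj_i C.frame hz ha hb hc, ← hw]
  have h1 : (i : E) * (-i) = 1 := by
    rw [mul_neg, C.frame.ii, neg_neg]
  linear_combination (norm := nc) -h1

theorem conj_j_eq {w : Eˣ} {z a b c : E} (hz : Cen (i : E) j z) (ha : Cen (i : E) j a)
    (hb : Cen (i : E) j b) (hc : Cen (i : E) j c)
    (hw : 2 * (w : E) + 1 = ev (i : E) j z a b c) :
    2 * ((j * w * j⁻¹ : Eˣ) : E) + 1 = ev (i : E) j z (-a) b (-c) := by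
  rw [Units.val_mul, Units.val_mul, inv_j C, ← conj_j C.frame hz ha hb hc, ← hw]
  have h1 : (j : E) * (-j) = 1 := by
    rw [mul_neg, C.frame.jj, neg_neg]
  linear_combination (norm := nc) -h1

theorem conj_x_eq {w : Eˣ} {z a b c : E} (hz : Cen (i : E) j z) (ha : Cen (i : E) j a)
    (hb : Cen (i : E) j b) (hc : Cen (i : E) j c)
    (hw : 2 * (w : E) + 1 = ev (i : E) j z a b c) :
    2 * ((x * w * x⁻¹ : Eˣ) : E) + 1 = ev (i : E) j z b c a := by
  have h1 := conj_x C.frame hz ha hb hc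
  have h3 : ev (i : E) j (-1) 1 1 1 = 2 * x := by
    have := C.hxe
    have e : ev (i : E) j (-1) 1 1 1 = ev (i : E) j 0 1 1 1 - 1 := by unfold ev; nc
    rw [e, ← this]; nc
  rw [h3, ← hw] at h1
  have h4 : 2 * ((x : E) * (2 * w + 1) - ev (i : E) j z b c a * x) = 0 := by
    linear_combination (norm := nc) h1
  have h5 := cancel_two C.h2 h4
  have h6 : (x : E) * ((x⁻¹ : Eˣ) : E) = 1 := Units.mul_inv x
  rw [Units.val_mul, Units.val_mul]
  linear_combination (norm := nc) h5 * ((x⁻¹ : Eˣ) : E) + (ev (i : E) j z b c a - 1) * h6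

omit C in
theorem order_conj {g w : Eˣ} (hw : orderOf w = 3) : orderOf (g * w * g⁻¹) = 3 := by
  have : g * w * g⁻¹ = MulAut.conj g w := by simp
  rw [this, MulEquiv.orderOf_eq, hw]

theorem order_x [Nontrivial E] : orderOf x = 3 := by
  have h1 : x ^ 3 = 1 := by
    have h2 : (2 * (x : E) + 1) * (2 * (x : E) + 1) = -3 := by
      rw [C.hxe, sq_ev C.frame Cen.zero Cen.one Cen.one Cen.one]
      unfold ev; nc
    have h3 : (4 : E) * ((x : E) ^ 2 + x + 1) = 0 := by
      linear_combination (norm := nc) h2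
    have h4 := cancel_four C.h2 h3
    apply Units.ext
    rw [Units.val_pow_eq_pow_val, Units.val_one]
    linear_combination (norm := nc) ((x : E) - 1) * h4
  have h2 : x ≠ 1 := by
    rintro rfl
    have := C.hxe
    rw [Units.val_one] at this
    have h3 : (3 : E) = ev (i : E) j 3 0 0 0 := by unfold ev; simp
    have h4 : (2 * 1 + 1 : E) = 3 := by norm_num
    rw [h4, h3] at this
    obtain ⟨-, e1, -⟩ := ev_inj C.frame C.h2 (Cen.ofNat 3) Cen.zero Cen.zero Cen.zero Cen.zero
      Cen.one Cen.one Cen.one this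
    exact zero_ne_one e1
  exact orderOf_eq_prime h1 h2

/-- value of the anticommutator with `x` -/
theorem rel1 [Nontrivial E] {w : Eˣ} (hwG : w ∈ G) (hw3 : orderOf w = 3) {z a b c : E}
    (hz : Cen (i : E) j z) (ha : Cen (i : E) j a)
    (hb : Cen (i : E) j b) (hc : Cen (i : E) j c)
    (hw : 2 * (w : E) + 1 = ev (i : E) j z a b c) {S : E}
    (hS : S = ev (i : E) j (-2 * (a + b + c)) (2 * z) (2 * z) (2 * z)) :
    (S = 6 ∧ w = x⁻¹) ∨ (S = -6 ∧ w = x) ∨ S = -2 ∨ S = 2 ∨ S * S = 20 := by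
  refine anti_cases C.free C.h2 C.hx hwG (order_x C) hw3
    (C.hord x C.hx w hwG (order_x C) hw3) ?_
  rw [hS, hw, C.hxe, anti1 C.frame hz ha hb hc]

theorem rel2 [Nontrivial E] {w : Eˣ} (hwG : w ∈ G) (hw3 : orderOf w = 3) {z a b c : E}
    (hz : Cen (i : E) j z) (ha : Cen (i : E) j a)
    (hb : Cen (i : E) j b) (hc : Cen (i : E) j c)
    (hw : 2 * (w : E) + 1 = ev (i : E) j z a b c) {S : E}
    (hS : S = ev (i : E) j (-2 * (a - b - c)) (2 * z) (-2 * z) (-2 * z)) :
    (S = 6 ∧ w = (i * x * i⁻¹)⁻¹) ∨ (S = -6 ∧ w = i * x * i⁻¹) ∨ S = -2 ∨ S = 2 ∨ S * S = 20 := by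
  have h1 : i * x * i⁻¹ ∈ G := mul_mem (mul_mem C.hi C.hx) (inv_mem C.hi)
  have h2 : orderOf (i * x * i⁻¹) = 3 := order_conj (order_x C)
  refine anti_cases C.free C.h2 h1 hwG h2 hw3 (C.hord _ h1 w hwG h2 hw3) ?_
  rw [hS, hw, conj_i_eq C Cen.zero Cen.one Cen.one Cen.one C.hxe, anti2 C.frame hz ha hb hc]

theorem rel3 [Nontrivial E] {w : Eˣ} (hwG : w ∈ G) (hw3 : orderOf w = 3) {z a b c : E}
    (hz : Cen (i : E) j z) (ha : Cen (i : E) j a)
    (hb : Cen (i : E) j b) (hc : Cen (i : E) j c)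
    (hw : 2 * (w : E) + 1 = ev (i : E) j z a b c) {S : E}
    (hS : S = ev (i : E) j (-2 * (-a + b - c)) (-2 * z) (2 * z) (-2 * z)) :
    (S = 6 ∧ w = (j * x * j⁻¹)⁻¹) ∨ (S = -6 ∧ w = j * x * j⁻¹) ∨ S = -2 ∨ S = 2 ∨ S * S = 20 := by
  have h1 : j * x * j⁻¹ ∈ G := mul_mem (mul_mem C.hj C.hx) (inv_mem C.hj)
  have h2 : orderOf (j * x * j⁻¹) = 3 := order_conj (order_x C)
  refine anti_cases C.free C.h2 h1 hwG h2 hw3 (C.hord _ h1 w hwG h2 hw3) ?_
  rw [hS, hw, conj_j_eq C Cen.zero Cen.one Cen.one Cen.one C.hxe, anti3 C.frame hz ha hb hc]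

theorem rel4 [Nontrivial E] {w : Eˣ} (hwG : w ∈ G) (hw3 : orderOf w = 3) {z a b c : E}
    (hz : Cen (i : E) j z) (ha : Cen (i : E) j a)
    (hb : Cen (i : E) j b) (hc : Cen (i : E) j c)
    (hw : 2 * (w : E) + 1 = ev (i : E) j z a b c) {S : E}
    (hS : S = ev (i : E) j (-2 * (-a - b + c)) (-2 * z) (-2 * z) (2 * z)) :
    (S = 6 ∧ w = (i * (j * x * j⁻¹) * i⁻¹)⁻¹) ∨ (S = -6 ∧ w = i * (j * x * j⁻¹) * i⁻¹) ∨
      S = -2 ∨ S = 2 ∨ S * S = 20 := by
  have h1 : i * (j * x * j⁻¹) * i⁻¹ ∈ G :=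
    mul_mem (mul_mem C.hi (mul_mem (mul_mem C.hj C.hx) (inv_mem C.hj))) (inv_mem C.hi)
  have h2 : orderOf (i * (j * x * j⁻¹) * i⁻¹) = 3 := order_conj (order_conj (order_x C))
  refine anti_cases C.free C.h2 h1 hwG h2 hw3 (C.hord _ h1 w hwG h2 hw3) ?_
  have h3 := conj_j_eq C Cen.zero Cen.one Cen.one Cen.one C.hxe
  have h4 := conj_i_eq C Cen.zero Cen.one.neg Cen.one Cen.one.neg h3
  rw [neg_neg] at h4
  rw [hS, hw, h4, anti4 C.frame hz ha hb hc]

/-- Claim 1: the `1`-component vanishes -/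
theorem claim1 [Nontrivial E] {w : Eˣ} (hwG : w ∈ G) (hw3 : orderOf w = 3) {z a b c : E}
    (hz : Cen (i : E) j z) (ha : Cen (i : E) j a)
    (hb : Cen (i : E) j b) (hc : Cen (i : E) j c)
    (hw : 2 * (w : E) + 1 = ev (i : E) j z a b c) : z = 0 := by
  have C2 : Cen (i : E) j (2 : E) := Cen.ofNat 2
  -- scalar anticommutators force `z = 0`
  have key : ∀ {s p q r n : E}, Cen (i : E) j s → Cen (i : E) j p → Cen (i : E) j q →
      Cen (i : E) j r → Cen (i : E) j n → (p = 2 * z ∨ p = -2 * z) →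
      ev (i : E) j s p q r = n → z = 0 := by
    intro s p q r n hs hp hq hr hn hpz he
    rw [← ev_scalar (i := (i : E)) (j := (j : E)) (a := n)] at he
    obtain ⟨-, e, -⟩ := ev_inj C.frame C.h2 hs hp hq hr hn Cen.zero Cen.zero Cen.zero he
    rcases hpz with rfl | rfl
    · exact cancel_two C.h2 e
    · apply cancel_two C.h2
      linear_combination (norm := nc) -e
  have s1 := rel1 C hwG hw3 hz ha hb hc hw rfl
  have s2 := rel2 C hwG hw3 hz ha hb hc hw rfl
  have s3 := rel3 C hwG hw3 hz ha hb hc hw rfl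
  have s4 := rel4 C hwG hw3 hz ha hb hc hw rfl
  have z2 : Cen (i : E) j (2 * z) := C2.mul hz
  have zm2 : Cen (i : E) j (-2 * z) := C2.neg.mul hz
  have t1 : Cen (i : E) j (-2 * (a + b + c)) := C2.neg.mul ((ha.add hb).add hc)
  have t2 : Cen (i : E) j (-2 * (a - b - c)) := C2.neg.mul ((ha.sub hb).sub hc)
  have t3 : Cen (i : E) j (-2 * (-a + b - c)) := C2.neg.mul ((ha.neg.add hb).sub hc)
  have t4 : Cen (i : E) j (-2 * (-a - b + c)) := C2.neg.mul ((ha.neg.sub hb).add hc)
  rcases s1 with ⟨s1, -⟩ | ⟨s1, -⟩ | s1 | s1 | s1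
  · exact key t1 z2 z2 z2 (Cen.ofNat 6) (Or.inl rfl) s1
  · exact key t1 z2 z2 z2 (Cen.ofNat 6).neg (Or.inl rfl) s1
  · exact key t1 z2 z2 z2 (Cen.ofNat 2).neg (Or.inl rfl) s1
  · exact key t1 z2 z2 z2 (Cen.ofNat 2) (Or.inl rfl) s1
  rcases s2 with ⟨s2, -⟩ | ⟨s2, -⟩ | s2 | s2 | s2
  · exact key t2 z2 zm2 zm2 (Cen.ofNat 6) (Or.inl rfl) s2
  · exact key t2 z2 zm2 zm2 (Cen.ofNat 6).neg (Or.inl rfl) s2
  · exact key t2 z2 zm2 zm2 (Cen.ofNat 2).neg (Or.inl rfl) s2
  · exact key t2 z2 zm2 zm2 (Cen.ofNat 2) (Or.inl rfl) s2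
  rcases s3 with ⟨s3, -⟩ | ⟨s3, -⟩ | s3 | s3 | s3
  · exact key t3 zm2 z2 zm2 (Cen.ofNat 6) (Or.inr rfl) s3
  · exact key t3 zm2 z2 zm2 (Cen.ofNat 6).neg (Or.inr rfl) s3
  · exact key t3 zm2 z2 zm2 (Cen.ofNat 2).neg (Or.inr rfl) s3
  · exact key t3 zm2 z2 zm2 (Cen.ofNat 2) (Or.inr rfl) s3
  rcases s4 with ⟨s4, -⟩ | ⟨s4, -⟩ | s4 | s4 | s4
  · exact key t4 zm2 zm2 z2 (Cen.ofNat 6) (Or.inr rfl) s4
  · exact key t4 zm2 zm2 z2 (Cen.ofNat 6).neg (Or.inr rfl) s4
  · exact key t4 zm2 zm2 z2 (Cen.ofNat 2).neg (Or.inr rfl) s4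
  · exact key t4 zm2 zm2 z2 (Cen.ofNat 2) (Or.inr rfl) s4
  -- case B
  exfalso
  have hw' := poly_three C.free hwG hw3
  have hsq : ev (i : E) j z a b c * ev (i : E) j z a b c = -3 := by
    rw [← hw]; exact sq_of_three hw'
  obtain ⟨hzz, haz, hbz, hcz, hab, hba, hac, hca, hbc, hcb, hsum⟩ :=
    caseB C.frame C.h2 hz ha hb hc hsq s1 s2 s3 s4
  have hwinv := inv_three hw'
  -- the two `traces`
  have hii := C.frame.ii
  have hjj := C.frame.jj
  have hji := C.frame.ji
  have tj : 2 * (-b + z * j) = (j : E) * ev (i : E) j z a b c + ev (i : E) j z a b c * j := by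
    unfold ev
    have e1 := hz.2
    have e2 := ha.2
    have e3 := hb.2
    have e4 := hc.2
    have e5 : (j : E) * (c * ((i : E) * j)) = c * ((j : E) * (i * j)) := by
      rw [← mul_assoc, e4, mul_assoc]
    linear_combination (norm := nc) -e1 - e2 * i - e3 * j - e5 - a * hji - 2 * b * hjj
      - c * hji * j
  have ti : 2 * (-a + z * i) = (i : E) * ev (i : E) j z a b c + ev (i : E) j z a b c * i := by
    unfold ev
    have e1 := hz.1
    have e2 := ha.1
    have e3 := hb.1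
    have e4 := hc.1
    linear_combination (norm := nc) -e1 - e2 * i - e3 * j - e4 * ((i : E) * j) - 2 * a * hii
      - b * hji - c * i * hji
  -- the trace relation
  have rel : ∀ {u : Eˣ} {t : E}, u ∈ G → ((u⁻¹ : Eˣ) : E) = -u →
      2 * t = (u : E) * ev (i : E) j z a b c + ev (i : E) j z a b c * u →
      ((u * w : Eˣ) : E) * ((u * w : Eˣ) : E) - t * ((u * w : Eˣ) : E) + 1 = 0 := by
    intro u t hu hui ht
    rw [← hw] at ht
    have ht' : t = ((u * w : Eˣ) : E) + (((u * w)⁻¹ : Eˣ) : E) := by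
      have : 2 * (t - (((u * w : Eˣ) : E) + (((u * w)⁻¹ : Eˣ) : E))) = 0 := by
        rw [mul_inv_rev, Units.val_mul, Units.val_mul, hwinv, hui]
        linear_combination (norm := nc) ht
      have := cancel_two C.h2 this
      linear_combination (norm := nc) this
    have h1 : (((u * w)⁻¹ : Eˣ) : E) * ((u * w : Eˣ) : E) = 1 := Units.inv_mul _
    rw [ht']
    linear_combination (norm := nc) -h1
  have relj := rel C.hj (inv_j C) tj
  have reli := rel C.hi (inv_i C) ti
  have cz0 : Cen (i : E) j (0 : E) := Cen.zero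
  -- a = 0
  have haa : a * a = 0 := by
    have hP : a * a * (-b + z * j) * (-b + z * j) = a * a := by
      linear_combination (norm := nc) a * hab * b - a * hab * z * j - a * a * z * hb.2
        - a * a * hbz * j + a * hab * z * j + a * a * z * hz.2 * j + a * a * hzz * j * j
        - a * a * hjj
    have ha2 : a * a * (-b + z * j) = ev (i : E) j 0 0 (a * a * z) 0 := by
      unfold ev
      linear_combination (norm := nc) -a * hab
    rcases scalar_of_sq C.free C.h2 (mul_mem C.hj hwG) relj hP with h1 | h1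
    · rw [ha2] at h1
      replace h1 := h1.trans (ev_scalar (i := (i : E)) (j := (j : E)) (a := a * a)).symm
      obtain ⟨e, -⟩ := ev_inj C.frame C.h2 cz0 cz0 ((ha.mul ha).mul hz) cz0 (ha.mul ha) cz0 cz0 cz0 h1
      exact e.symm
    · rw [ha2] at h1
      replace h1 := h1.trans (ev_scalar (i := (i : E)) (j := (j : E)) (a := -(a * a))).symm
      obtain ⟨e, -⟩ := ev_inj C.frame C.h2 cz0 cz0 ((ha.mul ha).mul hz) cz0 (ha.mul ha).neg cz0 cz0
        cz0 h1
      linear_combination (norm := nc) e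
  have hbb : b * b = 0 := by
    have hP : b * b * (-a + z * i) * (-a + z * i) = b * b := by
      linear_combination (norm := nc) b * hba * a - b * hba * z * i - b * b * z * ha.1
        - b * b * haz * i + b * hba * z * i + b * b * z * hz.1 * i + b * b * hzz * i * i
        - b * b * hii
    have ha2 : b * b * (-a + z * i) = ev (i : E) j 0 (b * b * z) 0 0 := by
      unfold ev
      linear_combination (norm := nc) -b * hba
    rcases scalar_of_sq C.free C.h2 (mul_mem C.hi hwG) reli hP with h1 | h1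
    · rw [ha2] at h1
      replace h1 := h1.trans (ev_scalar (i := (i : E)) (j := (j : E)) (a := b * b)).symm
      obtain ⟨e, -⟩ := ev_inj C.frame C.h2 cz0 ((hb.mul hb).mul hz) cz0 cz0 (hb.mul hb) cz0 cz0 cz0 h1
      exact e.symm
    · rw [ha2] at h1
      replace h1 := h1.trans (ev_scalar (i := (i : E)) (j := (j : E)) (a := -(b * b))).symm
      obtain ⟨e, -⟩ := ev_inj C.frame C.h2 cz0 ((hb.mul hb).mul hz) cz0 cz0 (hb.mul hb).neg cz0 cz0
        cz0 h1
      linear_combination (norm := nc) e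
  have hcc : c * c = 0 := by
    have hP : c * c * (-a + z * i) * (-a + z * i) = c * c := by
      linear_combination (norm := nc) c * hca * a - c * hca * z * i - c * c * z * ha.1
        - c * c * haz * i + c * hca * z * i + c * c * z * hz.1 * i + c * c * hzz * i * i
        - c * c * hii
    have ha2 : c * c * (-a + z * i) = ev (i : E) j 0 (c * c * z) 0 0 := by
      unfold ev
      linear_combination (norm := nc) -c * hca
    rcases scalar_of_sq C.free C.h2 (mul_mem C.hi hwG) reli hP with h1 | h1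
    · rw [ha2] at h1
      replace h1 := h1.trans (ev_scalar (i := (i : E)) (j := (j : E)) (a := c * c)).symm
      obtain ⟨e, -⟩ := ev_inj C.frame C.h2 cz0 ((hc.mul hc).mul hz) cz0 cz0 (hc.mul hc) cz0 cz0 cz0 h1
      exact e.symm
    · rw [ha2] at h1
      replace h1 := h1.trans (ev_scalar (i := (i : E)) (j := (j : E)) (a := -(c * c))).symm
      obtain ⟨e, -⟩ := ev_inj C.frame C.h2 cz0 ((hc.mul hc).mul hz) cz0 cz0 (hc.mul hc).neg cz0 cz0
        cz0 h1
      linear_combination (norm := nc) e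
  rw [haa, hbb, hcc] at hsum
  have h0 : (2 : E) = 0 := by rw [← hsum]; simp
  have := C.h2
  rw [h0] at this
  exact not_isUnit_zero this

end ctx

end Cfsg.Agent.PermutationGroups.ZassClaim
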