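import Mathlib

set_option autoImplicit false

/-!
# The commutative part of the analysis of elements of order three
-/

namespace Cfsg.Agent.PermutationGroups.ZassComm

/-- the golden condition on two coordinates -/
def Gold {R : Type*} [Ring R] (u v : R) : Prop :=
  (u * u = u + 1 ∧ (v = u - 1 ∨ v = 1 - u)) ∨ (u * u = 1 - u ∧ (v = -u - 1 ∨ v = 1 + u))

variable {R : Type*} [CommRing R] [Nontrivial R]

/-- coordinates `(0, b, c)` with `b + c = ±1` -/
theorem gold_of_sum (h2 : ∀ r : R, 2 * r = 0 → r = 0) {b c : R} (hs : b * b + c * c = 3)
    (h : b + c = 1 ∨ b + c = -1 ∨ b - c = 1 ∨ b - c = -1) : Gold b c := by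
  rcases h with h | h | h | h
  · left
    have hc : c = 1 - b := by linear_combination h
    refine ⟨?_, Or.inr hc⟩
    subst hc
    have : 2 * (b * b - (b + 1)) = 0 := by linear_combination hs
    linear_combination h2 _ this
  · right
    have hc : c = -b - 1 := by linear_combination h
    refine ⟨?_, Or.inl hc⟩
    subst hc
    have : 2 * (b * b - (1 - b)) = 0 := by linear_combination hs
    linear_combination h2 _ this
  · left
    have hc : c = b - 1 := by linear_combination -h
    refine ⟨?_, Or.inl hc⟩
    subst hc
    have : 2 * (b * b - (b + 1)) = 0 := by linear_combination hs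
    linear_combination h2 _ this
  · right
    have hc : c = 1 + b := by linear_combination -h
    refine ⟨?_, Or.inr hc⟩
    subst hc
    have : 2 * (b * b - (1 - b)) = 0 := by linear_combination hs
    linear_combination h2 _ this

/-- bad case: `a = ±1`, `b + c = 0` (or `b - c = 0`), with `σ² = 5`. -/
theorem bad (h2 : ∀ r : R, 2 * r = 0 → r = 0) {a b c : R} (hs : a * a + b * b + c * c = 3)
    (ha : a = 1 ∨ a = -1) (hbc : c = -b ∨ c = b)
    (h : (a + 2 * b) * (a + 2 * b) = 5 ∨ (a - 2 * b) * (a - 2 * b) = 5) : False := by
  have haa : a * a = 1 := by rcases ha with rfl | rfl <;> ring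
  have hcc : c * c = b * b := by rcases hbc with rfl | rfl <;> ring
  have hbb : b * b = 1 := by
    have : 2 * (b * b - 1) = 0 := by linear_combination hs - haa - hcc
    linear_combination h2 _ this
  have hab : a * b = 0 := by
    apply h2; apply h2
    rcases h with h | h
    · linear_combination h - haa - 4 * hbb
    · linear_combination -h + haa + 4 * hbb
  have : (1 : R) = 0 := by
    linear_combination -haa * (b * b) - hbb + hab * (a * b)
  exact one_ne_zero this

theorem classify (h2 : ∀ r : R, 2 * r = 0 → r = 0) {a b c : R} (hs : a * a + b * b + c * c = 3)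
    (h1 : a + b + c = 1 ∨ a + b + c = -1 ∨ (a + b + c) * (a + b + c) = 5)
    (h2' : a - b - c = 1 ∨ a - b - c = -1 ∨ (a - b - c) * (a - b - c) = 5)
    (h3 : -a + b - c = 1 ∨ -a + b - c = -1 ∨ (-a + b - c) * (-a + b - c) = 5)
    (h4 : -a - b + c = 1 ∨ -a - b + c = -1 ∨ (-a - b + c) * (-a - b + c) = 5) :
    (a = 0 ∧ Gold b c) ∨ (b = 0 ∧ Gold c a) ∨ (c = 0 ∧ Gold a b) := by
  have n8 : (8 : R) ≠ 0 := by
    intro h
    have e1 : (2 : R) * 4 = 0 := by linear_combination h
    have e2 : (2 : R) * 2 = 0 := by linear_combination h2 _ e1
    have e3 : (2 : R) * 1 = 0 := by linear_combination h2 _ e2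
    exact one_ne_zero (h2 _ e3)
  have n4 : (4 : R) ≠ 0 := by
    intro h
    exact n8 (by linear_combination 2 * h)
  have sq : ∀ {s : R}, (s = 1 ∨ s = -1) → s * s = 1 := by
    rintro s (rfl | rfl) <;> ring
  have tot : (a + b + c) * (a + b + c) + (a - b - c) * (a - b - c) +
      (-a + b - c) * (-a + b - c) + (-a - b + c) * (-a - b + c) = 12 := by
    linear_combination 4 * hs
  -- regroup
  rw [← or_assoc] at h1 h2' h3 h4
  rcases h1 with h1 | h1 <;> rcases h2' with k2 | k2 <;> rcases h3 with k3 | k3 <;>
    rcases h4 with k4 | k4
  · -- all ±1
    exfalso; apply n8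
    linear_combination -tot + sq h1 + sq k2 + sq k3 + sq k4
  · exfalso; apply n4
    linear_combination -tot + sq h1 + sq k2 + sq k3 + k4
  · exfalso; apply n4
    linear_combination -tot + sq h1 + sq k2 + k3 + sq k4
  · -- pair (1,2)
    rcases h1 with h1 | h1 <;> rcases k2 with k2 | k2
    · exfalso
      have ha : a = 1 := by
        have : 2 * (a - 1) = 0 := by linear_combination h1 + k2
        linear_combination h2 _ this
      have hc : c = -b := by linear_combination h1 - ha
      refine bad h2 hs (Or.inl ha) (Or.inl hc) (Or.inr ?_)
      rw [hc] at k3
      linear_combination k3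
    · left
      have ha : a = 0 := h2 _ (by linear_combination h1 + k2)
      refine ⟨ha, gold_of_sum h2 (by rw [ha] at hs; linear_combination hs) (Or.inl ?_)⟩
      linear_combination h1 - ha
    · left
      have ha : a = 0 := h2 _ (by linear_combination h1 + k2)
      refine ⟨ha, gold_of_sum h2 (by rw [ha] at hs; linear_combination hs) (Or.inr (Or.inl ?_))⟩
      linear_combination h1 - ha
    · exfalso
      have ha : a = -1 := by
        have : 2 * (a + 1) = 0 := by linear_combination h1 + k2
        linear_combination h2 _ this
      have hc : c = -b := by linear_combination h1 - ha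
      refine bad h2 hs (Or.inr ha) (Or.inl hc) (Or.inr ?_)
      rw [hc] at k3
      linear_combination k3
  · exfalso; apply n4
    linear_combination -tot + sq h1 + k2 + sq k3 + sq k4
  · -- pair (1,3)
    rcases h1 with h1 | h1 <;> rcases k3 with k3 | k3
    · exfalso
      have hb : b = 1 := by
        have : 2 * (b - 1) = 0 := by linear_combination h1 + k3
        linear_combination h2 _ this
      have hc : a = -c := by linear_combination h1 - hb
      refine bad (a := b) (b := c) (c := a) h2 (by linear_combination hs) (Or.inl hb) (Or.inl hc)
        (Or.inl ?_)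
      rw [hc] at k2
      linear_combination k2
    · right; left
      have hb : b = 0 := h2 _ (by linear_combination h1 + k3)
      refine ⟨hb, gold_of_sum h2 (by rw [hb] at hs; linear_combination hs) (Or.inl ?_)⟩
      linear_combination h1 - hb
    · right; left
      have hb : b = 0 := h2 _ (by linear_combination h1 + k3)
      refine ⟨hb, gold_of_sum h2 (by rw [hb] at hs; linear_combination hs) (Or.inr (Or.inl ?_))⟩
      linear_combination h1 - hb
    · exfalso
      have hb : b = -1 := by
        have : 2 * (b + 1) = 0 := by linear_combination h1 + k3
        linear_combination h2 _ this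
      have hc : a = -c := by linear_combination h1 - hb
      refine bad (a := b) (b := c) (c := a) h2 (by linear_combination hs) (Or.inr hb) (Or.inl hc)
        (Or.inl ?_)
      rw [hc] at k2
      linear_combination k2
  · -- pair (1,4)
    rcases h1 with h1 | h1 <;> rcases k4 with k4 | k4
    · exfalso
      have hb : c = 1 := by
        have : 2 * (c - 1) = 0 := by linear_combination h1 + k4
        linear_combination h2 _ this
      have hc : b = -a := by linear_combination h1 - hb
      refine bad (a := c) (b := a) (c := b) h2 (by linear_combination hs) (Or.inl hb) (Or.inl hc)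
        (Or.inr ?_)
      rw [hc] at k2
      linear_combination k2
    · right; right
      have hb : c = 0 := h2 _ (by linear_combination h1 + k4)
      refine ⟨hb, gold_of_sum h2 (by rw [hb] at hs; linear_combination hs) (Or.inl ?_)⟩
      linear_combination h1 - hb
    · right; right
      have hb : c = 0 := h2 _ (by linear_combination h1 + k4)
      refine ⟨hb, gold_of_sum h2 (by rw [hb] at hs; linear_combination hs) (Or.inr (Or.inl ?_))⟩
      linear_combination h1 - hb
    · exfalso
      have hb : c = -1 := by
        have : 2 * (c + 1) = 0 := by linear_combination h1 + k4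
        linear_combination h2 _ this
      have hc : b = -a := by linear_combination h1 - hb
      refine bad (a := c) (b := a) (c := b) h2 (by linear_combination hs) (Or.inr hb) (Or.inl hc)
        (Or.inr ?_)
      rw [hc] at k2
      linear_combination k2
  · -- 1 only
    exfalso; apply n4
    linear_combination tot - sq h1 - k2 - k3 - k4
  · exfalso; apply n4
    linear_combination -tot + h1 + sq k2 + sq k3 + sq k4
  · -- pair (2,3): sum = -2c
    rcases k2 with k2 | k2 <;> rcases k3 with k3 | k3
    · exfalso
      have hb : c = -1 := by
        have : 2 * (c + 1) = 0 := by linear_combination -k2 - k3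
        linear_combination h2 _ this
      have hc : b = a := by linear_combination -k2 - hb
      refine bad (a := c) (b := a) (c := b) h2 (by linear_combination hs) (Or.inr hb) (Or.inr hc)
        (Or.inl ?_)
      rw [hc] at h1
      linear_combination h1
    · right; right
      have hb : c = 0 := h2 _ (by linear_combination -k2 - k3)
      refine ⟨hb, gold_of_sum h2 (by rw [hb] at hs; linear_combination hs)
        (Or.inr (Or.inr (Or.inl ?_)))⟩
      linear_combination k2 + hb
    · right; right
      have hb : c = 0 := h2 _ (by linear_combination -k2 - k3)
      refine ⟨hb, gold_of_sum h2 (by rw [hb] at hs; linear_combination hs)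
        (Or.inr (Or.inr (Or.inr ?_)))⟩
      linear_combination k2 + hb
    · exfalso
      have hb : c = 1 := by
        have : 2 * (c - 1) = 0 := by linear_combination -k2 - k3
        linear_combination h2 _ this
      have hc : b = a := by linear_combination -k2 - hb
      refine bad (a := c) (b := a) (c := b) h2 (by linear_combination hs) (Or.inl hb) (Or.inr hc)
        (Or.inl ?_)
      rw [hc] at h1
      linear_combination h1
  · -- pair (2,4): sum = -2b
    rcases k2 with k2 | k2 <;> rcases k4 with k4 | k4
    · exfalso
      have hb : b = -1 := by
        have : 2 * (b + 1) = 0 := by linear_combination -k2 - k4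
        linear_combination h2 _ this
      have hc : a = c := by linear_combination k2 + hb
      refine bad (a := b) (b := c) (c := a) h2 (by linear_combination hs) (Or.inr hb) (Or.inr hc)
        (Or.inl ?_)
      rw [hc] at h1
      linear_combination h1
    · right; left
      have hb : b = 0 := h2 _ (by linear_combination -k2 - k4)
      refine ⟨hb, gold_of_sum h2 (by rw [hb] at hs; linear_combination hs)
        (Or.inr (Or.inr (Or.inr ?_)))⟩
      linear_combination -k2 - hb
    · right; left
      have hb : b = 0 := h2 _ (by linear_combination -k2 - k4)
      refine ⟨hb, gold_of_sum h2 (by rw [hb] at hs; linear_combination hs)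
        (Or.inr (Or.inr (Or.inl ?_)))⟩
      linear_combination -k2 - hb
    · exfalso
      have hb : b = 1 := by
        have : 2 * (b - 1) = 0 := by linear_combination -k2 - k4
        linear_combination h2 _ this
      have hc : a = c := by linear_combination k2 + hb
      refine bad (a := b) (b := c) (c := a) h2 (by linear_combination hs) (Or.inl hb) (Or.inr hc)
        (Or.inl ?_)
      rw [hc] at h1
      linear_combination h1
  · exfalso; apply n4
    linear_combination tot - h1 - sq k2 - k3 - k4
  · -- pair (3,4): sum = -2a
    rcases k3 with k3 | k3 <;> rcases k4 with k4 | k4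
    · exfalso
      have hb : a = -1 := by
        have : 2 * (a + 1) = 0 := by linear_combination -k3 - k4
        linear_combination h2 _ this
      have hc : c = b := by linear_combination -k3 - hb
      refine bad (a := a) (b := b) (c := c) h2 (by linear_combination hs) (Or.inr hb) (Or.inr hc)
        (Or.inl ?_)
      rw [hc] at h1
      linear_combination h1
    · left
      have hb : a = 0 := h2 _ (by linear_combination -k3 - k4)
      refine ⟨hb, gold_of_sum h2 (by rw [hb] at hs; linear_combination hs)
        (Or.inr (Or.inr (Or.inl ?_)))⟩
      linear_combination k3 + hb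
    · left
      have hb : a = 0 := h2 _ (by linear_combination -k3 - k4)
      refine ⟨hb, gold_of_sum h2 (by rw [hb] at hs; linear_combination hs)
        (Or.inr (Or.inr (Or.inr ?_)))⟩
      linear_combination k3 + hb
    · exfalso
      have hb : a = 1 := by
        have : 2 * (a - 1) = 0 := by linear_combination -k3 - k4
        linear_combination h2 _ this
      have hc : c = b := by linear_combination -k3 - hb
      refine bad (a := a) (b := b) (c := c) h2 (by linear_combination hs) (Or.inl hb) (Or.inr hc)
        (Or.inl ?_)
      rw [hc] at h1
      linear_combination h1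
  · exfalso; apply n4
    linear_combination tot - h1 - k2 - sq k3 - k4
  · exfalso; apply n4
    linear_combination tot - h1 - k2 - k3 - sq k4
  · exfalso; apply n8
    linear_combination tot - h1 - k2 - k3 - k4

end Cfsg.Agent.PermutationGroups.ZassComm
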