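import Mathlib
import Cfsg.Agent.PermutationGroups.ZassClaim
import Cfsg.Agent.PermutationGroups.ZassComm

set_option autoImplicit false

/-!
# Normal form of the elements of order three outside `SL(2,3)`
-/

namespace Cfsg.Agent.PermutationGroups.ZassNormal

open Cfsg.Agent.PermutationGroups.ZassQuat Cfsg.Agent.PermutationGroups.ZassOrders
  Cfsg.Agent.PermutationGroups.ZassFrame Cfsg.Agent.PermutationGroups.ZassClaim
  Cfsg.Agent.PermutationGroups.ZassComm

/-- noncommutative ring identities, numerals included -/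
local macro "nc" : tactic =>
  `(tactic| ((try simp only [n2, n3, n4, n5, n6, n8, n10, n12, n16, n20]); noncomm_ring))

variable {E : Type*} [Ring E] [Nontrivial E]

theorem classify' (h2 : IsUnit (2 : E)) {a b c : E} (hab : a * b = b * a) (hac : a * c = c * a)
    (hbc : b * c = c * b) (hs : a * a + b * b + c * c = 3)
    (h1 : a + b + c = 1 ∨ a + b + c = -1 ∨ (a + b + c) * (a + b + c) = 5)
    (h2' : a - b - c = 1 ∨ a - b - c = -1 ∨ (a - b - c) * (a - b - c) = 5)
    (h3 : -a + b - c = 1 ∨ -a + b - c = -1 ∨ (-a + b - c) * (-a + b - c) = 5)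
    (h4 : -a - b + c = 1 ∨ -a - b + c = -1 ∨ (-a - b + c) * (-a - b + c) = 5) :
    (a = 0 ∧ Gold b c) ∨ (b = 0 ∧ Gold c a) ∨ (c = 0 ∧ Gold a b) := by
  have hcomm : ∀ x ∈ ({a, b, c} : Set E), ∀ y ∈ ({a, b, c} : Set E), x * y = y * x := by
    rintro x (rfl | rfl | rfl) y (rfl | rfl | rfl) <;>
      first | rfl | assumption | (symm; assumption)
  letI := Subring.closureCommRingOfComm hcomm
  have ha : a ∈ Subring.closure ({a, b, c} : Set E) := Subring.subset_closure (by simp)
  have hb : b ∈ Subring.closure ({a, b, c} : Set E) := Subring.subset_closure (by simp)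
  have hc : c ∈ Subring.closure ({a, b, c} : Set E) := Subring.subset_closure (by simp)
  have tr : ∀ {x y : Subring.closure ({a, b, c} : Set E)}, (x : E) = y → x = y :=
    fun {x y} h => Subtype.ext h
  have key := classify (R := Subring.closure ({a, b, c} : Set E)) (a := ⟨a, ha⟩) (b := ⟨b, hb⟩)
    (c := ⟨c, hc⟩) (fun r hr => tr (cancel_two h2 (congrArg Subtype.val hr)))
    (tr hs) (h1.imp tr (Or.imp tr tr)) (h2'.imp tr (Or.imp tr tr)) (h3.imp tr (Or.imp tr tr))
    (h4.imp tr (Or.imp tr tr))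
  have bk : ∀ {x y : Subring.closure ({a, b, c} : Set E)}, x = y → (x : E) = y :=
    fun {x y} h => congrArg Subtype.val h
  rcases key with ⟨k, g⟩ | ⟨k, g⟩ | ⟨k, g⟩
  · exact Or.inl ⟨bk k, g.imp (And.imp bk (Or.imp bk bk)) (And.imp bk (Or.imp bk bk))⟩
  · exact Or.inr (Or.inl ⟨bk k, g.imp (And.imp bk (Or.imp bk bk)) (And.imp bk (Or.imp bk bk))⟩)
  · exact Or.inr (Or.inr ⟨bk k, g.imp (And.imp bk (Or.imp bk bk)) (And.imp bk (Or.imp bk bk))⟩)

section ctx
variable {G : Subgroup Eˣ} {i j x : Eˣ} (C : Ctx G i j x)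
include C

/-- normal form of the coordinates of an element of order three -/
theorem claim2 {w : Eˣ} (hwG : w ∈ G) (hw3 : orderOf w = 3)
    (hwL : w ∉ Subgroup.closure ({i, j, x} : Set Eˣ)) {z a b c : E}
    (hz : Cen (i : E) j z) (ha : Cen (i : E) j a)
    (hb : Cen (i : E) j b) (hc : Cen (i : E) j c)
    (hw : 2 * (w : E) + 1 = ev (i : E) j z a b c) : z = 0 ∧
    ((a = 0 ∧ Gold b c) ∨ (b = 0 ∧ Gold c a) ∨ (c = 0 ∧ Gold a b)) := by
  have hz0 := claim1 C hwG hw3 hz ha hb hc hw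
  subst hz0
  refine ⟨rfl, ?_⟩
  have hiL : i ∈ Subgroup.closure ({i, j, x} : Set Eˣ) := Subgroup.subset_closure (by simp)
  have hjL : j ∈ Subgroup.closure ({i, j, x} : Set Eˣ) := Subgroup.subset_closure (by simp)
  have hxL : x ∈ Subgroup.closure ({i, j, x} : Set Eˣ) := Subgroup.subset_closure (by simp)
  have hw' := poly_three C.free hwG hw3
  have hsq : ev (i : E) j 0 a b c * ev (i : E) j 0 a b c = -3 := by
    rw [← hw]; exact sq_of_three hw'
  rw [sq_ev C.frame Cen.zero ha hb hc] at hsq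
  have h3' : (-3 : E) = ev (i : E) j (-3) 0 0 0 := by unfold ev; simp
  rw [h3'] at hsq
  obtain ⟨f1, f2, f3, f4⟩ := ev_inj C.frame C.h2
    (((hz.mul hz).sub (ha.mul ha)).sub (hb.mul hb) |>.sub (hc.mul hc))
    (((hz.mul ha).add (ha.mul hz)).add ((hb.mul hc).sub (hc.mul hb)))
    (((hz.mul hb).add (hb.mul hz)).add ((hc.mul ha).sub (ha.mul hc)))
    (((hz.mul hc).add (hc.mul hz)).add ((ha.mul hb).sub (hb.mul ha)))
    (Cen.ofNat 3).neg Cen.zero Cen.zero Cen.zero hsq
  have C2 : Cen (i : E) j (2 : E) := Cen.ofNat 2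
  -- reading off the scalar relations
  have read : ∀ {s : E} {P Q : Prop}, ¬ P → ¬ Q →
      (((-2 * s = 6 ∧ P) ∨ (-2 * s = -6 ∧ Q) ∨ -2 * s = -2 ∨ -2 * s = 2 ∨
        (-2 * s) * (-2 * s) = 20) → (s = 1 ∨ s = -1 ∨ s * s = 5)) := by
    intro s P Q hP hQ h
    rcases h with ⟨-, h⟩ | ⟨-, h⟩ | h | h | h
    · exact absurd h hP
    · exact absurd h hQ
    · left
      have : 2 * (s - 1) = 0 := by linear_combination (norm := nc) -h
      linear_combination (norm := nc) cancel_two C.h2 this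
    · right; left
      have : 2 * (s + 1) = 0 := by linear_combination (norm := nc) -h
      linear_combination (norm := nc) cancel_two C.h2 this
    · right; right
      have : 4 * (s * s - 5) = 0 := by linear_combination (norm := nc) h
      linear_combination (norm := nc) cancel_four C.h2 this
  have z2 : ∀ s : E, ev (i : E) j s (2 * 0) (2 * 0) (2 * 0) = s := by
    intro s; unfold ev; simp
  have z2' : ∀ s : E, ev (i : E) j s (2 * 0) (-2 * 0) (-2 * 0) = s := by
    intro s; unfold ev; simp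
  have z2'' : ∀ s : E, ev (i : E) j s (-2 * 0) (2 * 0) (-2 * 0) = s := by
    intro s; unfold ev; simp
  have z2''' : ∀ s : E, ev (i : E) j s (-2 * 0) (-2 * 0) (2 * 0) = s := by
    intro s; unfold ev; simp
  have hmem : ∀ {g : Eˣ}, g ∈ Subgroup.closure ({i, j, x} : Set Eˣ) → ¬ (w = g) := by
    rintro g hg rfl; exact hwL hg
  have e2 : i * x * i⁻¹ ∈ Subgroup.closure ({i, j, x} : Set Eˣ) :=
    mul_mem (mul_mem hiL hxL) (inv_mem hiL)
  have e3 : j * x * j⁻¹ ∈ Subgroup.closure ({i, j, x} : Set Eˣ) :=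
    mul_mem (mul_mem hjL hxL) (inv_mem hjL)
  have e4 : i * (j * x * j⁻¹) * i⁻¹ ∈ Subgroup.closure ({i, j, x} : Set Eˣ) :=
    mul_mem (mul_mem hiL e3) (inv_mem hiL)
  have s1 := rel1 C hwG hw3 hz ha hb hc hw rfl
  have s2 := rel2 C hwG hw3 hz ha hb hc hw rfl
  have s3 := rel3 C hwG hw3 hz ha hb hc hw rfl
  have s4 := rel4 C hwG hw3 hz ha hb hc hw rfl
  simp only [z2, z2', z2'', z2'''] at s1 s2 s3 s4
  refine classify' C.h2 ?_ ?_ ?_ ?_ (read (hmem (inv_mem hxL)) (hmem hxL) s1)
    (read (hmem (inv_mem e2)) (hmem e2) s2) (read (hmem (inv_mem e3)) (hmem e3) s3)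
    (read (hmem (inv_mem e4)) (hmem e4) s4)
  · linear_combination (norm := nc) f4
  · linear_combination (norm := nc) -f3
  · linear_combination (norm := nc) f2
  · linear_combination (norm := nc) -f1

end ctx

end Cfsg.Agent.PermutationGroups.ZassNormal
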