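import Mathlib
import Cfsg.Agent.PermutationGroups.ZassNormal

set_option autoImplicit false

/-!
# Uniqueness of the golden parameter
-/

namespace Cfsg.Agent.PermutationGroups.ZassUnique

open Cfsg.Agent.PermutationGroups.ZassQuat Cfsg.Agent.PermutationGroups.ZassOrders
  Cfsg.Agent.PermutationGroups.ZassFrame Cfsg.Agent.PermutationGroups.ZassClaim
  Cfsg.Agent.PermutationGroups.ZassComm Cfsg.Agent.PermutationGroups.ZassNormal

/-- noncommutative ring identities, numerals included -/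
local macro "nc" : tactic =>
  `(tactic| ((try simp only [n2, n3, n4, n5, n6, n8, n10, n12, n16, n20]); noncomm_ring))

variable {E : Type*} [Ring E] [Nontrivial E]

section ctx
variable {G : Subgroup Eˣ} {i j x : Eˣ} (C : Ctx G i j x)
include C

/-- an element of order three outside `SL(2,3)` is conjugate to one in golden form -/
theorem exists_conj_golden {w : Eˣ} (hwG : w ∈ G) (hw3 : orderOf w = 3)
    (hwL : w ∉ Subgroup.closure ({i, j, x} : Set Eˣ)) :
    ∃ g ∈ Subgroup.closure ({i, j, x} : Set Eˣ), ∃ φ : E, Cen (i : E) j φ ∧ φ * φ = φ + 1 ∧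
      2 * ((g * w * g⁻¹ : Eˣ) : E) + 1 = ev (i : E) j 0 φ (φ - 1) 0 := by
  have hiL : i ∈ Subgroup.closure ({i, j, x} : Set Eˣ) := Subgroup.subset_closure (by simp)
  have hjL : j ∈ Subgroup.closure ({i, j, x} : Set Eˣ) := Subgroup.subset_closure (by simp)
  have hxL : x ∈ Subgroup.closure ({i, j, x} : Set Eˣ) := Subgroup.subset_closure (by simp)
  obtain ⟨z, a, b, c, hz, ha, hb, hc, hw⟩ := exists_ev C.frame C.h2 (2 * (w : E) + 1)
  obtain ⟨rfl, h⟩ := claim2 C hwG hw3 hwL hz ha hb hc hw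
  have c0 : Cen (i : E) j (0 : E) := Cen.zero
  have c1 : Cen (i : E) j (1 : E) := Cen.one
  -- the case of coordinates `(u, v, 0)`
  have key : ∀ (w' : Eˣ) (u v : E), Cen (i : E) j u → Cen (i : E) j v →
      2 * (w' : E) + 1 = ev (i : E) j 0 u v 0 → Gold u v →
      ∃ g ∈ Subgroup.closure ({i, j, x} : Set Eˣ), ∃ φ : E, Cen (i : E) j φ ∧ φ * φ = φ + 1 ∧
      2 * ((g * w' * g⁻¹ : Eˣ) : E) + 1 = ev (i : E) j 0 φ (φ - 1) 0 := by
    intro w' u v hu hv hw' hG
    rcases hG with ⟨hu2, rfl | rfl⟩ | ⟨hu2, rfl | rfl⟩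
    · refine ⟨1, one_mem _, u, hu, hu2, ?_⟩
      rw [one_mul, inv_one, mul_one, hw']
    · refine ⟨i, hiL, u, hu, hu2, ?_⟩
      rw [conj_i_eq C c0 hu hv c0 hw']
      congr 1 <;> first | nc | simp
    · refine ⟨j, hjL, -u, hu.neg, ?_, ?_⟩
      · linear_combination (norm := nc) hu2
      · rw [conj_j_eq C c0 hu hv c0 hw']
        congr 1 <;> first | nc | simp
    · refine ⟨i * j, mul_mem hiL hjL, -u, hu.neg, ?_, ?_⟩
      · linear_combination (norm := nc) hu2
      · have h1 := conj_j_eq C c0 hu hv c0 hw'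
        have h2 := conj_i_eq C c0 hu.neg hv c0.neg h1
        have h3 : i * j * w' * (i * j)⁻¹ = i * (j * w' * j⁻¹) * i⁻¹ := by group
        rw [h3, h2]
        congr 1 <;> first | nc | simp
  rcases h with ⟨rfl, hG⟩ | ⟨rfl, hG⟩ | ⟨rfl, hG⟩
  · have h1 := conj_x_eq C c0 c0 hb hc hw
    obtain ⟨g, hg, φ, hφ, hφ2, h2⟩ := key _ b c hb hc h1 hG
    refine ⟨g * x, mul_mem hg hxL, φ, hφ, hφ2, ?_⟩
    have h3 : g * x * w * (g * x)⁻¹ = g * (x * w * x⁻¹) * g⁻¹ := by group
    rw [h3]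
    exact h2
  · have h1 := conj_x_eq C c0 ha c0 hc hw
    have h1' := conj_x_eq C c0 c0 hc ha h1
    obtain ⟨g, hg, φ, hφ, hφ2, h2⟩ := key _ c a hc ha h1' hG
    refine ⟨g * (x * x), mul_mem hg (mul_mem hxL hxL), φ, hφ, hφ2, ?_⟩
    have h3 : g * (x * x) * w * (g * (x * x))⁻¹ = g * (x * (x * w * x⁻¹) * x⁻¹) * g⁻¹ := by group
    rw [h3]
    exact h2
  · exact key w a b ha hb hw hG

/-- uniqueness of the golden parameter -/
theorem golden_unique {w w' : Eˣ} (hwG : w ∈ G) (hw3 : orderOf w = 3) (hwG' : w' ∈ G)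
    (hw3' : orderOf w' = 3) {φ ρ : E} (hφ : Cen (i : E) j φ) (hρ : Cen (i : E) j ρ)
    (P : φ * φ = φ + 1) (Q : ρ * ρ = ρ + 1)
    (hw : 2 * (w : E) + 1 = ev (i : E) j 0 φ (φ - 1) 0)
    (hw' : 2 * (w' : E) + 1 = ev (i : E) j 0 ρ (ρ - 1) 0) : φ = ρ := by
  have c0 : Cen (i : E) j (0 : E) := Cen.zero
  have c1 : Cen (i : E) j (1 : E) := Cen.one
  have hφ1 : Cen (i : E) j (φ - 1) := hφ.sub c1
  have hρ1 : Cen (i : E) j (ρ - 1) := hρ.sub c1
  set n : E := φ * ρ + ρ * φ - φ - ρ with hn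
  set δ : E := φ * ρ - ρ * φ with hδ
  have hδC : Cen (i : E) j δ := (hφ.mul hρ).sub (hρ.mul hφ)
  have hnC : Cen (i : E) j n := (((hφ.mul hρ).add (hρ.mul hφ)).sub hφ).sub hρ
  have hδδ : δ * δ = n * n + n - 6 := by
    rw [hδ, hn]
    linear_combination (norm := nc) -(2 * φ * Q * φ + 2 * ρ * P * ρ + 3 * P + 3 * Q - φ * Q
      - Q * φ - ρ * P - P * ρ)
  have h2 := C.h2
  -- no unit is zero
  have ne2 : (2 : E) ≠ 0 := fun h => not_isUnit_zero (h ▸ h2)
  have ne3 : (3 : E) ≠ 0 := fun h => not_isUnit_zero (h ▸ C.h3)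
  have ne4 : (4 : E) ≠ 0 := fun h => ne2 (by
    have : 2 * (2 : E) = 0 := by linear_combination (norm := nc) h
    exact cancel_two h2 this)
  -- second pair
  have hw2 := conj_i_eq C c0 hφ hφ1 c0 hw
  have g2 : i * w * i⁻¹ ∈ G := mul_mem (mul_mem C.hi hwG) (inv_mem C.hi)
  have o2 : orderOf (i * w * i⁻¹) = 3 := order_conj hw3
  have S2 := anti_cases C.free h2 g2 hwG' o2 hw3' (C.hord _ g2 _ hwG' o2 hw3')
    (S := ev (i : E) j (2 - 2 * φ - 2 * ρ) 0 0 (2 * δ)) (by
      rw [hw2, hw', ev_mul C.frame c0 hρ hρ1 c0, ev_mul C.frame c0 hφ hφ1.neg c0.neg, ev_add]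
      rw [hδ]
      congr 1 <;> nc)
  have C2 : Cen (i : E) j (2 : E) := Cen.ofNat 2
  have cA : Cen (i : E) j (2 - 2 * φ - 2 * ρ) := (C2.sub (C2.mul hφ)).sub (C2.mul hρ)
  have cB : Cen (i : E) j (2 * δ) := C2.mul hδC
  -- scalar values are impossible
  have sc : ∀ {l : E} (m : E), Cen (i : E) j l → (l = m) →
      ev (i : E) j (2 - 2 * φ - 2 * ρ) 0 0 (2 * δ) = l → (2 - 2 * φ - 2 * ρ = m ∧ δ = 0) := by
    rintro l m hl rfl h
    have h' := h.trans (ev_scalar (i := (i : E)) (j := (j : E)) (a := l)).symm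
    obtain ⟨e1, -, -, e4⟩ := ev_inj C.frame h2 cA c0 c0 cB hl c0 c0 c0 h'
    exact ⟨e1, cancel_two h2 e4⟩
  have key2 : n * n = 4 ∨ φ = ρ := by
    have scal : ∀ l : E, (∀ y : E, l * y = y * l) → IsUnit l → 2 - 2 * φ - 2 * ρ = l →
        l * l - 20 = 0 := by
      intro l hl hu h
      -- ρ = 1 - l/2 - φ ; ρ² = ρ + 1
      have h4 : 4 * (ρ * ρ - ρ - 1) = 0 := by rw [Q]; nc
      have hρ' : 2 * ρ = 2 - l - 2 * φ := by linear_combination (norm := nc) -h
      have e1 : (2 * ρ) * (2 * ρ) - 2 * (2 * ρ) - 4 = 0 := by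
        linear_combination (norm := nc) h4
      rw [hρ'] at e1
      -- (2 - l - 2φ)² - 2(2 - l - 2φ) - 4 = l² + 4 l φ - 2 l  + 4(φ² - φ - 1)
      have e2 : l * (l + 4 * φ - 2) = 0 := by
        have := hl φ
        linear_combination (norm := nc) e1 - 4 * P + 2 * this
      have e3 : l + 4 * φ - 2 = 0 := (hu.mul_right_eq_zero).mp e2
      have e4 : (l - 2) * (l - 2) = 16 * (φ + 1) := by
        have : l - 2 = -(4 * φ) := by linear_combination (norm := nc) e3
        rw [this]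
        linear_combination (norm := nc) 16 * P
      have e5 : l * l - 4 * l + 4 = 16 * φ + 16 := by
        linear_combination (norm := nc) e4
      linear_combination (norm := nc) e5 + 4 * e3
    left
    rcases S2 with ⟨S2, -⟩ | ⟨S2, -⟩ | S2 | S2 | S2
    · exfalso
      obtain ⟨e1, -⟩ := sc 6 (Cen.ofNat 6) rfl S2
      have hu : IsUnit (6 : E) := by
        have : (6 : E) = 2 * 3 := by norm_num
        rw [this]; exact h2.mul C.h3
      have e := scal 6 (fun y => (Nat.cast_commute 6 y).eq) hu e1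
      apply ne4
      apply cancel_four h2
      linear_combination (norm := nc) e
    · exfalso
      obtain ⟨e1, -⟩ := sc (-6) (Cen.ofNat 6).neg rfl S2
      have hu : IsUnit (-6 : E) := by
        have : (-6 : E) = -(2 * 3) := by norm_num
        rw [this]; exact (h2.mul C.h3).neg
      have e := scal (-6) (fun y => by
        rw [neg_mul, mul_neg]; exact congrArg Neg.neg (Nat.cast_commute 6 y).eq) hu e1
      apply ne4
      apply cancel_four h2
      linear_combination (norm := nc) e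
    · exfalso
      obtain ⟨e1, -⟩ := sc (-2) (Cen.ofNat 2).neg rfl S2
      have e := scal (-2) (fun y => by
        rw [neg_mul, mul_neg]; exact congrArg Neg.neg (Nat.cast_commute 2 y).eq) h2.neg e1
      apply ne4
      apply cancel_four h2
      linear_combination (norm := nc) -e
    · exfalso
      obtain ⟨e1, -⟩ := sc 2 (Cen.ofNat 2) rfl S2
      have e := scal 2 (fun y => (Nat.cast_commute 2 y).eq) h2 e1
      apply ne4
      apply cancel_four h2
      linear_combination (norm := nc) -e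
    · rw [sq_ev C.frame cA c0 c0 cB] at S2
      have h20 : (20 : E) = ev (i : E) j 20 0 0 0 := by unfold ev; simp
      rw [h20] at S2
      obtain ⟨e1, -⟩ := ev_inj C.frame h2
        (((cA.mul cA).sub (c0.mul c0)).sub (c0.mul c0) |>.sub (cB.mul cB))
        (((cA.mul c0).add (c0.mul cA)).add ((c0.mul cB).sub (cB.mul c0)))
        (((cA.mul c0).add (c0.mul cA)).add ((cB.mul c0).sub (c0.mul cB)))
        (((cA.mul cB).add (cB.mul cA)).add ((c0.mul c0).sub (c0.mul c0)))
        (Cen.ofNat 20) c0 c0 c0 S2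
      -- S2² = 36 - 4 n²
      have e2 : 4 * (n * n - 4) = 0 := by
        have e3 : (2 - 2 * φ - 2 * ρ) * (2 - 2 * φ - 2 * ρ) = 12 + 4 * n := by
          rw [hn]
          linear_combination (norm := nc) 4 * P + 4 * Q
        linear_combination (norm := nc) -e1 + e3 - 4 * hδδ
      linear_combination (norm := nc) cancel_four h2 e2
  rcases key2 with hnn | h
  swap
  · exact h
  -- first pair
  have S1 := anti_cases C.free h2 hwG hwG' hw3 hw3' (C.hord _ hwG _ hwG' hw3 hw3')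
    (S := ev (i : E) j (-2 * n - 2) 0 0 0) (by
      rw [hw, hw', ev_mul C.frame c0 hρ hρ1 c0, ev_mul C.frame c0 hφ hφ1 c0, ev_add, hn]
      congr 1 <;> nc)
  rw [ev_scalar] at S1
  have hn2 : n = -2 ∨ φ = ρ := by
    rcases S1 with ⟨S1, -⟩ | ⟨S1, h⟩ | S1 | S1 | S1
    · exfalso
      have e1 : n = -4 := by
        have : 2 * (n + 4) = 0 := by linear_combination (norm := nc) -S1
        linear_combination (norm := nc) cancel_two h2 this
      rw [e1] at hnn
      apply ne3
      apply cancel_four h2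
      linear_combination (norm := nc) hnn
    · right
      rw [h, hw] at hw'
      exact (ev_inj C.frame h2 c0 hφ hφ1 c0 c0 hρ hρ1 c0 hw').2.1
    · exfalso
      have e1 : n = 0 := by
        have : 2 * n = 0 := by linear_combination (norm := nc) -S1
        exact cancel_two h2 this
      rw [e1] at hnn
      apply ne4
      linear_combination (norm := nc) -hnn
    · left
      have : 2 * (n + 2) = 0 := by linear_combination (norm := nc) -S1
      linear_combination (norm := nc) cancel_two h2 this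
    · exfalso
      have e1 : n = 0 := by
        have : 4 * (2 * n) = 0 := by linear_combination (norm := nc) S1 - 4 * hnn
        exact cancel_two h2 (cancel_four h2 this)
      rw [e1] at hnn
      apply ne4
      linear_combination (norm := nc) -hnn
  rcases hn2 with hn2 | h
  swap
  · exact h
  exfalso
  have hδ4 : δ * δ = -4 := by
    rw [hδδ, hn2]; nc
  have hδ0 : δ ≠ 0 := by
    intro h
    rw [h] at hδ4
    apply ne4
    linear_combination (norm := nc) hδ4
  -- third pair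
  have hw3a := conj_x_eq C c0 hφ hφ1 c0 hw
  have hw3b := conj_x_eq C c0 hφ1 c0 hφ hw3a
  have g3 : x * (x * w * x⁻¹) * x⁻¹ ∈ G :=
    mul_mem (mul_mem C.hx (mul_mem (mul_mem C.hx hwG) (inv_mem C.hx))) (inv_mem C.hx)
  have o3 : orderOf (x * (x * w * x⁻¹) * x⁻¹) = 3 := order_conj (order_conj hw3)
  have S3 := anti_cases C.free h2 g3 hwG' o3 hw3' (C.hord _ g3 _ hwG' o3 hw3')
    (S := ev (i : E) j (φ - ρ - n) (-δ) δ (-δ)) (by
      rw [hw3b, hw', ev_mul C.frame c0 hρ hρ1 c0, ev_mul C.frame c0 c0 hφ hφ1, ev_add, hδ, hn]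
      congr 1 <;> nc)
  have cD : Cen (i : E) j (φ - ρ - n) := (hφ.sub hρ).sub hnC
  have sc3 : ∀ {l : E}, Cen (i : E) j l →
      ev (i : E) j (φ - ρ - n) (-δ) δ (-δ) = l → False := by
    intro l hl h
    have h' := h.trans (ev_scalar (i := (i : E)) (j := (j : E)) (a := l)).symm
    obtain ⟨-, -, e3, -⟩ := ev_inj C.frame h2 cD hδC.neg hδC hδC.neg hl c0 c0 c0 h'
    exact hδ0 e3
  rcases S3 with ⟨S3, -⟩ | ⟨S3, -⟩ | S3 | S3 | S3
  · exact sc3 (Cen.ofNat 6) S3
  · exact sc3 (Cen.ofNat 6).neg S3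
  · exact sc3 (Cen.ofNat 2).neg S3
  · exact sc3 (Cen.ofNat 2) S3
  · rw [sq_ev C.frame cD hδC.neg hδC hδC.neg] at S3
    have h20 : (20 : E) = ev (i : E) j 20 0 0 0 := by unfold ev; simp
    rw [h20] at S3
    obtain ⟨-, -, e3, -⟩ := ev_inj C.frame h2
      (((cD.mul cD).sub (hδC.neg.mul hδC.neg)).sub (hδC.mul hδC) |>.sub (hδC.neg.mul hδC.neg))
      (((cD.mul hδC.neg).add (hδC.neg.mul cD)).add ((hδC.mul hδC.neg).sub (hδC.neg.mul hδC)))
      (((cD.mul hδC).add (hδC.mul cD)).add ((hδC.neg.mul hδC.neg).sub (hδC.neg.mul hδC.neg)))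
      (((cD.mul hδC.neg).add (hδC.neg.mul cD)).add ((hδC.neg.mul hδC).sub (hδC.mul hδC.neg)))
      (Cen.ofNat 20) c0 c0 c0 S3
    apply hδ0
    apply cancel_four h2
    rw [hn2] at e3
    have e4 : (φ - ρ) * δ + δ * (φ - ρ) = 0 := by
      rw [hδ]
      linear_combination (norm := nc) P * ρ - ρ * P + Q * φ - φ * Q
    linear_combination (norm := nc) e3 - e4

end ctx

end Cfsg.Agent.PermutationGroups.ZassUnique
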