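import Mathlib
import Cfsg.Agent.PermutationGroups.ZassUnique

set_option autoImplicit false

/-!
# A quaternion frame from a pair of non-commuting elements of order three
-/

namespace Cfsg.Agent.PermutationGroups.ZassPair

open Cfsg.Agent.PermutationGroups.ZassQuat Cfsg.Agent.PermutationGroups.ZassOrders
  Cfsg.Agent.PermutationGroups.ZassFrame Cfsg.Agent.PermutationGroups.ZassClaim

/-- noncommutative ring identities, numerals included -/
local macro "nc" : tactic =>
  `(tactic| ((try simp only [n2, n3, n4, n5, n6, n8, n10, n12, n16, n20]); noncomm_ring))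

variable {E : Type*} [Ring E] [Nontrivial E]

/-- from two elements of order three generating a non-cyclic group one gets two whose product has
order four -/
theorem exists_pair {G : Subgroup Eˣ} (hfree : ∀ g ∈ G, g ≠ 1 → IsUnit ((g : E) - 1))
    (h2 : IsUnit (2 : E))
    (hord : ∀ y ∈ G, ∀ w ∈ G, orderOf y = 3 → orderOf w = 3 →
      (orderOf (y * w) = 1 ∨ orderOf (y * w) = 3 ∨ orderOf (y * w) = 4 ∨
        orderOf (y * w) = 6 ∨ orderOf (y * w) = 10))
    {x y : Eˣ} (hxG : x ∈ G) (hyG : y ∈ G) (hx3 : orderOf x = 3) (hy3 : orderOf y = 3)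
    (hne : y ≠ x) (hne' : y ≠ x⁻¹) :
    ∃ y' ∈ G, orderOf y' = 3 ∧ (x : E) * y' + y' * x + x + y' + 1 = 0 := by
  have hx := poly_three hfree hxG hx3
  have hy := poly_three hfree hyG hy3
  have hyi := inv_three hy
  have conv : ∀ v : E, (2 * (x : E) + 1) * (2 * v + 1) + (2 * v + 1) * (2 * (x : E) + 1) = -2 →
      (x : E) * v + v * x + x + v + 1 = 0 := by
    intro v hv
    apply cancel_four h2
    linear_combination (norm := nc) hv
  rcases anti_cases hfree h2 hxG hyG hx3 hy3 (hord x hxG y hyG hx3 hy3) rfl with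
    ⟨-, h⟩ | ⟨-, h⟩ | h | h | h
  · exact absurd h hne'
  · exact absurd h hne
  · exact ⟨y, hyG, hy3, conv y h⟩
  · refine ⟨y⁻¹, inv_mem hyG, by rw [orderOf_inv, hy3], conv _ ?_⟩
    rw [hyi]
    linear_combination (norm := nc) -h
  · refine ⟨y * x * y⁻¹, mul_mem (mul_mem hyG hxG) (inv_mem hyG), order_conj hx3, conv _ ?_⟩
    have he : (2 * (x : E) + 1) * (2 * (x : E) + 1) = -3 := sq_of_three hx
    have hf : (2 * (y : E) + 1) * (2 * (y : E) + 1) = -3 := sq_of_three hy
    rw [Units.val_mul, Units.val_mul, hyi]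
    have hyy : (y : E) * (-y - 1) = 1 := by linear_combination (norm := nc) -hy
    obtain ⟨e, hedef⟩ : ∃ e : E, e = 2 * (x : E) + 1 := ⟨_, rfl⟩
    obtain ⟨f, hfdef⟩ : ∃ f : E, f = 2 * (y : E) + 1 := ⟨_, rfl⟩
    rw [← hedef] at he h ⊢
    rw [← hfdef] at hf h
    -- the conjugate
    have hconj : 4 * (2 * ((y : E) * x * (-y - 1)) + 1) = -((f - 1) * e * (f + 1)) := by
      rw [hfdef, hedef]
      linear_combination (norm := nc) -4 * hyy
    apply sub_eq_zero.mp
    apply cancel_four h2
    linear_combination (norm := nc) e * hconj + hconj * e - h + e * hf * e + f * he * f - he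
      - 3 * hf + he * f - f * he

/-- the frame attached to a pair -/
theorem exists_ctx {G : Subgroup Eˣ} (hfree : ∀ g ∈ G, g ≠ 1 → IsUnit ((g : E) - 1))
    (h2 : IsUnit (2 : E)) (h3 : IsUnit (3 : E))
    (hord : ∀ y ∈ G, ∀ w ∈ G, orderOf y = 3 → orderOf w = 3 →
      (orderOf (y * w) = 1 ∨ orderOf (y * w) = 3 ∨ orderOf (y * w) = 4 ∨
        orderOf (y * w) = 6 ∨ orderOf (y * w) = 10))
    {x y : Eˣ} (hxG : x ∈ G) (hyG : y ∈ G) (hx3 : orderOf x = 3) (hy3 : orderOf y = 3)
    (hT : (x : E) * y + y * x + x + y + 1 = 0) :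
    ∃ i j : Eˣ, Ctx G i j x ∧
      Subgroup.closure ({i, j, x} : Set Eˣ) = Subgroup.closure ({x, y} : Set Eˣ) := by
  have hx := poly_three hfree hxG hx3
  have hy := poly_three hfree hyG hy3
  have hyx : (y : E) * x = -(x * y) - x - y - 1 := by linear_combination (norm := nc) hT
  have hxyx : (x : E) * y * x = y + 1 := by
    linear_combination (norm := nc) (x : E) * hT - hx * (y + 1)
  have hyxy : (y : E) * x * y = x + 1 := by
    linear_combination (norm := nc) hT * (y : E) - (x + 1) * hy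
  have hsq : ((x : E) * y) * (x * y) = -1 := by
    linear_combination (norm := nc) hxyx * y + hy
  have hsq' : ((y : E) * x) * (y * x) = -1 := by
    linear_combination (norm := nc) hyxy * x + hx
  have hi : (((x * y)⁻¹ : Eˣ) : E) = -((x : E) * y) := by
    have h1 : ((x * y : Eˣ) : E) * (-((x : E) * y)) = 1 := by
      rw [Units.val_mul]
      linear_combination (norm := nc) -hsq
    calc (((x * y)⁻¹ : Eˣ) : E) = (((x * y)⁻¹ : Eˣ) : E) *
          (((x * y : Eˣ) : E) * (-((x : E) * y))) := by rw [h1, mul_one]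
      _ = _ := by rw [← mul_assoc, Units.inv_mul, one_mul]
  have hj : (((y * x)⁻¹ : Eˣ) : E) = -((y : E) * x) := by
    have h1 : ((y * x : Eˣ) : E) * (-((y : E) * x)) = 1 := by
      rw [Units.val_mul]
      linear_combination (norm := nc) -hsq'
    calc (((y * x)⁻¹ : Eˣ) : E) = (((y * x)⁻¹ : Eˣ) : E) *
          (((y * x : Eˣ) : E) * (-((y : E) * x))) := by rw [h1, mul_one]
      _ = _ := by rw [← mul_assoc, Units.inv_mul, one_mul]
  refine ⟨(x * y)⁻¹, (y * x)⁻¹, ⟨hfree, h2, h3, inv_mem (mul_mem hxG hyG),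
    inv_mem (mul_mem hyG hxG), hxG, ⟨?_, ?_, ?_⟩, ?_, hord⟩, ?_⟩
  · rw [hi]; linear_combination (norm := nc) hsq
  · rw [hj]; linear_combination (norm := nc) hsq'
  · rw [hi, hj]
    linear_combination (norm := nc) (y : E) * hx * y + (x : E) * hy * x - hxyx - hyxy - hx - hy
  · rw [hi, hj]
    unfold ev
    linear_combination (norm := nc) hT - (x : E) * hy * x + hxyx + hx
  · apply le_antisymm
    · rw [Subgroup.closure_le]
      have hx' : x ∈ Subgroup.closure ({x, y} : Set Eˣ) := Subgroup.subset_closure (by simp)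
      have hy' : y ∈ Subgroup.closure ({x, y} : Set Eˣ) := Subgroup.subset_closure (by simp)
      rintro g (rfl | rfl | rfl)
      · exact inv_mem (mul_mem hx' hy')
      · exact inv_mem (mul_mem hy' hx')
      · exact hx'
    · rw [Subgroup.closure_le]
      have hi' : (x * y)⁻¹ ∈ Subgroup.closure ({(x * y)⁻¹, (y * x)⁻¹, x} : Set Eˣ) :=
        Subgroup.subset_closure (by simp)
      have hx' : x ∈ Subgroup.closure ({(x * y)⁻¹, (y * x)⁻¹, x} : Set Eˣ) :=
        Subgroup.subset_closure (by simp)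
      rintro g (rfl | rfl)
      · exact hx'
      · have h1 := mul_mem (inv_mem hx') (inv_mem hi')
        have e : x⁻¹ * ((x * g)⁻¹)⁻¹ = g := by group
        rw [e] at h1
        exact h1

end Cfsg.Agent.PermutationGroups.ZassPair
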