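import Mathlib

/-!
The tetrahedral case of Zassenhaus' theorem: two elements `x`, `y` of order 3 of a ring with
`x y + (x y)⁻¹ = 0` generate a copy of `SL(2, 3)`.
-/

set_option autoImplicit false
set_option linter.unusedSimpArgs false

namespace Cfsg.Agent.PermutationGroups.ZassTetra

open Matrix

/-- coordinates in `ℤ⁴` with respect to `1, x, y, x y`. -/
structure V4 where
  /-- coefficient of `1` -/
  a : ℤ
  /-- coefficient of `x` -/
  b : ℤ
  /-- coefficient of `y` -/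
  c : ℤ
  /-- coefficient of `x y` -/
  d : ℤ
deriving DecidableEq

/-- right multiplication by `x` -/
def actX (v : V4) : V4 :=
  ⟨-v.b - v.c + v.d, v.a - v.b - v.c, v.d - v.c, -v.c⟩

/-- right multiplication by `y` -/
def actY (v : V4) : V4 :=
  ⟨-v.c, -v.d, v.a - v.c, v.b - v.d⟩

/-- evaluation -/
def ev {E : Type*} [Ring E] (x y : E) (v : V4) : E :=
  v.a • (1 : E) + v.b • x + v.c • y + v.d • (x * y)

section ring

variable {E : Type*} [Ring E] (x y : E)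

theorem ev_actX (hT : x * y + y * x + x + y + 1 = 0) (hx : x * x = -1 - x)
    (v : V4) : ev x y (actX v) = ev x y v * x := by
  have h3 : y * x = - 1 - x - y - x * y := by
    have : y * x = (x * y + y * x + x + y + 1) - 1 - x - y - x * y := by abel
    rw [this, hT]; abel
  have h5 : x * y * x = 1 + y := by
    have e1 : x * y * x = x * (y * x) := mul_assoc _ _ _
    rw [e1, h3]
    have e2 : x * (- 1 - x - y - x * y) = - x - x * x - x * y - (x * x) * y := by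
      noncomm_ring
    rw [e2, hx]
    noncomm_ring
  simp only [ev, actX, add_mul, smul_mul_assoc, one_mul]
  rw [hx, h3, h5]
  module

theorem ev_actY (hyy : y * y = -1 - y) (v : V4) : ev x y (actY v) = ev x y v * y := by
  have h3 : x * y * y = -x - x * y := by rw [mul_assoc, hyy]; noncomm_ring
  simp only [ev, actY, add_mul, smul_mul_assoc, one_mul]
  rw [hyy, h3]
  module

end ring

/-- the table -/
def tabList : List V4 := [
   ⟨0,0,0,0⟩, ⟨0,0,0,0⟩, ⟨0,0,0,0⟩, ⟨0,0,0,0⟩, ⟨0,0,0,0⟩, ⟨0,0,0,0⟩, ⟨0,0,0,0⟩, ⟨0,0,0,0⟩, ⟨0,0,0,0⟩,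
   ⟨0,0,0,0⟩, ⟨0,0,0,0⟩, ⟨0,0,0,0⟩, ⟨0,0,0,0⟩, ⟨0,0,0,0⟩, ⟨0,0,0,0⟩, ⟨0,0,0,-1⟩, ⟨0,-1,0,0⟩, ⟨0,1,0,1⟩,
   ⟨0,0,0,0⟩, ⟨0,0,0,0⟩, ⟨0,0,0,0⟩, ⟨0,0,0,1⟩, ⟨0,-1,0,-1⟩, ⟨0,1,0,0⟩, ⟨0,0,0,0⟩, ⟨0,0,0,0⟩, ⟨0,0,0,0⟩,
   ⟨0,0,0,0⟩, ⟨1,0,0,0⟩, ⟨0,0,0,0⟩, ⟨0,0,0,0⟩, ⟨0,0,1,1⟩, ⟨0,0,0,0⟩, ⟨0,0,0,0⟩, ⟨-1,0,-1,-1⟩, ⟨0,0,0,0⟩,
   ⟨0,0,0,0⟩, ⟨0,0,1,0⟩, ⟨0,0,0,0⟩, ⟨0,0,0,0⟩, ⟨0,0,0,0⟩, ⟨-1,-1,-1,-1⟩, ⟨1,1,0,1⟩, ⟨0,0,0,0⟩, ⟨0,0,0,0⟩,
   ⟨0,0,0,0⟩, ⟨-1,0,-1,0⟩, ⟨0,0,0,0⟩, ⟨1,1,0,0⟩, ⟨0,0,0,0⟩, ⟨0,0,0,0⟩, ⟨0,0,0,0⟩, ⟨0,0,0,0⟩, ⟨0,-1,1,0⟩,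
   ⟨0,0,0,0⟩, ⟨0,0,0,0⟩, ⟨-1,0,0,0⟩, ⟨0,0,0,0⟩, ⟨0,0,0,0⟩, ⟨1,0,1,1⟩, ⟨0,0,0,0⟩, ⟨0,0,0,0⟩, ⟨0,0,-1,-1⟩,
   ⟨0,0,0,0⟩, ⟨0,0,0,0⟩, ⟨1,0,1,0⟩, ⟨0,0,0,0⟩, ⟨0,1,-1,0⟩, ⟨0,0,0,0⟩, ⟨-1,-1,0,0⟩, ⟨0,0,0,0⟩, ⟨0,0,0,0⟩,
   ⟨0,0,0,0⟩, ⟨0,0,0,0⟩, ⟨0,0,-1,0⟩, ⟨-1,-1,0,-1⟩, ⟨0,0,0,0⟩, ⟨0,0,0,0⟩, ⟨0,0,0,0⟩, ⟨1,1,1,1⟩, ⟨0,0,0,0⟩]

/-- the coordinates of the element of the tetrahedral group attached to a matrix -/
def cf (a b c d : ZMod 3) : V4 :=
  tabList.getD (a.val * 27 + b.val * 9 + c.val * 3 + d.val) ⟨0,0,0,0⟩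

theorem cf_one : cf 1 0 0 1 = ⟨1,0,0,0⟩ := by decide +kernel

theorem cf_X : ∀ a b c d : ZMod 3, a * d - b * c = 1 →
    cf b (-a - b) d (-c - d) = actX (cf a b c d) := by decide +kernel

theorem cf_Y : ∀ a b c d : ZMod 3, a * d - b * c = 1 →
    cf a (a + b) c (c + d) = actY (cf a b c d) := by decide +kernel

theorem cf_inv : ∀ a b c d : ZMod 3, a * d - b * c = 1 →
    (a = 1 ∧ b = 0 ∧ c = 0 ∧ d = 1) ∨
    ((cf a b c d).b + (cf d (-b) (-c) a).b = 0 ∧
    (cf a b c d).c + (cf d (-b) (-c) a).c = 0 ∧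
    (cf a b c d).d + (cf d (-b) (-c) a).d = 0 ∧
    (cf a b c d).a + (cf d (-b) (-c) a).a ∈ [(0 : ℤ), 1, -1, -2]) := by
  decide +kernel

theorem fact3 : Fact (Nat.Prime 3) := ⟨by norm_num⟩

attribute [local instance] fact3

/-- the matrix with entries `a b c d` -/
def sl (a b c d : ZMod 3) (h : a * d - b * c = 1) : SpecialLinearGroup (Fin 2) (ZMod 3) :=
  ⟨!![a, b; c, d], by rw [Matrix.det_fin_two_of]; exact h⟩

theorem sl00 (a b c d : ZMod 3) (h : a * d - b * c = 1) : sl a b c d h 0 0 = a := rfl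
theorem sl01 (a b c d : ZMod 3) (h : a * d - b * c = 1) : sl a b c d h 0 1 = b := rfl
theorem sl10 (a b c d : ZMod 3) (h : a * d - b * c = 1) : sl a b c d h 1 0 = c := rfl
theorem sl11 (a b c d : ZMod 3) (h : a * d - b * c = 1) : sl a b c d h 1 1 = d := rfl

theorem mul_entry (s t : SpecialLinearGroup (Fin 2) (ZMod 3)) (i j : Fin 2) :
    (s * t) i j = s i 0 * t 0 j + s i 1 * t 1 j := by
  have h := congrFun (congrFun (Matrix.SpecialLinearGroup.coe_mul s t) i) j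
  rw [Matrix.mul_apply, Fin.sum_univ_two] at h
  exact h

theorem ext_entry (s t : SpecialLinearGroup (Fin 2) (ZMod 3)) (h1 : s 0 0 = t 0 0)
    (h2 : s 0 1 = t 0 1) (h3 : s 1 0 = t 1 0) (h4 : s 1 1 = t 1 1) : s = t := by
  ext a b
  fin_cases a <;> fin_cases b
  · exact h1
  · exact h2
  · exact h3
  · exact h4

theorem one00 : (1 : SpecialLinearGroup (Fin 2) (ZMod 3)) 0 0 = 1 := rfl
theorem one01 : (1 : SpecialLinearGroup (Fin 2) (ZMod 3)) 0 1 = 0 := rfl
theorem one10 : (1 : SpecialLinearGroup (Fin 2) (ZMod 3)) 1 0 = 0 := rfl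
theorem one11 : (1 : SpecialLinearGroup (Fin 2) (ZMod 3)) 1 1 = 1 := rfl

/-- the matrix corresponding to `x` -/
def X3 : SpecialLinearGroup (Fin 2) (ZMod 3) := sl 0 (-1) 1 (-1) (by decide)

/-- the matrix corresponding to `y` -/
def Y3 : SpecialLinearGroup (Fin 2) (ZMod 3) := sl 1 1 0 1 (by decide)

theorem det_eq (s : SpecialLinearGroup (Fin 2) (ZMod 3)) : s 0 0 * s 1 1 - s 0 1 * s 1 0 = 1 := by
  have := s.2
  rw [Matrix.det_fin_two] at this
  exact this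

/-- upper unipotent -/
def U3 (i : ZMod 3) : SpecialLinearGroup (Fin 2) (ZMod 3) := sl 1 i 0 1 (by ring)

/-- lower unipotent -/
def L3 (i : ZMod 3) : SpecialLinearGroup (Fin 2) (ZMod 3) := sl 1 0 i 1 (by ring)

theorem U3_add (i j : ZMod 3) : U3 (i + j) = U3 i * U3 j := by
  apply ext_entry <;> simp only [mul_entry, U3, sl00, sl01, sl10, sl11] <;> ring

theorem L3_add (i j : ZMod 3) : L3 (i + j) = L3 i * L3 j := by
  apply ext_entry <;> simp only [mul_entry, L3, sl00, sl01, sl10, sl11] <;> ring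

theorem U3_one : U3 1 = Y3 := rfl

theorem L3_one : L3 1 = Y3 * X3 * Y3 * Y3 := by
  apply ext_entry <;> simp only [mul_entry, L3, X3, Y3, sl00, sl01, sl10, sl11] <;> decide

theorem eq_ULU (s : SpecialLinearGroup (Fin 2) (ZMod 3)) (hc : s 1 0 ≠ 0) :
    s = U3 ((s 0 0 - 1) / s 1 0) * L3 (s 1 0) * U3 ((s 1 1 - 1) / s 1 0) := by
  have hd := det_eq s
  apply ext_entry <;> simp only [mul_entry, U3, L3, sl00, sl01, sl10, sl11]
  · field_simp
    ring
  · field_simp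
    linear_combination (-1 : ZMod 3) * hd
  · ring
  · field_simp
    ring

/-- a submonoid containing `X3` and `Y3` is everything -/
theorem mem_of_gens (M : Submonoid (SpecialLinearGroup (Fin 2) (ZMod 3))) (hX : X3 ∈ M)
    (hY : Y3 ∈ M) (s : SpecialLinearGroup (Fin 2) (ZMod 3)) : s ∈ M := by
  have hU1 : U3 1 ∈ M := by
    rw [U3_one]; exact hY
  have hL1 : L3 1 ∈ M := by
    rw [L3_one]
    exact M.mul_mem (M.mul_mem (M.mul_mem hY hX) hY) hY
  have hU0 : U3 0 = 1 := by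
    apply ext_entry <;> simp only [U3, sl00, sl01, sl10, sl11, one00, one01, one10, one11]
  have hL0 : L3 0 = 1 := by
    apply ext_entry <;> simp only [L3, sl00, sl01, sl10, sl11, one00, one01, one10, one11]
  have hUn : ∀ n : ℕ, U3 (n : ZMod 3) ∈ M := by
    intro n
    induction n with
    | zero => rw [Nat.cast_zero, hU0]; exact M.one_mem
    | succ k ih => rw [Nat.cast_succ, U3_add]; exact M.mul_mem ih hU1
  have hLn : ∀ n : ℕ, L3 (n : ZMod 3) ∈ M := by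
    intro n
    induction n with
    | zero => rw [Nat.cast_zero, hL0]; exact M.one_mem
    | succ k ih => rw [Nat.cast_succ, L3_add]; exact M.mul_mem ih hL1
  have hU : ∀ i : ZMod 3, U3 i ∈ M := by
    intro i
    have := hUn i.val
    rwa [ZMod.natCast_zmod_val] at this
  have hL : ∀ i : ZMod 3, L3 i ∈ M := by
    intro i
    have := hLn i.val
    rwa [ZMod.natCast_zmod_val] at this
  have key : ∀ t : SpecialLinearGroup (Fin 2) (ZMod 3), t 1 0 ≠ 0 → t ∈ M := by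
    intro t ht
    rw [eq_ULU t ht]
    exact M.mul_mem (M.mul_mem (hU _) (hL _)) (hU _)
  by_cases hc : s 1 0 = 0
  · have h1 : (s * L3 (-1)) 1 0 ≠ 0 := by
      have hd := det_eq s
      rw [hc, mul_zero, sub_zero] at hd
      have e : (s * L3 (-1)) 1 0 = - s 1 1 := by
        simp only [mul_entry, L3, sl00, sl10, hc]; ring
      rw [e]
      intro h0
      have : s 1 1 = 0 := neg_eq_zero.mp h0
      rw [this, mul_zero] at hd
      exact zero_ne_one hd
    have h2 : s = (s * L3 (-1)) * L3 1 := by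
      rw [mul_assoc, ← L3_add, neg_add_cancel, hL0, mul_one]
    rw [h2]
    exact M.mul_mem (key _ h1) hL1
  · exact key s hc

/-- the coordinates of a matrix -/
def cs (s : SpecialLinearGroup (Fin 2) (ZMod 3)) : V4 := cf (s 0 0) (s 0 1) (s 1 0) (s 1 1)

theorem cs_X (s : SpecialLinearGroup (Fin 2) (ZMod 3)) : cs (s * X3) = actX (cs s) := by
  have h := cf_X (s 0 0) (s 0 1) (s 1 0) (s 1 1) (det_eq s)
  have e1 : (s * X3) 0 0 = s 0 1 := by
    simp only [mul_entry, X3, sl00, sl01, sl10, sl11]; ring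
  have e2 : (s * X3) 0 1 = - s 0 0 - s 0 1 := by
    simp only [mul_entry, X3, sl00, sl01, sl10, sl11]; ring
  have e3 : (s * X3) 1 0 = s 1 1 := by
    simp only [mul_entry, X3, sl00, sl01, sl10, sl11]; ring
  have e4 : (s * X3) 1 1 = - s 1 0 - s 1 1 := by
    simp only [mul_entry, X3, sl00, sl01, sl10, sl11]; ring
  unfold cs
  rw [e1, e2, e3, e4]
  exact h

theorem cs_Y (s : SpecialLinearGroup (Fin 2) (ZMod 3)) : cs (s * Y3) = actY (cs s) := by
  have h := cf_Y (s 0 0) (s 0 1) (s 1 0) (s 1 1) (det_eq s)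
  have e1 : (s * Y3) 0 0 = s 0 0 := by
    simp only [mul_entry, Y3, sl00, sl01, sl10, sl11]; ring
  have e2 : (s * Y3) 0 1 = s 0 0 + s 0 1 := by
    simp only [mul_entry, Y3, sl00, sl01, sl10, sl11]; ring
  have e3 : (s * Y3) 1 0 = s 1 0 := by
    simp only [mul_entry, Y3, sl00, sl01, sl10, sl11]; ring
  have e4 : (s * Y3) 1 1 = s 1 0 + s 1 1 := by
    simp only [mul_entry, Y3, sl00, sl01, sl10, sl11]; ring
  unfold cs
  rw [e1, e2, e3, e4]
  exact h

theorem cs_one : cs 1 = ⟨1,0,0,0⟩ := cf_one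

theorem tetrahedral {E : Type*} [Ring E] [Nontrivial E] (h2 : IsUnit (2:E)) (h3 : IsUnit (3:E))
    (x y : Eˣ) (hx : (x:E)^2 + x + 1 = 0) (hy : (y:E)^2 + y + 1 = 0)
    (hT : (x:E)*y + y*x + x + y + 1 = 0) :
    ∃ Ψ : Matrix.SpecialLinearGroup (Fin 2) (ZMod 3) →* Eˣ,
      Function.Injective Ψ ∧ Ψ.range = Subgroup.closure {x, y} := by
  have hxx : (x:E) * x = -1 - x := by
    have : (x:E)^2 + x + 1 = 0 := hx
    rw [pow_two] at this
    have h : (x:E) * x = ((x:E) * x + x + 1) - 1 - x := by abel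
    rw [h, this]; abel
  have hyy : (y:E) * y = -1 - y := by
    have : (y:E)^2 + y + 1 = 0 := hy
    rw [pow_two] at this
    have h : (y:E) * y = ((y:E) * y + y + 1) - 1 - y := by abel
    rw [h, this]; abel
  have hX := ev_actX (x:E) (y:E) hT hxx
  have hY := ev_actY (x:E) (y:E) hyy
  set φ : SpecialLinearGroup (Fin 2) (ZMod 3) → E := fun s => ev (x:E) (y:E) (cs s) with hφ
  have φX : ∀ s, φ (s * X3) = φ s * x := by
    intro s; simp only [hφ]; rw [cs_X, hX]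
  have φY : ∀ s, φ (s * Y3) = φ s * y := by
    intro s; simp only [hφ]; rw [cs_Y, hY]
  have φ1 : φ 1 = 1 := by
    simp only [hφ]; rw [cs_one]; simp [ev]
  have φX3 : φ X3 = x := by
    have := φX 1
    rwa [one_mul, φ1, one_mul] at this
  have φY3 : φ Y3 = y := by
    have := φY 1
    rwa [one_mul, φ1, one_mul] at this
  let M : Submonoid (SpecialLinearGroup (Fin 2) (ZMod 3)) :=
    { carrier := {t | ∀ s, φ (s * t) = φ s * φ t}
      one_mem' := by intro s; rw [mul_one, φ1, mul_one]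
      mul_mem' := by
        intro t u ht hu s
        rw [← mul_assoc, hu, ht, hu t, mul_assoc] }
  have hM : ∀ s, s ∈ M := fun s => mem_of_gens M (fun s => by rw [φX, φX3])
    (fun s => by rw [φY, φY3]) s
  let Ψ₀ : SpecialLinearGroup (Fin 2) (ZMod 3) →* E :=
    { toFun := φ
      map_one' := φ1
      map_mul' := fun s t => hM t s }
  have hΨX : Ψ₀.toHomUnits X3 = x := Units.ext φX3
  have hΨY : Ψ₀.toHomUnits Y3 = y := Units.ext φY3
  refine ⟨Ψ₀.toHomUnits, ?_, ?_⟩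
  · rw [injective_iff_map_eq_one]
    intro s hs
    have hs1 : φ s = 1 := congrArg Units.val hs
    have hs2 : φ s⁻¹ = 1 := by
      have : Ψ₀.toHomUnits s⁻¹ = 1 := by rw [map_inv, hs, inv_one]
      exact congrArg Units.val this
    have key := cf_inv (s 0 0) (s 0 1) (s 1 0) (s 1 1) (det_eq s)
    rcases key with ⟨k1, k2, k3, k4⟩ | ⟨k1, k2, k3, k7⟩
    · exact ext_entry _ _ k1 k2 k3 k4
    · exfalso
      have hcs : cs s⁻¹ = cf (s 1 1) (-s 0 1) (-s 1 0) (s 0 0) := by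
        have hd := det_eq s
        have h : s⁻¹ = sl (s 1 1) (-s 0 1) (-s 1 0) (s 0 0) (by linear_combination hd) := by
          apply inv_eq_of_mul_eq_one_right
          apply ext_entry <;>
            simp only [mul_entry, sl00, sl01, sl10, sl11, one00, one01, one10, one11]
          · linear_combination hd
          · ring
          · ring
          · linear_combination hd
        rw [h]
        rfl
      have hsum : φ s + φ s⁻¹ = ((cs s).a + (cs s⁻¹).a) • (1 : E)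
          + ((cs s).b + (cs s⁻¹).b) • (x:E)
          + ((cs s).c + (cs s⁻¹).c) • (y:E)
          + ((cs s).d + (cs s⁻¹).d) • ((x:E) * y) := by
        simp only [hφ, ev]
        module
      rw [hs1, hs2] at hsum
      have hcs0 : cs s = cf (s 0 0) (s 0 1) (s 1 0) (s 1 1) := rfl
      rw [hcs, hcs0, k1, k2, k3] at hsum
      simp only [zero_smul, add_zero] at hsum
      have unit_ne : ∀ e : E, IsUnit e → e ≠ 0 := fun e he => he.ne_zero
      have h4 : (4 : E) ≠ 0 := by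
        have : (4 : E) = 2 * 2 := by norm_num
        rw [this]
        exact (h2.mul h2).ne_zero
      have h2' := unit_ne _ h2
      have h3' := unit_ne _ h3
      simp only [List.mem_cons, List.not_mem_nil, or_false] at k7
      rcases k7 with k | k | k | k <;> rw [k] at hsum
      · have : (2 : E) = 0 := by
          have h : (1 : E) + 1 = 0 := by simpa using hsum
          rw [← h]; norm_num
        exact h2' this
      · have : (1 : E) = 0 := by
          have h : (1 : E) + 1 = 1 := by simpa using hsum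
          simpa using h
        exact one_ne_zero this
      · -- `2 = -1`
        have : (3 : E) = 0 := by
          have h : (1 : E) + 1 = -1 := by simpa using hsum
          have h' : (3 : E) = ((1 : E) + 1) + 1 := by norm_num
          rw [h', h]; simp
        exact h3' this
      · -- `2 = -2`
        have : (4 : E) = 0 := by
          have h : (1 : E) + 1 = -2 := by simpa using hsum
          have h' : (4 : E) = ((1 : E) + 1) + 2 := by norm_num
          rw [h', h]; simp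
        exact h4 this
  · have hcl : Subgroup.closure {X3, Y3} = (⊤ : Subgroup (SpecialLinearGroup (Fin 2) (ZMod 3))) := by
      rw [eq_top_iff]
      intro s _
      exact mem_of_gens (Subgroup.closure {X3, Y3}).toSubmonoid
        (Subgroup.subset_closure (by simp)) (Subgroup.subset_closure (by simp)) s
    rw [MonoidHom.range_eq_map, ← hcl, MonoidHom.map_closure, Set.image_pair, hΨX, hΨY]

end Cfsg.Agent.PermutationGroups.ZassTetra
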