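import Mathlib
import Cfsg.Agent.PermutationGroups.ZassPair
import Cfsg.Agent.PermutationGroups.ZassIcos
import Cfsg.Agent.PermutationGroups.ZassTetra

set_option autoImplicit false

/-!
# The subgroup generated by the elements of order three of a freely acting group
-/

namespace Cfsg.Agent.PermutationGroups.ZassCore

open Cfsg.Agent.PermutationGroups.ZassQuat Cfsg.Agent.PermutationGroups.ZassOrders
  Cfsg.Agent.PermutationGroups.ZassFrame Cfsg.Agent.PermutationGroups.ZassClaim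
  Cfsg.Agent.PermutationGroups.ZassUnique Cfsg.Agent.PermutationGroups.ZassPair

/-- noncommutative ring identities, numerals included -/
local macro "nc" : tactic =>
  `(tactic| ((try simp only [n2, n3, n4, n5, n6, n8, n10, n12, n16, n20]); noncomm_ring))

variable {E : Type*} [Ring E] [Nontrivial E]

section ctx
variable {G : Subgroup Eˣ} {i j x : Eˣ} (C : Ctx G i j x)
include C

theorem frame_mem {w : Eˣ} {φ : E} (hφ : Cen (i : E) j φ) (P : φ * φ = φ + 1)
    (hw : 2 * (w : E) + 1 = ev (i : E) j 0 φ (φ - 1) 0) (hw3 : (w : E) ^ 2 + w + 1 = 0) :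
    w * x⁻¹ * w⁻¹ * x⁻¹ = i ∧ x⁻¹ * w * x⁻¹ * w⁻¹ = j := by
  have c0 : Cen (i : E) j (0 : E) := Cen.zero
  have c1 : Cen (i : E) j (1 : E) := Cen.one
  have cm : Cen (i : E) j (φ - 1) := hφ.sub c1
  have cm' : Cen (i : E) j (1 - φ) := c1.sub hφ
  have F := C.frame
  have hx := C.hxe
  have hx3 : (x : E) ^ 2 + x + 1 = 0 := poly_three C.free C.hx (order_x C)
  have hxi := inv_three hx3
  have hwi := inv_three hw3
  have W : 2 * (w : E) = ev (i : E) j (-1) φ (φ - 1) 0 := by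
    have : ev (i : E) j (-1) φ (φ - 1) 0 = ev (i : E) j 0 φ (φ - 1) 0 - 1 := by unfold ev; nc
    rw [this, ← hw]; nc
  have W' : 2 * ((w⁻¹ : Eˣ) : E) = ev (i : E) j (-1) (-φ) (1 - φ) 0 := by
    have : ev (i : E) j (-1) (-φ) (1 - φ) 0 = -(ev (i : E) j 0 φ (φ - 1) 0) - 1 := by
      unfold ev; nc
    rw [this, ← hw, hwi]; nc
  have X' : 2 * ((x⁻¹ : Eˣ) : E) = ev (i : E) j (-1) (-1) (-1) (-1) := by
    have : ev (i : E) j (-1) (-1) (-1) (-1) = -(ev (i : E) j 0 1 1 1) - 1 := by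
      unfold ev; nc
    rw [this, ← hx, hxi]; nc
  have A1 : (2 * (w : E)) * (2 * ((x⁻¹ : Eˣ) : E)) = 2 * ev (i : E) j φ (1 - φ) 1 0 := by
    rw [W, X', ev_mul F c1.neg c1.neg c1.neg c1.neg]
    unfold ev; nc
  have A2 : (2 * ((w⁻¹ : Eˣ) : E)) * (2 * ((x⁻¹ : Eˣ) : E)) =
      2 * ev (i : E) j (1 - φ) φ 0 1 := by
    rw [W', X', ev_mul F c1.neg c1.neg c1.neg c1.neg]
    unfold ev; nc
  have B1 : (2 * ((x⁻¹ : Eˣ) : E)) * (2 * (w : E)) = 2 * ev (i : E) j φ 0 (1 - φ) 1 := by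
    rw [W, X', ev_mul F c1.neg hφ cm c0]
    unfold ev; nc
  have B2 : (2 * ((x⁻¹ : Eˣ) : E)) * (2 * ((w⁻¹ : Eˣ) : E)) =
      2 * ev (i : E) j (1 - φ) 1 φ 0 := by
    rw [W', X', ev_mul F c1.neg hφ.neg cm' c0]
    unfold ev; nc
  have M1 : ev (i : E) j φ (1 - φ) 1 0 * ev (i : E) j (1 - φ) φ 0 1 = 4 * i := by
    rw [ev_mul F cm' hφ c0 c1]
    unfold ev
    linear_combination (norm := nc) 2 * P * i
  have M2 : ev (i : E) j φ 0 (1 - φ) 1 * ev (i : E) j (1 - φ) 1 φ 0 = 4 * j := by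
    rw [ev_mul F cm' c1 hφ c0]
    unfold ev
    linear_combination (norm := nc) 2 * P * j
  constructor
  · apply Units.ext
    rw [Units.val_mul, Units.val_mul, Units.val_mul]
    apply sub_eq_zero.mp
    apply cancel_four C.h2
    apply cancel_four C.h2
    have : (2 * (w : E)) * (2 * ((x⁻¹ : Eˣ) : E)) * ((2 * ((w⁻¹ : Eˣ) : E)) *
      (2 * ((x⁻¹ : Eˣ) : E))) = 16 * i := by
      rw [A1, A2]
      linear_combination (norm := nc) 4 * M1
    linear_combination (norm := nc) this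
  · apply Units.ext
    rw [Units.val_mul, Units.val_mul, Units.val_mul]
    apply sub_eq_zero.mp
    apply cancel_four C.h2
    apply cancel_four C.h2
    have : (2 * ((x⁻¹ : Eˣ) : E)) * (2 * (w : E)) * ((2 * ((x⁻¹ : Eˣ) : E)) *
      (2 * ((w⁻¹ : Eˣ) : E))) = 16 * j := by
      rw [B1, B2]
      linear_combination (norm := nc) 4 * M2
    linear_combination (norm := nc) this

/-- the trace of `x w` for golden `w` -/
theorem trace_golden {w : Eˣ} {φ : E} (hφ : Cen (i : E) j φ)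
    (hw : 2 * (w : E) + 1 = ev (i : E) j 0 φ (φ - 1) 0) :
    (x : E) * w + w * x + x + w + 1 = 1 - φ := by
  have c0 : Cen (i : E) j (0 : E) := Cen.zero
  have c1 : Cen (i : E) j (1 : E) := Cen.one
  have h1 := anti1 C.frame c0 hφ (hφ.sub c1) c0
  rw [← C.hxe, ← hw] at h1
  have h2 : ev (i : E) j (-2 * (φ + (φ - 1) + 0)) (2 * 0) (2 * 0) (2 * 0) = 2 - 4 * φ := by
    unfold ev; nc
  rw [h2] at h1
  apply sub_eq_zero.mp
  apply cancel_four C.h2
  linear_combination (norm := nc) h1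

/-- `x w` has order ten, so there is an element of order five -/
theorem exists_order_five {w : Eˣ} (hwG : w ∈ G) (hw3 : orderOf w = 3)
    (hT : ((x : E) * w + w * x + x + w + 1) * ((x : E) * w + w * x + x + w + 1) =
      ((x : E) * w + w * x + x + w + 1) + 1) : ∃ g ∈ G, orderOf g = 5 := by
  have hx3 : (x : E) ^ 2 + x + 1 = 0 := poly_three C.free C.hx (order_x C)
  have hw := poly_three C.free hwG hw3
  have hxi := inv_three hx3
  have hwi := inv_three hw
  have hT' : (x : E) * w + w * x + x + w + 1 =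
      ((x * w : Eˣ) : E) + (((x * w)⁻¹ : Eˣ) : E) := by
    rw [mul_inv_rev, Units.val_mul, Units.val_mul, hxi, hwi]
    nc
  rw [hT'] at hT
  have c1 : ((x * w : Eˣ) : E) * (((x * w)⁻¹ : Eˣ) : E) = 1 := Units.mul_inv _
  have c2 : (((x * w)⁻¹ : Eˣ) : E) * ((x * w : Eˣ) : E) = 1 := Units.inv_mul _
  have h5 : ((x * w : Eˣ) : E) ^ 5 = -1 := by
    generalize ((x * w : Eˣ) : E) = g at *
    generalize (((x * w)⁻¹ : Eˣ) : E) = v at *
    -- g²(g + v)² = g²(g + v) + g²
    have e1 : g ^ 4 - g ^ 3 + g ^ 2 - g + 1 = 0 := by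
      linear_combination (norm := nc) g * g * hT - g * g * (c1 + c2) - g * c1 * v - c1
        + g * c1
    linear_combination (norm := nc) (g + 1) * e1
  have h10 : (x * w) ^ 10 = 1 := by
    apply Units.ext
    rw [Units.val_pow_eq_pow_val, Units.val_one]
    linear_combination (norm := nc) (((x * w : Eˣ) : E) ^ 5 - 1) * h5
  have : Fact (Nat.Prime 5) := ⟨by norm_num⟩
  refine ⟨(x * w) ^ 2, pow_mem (mul_mem C.hx hwG) 2, orderOf_eq_prime ?_ ?_⟩
  · rw [← pow_mul]; exact h10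
  · intro h2
    have h2' : ((x * w : Eˣ) : E) ^ 2 = 1 := coe_pow_eq_one h2
    have hm : ((x * w : Eˣ) : E) = -1 := by
      linear_combination (norm := nc) h5 - (((x * w : Eˣ) : E) ^ 3 + ((x * w : Eˣ) : E)) * h2'
    have hw' : (w : E) = (x : E) + 1 := by
      have : (w : E) = ((x⁻¹ : Eˣ) : E) * ((x * w : Eˣ) : E) := by
        rw [← Units.val_mul, inv_mul_cancel_left]
      rw [this, hm, hxi]; nc
    rw [hw'] at hw
    -- (x+1)² + (x+1) + 1 = x² + 3x + 3 = 2(x+1)
    have h3 : (2 : E) * (x + 1) = 0 := by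
      linear_combination (norm := nc) hw - hx3
    have h4 := cancel_two C.h2 h3
    have h5 : (x : E) = -1 := by linear_combination (norm := nc) h4
    rw [h5] at hx3
    have : (1 : E) = 0 := by linear_combination (norm := nc) hx3
    exact one_ne_zero this

end ctx

/-- The core theorem: the subgroup generated by the elements of order three of a freely acting
group of units is cyclic of order three (or trivial), `SL(2,3)` or `SL(2,5)`. -/
theorem core' (G : Subgroup Eˣ) (hfree : ∀ g ∈ G, g ≠ 1 → IsUnit ((g : E) - 1))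
    (h2 : IsUnit (2 : E)) (h3 : IsUnit (3 : E)) (h5 : (∃ g ∈ G, orderOf g = 5) → IsUnit (5 : E))
    (hord : ∀ x ∈ G, ∀ y ∈ G, orderOf x = 3 → orderOf y = 3 →
      (orderOf (x * y) = 1 ∨ orderOf (x * y) = 3 ∨ orderOf (x * y) = 4 ∨
        orderOf (x * y) = 6 ∨ orderOf (x * y) = 10)) :
    (∀ x ∈ G, ∀ y ∈ G, orderOf x = 3 → orderOf y = 3 → y = x ∨ y = x⁻¹) ∨
    Nonempty (Subgroup.closure {g : Eˣ | g ∈ G ∧ orderOf g = 3} ≃*
      Matrix.SpecialLinearGroup (Fin 2) (ZMod 3)) ∨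
    Nonempty (Subgroup.closure {g : Eˣ | g ∈ G ∧ orderOf g = 3} ≃*
      Matrix.SpecialLinearGroup (Fin 2) (ZMod 5)) := by
  by_cases htriv : ∀ x ∈ G, ∀ y ∈ G, orderOf x = 3 → orderOf y = 3 → y = x ∨ y = x⁻¹
  · exact Or.inl htriv
  right
  push Not at htriv
  obtain ⟨x, hxG, y₀, hy₀G, hx3, hy₀3, hne, hne'⟩ := htriv
  obtain ⟨y, hyG, hy3, hT⟩ := exists_pair hfree h2 hord hxG hy₀G hx3 hy₀3 hne hne'
  obtain ⟨i, j, C, hL⟩ := exists_ctx hfree h2 h3 hord hxG hyG hx3 hy3 hT
  have hx := poly_three hfree hxG hx3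
  have hy := poly_three hfree hyG hy3
  have hcl : Subgroup.closure ({x, y} : Set Eˣ) ≤
      Subgroup.closure {g : Eˣ | g ∈ G ∧ orderOf g = 3} := by
    apply Subgroup.closure_mono
    rintro g (rfl | rfl)
    · exact ⟨hxG, hx3⟩
    · exact ⟨hyG, hy3⟩
  by_cases hall : ∀ w ∈ G, orderOf w = 3 → w ∈ Subgroup.closure ({i, j, x} : Set Eˣ)
  · left
    obtain ⟨Ψ, hinj, hrange⟩ := Cfsg.Agent.PermutationGroups.ZassTetra.tetrahedral h2 h3 x y hx hy hT
    have e : Ψ.range = Subgroup.closure {g : Eˣ | g ∈ G ∧ orderOf g = 3} := by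
      rw [hrange]
      apply le_antisymm hcl
      rw [Subgroup.closure_le, ← hL]
      rintro g ⟨hg, hg3⟩
      exact hall g hg hg3
    rw [← e]
    exact ⟨(MonoidHom.ofInjective hinj).symm⟩
  · right
    push Not at hall
    obtain ⟨w₀, hw₀G, hw₀3, hw₀L⟩ := hall
    obtain ⟨g₀, hg₀, φ, hφ, P, hw⟩ := exists_conj_golden C hw₀G hw₀3 hw₀L
    have hLG : Subgroup.closure ({i, j, x} : Set Eˣ) ≤ G := by
      rw [Subgroup.closure_le]
      rintro g (rfl | rfl | rfl)
      · exact C.hi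
      · exact C.hj
      · exact C.hx
    have hg₀G := hLG hg₀
    generalize hwdef : g₀ * w₀ * g₀⁻¹ = w at hw
    have hwG : w ∈ G := by
      rw [← hwdef]; exact mul_mem (mul_mem hg₀G hw₀G) (inv_mem hg₀G)
    have hw3 : orderOf w = 3 := by
      rw [← hwdef]; exact order_conj hw₀3
    have hwp := poly_three hfree hwG hw3
    have htr := trace_golden C hφ hw
    have hTT : ((x : E) * w + w * x + x + w + 1) * ((x : E) * w + w * x + x + w + 1) =
      ((x : E) * w + w * x + x + w + 1) + 1 := by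
      rw [htr]
      linear_combination (norm := nc) P
    have h5' := h5 (exists_order_five C hwG hw3 hTT)
    obtain ⟨Ψ, hinj, hrange⟩ := Cfsg.Agent.PermutationGroups.ZassIcos.icosahedral h2 h3 h5' x w
      hx hwp hTT
    obtain ⟨hi', hj'⟩ := frame_mem C hφ P hw hwp
    have hxH : x ∈ Subgroup.closure ({x, w} : Set Eˣ) := Subgroup.subset_closure (by simp)
    have hwH : w ∈ Subgroup.closure ({x, w} : Set Eˣ) := Subgroup.subset_closure (by simp)
    have hLH : Subgroup.closure ({i, j, x} : Set Eˣ) ≤ Subgroup.closure ({x, w} : Set Eˣ) := by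
      rw [Subgroup.closure_le]
      rintro g (rfl | rfl | rfl)
      · rw [← hi']
        exact mul_mem (mul_mem (mul_mem hwH (inv_mem hxH)) (inv_mem hwH)) (inv_mem hxH)
      · rw [← hj']
        exact mul_mem (mul_mem (mul_mem (inv_mem hxH) hwH) (inv_mem hxH)) (inv_mem hwH)
      · exact hxH
    have e : Ψ.range = Subgroup.closure {g : Eˣ | g ∈ G ∧ orderOf g = 3} := by
      rw [hrange]
      apply le_antisymm
      · apply Subgroup.closure_mono
        rintro g (rfl | rfl)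
        · exact ⟨hxG, hx3⟩
        · exact ⟨hwG, hw3⟩
      · rw [Subgroup.closure_le]
        rintro v ⟨hvG, hv3⟩
        by_cases hvL : v ∈ Subgroup.closure ({i, j, x} : Set Eˣ)
        · exact hLH hvL
        · obtain ⟨g, hg, ρ, hρ, Q, hv⟩ := exists_conj_golden C hvG hv3 hvL
          have hgG := hLG hg
          have hvG' : g * v * g⁻¹ ∈ G := mul_mem (mul_mem hgG hvG) (inv_mem hgG)
          have hφρ : φ = ρ := golden_unique C hwG hw3 hvG' (order_conj hv3) hφ hρ P Q hw hv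
          rw [← hφρ, ← hw] at hv
          have hvw : g * v * g⁻¹ = w := by
            apply Units.ext
            apply sub_eq_zero.mp
            apply cancel_two h2
            linear_combination (norm := nc) hv
          have : v = g⁻¹ * w * g := by rw [← hvw]; group
          rw [this]
          exact mul_mem (mul_mem (inv_mem (hLH hg)) hwH) (hLH hg)
    rw [← e]
    exact ⟨(MonoidHom.ofInjective hinj).symm⟩

/-- The core theorem, in the form used by `S0690`. -/
theorem core {E : Type*} [Ring E] [Nontrivial E] (G : Subgroup Eˣ) [Finite G]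
    (hfree : ∀ g ∈ G, g ≠ 1 → IsUnit ((g : E) - 1))
    (h2 : IsUnit (2 : E)) (h3 : IsUnit (3 : E)) (h5 : (∃ g ∈ G, orderOf g = 5) → IsUnit (5 : E))
    (_hneg : -1 ∈ G)
    (hord : ∀ x ∈ G, ∀ y ∈ G, orderOf x = 3 → orderOf y = 3 →
      (orderOf (x * y) = 1 ∨ orderOf (x * y) = 3 ∨ orderOf (x * y) = 4 ∨
        orderOf (x * y) = 6 ∨ orderOf (x * y) = 10)) :
    (∀ x ∈ G, ∀ y ∈ G, orderOf x = 3 → orderOf y = 3 → y = x ∨ y = x⁻¹) ∨
    Nonempty (Subgroup.closure {g : Eˣ | g ∈ G ∧ orderOf g = 3} ≃*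
      Matrix.SpecialLinearGroup (Fin 2) (ZMod 3)) ∨
    Nonempty (Subgroup.closure {g : Eˣ | g ∈ G ∧ orderOf g = 3} ≃*
      Matrix.SpecialLinearGroup (Fin 2) (ZMod 5)) :=
  core' G hfree h2 h3 h5 hord

end Cfsg.Agent.PermutationGroups.ZassCore
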