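import Mathlib.GroupTheory.SpecificGroups.ZGroup
import Mathlib.GroupTheory.SpecificGroups.Quaternion
import Mathlib.GroupTheory.Transfer
import Mathlib.LinearAlgebra.Matrix.SpecialLinearGroup
import Mathlib.Data.ZMod.Basic
import Mathlib.Tactic

/-!
The last step of Zassenhaus' theorem on perfect Frobenius complements: from the structure of the subgroup generated
by the elements of order three to `G ≃* SL(2,5)`.
-/

set_option autoImplicit false

namespace Cfsg.Agent.PermutationGroups.ZassEnd

open Subgroup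

/-- In a perfect finite group no Sylow `p`-subgroup is abelian and contains a central element of order `p`. -/
theorem no_central {G : Type*} [Group G] [Finite G] (hperf : commutator G = ⊤) {p : ℕ}
    [hp : Fact p.Prime] (P : Sylow p G) [IsMulCommutative P] (x : G)
    (hx : x ∈ Subgroup.center G) (hxo : orderOf x = p) : False := by
  -- `x ∈ P`
  have hcomm : ∀ g : G, Commute g x := fun g => (Subgroup.mem_center_iff.1 hx g)
  have hxn : (Subgroup.zpowers x).Normal := by
    refine ⟨fun y hy g => ?_⟩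
    obtain ⟨k, rfl⟩ := Subgroup.mem_zpowers_iff.1 hy
    have h1 : Commute g (x ^ k) := (hcomm g).zpow_right k
    rw [h1.eq, mul_inv_cancel_right]
    exact hy
  have hxp : IsPGroup p (Subgroup.zpowers x) := by
    apply IsPGroup.of_card (n := 1)
    rw [Nat.card_zpowers, hxo, pow_one]
  have hle : Subgroup.zpowers x ≤ (P : Subgroup G) := by
    have h3 : IsPGroup p ((P : Subgroup G) ⊔ Subgroup.zpowers x : Subgroup G) :=
      P.isPGroup'.to_sup_of_normal_right hxp
    have h4 := P.is_maximal' h3 le_sup_left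
    rw [← h4]
    exact le_sup_right
  have hxP : x ∈ (P : Subgroup G) := hle (Subgroup.mem_zpowers x)
  let _ : CommGroup P := IsMulCommutative.instCommGroup
  have key := MonoidHom.transfer_eq_pow (H := (P : Subgroup G)) (MonoidHom.id P) x (by
    intro k g₀ _
    have h1 : Commute g₀ (x ^ k) := (hcomm g₀).pow_right k
    rw [mul_assoc, ← h1.eq, inv_mul_cancel_left])
  have h1 : MonoidHom.transfer (MonoidHom.id P) x = 1 := by
    have h2 : x ∈ commutator G := by rw [hperf]; trivial
    have h3 := Abelianization.commutator_subset_ker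
      (MonoidHom.transfer (H := (P : Subgroup G)) (MonoidHom.id P))
    exact h3 h2
  rw [h1] at key
  have h2 : x ^ (P : Subgroup G).index = 1 := (congrArg Subtype.val key).symm
  have h3 : p ∣ (P : Subgroup G).index := by
    have := orderOf_dvd_of_pow_eq_one h2
    rwa [hxo] at this
  exact P.not_dvd_index h3

/-- an element of order three whose conjugates are `x` and `x⁻¹` is central in a perfect group -/
theorem central_of_conj {G : Type*} [Group G] (hperf : commutator G = ⊤) (x : G)
    (hx : ∀ g : G, g * x * g⁻¹ = x ∨ g * x * g⁻¹ = x⁻¹) : x ∈ Subgroup.center G := by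
  have h1 : commutator G ≤ Subgroup.centralizer {x} := by
    rw [commutator_def, Subgroup.commutator_le]
    intro g _ h _
    rw [Subgroup.mem_centralizer_singleton_iff, commutatorElement_def]
    have hg' : ∀ g : G, (g * x * g⁻¹ = x ∧ g * x⁻¹ * g⁻¹ = x⁻¹) ∨
        (g * x * g⁻¹ = x⁻¹ ∧ g * x⁻¹ * g⁻¹ = x) := by
      intro g
      rcases hx g with h | h
      · left; refine ⟨h, ?_⟩
        have := congrArg (·⁻¹) h
        simpa [mul_assoc] using this
      · right; refine ⟨h, ?_⟩
        have := congrArg (·⁻¹) h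
        simpa [mul_assoc] using this
    have e1 : (g * h) * x * (g * h)⁻¹ = g * (h * x * h⁻¹) * g⁻¹ := by group
    have e2 : (h * g) * x * (h * g)⁻¹ = h * (g * x * g⁻¹) * h⁻¹ := by group
    have e3 : (g * h) * x * (g * h)⁻¹ = (h * g) * x * (h * g)⁻¹ := by
      rw [e1, e2]
      rcases hg' g with ⟨a1, a2⟩ | ⟨a1, a2⟩ <;> rcases hg' h with ⟨b1, b2⟩ | ⟨b1, b2⟩ <;>
      simp only [b1, b2, a1, a2]
    have e4 : ∀ y : G, (h * g) * x * (h * g)⁻¹ = y →
        (g * h * g⁻¹ * h⁻¹) * y = y * (g * h * g⁻¹ * h⁻¹) := by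
      intro y hy
      have h5 : (g * h * g⁻¹ * h⁻¹) * y * (g * h * g⁻¹ * h⁻¹)⁻¹ = (g * h) * x * (g * h)⁻¹ := by
        rw [← hy]; group
      rw [e3, hy, mul_inv_eq_iff_eq_mul] at h5
      exact h5
    rcases hx (h * g) with h6 | h6
    · exact e4 _ h6
    · have h7 := e4 _ h6
      have h8 : Commute (g * h * g⁻¹ * h⁻¹) x⁻¹ := h7
      exact (Commute.inv_right_iff.1 h8).eq
  rw [Subgroup.mem_center_iff]
  intro g
  have : g ∈ commutator G := by rw [hperf]; trivial
  exact (Subgroup.mem_centralizer_singleton_iff.1 (h1 this))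

/-- A homomorphic image of a (generalised) quaternion group by a non-commutative kernel is cyclic. -/
theorem isCyclic_range_of_quaternion {m : ℕ} {K : Type*} [Group K] (f : QuaternionGroup m →* K)
    (x y : QuaternionGroup m) (hx : f x = 1) (hy : f y = 1) (hxy : x * y ≠ y * x) :
    IsCyclic f.range := by
  have hex : ∃ j : ZMod (2 * m), f (QuaternionGroup.xa j) = 1 := by
    rcases x with i | i
    · rcases y with j | j
      · exfalso
        apply hxy
        rw [QuaternionGroup.a_mul_a, QuaternionGroup.a_mul_a, add_comm]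
      · exact ⟨j, hy⟩
    · exact ⟨i, hx⟩
  obtain ⟨j, hj⟩ := hex
  have ha : ∀ k : ℕ, f (QuaternionGroup.a (k : ZMod (2 * m))) = f (QuaternionGroup.a 1) ^ k := by
    intro k
    rw [← map_pow, QuaternionGroup.a_one_pow]
  have ha' : ∀ i : ZMod (2 * m), ∃ k : ℤ, f (QuaternionGroup.a i) = f (QuaternionGroup.a 1) ^ k := by
    intro i
    obtain ⟨k, rfl⟩ := ZMod.intCast_surjective i
    obtain ⟨n, rfl | rfl⟩ := k.eq_nat_or_neg
    · refine ⟨n, ?_⟩
      rw [Int.cast_natCast, ha, zpow_natCast]
    · refine ⟨-n, ?_⟩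
      have h1 : QuaternionGroup.a ((-(n : ℤ) : ℤ) : ZMod (2 * m)) =
          (QuaternionGroup.a (n : ZMod (2 * m)))⁻¹ := by
        rw [Int.cast_neg, Int.cast_natCast]; rfl
      rw [h1, map_inv, ha, zpow_neg, zpow_natCast]
  refine ⟨⟨⟨f (QuaternionGroup.a 1), MonoidHom.mem_range.2 ⟨_, rfl⟩⟩, ?_⟩⟩
  rintro ⟨_, ⟨g, rfl⟩⟩
  rcases g with i | i
  · obtain ⟨k, hk⟩ := ha' i
    exact ⟨k, Subtype.ext hk.symm⟩
  · obtain ⟨k, hk⟩ := ha' (j - i)
    refine ⟨k, Subtype.ext ?_⟩
    have h1 : QuaternionGroup.xa i = QuaternionGroup.a (j - i) * QuaternionGroup.xa j := by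
      rw [QuaternionGroup.a_mul_xa]
      congr 1
      abel
    change f (QuaternionGroup.a 1) ^ k = f (QuaternionGroup.xa i)
    rw [h1, map_mul, hj, mul_one, hk]

section SLtwo

abbrev SL23 := Matrix.SpecialLinearGroup (Fin 2) (ZMod 3)
abbrev SL25 := Matrix.SpecialLinearGroup (Fin 2) (ZMod 5)

/-- the quaternion subgroup of `SL(2,3)` -/
def q8 : Subgroup SL23 where
  carrier := {g | g * g * g * g = 1}
  mul_mem' := by
    have : ∀ a b : SL23, a * a * a * a = 1 → b * b * b * b = 1 →
      (a * b) * (a * b) * (a * b) * (a * b) = 1 := by decide +kernel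
    intro a b ha hb
    exact this a b ha hb
  one_mem' := by simp
  inv_mem' := by
    have : ∀ a : SL23, a * a * a * a = 1 → a⁻¹ * a⁻¹ * a⁻¹ * a⁻¹ = 1 := by decide +kernel
    intro a ha
    exact this a ha

theorem not_perfect_sl23 : commutator SL23 ≠ ⊤ := by
  intro h
  have h1 : commutator SL23 ≤ q8 := by
    rw [commutator_def, Subgroup.commutator_le]
    intro g _ h _
    have : ∀ g h : SL23, (g * h * g⁻¹ * h⁻¹) * (g * h * g⁻¹ * h⁻¹) * (g * h * g⁻¹ * h⁻¹) *
      (g * h * g⁻¹ * h⁻¹) = 1 := by decide +kernel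
    exact this g h
  rw [h] at h1
  have h3 : ∃ t : SL23, ¬ (t * t * t * t = 1) := by decide +kernel
  obtain ⟨t, ht⟩ := h3
  have h2 : t ∈ q8 := h1 trivial
  exact ht h2

/-- a pair generating a quaternion subgroup of `SL(2,3)` -/
theorem pair23 : ∃ i j : SL23, i * i = j * j ∧ i * i * i * i = 1 ∧ j * i * i * i = i * j ∧
    i * j ≠ j * i := by
  refine ⟨⟨!![0, -1; 1, 0], by decide⟩, ⟨!![1, 1; 1, -1], by decide⟩, ?_⟩
  decide +kernel

theorem pair25 : ∃ i j : SL25, i * i = j * j ∧ i * i * i * i = 1 ∧ j * i * i * i = i * j ∧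
    i * j ≠ j * i := by
  refine ⟨⟨!![2, 0; 0, 3], by decide⟩, ⟨!![0, -1; 1, 0], by decide⟩, ?_⟩
  decide +kernel

end SLtwo

/-- a normal subgroup containing a quaternion pair has a cyclic `2`-part in the quotient -/
theorem isCyclic_map_of_pair {G : Type*} [Group G] [Finite G]
    (h2 : ∀ P : Sylow 2 G, ∃ n : ℕ, 1 ≤ n ∧ Nonempty (P ≃* QuaternionGroup (2 ^ n)))
    (N : Subgroup G) [N.Normal] (i j : G) (hi : i ∈ N) (hj : j ∈ N) (h1 : i * i = j * j)
    (h4 : i * i * i * i = 1) (hij : j * i * i * i = i * j) (hne : i * j ≠ j * i) :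
    ∃ S : Sylow 2 G, IsCyclic (Subgroup.map (QuotientGroup.mk' N) (S : Subgroup G)) := by
  have : Fact (Nat.Prime 2) := ⟨Nat.prime_two⟩
  have hi4 : orderOf i ∣ 2 ^ 2 := by
    apply orderOf_dvd_of_pow_eq_one
    rw [← h4]
    norm_num [pow_succ]
  have hj4 : orderOf j ∣ 2 ^ 2 := by
    apply orderOf_dvd_of_pow_eq_one
    have : j ^ (2 ^ 2) = (j * j) * (j * j) := by norm_num [pow_succ, mul_assoc]
    rw [this, ← h1, ← h4, mul_assoc, mul_assoc, mul_assoc]
  have hip : IsPGroup 2 (Subgroup.zpowers i) := by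
    obtain ⟨k, _, hk⟩ := (Nat.dvd_prime_pow Nat.prime_two).1 hi4
    exact IsPGroup.of_card (n := k) (by rw [Nat.card_zpowers, hk])
  have hjp : IsPGroup 2 (Subgroup.zpowers j) := by
    obtain ⟨k, _, hk⟩ := (Nat.dvd_prime_pow Nat.prime_two).1 hj4
    exact IsPGroup.of_card (n := k) (by rw [Nat.card_zpowers, hk])
  have hnorm : Subgroup.zpowers j ≤ Subgroup.normalizer (Subgroup.zpowers i : Set G) := by
    rw [Subgroup.zpowers_le]
    have h5 : j * i * j⁻¹ = i⁻¹ := by
      have h6 : i * j * i = j := by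
        rw [← hij]
        have : j * i * i * i * i = j * (i * i * i * i) := by group
        rw [this, h4, mul_one]
      have h7 : j * i = i⁻¹ * j := by
        rw [eq_inv_mul_iff_mul_eq, ← mul_assoc, h6]
      rw [h7, mul_inv_cancel_right]
    rw [Subgroup.mem_normalizer_iff]
    intro h
    have hconj : ∀ k : ℤ, j * i ^ k * j⁻¹ = i ^ (-k) := by
      intro k
      rw [← conj_zpow, h5, inv_zpow, zpow_neg]
    constructor
    · intro hh
      obtain ⟨k, rfl⟩ := Subgroup.mem_zpowers_iff.1 hh
      rw [hconj]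
      exact Subgroup.mem_zpowers_iff.2 ⟨_, rfl⟩
    · intro hh
      obtain ⟨k, hk⟩ := Subgroup.mem_zpowers_iff.1 hh
      have : h = i ^ (-k) := by
        have h8 := hconj (-k)
        rw [neg_neg, hk] at h8
        exact (mul_left_cancel (mul_right_cancel h8)).symm
      rw [this]
      exact Subgroup.mem_zpowers_iff.2 ⟨_, rfl⟩
  obtain ⟨S, hS⟩ := (IsPGroup.to_sup_of_normal_right' hjp hip hnorm).exists_le_sylow
  have hiS : i ∈ (S : Subgroup G) :=
    hS ((le_sup_right : Subgroup.zpowers i ≤ _) (Subgroup.mem_zpowers i))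
  have hjS : j ∈ (S : Subgroup G) :=
    hS ((le_sup_left : Subgroup.zpowers j ≤ _) (Subgroup.mem_zpowers j))
  obtain ⟨n, _, ⟨e⟩⟩ := h2 S
  refine ⟨S, ?_⟩
  let f : QuaternionGroup (2 ^ n) →* G ⧸ N :=
    (QuotientGroup.mk' N).comp ((S : Subgroup G).subtype.comp e.symm.toMonoidHom)
  have hf : ∀ x : S, f (e x) = QuotientGroup.mk' N (x : G) := by
    intro x
    change QuotientGroup.mk' N ((e.symm (e x) : S) : G) = _
    rw [e.symm_apply_apply]
  have hrange : f.range = Subgroup.map (QuotientGroup.mk' N) (S : Subgroup G) := by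
    ext y
    constructor
    · rintro ⟨q, rfl⟩
      exact ⟨(e.symm q : S), (e.symm q : S).2, rfl⟩
    · rintro ⟨x, hx, rfl⟩
      exact ⟨e ⟨x, hx⟩, hf ⟨x, hx⟩⟩
  rw [← hrange]
  refine isCyclic_range_of_quaternion f (e ⟨i, hiS⟩) (e ⟨j, hjS⟩) ?_ ?_ ?_
  · rw [hf]; exact (QuotientGroup.eq_one_iff i).2 hi
  · rw [hf]; exact (QuotientGroup.eq_one_iff j).2 hj
  · intro h
    apply hne
    rw [← map_mul, ← map_mul] at h
    exact congrArg Subtype.val (e.injective h)

/-- a normal subgroup containing a quaternion pair is everything in a perfect group -/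
theorem eq_top_of_pair {G : Type*} [Group G] [Finite G] (hperf : commutator G = ⊤)
    (hodd : ∀ p : ℕ, p.Prime → p ≠ 2 → ∀ P : Sylow p G, IsCyclic P)
    (h2 : ∀ P : Sylow 2 G, ∃ n : ℕ, 1 ≤ n ∧ Nonempty (P ≃* QuaternionGroup (2 ^ n)))
    (N : Subgroup G) [N.Normal] (i j : G) (hi : i ∈ N) (hj : j ∈ N) (h1 : i * i = j * j)
    (h4 : i * i * i * i = 1) (hij : j * i * i * i = i * j) (hne : i * j ≠ j * i) : N = ⊤ := by
  obtain ⟨S, hS⟩ := isCyclic_map_of_pair h2 N i j hi hj h1 h4 hij hne
  have hsurj : Function.Surjective (QuotientGroup.mk' N) := QuotientGroup.mk'_surjective N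
  have hZ : IsZGroup (G ⧸ N) := by
    rw [isZGroup_iff]
    intro p hp P
    have := Fact.mk hp
    by_cases hp2 : p = 2
    · subst hp2
      have h5 : IsCyclic (Sylow.mapSurjective hsurj S) := hS
      exact isCyclic_of_surjective _ (Sylow.equiv (Sylow.mapSurjective hsurj S) P).surjective
    · obtain ⟨Q, rfl⟩ := Sylow.mapSurjective_surjective hsurj p P
      have := hodd p hp hp2 Q
      exact isCyclic_of_surjective _ ((QuotientGroup.mk' N).subgroupMap_surjective Q)
  apply QuotientGroup.subgroup_eq_top_of_subsingleton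
  by_contra hcon
  rw [not_subsingleton_iff_nontrivial] at hcon
  have h6 : commutator (G ⧸ N) < ⊤ := IsZGroup.commutator_lt _
  have h7 : (commutator G).map (QuotientGroup.mk' N) = commutator (G ⧸ N) := by
    rw [_root_.commutator_def, _root_.commutator_def, Subgroup.map_commutator]
    congr 1 <;> exact Subgroup.map_top_of_surjective _ hsurj
  rw [hperf, Subgroup.map_top_of_surjective _ hsurj] at h7
  exact h6.ne h7.symm

/-- **The end of Zassenhaus' theorem.** -/
theorem result {G : Type*} [Group G] [Finite G] [Nontrivial G] (hperf : commutator G = ⊤)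
    (hodd : ∀ p : ℕ, p.Prime → p ≠ 2 → ∀ P : Sylow p G, IsCyclic P)
    (h2 : ∀ P : Sylow 2 G, ∃ n : ℕ, 1 ≤ n ∧ Nonempty (P ≃* QuaternionGroup (2 ^ n)))
    (h3 : 3 ∣ Nat.card G)
    (hcore : (∀ x y : G, orderOf x = 3 → orderOf y = 3 → y = x ∨ y = x⁻¹) ∨
      Nonempty (Subgroup.closure {g : G | orderOf g = 3} ≃*
        Matrix.SpecialLinearGroup (Fin 2) (ZMod 3)) ∨
      Nonempty (Subgroup.closure {g : G | orderOf g = 3} ≃*
        Matrix.SpecialLinearGroup (Fin 2) (ZMod 5))) :
    Nonempty (G ≃* Matrix.SpecialLinearGroup (Fin 2) (ZMod 5)) := by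
  have hN : (Subgroup.closure {g : G | orderOf g = 3}).Normal := by
    refine ⟨fun n hn g => ?_⟩
    have h5 : (Subgroup.closure {g : G | orderOf g = 3}).map (MulAut.conj g).toMonoidHom ≤
        Subgroup.closure {g : G | orderOf g = 3} := by
      rw [MonoidHom.map_closure]
      apply Subgroup.closure_mono
      rintro _ ⟨x, hx, rfl⟩
      have h6 : orderOf (MulAut.conj g x) = orderOf x := MulEquiv.orderOf_eq (MulAut.conj g) x
      have h7 : orderOf x = 3 := hx
      exact h6.trans h7
    have h6 := h5 ⟨n, hn, rfl⟩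
    simpa using h6
  rcases hcore with h | ⟨⟨e⟩⟩ | ⟨⟨e⟩⟩
  · exfalso
    have : Fact (Nat.Prime 3) := ⟨Nat.prime_three⟩
    obtain ⟨x, hx⟩ := exists_prime_orderOf_dvd_card' (G := G) 3 h3
    have hxc : x ∈ Subgroup.center G := by
      apply central_of_conj hperf
      intro g
      have h5 : orderOf (MulAut.conj g x) = orderOf x := MulEquiv.orderOf_eq (MulAut.conj g) x
      rw [MulAut.conj_apply] at h5
      exact h x (g * x * g⁻¹) hx (h5.trans hx)
    obtain ⟨P⟩ : Nonempty (Sylow 3 G) := inferInstance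
    have hP : IsCyclic P := hodd 3 Nat.prime_three (by norm_num) P
    have hPc : IsMulCommutative P := ⟨⟨(IsCyclic.commGroup (α := P)).mul_comm⟩⟩
    exact no_central hperf P x hxc hx
  · exfalso
    obtain ⟨i, j, h1, h4, hij, hne⟩ := pair23
    have htop := eq_top_of_pair hperf hodd h2 (Subgroup.closure {g : G | orderOf g = 3})
      ((e.symm i : _) : G) ((e.symm j : _) : G) (SetLike.coe_mem _) (SetLike.coe_mem _)
      (by
        have := congrArg (fun y => ((e.symm y : _) : G)) h1
        simpa using this)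
      (by
        have := congrArg (fun y => ((e.symm y : _) : G)) h4
        simpa using this)
      (by
        have := congrArg (fun y => ((e.symm y : _) : G)) hij
        simpa using this)
      (by
        intro h5
        apply hne
        apply e.symm.injective
        apply Subtype.ext
        simpa using h5)
    have e' : G ≃* Matrix.SpecialLinearGroup (Fin 2) (ZMod 3) :=
      Subgroup.topEquiv.symm.trans ((MulEquiv.subgroupCongr htop.symm).trans e)
    apply not_perfect_sl23
    have h7 : (commutator G).map e'.toMonoidHom = commutator SL23 := by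
      rw [_root_.commutator_def, _root_.commutator_def, Subgroup.map_commutator]
      congr 1 <;> exact Subgroup.map_top_of_surjective _ e'.surjective
    rw [hperf, Subgroup.map_top_of_surjective _ e'.surjective] at h7
    exact h7.symm
  · obtain ⟨i, j, h1, h4, hij, hne⟩ := pair25
    have htop := eq_top_of_pair hperf hodd h2 (Subgroup.closure {g : G | orderOf g = 3})
      ((e.symm i : _) : G) ((e.symm j : _) : G) (SetLike.coe_mem _) (SetLike.coe_mem _)
      (by
        have := congrArg (fun y => ((e.symm y : _) : G)) h1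
        simpa using this)
      (by
        have := congrArg (fun y => ((e.symm y : _) : G)) h4
        simpa using this)
      (by
        have := congrArg (fun y => ((e.symm y : _) : G)) hij
        simpa using this)
      (by
        intro h5
        apply hne
        apply e.symm.injective
        apply Subtype.ext
        simpa using h5)
    exact ⟨Subgroup.topEquiv.symm.trans ((MulEquiv.subgroupCongr htop.symm).trans e)⟩

end Cfsg.Agent.PermutationGroups.ZassEnd
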