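import Mathlib

/-!
Klein's counting argument for a finite group acting on a set in such a way that every element whose
square is not `1` has exactly two fixed points (finite subgroups of `SL(2,F)` acting on the
projective line).
-/

set_option autoImplicit false

namespace Cfsg.Agent.PermutationGroups.ZassKleinCount

theorem arith3_aux {N b c A B C : ℕ} (ha : 2 * A = N) (hb : b * B = N) (hc : c * C = N)
    (hb2 : 2 ≤ b) (hc2 : 2 ≤ c) (h : A + B + C = N + 2) :
    (B = 2 ∨ C = 2) ∨ (b ≤ 5 ∧ c ≤ 5) := by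
  have key : ∀ {b c B C : ℕ}, b * B = N → c * C = N → 2 ≤ c → A + B + C = N + 2 →
      2 ≤ b → b ≤ 3 → (B = 2 ∨ C = 2) ∨ (b ≤ 5 ∧ c ≤ 5) := by
    intro b c B C hb hc hc2 h hb2 hb3
    interval_cases b
    · left; right; omega
    · by_cases h6 : 6 ≤ c
      · exfalso
        have : 6 * C ≤ c * C := Nat.mul_le_mul_right _ h6
        omega
      · right; omega
  by_cases hb3 : b ≤ 3
  · exact key hb hc hc2 h hb2 hb3
  · by_cases hc3 : c ≤ 3
    · rcases key (b := c) (c := b) (B := C) (C := B) hc hb hb2 (by omega) hc2 hc3 with h | h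
      · left; exact h.symm
      · right; exact h.symm
    · exfalso
      have h1 : 4 * B ≤ b * B := Nat.mul_le_mul_right _ (by omega)
      have h2 : 4 * C ≤ c * C := Nat.mul_le_mul_right _ (by omega)
      omega

theorem arith3 {N a b c A B C : ℕ} (ha : a * A = N) (hb : b * B = N)
    (hc : c * C = N) (ha2 : 2 ≤ a) (hb2 : 2 ≤ b) (hc2 : 2 ≤ c) (h : A + B + C = N + 2) :
    (A = 2 ∨ B = 2 ∨ C = 2 ∨ (a ≤ 5 ∧ b ≤ 5 ∧ c ≤ 5)) ∧ (a = 2 ∨ b = 2 ∨ c = 2) := by
  have h2 : a = 2 ∨ b = 2 ∨ c = 2 := by
    by_contra hcon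
    push Not at hcon
    have h1 : 3 * A ≤ a * A := Nat.mul_le_mul_right _ (by omega)
    have h2 : 3 * B ≤ b * B := Nat.mul_le_mul_right _ (by omega)
    have h3 : 3 * C ≤ c * C := Nat.mul_le_mul_right _ (by omega)
    omega
  refine ⟨?_, h2⟩
  rcases h2 with rfl | rfl | rfl
  · rcases arith3_aux ha hb hc hb2 hc2 h with (h | h) | h
    · right; left; exact h
    · right; right; left; exact h
    · right; right; right; omega
  · rcases arith3_aux hb ha hc ha2 hc2 (by omega) with (h | h) | h
    · left; exact h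
    · right; right; left; exact h
    · right; right; right; omega
  · rcases arith3_aux hc ha hb ha2 hb2 (by omega) with (h | h) | h
    · left; exact h
    · right; left; exact h
    · right; right; right; omega

/-- In a group with an abelian subgroup of index 2, elements of order 3 commute. -/
theorem commute_of_index_two {Γ : Type*} [Group Γ] (H : Subgroup Γ) (hH : H.index = 2)
    (hab : ∀ g ∈ H, ∀ h ∈ H, g * h = h * g) {x y : Γ} (hx : x ^ 3 = 1) (hy : y ^ 3 = 1) :
    x * y = y * x := by
  have key : ∀ g : Γ, g ^ 3 = 1 → g ∈ H := by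
    intro g hg
    have h1 : g ^ 2 ∈ H := Subgroup.sq_mem_of_index_two hH g
    have h2 : g = (g ^ 2)⁻¹ := by
      rw [eq_inv_iff_mul_eq_one, ← pow_succ']; exact hg
    rw [h2]
    exact H.inv_mem h1
  exact hab _ (key x hx) _ (key y hy)

open MulAction in
/-- Klein's counting argument. -/
theorem klein_finite {Γ X : Type*} [Group Γ] [Finite Γ] [MulAction Γ X] [Finite X]
    (hZ : ∀ g : Γ, g ^ 2 = 1 → ∀ l : X, g • l = l)
    (hζ : Nat.card {g : Γ // g ^ 2 = 1} ≤ 2)
    (hfix : ∀ g : Γ, g ^ 2 ≠ 1 → Nat.card (fixedBy X g) = 2)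
    (hstab : ∀ l : X, ∃ g : Γ, g ^ 2 ≠ 1 ∧ g • l = l)
    (hab : ∀ (l : X) (g h : Γ), g • l = l → h • l = l → g * h = h * g)
    {x y : Γ} (hx : x ^ 3 = 1) (hy : y ^ 3 = 1) (hxy : x * y ≠ y * x) :
    (∃ g : Γ, g ≠ 1 ∧ g ^ 2 = 1) ∧
      ∀ g : Γ, g ^ 4 = 1 ∨ g ^ 6 = 1 ∨ g ^ 8 = 1 ∨ g ^ 10 = 1 := by
  classical
  have := Fintype.ofFinite Γ
  have := Fintype.ofFinite X
  -- the number of elements of square one
  obtain ⟨ζ, hζdef⟩ : ∃ ζ : ℕ, ζ = Nat.card {g : Γ // g ^ 2 = 1} := ⟨_, rfl⟩
  have hζpos : 0 < ζ := by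
    have : Nonempty {g : Γ // g ^ 2 = 1} := ⟨⟨1, one_pow 2⟩⟩
    rw [hζdef]; exact Nat.card_pos
  rw [← hζdef] at hζ
  have hζcard : (Finset.univ.filter (fun g : Γ => g ^ 2 = 1)).card = ζ := by
    rw [hζdef, Nat.card_eq_fintype_card, Fintype.card_subtype]
  -- subgroups containing all elements of square one
  have hζdvd : ∀ H : Subgroup Γ, (∀ g : Γ, g ^ 2 = 1 → g ∈ H) → ζ ∣ Nat.card H := by
    intro H hH
    have h12 : ζ = 1 ∨ ζ = 2 := by omega
    rcases h12 with h | h
    · rw [h]; exact one_dvd _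
    · rw [h]
      have h1 : 1 < (Finset.univ.filter (fun g : Γ => g ^ 2 = 1)).card := by omega
      obtain ⟨z, hz, hz1⟩ := Finset.exists_mem_ne h1 1
      rw [Finset.mem_filter] at hz
      have hord : orderOf z = 2 := orderOf_eq_prime hz.2 hz1
      rw [← hord, ← Subgroup.orderOf_mk z (hH z hz.2)]
      exact orderOf_dvd_natCard _
  have hζle : ∀ H : Subgroup Γ, (∀ g : Γ, g ^ 2 = 1 → g ∈ H) → (∃ g ∈ H, g ^ 2 ≠ 1) →
      2 * ζ ≤ Nat.card H := by
    rintro H hH ⟨g, hgH, hg⟩
    obtain ⟨k, hk⟩ := hζdvd H hH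
    have hk2 : 2 ≤ k := by
      by_contra hcon
      have hpos : 0 < Nat.card H := Nat.card_pos
      have hk1 : k = 1 := by
        rcases Nat.eq_zero_or_pos k with h0 | h0
        · rw [h0, mul_zero] at hk; omega
        · omega
      rw [hk1, mul_one] at hk
      -- then H has exactly ζ elements, but contains ζ + 1
      have h1 : (insert g (Finset.univ.filter (fun g : Γ => g ^ 2 = 1))).card = ζ + 1 := by
        rw [Finset.card_insert_of_notMem, hζcard]
        rw [Finset.mem_filter]
        exact fun h => hg h.2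
      have h2 : (insert g (Finset.univ.filter (fun g : Γ => g ^ 2 = 1))) ⊆
          Finset.univ.filter (fun g : Γ => g ∈ H) := by
        intro a ha
        rw [Finset.mem_insert, Finset.mem_filter] at ha
        rw [Finset.mem_filter]
        rcases ha with rfl | ha
        · exact ⟨Finset.mem_univ _, hgH⟩
        · exact ⟨Finset.mem_univ _, hH a ha.2⟩
      have h3 := Finset.card_le_card h2
      rw [h1] at h3
      have h4 : (Finset.univ.filter (fun g : Γ => g ∈ H)).card = Nat.card H := by
        rw [Nat.card_eq_fintype_card, Fintype.card_subtype]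
      omega
    rw [hk]
    calc 2 * ζ ≤ k * ζ := Nat.mul_le_mul_right _ hk2
      _ = ζ * k := mul_comm _ _
  -- all
  have hxne : x ^ 2 ≠ 1 := by
    intro h
    apply hxy
    have : x = 1 := by
      have h3 : x ^ 3 = x ^ 2 * x := pow_succ x 2
      rw [hx, h, one_mul] at h3
      exact h3.symm
    rw [this, one_mul, mul_one]
  obtain ⟨N, hN⟩ : ζ ∣ Nat.card Γ := by
    have := hζdvd ⊤ (fun g _ => Subgroup.mem_top g)
    rwa [Subgroup.card_top] at this
  have hNpos : 0 < N := by
    rcases Nat.eq_zero_or_pos N with h0 | h0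
    · rw [h0, mul_zero] at hN
      have : 0 < Nat.card Γ := Nat.card_pos
      omega
    · exact h0
  -- stabilisers
  have hstabmem : ∀ (l : X) (g : Γ), g ^ 2 = 1 → g ∈ stabilizer Γ l := fun l g hg => hZ g hg l
  -- orbits
  let Ω := Quotient (orbitRel Γ X)
  have hburn := sum_card_fixedBy_eq_card_orbits_mul_card_group Γ X
  have hX := card_eq_sum_card_group_div_card_stabilizer Γ X
  -- sizes of the stabilisers
  have hs : ∀ ω : Ω, ∃ a A : ℕ, 2 ≤ a ∧ a * A = N ∧ Nat.card (stabilizer Γ ω.out) = ζ * a ∧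
      Fintype.card Γ / Fintype.card (stabilizer Γ ω.out) = A := by
    intro ω
    obtain ⟨a, ha⟩ := hζdvd (stabilizer Γ ω.out) (hstabmem ω.out)
    have h2 := hζle (stabilizer Γ ω.out) (hstabmem ω.out)
      (by obtain ⟨g, hg, hg'⟩ := hstab ω.out; exact ⟨g, hg', hg⟩)
    have ha2 : 2 ≤ a := by
      rw [ha, mul_comm] at h2
      exact Nat.le_of_mul_le_mul_left h2 hζpos
    obtain ⟨A, hA⟩ := (stabilizer Γ ω.out).card_subgroup_dvd_card
    refine ⟨a, A, ha2, ?_, ha, ?_⟩
    · rw [ha, hN, mul_assoc] at hA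
      exact (Nat.eq_of_mul_eq_mul_left hζpos hA).symm
    · rw [← Nat.card_eq_fintype_card, ← Nat.card_eq_fintype_card, hA]
      exact Nat.mul_div_cancel_left _ Nat.card_pos
  choose a A ha2 haA hsa hsA using hs
  have hXA : Fintype.card X = ∑ ω : Ω, A ω := by
    rw [hX]
    exact Finset.sum_congr rfl fun ω _ => hsA ω
  -- Burnside
  have hsum : ζ * Fintype.card X + 2 * (ζ * N - ζ) = Fintype.card Ω * (ζ * N) := by
    have hcΓ : Fintype.card Γ = ζ * N := by rw [← Nat.card_eq_fintype_card, hN]
    have h1 : ∑ g : Γ, Fintype.card (fixedBy X g) =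
        ∑ g : Γ, (if g ^ 2 = 1 then Fintype.card X else 2) := by
      refine Finset.sum_congr rfl fun g _ => ?_
      split_ifs with hg
      · have : fixedBy X g = Set.univ := by
          ext l; simp only [mem_fixedBy, Set.mem_univ, iff_true]; exact hZ g hg l
        rw [← Nat.card_eq_fintype_card, this, Nat.card_coe_set_eq, Set.ncard_univ,
          Nat.card_eq_fintype_card]
      · rw [← Nat.card_eq_fintype_card]; exact hfix g hg
    have h2 : (Finset.univ.filter (fun g : Γ => ¬ g ^ 2 = 1)).card = ζ * N - ζ := by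
      have := Finset.card_filter_add_card_filter_not (s := (Finset.univ : Finset Γ))
        (fun g : Γ => g ^ 2 = 1)
      rw [Finset.card_univ, hcΓ, hζcard] at this
      omega
    rw [h1, Finset.sum_ite, Finset.sum_const, Finset.sum_const, hζcard, h2, smul_eq_mul,
      smul_eq_mul, hcΓ] at hburn
    rw [mul_comm 2]
    convert hburn using 2
  have hmain : (∑ ω : Ω, A ω) + 2 * N = Fintype.card Ω * N + 2 := by
    rw [hXA] at hsum
    have h1 : ζ * ((∑ ω : Ω, A ω) + 2 * N) = ζ * (Fintype.card Ω * N + 2) := by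
      have h3 : ζ ≤ ζ * N := Nat.le_mul_of_pos_right _ hNpos
      have h4 : ζ * (∑ ω : Ω, A ω) + 2 * (ζ * N) = Fintype.card Ω * (ζ * N) + 2 * ζ := by
        omega
      calc ζ * ((∑ ω : Ω, A ω) + 2 * N) = ζ * (∑ ω : Ω, A ω) + 2 * (ζ * N) := by ring
        _ = Fintype.card Ω * (ζ * N) + 2 * ζ := h4
        _ = ζ * (Fintype.card Ω * N + 2) := by ring
    exact Nat.eq_of_mul_eq_mul_left hζpos h1
  have hAle : ∀ ω, 2 * A ω ≤ N := by
    intro ω
    rw [← haA ω]
    exact Nat.mul_le_mul_right _ (ha2 ω)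
  have hApos : ∀ ω, 0 < A ω := by
    intro ω
    rcases Nat.eq_zero_or_pos (A ω) with h0 | h0
    · have := haA ω
      rw [h0, mul_zero] at this; omega
    · exact h0
  -- an orbit of size one or two
  have hidx : ∀ ω, (stabilizer Γ ω.out).index = A ω := by
    intro ω
    have h1 := (stabilizer Γ ω.out).card_mul_index
    rw [hsa ω, hN, ← haA ω, mul_assoc] at h1
    exact Nat.eq_of_mul_eq_mul_left (by have := ha2 ω; omega)
      (Nat.eq_of_mul_eq_mul_left hζpos h1)
  have hA1 : ∀ ω, A ω ≠ 1 := by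
    intro ω h
    apply hxy
    have h1 : stabilizer Γ ω.out = ⊤ := by
      rw [← Subgroup.index_eq_one, hidx ω, h]
    have h2 : ∀ g : Γ, g • ω.out = ω.out := by
      intro g
      have : g ∈ stabilizer Γ ω.out := by rw [h1]; trivial
      exact this
    exact hab ω.out x y (h2 x) (h2 y)
  have hA2 : ∀ ω, A ω ≠ 2 := by
    intro ω h
    apply hxy
    refine commute_of_index_two (stabilizer Γ ω.out) (by rw [hidx ω, h]) ?_ hx hy
    intro g hg h hh
    exact hab ω.out g h hg hh
  -- number of orbits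
  have hcard : Fintype.card Ω = 3 := by
    have hle : 2 * (∑ ω : Ω, A ω) ≤ Fintype.card Ω * N := by
      rw [Finset.mul_sum]
      calc ∑ ω : Ω, 2 * A ω ≤ ∑ ω : Ω, N := Finset.sum_le_sum fun ω _ => hAle ω
        _ = Fintype.card Ω * N := by rw [Finset.sum_const, Finset.card_univ, smul_eq_mul]
    have hr4 : Fintype.card Ω < 4 := by
      by_contra hcon
      push Not at hcon
      have h4 : 4 * N ≤ Fintype.card Ω * N := Nat.mul_le_mul_right _ hcon
      omega
    have hcases : Fintype.card Ω = 0 ∨ Fintype.card Ω = 1 ∨ Fintype.card Ω = 2 ∨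
        Fintype.card Ω = 3 := by omega
    have hNge : 2 ≤ N := by
      -- Γ has an element whose square is not one
      have := hζle ⊤ (fun g _ => Subgroup.mem_top g) ⟨x, Subgroup.mem_top x, hxne⟩
      rw [Subgroup.card_top, hN, mul_comm] at this
      exact Nat.le_of_mul_le_mul_left this hζpos
    rcases hcases with h | h | h | h
    · exfalso
      rw [Fintype.card_eq_zero_iff] at h
      rw [Fintype.sum_empty, Fintype.card_eq_zero] at hmain
      omega
    · exfalso
      obtain ⟨ω, hω⟩ := Fintype.card_eq_one_iff.1 h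
      rw [h, Fintype.sum_eq_single ω (fun ω' hω' => absurd (hω ω') hω')] at hmain
      have := hApos ω
      omega
    · exfalso
      have h2 : (Finset.univ : Finset Ω).card = 2 := by rw [Finset.card_univ, h]
      obtain ⟨ω₁, ω₂, hne, huniv⟩ := Finset.card_eq_two.1 h2
      rw [h, huniv, Finset.sum_pair hne] at hmain
      have h1 := hApos ω₁
      have h2 := hApos ω₂
      have h3 := hA1 ω₁
      omega
    · exact h
  have h3 : (Finset.univ : Finset Ω).card = 3 := by rw [Finset.card_univ, hcard]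
  obtain ⟨ω₁, ω₂, ω₃, hne12, hne13, hne23, huniv⟩ := Finset.card_eq_three.1 h3
  have hsum3 : A ω₁ + A ω₂ + A ω₃ = N + 2 := by
    rw [hcard, huniv, Finset.sum_insert, Finset.sum_pair hne23] at hmain
    · omega
    · rw [Finset.mem_insert, Finset.mem_singleton]
      rintro (h | h)
      · exact hne12 h
      · exact hne13 h
  obtain ⟨h5, heven⟩ := arith3 (haA ω₁) (haA ω₂) (haA ω₃) (ha2 ω₁) (ha2 ω₂) (ha2 ω₃) hsum3
  have h5' : ∀ ω : Ω, a ω ≤ 5 := by
    rcases h5 with h | h | h | h
    · exact absurd h (hA2 _)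
    · exact absurd h (hA2 _)
    · exact absurd h (hA2 _)
    · intro ω
      have hω : ω ∈ (Finset.univ : Finset Ω) := Finset.mem_univ ω
      rw [huniv, Finset.mem_insert, Finset.mem_insert, Finset.mem_singleton] at hω
      rcases hω with rfl | rfl | rfl
      · exact h.1
      · exact h.2.1
      · exact h.2.2
  constructor
  · -- existence of an involution
    have h2dvd : 2 ∣ Nat.card Γ := by
      have haux : ∀ ω : Ω, a ω = 2 → 2 ∣ Nat.card Γ := by
        intro ω hω
        refine Dvd.dvd.trans ?_ (stabilizer Γ ω.out).card_subgroup_dvd_card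
        rw [hsa ω, hω]
        exact Dvd.intro_left _ rfl
      rcases heven with h | h | h
      · exact haux _ h
      · exact haux _ h
      · exact haux _ h
    have : Fact (Nat.Prime 2) := ⟨Nat.prime_two⟩
    obtain ⟨g, hg⟩ := exists_prime_orderOf_dvd_card' 2 h2dvd
    refine ⟨g, fun h => ?_, ?_⟩
    · rw [h, orderOf_one] at hg; omega
    · rw [← hg]; exact pow_orderOf_eq_one g
  · intro g
    by_cases hg : g ^ 2 = 1
    · left
      rw [show (4 : ℕ) = 2 * 2 from rfl, pow_mul, hg, one_pow]
    · -- g has a fixed point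
      have hfg := hfix g hg
      have hne : Nonempty (fixedBy X g) := by
        by_contra hcon
        rw [not_nonempty_iff] at hcon
        rw [Nat.card_of_isEmpty] at hfg
        omega
      obtain ⟨l, hl⟩ := hne
      let ω : Ω := Quotient.mk _ l
      have hrel : orbitRel Γ X l ω.out := by
        have : Quotient.mk (orbitRel Γ X) ω.out = Quotient.mk (orbitRel Γ X) l :=
          Quotient.out_eq ω
        exact Quotient.exact this.symm
      have hcard_eq : Nat.card (stabilizer Γ l) = Nat.card (stabilizer Γ ω.out) :=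
        Nat.card_congr (stabilizerEquivStabilizerOfOrbitRel hrel).toEquiv
      have hpow : g ^ (ζ * a ω) = 1 := by
        have hmem : g ∈ stabilizer Γ l := hl
        rw [← hsa ω, ← hcard_eq]
        have h1 : (⟨g, hmem⟩ : stabilizer Γ l) ^ Nat.card (stabilizer Γ l) = 1 := pow_card_eq_one'
        exact congrArg Subtype.val h1
      have hpow2 : g ^ (2 * a ω) = 1 := by
        have h12 : ζ = 1 ∨ ζ = 2 := by omega
        rcases h12 with h | h
        · rw [h, one_mul] at hpow
          rw [mul_comm, pow_mul, hpow, one_pow]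
        · rwa [h] at hpow
      have h2 := ha2 ω
      have h5 := h5' ω
      interval_cases (a ω)
      · left; exact hpow2
      · right; left; exact hpow2
      · right; right; left; exact hpow2
      · right; right; right; exact hpow2

end Cfsg.Agent.PermutationGroups.ZassKleinCount
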