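import Mathlib
import Cfsg.Agent.PermutationGroups.ZassKleinCount

/-!
Klein's counting argument on the projective line.
-/

set_option autoImplicit false

namespace Cfsg.Agent.PermutationGroups.ZassKleinProj

open scoped LinearAlgebra.Projectivization

theorem klein_projective {F U Γ : Type*} [Field F] [AddCommGroup U] [Module F U] [Group Γ]
    [Finite Γ] [DistribMulAction Γ U] [SMulCommClass Γ F U]
    (hfree : ∀ g : Γ, g ≠ 1 → ∀ v : U, g • v = v → v = 0)
    (heig : ∀ g : Γ, g ^ 2 ≠ 1 → ∃ (v w : U) (a b : F), v ≠ 0 ∧ w ≠ 0 ∧ a ≠ b ∧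
      g • v = a • v ∧ g • w = b • w ∧ ∀ u : U, ∃ c d : F, u = c • v + d • w)
    {x y : Γ} (hx : x ^ 3 = 1) (hy : y ^ 3 = 1) (hxy : x * y ≠ y * x) :
    (∃ g : Γ, g ≠ 1 ∧ g ^ 2 = 1) ∧
      ∀ g : Γ, g ^ 4 = 1 ∨ g ^ 6 = 1 ∨ g ^ 8 = 1 ∨ g ^ 10 = 1 := by
  classical
  -- involutions act as `-1`
  have hinv : ∀ g : Γ, g ^ 2 = 1 → g ≠ 1 → ∀ v : U, g • v = -v := by
    intro g hg hg1 v
    have h1 : g • (g • v + v) = g • v + v := by
      rw [smul_add, ← mul_smul, ← pow_two, hg, one_smul, add_comm]
    exact eq_neg_of_add_eq_zero_left (hfree g hg1 _ h1)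
  have hxne : x ^ 2 ≠ 1 := by
    intro h
    apply hxy
    have : x = 1 := by
      have h3 : x ^ 3 = x ^ 2 * x := pow_succ x 2
      rw [hx, h, one_mul] at h3
      exact h3.symm
    rw [this, one_mul, mul_one]
  obtain ⟨v0, -, -, -, hv0, -⟩ := heig x hxne
  have hproj : ∀ g : Γ, g ^ 2 = 1 → ∀ l : ℙ F U, g • l = l := by
    intro g hg l
    by_cases hg1 : g = 1
    · rw [hg1, one_smul]
    · induction l using Projectivization.ind with
      | h v hv =>
        rw [Projectivization.smul_mk, Projectivization.mk_eq_mk_iff']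
        exact ⟨-1, by rw [hinv g hg hg1 v, neg_smul, one_smul]⟩
  have habel : ∀ (l : ℙ F U) (g h : Γ), g • l = l → h • l = l → g * h = h * g := by
    intro l g h hg hh
    induction l using Projectivization.ind with
    | h v hv =>
      rw [Projectivization.smul_mk, Projectivization.mk_eq_mk_iff'] at hg hh
      obtain ⟨a, ha⟩ := hg
      obtain ⟨b, hb⟩ := hh
      by_contra hcon
      apply hv
      apply hfree ((h * g)⁻¹ * (g * h))
      · intro h1
        exact hcon (inv_mul_eq_one.1 h1).symm
      · rw [mul_smul, inv_smul_eq_iff, mul_smul, mul_smul, ← ha, ← hb, smul_comm g b v,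
          smul_comm h a v, ← ha, ← hb, smul_comm]
  let X : Type _ := {l : ℙ F U // ∃ g : Γ, g ^ 2 ≠ 1 ∧ g • l = l}
  let actX : MulAction Γ X :=
    { smul := fun h l => ⟨h • l.1, by
        obtain ⟨g, hg, hgl⟩ := l.2
        refine ⟨h * g * h⁻¹, ?_, ?_⟩
        · rw [conj_pow]
          intro h1
          apply hg
          have := congrArg (fun z => h⁻¹ * z * h) h1
          simpa [mul_assoc] using this
        · rw [mul_smul, inv_smul_smul, mul_smul, hgl]⟩
      one_smul := fun l => Subtype.ext (one_smul Γ l.1)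
      mul_smul := fun g h l => Subtype.ext (mul_smul g h l.1) }
  have hsmulX : ∀ (g : Γ) (l : X), (g • l).1 = g • l.1 := fun g l => rfl
  -- two fixed points
  have hfix2 : ∀ g : Γ, g ^ 2 ≠ 1 → ∃ a b : ℙ F U, a ≠ b ∧ ∀ l, g • l = l ↔ l = a ∨ l = b := by
    intro g hg
    obtain ⟨v, w, a, b, hv, hw, hab, hgv, hgw, hspan⟩ := heig g hg
    have hindep : ∀ c d : F, c • v + d • w = 0 → c = 0 ∧ d = 0 := by
      intro c d h
      have h1 : g • (c • v + d • w) = 0 := by rw [h, smul_zero]
      rw [smul_add, smul_comm g c v, smul_comm g d w, hgv, hgw, smul_smul, smul_smul] at h1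
      have h2 : (b - a) • (d • w) = 0 := by
        have h3 : (c * a) • v + (d * b) • w - a • (c • v + d • w) = 0 := by
          rw [h1, h, smul_zero, sub_zero]
        rw [← h3, smul_add, smul_smul, smul_smul, smul_smul, mul_comm a c]
        rw [add_sub_add_left_eq_sub, ← sub_smul]
        congr 1
        ring
      have hd : d = 0 := by
        rw [smul_smul] at h2
        rcases smul_eq_zero.1 h2 with h | h
        · rcases mul_eq_zero.1 h with h | h
          · exact absurd (sub_eq_zero.1 h).symm hab
          · exact h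
        · exact absurd h hw
      rw [hd, zero_smul, add_zero] at h
      rcases smul_eq_zero.1 h with h | h
      · exact ⟨h, hd⟩
      · exact absurd h hv
    refine ⟨Projectivization.mk F v hv, Projectivization.mk F w hw, ?_, ?_⟩
    · intro h
      rw [Projectivization.mk_eq_mk_iff'] at h
      obtain ⟨c, hc⟩ := h
      have := hindep 1 (-c) (by rw [one_smul, neg_smul, hc, add_neg_cancel])
      exact one_ne_zero this.1
    · intro l
      constructor
      · intro hl
        induction l using Projectivization.ind with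
        | h u hu =>
          rw [Projectivization.smul_mk, Projectivization.mk_eq_mk_iff'] at hl
          obtain ⟨e, he⟩ := hl
          obtain ⟨c, d, rfl⟩ := hspan u
          have h1 : (e * c - c * a) • v + (e * d - d * b) • w = 0 := by
            have h2 : e • (c • v + d • w) - g • (c • v + d • w) = 0 := by rw [he, sub_self]
            rw [smul_add g, smul_comm g c v, smul_comm g d w, hgv, hgw] at h2
            rw [← h2, smul_add, smul_smul, smul_smul, smul_smul, smul_smul, sub_smul, sub_smul]
            abel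
          obtain ⟨h3, h4⟩ := hindep _ _ h1
          by_cases hc : c = 0
          · right
            rw [Projectivization.mk_eq_mk_iff']
            exact ⟨d, by rw [hc, zero_smul, zero_add]⟩
          · left
            have hea : e = a := by
              have : c * (e - a) = 0 := by rw [← h3]; ring
              rcases mul_eq_zero.1 this with h | h
              · exact absurd h hc
              · exact sub_eq_zero.1 h
            have hd : d = 0 := by
              have : d * (a - b) = 0 := by rw [← h4, hea]; ring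
              rcases mul_eq_zero.1 this with h | h
              · exact h
              · exact absurd (sub_eq_zero.1 h) hab
            rw [Projectivization.mk_eq_mk_iff']
            exact ⟨c, by rw [hd, zero_smul, add_zero]⟩
      · rintro (rfl | rfl)
        · rw [Projectivization.smul_mk, Projectivization.mk_eq_mk_iff']
          exact ⟨a, hgv.symm⟩
        · rw [Projectivization.smul_mk, Projectivization.mk_eq_mk_iff']
          exact ⟨b, hgw.symm⟩
  have hXfix : ∀ g : Γ, g ^ 2 ≠ 1 → ∃ a b : X, a ≠ b ∧ ∀ l : X, g • l = l ↔ l = a ∨ l = b := by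
    intro g hg
    obtain ⟨a, b, hab, h⟩ := hfix2 g hg
    refine ⟨⟨a, g, hg, (h a).2 (Or.inl rfl)⟩, ⟨b, g, hg, (h b).2 (Or.inr rfl)⟩, ?_, ?_⟩
    · intro h1
      exact hab (congrArg Subtype.val h1)
    · intro l
      rw [Subtype.ext_iff, hsmulX, h l.1, Subtype.ext_iff, Subtype.ext_iff]
  have hXfin : Finite X := by
    have hfin : ∀ g : Γ, g ^ 2 ≠ 1 → {l : ℙ F U | g • l = l}.Finite := by
      intro g hg
      obtain ⟨a, b, -, h⟩ := hfix2 g hg
      have : {l : ℙ F U | g • l = l} = {a, b} := by
        ext l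
        simp only [Set.mem_ofPred_eq, Set.mem_insert_iff, Set.mem_singleton_iff]
        exact h l
      rw [this]
      exact Set.toFinite _
    have h1 : {l : ℙ F U | ∃ g : Γ, g ^ 2 ≠ 1 ∧ g • l = l} ⊆
        ⋃ g ∈ {g : Γ | g ^ 2 ≠ 1}, {l : ℙ F U | g • l = l} := by
      rintro l ⟨g, hg, hl⟩
      simp only [Set.mem_ofPred_eq, Set.mem_iUnion]
      exact ⟨g, hg, hl⟩
    have h2 : {l : ℙ F U | ∃ g : Γ, g ^ 2 ≠ 1 ∧ g • l = l}.Finite :=
      (Set.Finite.biUnion (Set.toFinite _) (fun g hg => hfin g hg)).subset h1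
    exact h2.to_subtype
  refine ZassKleinCount.klein_finite (Γ := Γ) (X := X) ?_ ?_ ?_ ?_ ?_ hx hy hxy
  · intro g hg l
    exact Subtype.ext (hproj g hg l.1)
  · by_cases hz : ∃ z : Γ, z ≠ 1 ∧ z ^ 2 = 1
    · obtain ⟨z, hz1, hz2⟩ := hz
      have h1 : {g : Γ | g ^ 2 = 1} ⊆ {1, z} := by
        intro g hg
        rw [Set.mem_ofPred_eq] at hg
        by_cases hg1 : g = 1
        · exact Or.inl hg1
        · right
          rw [Set.mem_singleton_iff]
          by_contra hcon
          apply hv0
          apply hfree (z⁻¹ * g)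
          · intro h1
            exact hcon (inv_mul_eq_one.1 h1).symm
          · rw [mul_smul, inv_smul_eq_iff, hinv g hg hg1, hinv z hz2 hz1]
      calc Nat.card {g : Γ // g ^ 2 = 1} = ({g : Γ | g ^ 2 = 1} : Set Γ).ncard :=
            (Nat.card_coe_set_eq _)
        _ ≤ ({1, z} : Set Γ).ncard := Set.ncard_le_ncard h1 (Set.toFinite _)
        _ ≤ 2 := Set.ncard_insert_le _ _ |>.trans (by rw [Set.ncard_singleton])
    · push Not at hz
      have h1 : {g : Γ | g ^ 2 = 1} ⊆ {1} := by
        intro g hg
        by_contra hcon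
        exact hz g hcon hg
      calc Nat.card {g : Γ // g ^ 2 = 1} = ({g : Γ | g ^ 2 = 1} : Set Γ).ncard :=
            (Nat.card_coe_set_eq _)
        _ ≤ ({1} : Set Γ).ncard := Set.ncard_le_ncard h1 (Set.toFinite _)
        _ ≤ 2 := by rw [Set.ncard_singleton]; omega
  · intro g hg
    obtain ⟨a, b, hab, h⟩ := hXfix g hg
    have : MulAction.fixedBy X g = {a, b} := by
      ext l
      simp only [MulAction.mem_fixedBy, Set.mem_insert_iff, Set.mem_singleton_iff]
      exact h l
    rw [this, Nat.card_coe_set_eq, Set.ncard_pair hab]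
  · intro l
    obtain ⟨g, hg, hgl⟩ := l.2
    exact ⟨g, hg, Subtype.ext hgl⟩
  · intro l g h hg hh
    exact habel l.1 g h (congrArg Subtype.val hg) (congrArg Subtype.val hh)

end Cfsg.Agent.PermutationGroups.ZassKleinProj
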