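import Mathlib
import Cfsg.Agent.PermutationGroups.ZassKleinProj

/-!
Klein's counting argument for finite fixed-point-free subgroups of `SL(2,F)`, `F` algebraically
closed, and the possible traces.
-/

set_option autoImplicit false

namespace Cfsg.Agent.PermutationGroups.ZassKleinSL2

open Matrix

variable {F : Type*} [Field F]

theorem sq_eq (M : Matrix (Fin 2) (Fin 2) F) (h : M.det = 1) :
    M * M = M.trace • M - 1 := by
  rw [Matrix.det_fin_two] at h
  ext i j
  fin_cases i <;> fin_cases j <;>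
    simp [Matrix.mul_apply, Fin.sum_univ_two, Matrix.trace_fin_two] <;>
    first
      | linear_combination (-1) * h
      | ring1

theorem exists_eigenvector (M : Matrix (Fin 2) (Fin 2) F) (h : M.det = 1) {a : F}
    (ha : a * a - M.trace * a + 1 = 0) : ∃ v : Fin 2 → F, v ≠ 0 ∧ M *ᵥ v = a • v := by
  have hdet : (M - a • (1 : Matrix (Fin 2) (Fin 2) F)).det = 0 := by
    rw [Matrix.det_fin_two] at h ⊢
    rw [Matrix.trace_fin_two] at ha
    simp only [Matrix.sub_apply, Matrix.smul_apply, Matrix.one_apply_eq, smul_eq_mul, mul_one,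
      Matrix.one_apply_ne (show (0 : Fin 2) ≠ 1 by decide),
      Matrix.one_apply_ne (show (1 : Fin 2) ≠ 0 by decide), mul_zero, sub_zero]
    linear_combination ha + h
  obtain ⟨v, hv, hv'⟩ := Matrix.exists_mulVec_eq_zero_iff.2 hdet
  refine ⟨v, hv, ?_⟩
  rw [Matrix.sub_mulVec, Matrix.smul_mulVec, Matrix.one_mulVec, sub_eq_zero] at hv'
  exact hv'

theorem cube_eq {M : Matrix (Fin 2) (Fin 2) F} {t : F} (h : M * M = t • M - 1) :
    M ^ 3 = (t * t - 1) • M - t • (1 : Matrix (Fin 2) (Fin 2) F) := by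
  have h1 : M ^ 3 = M * M * M := by rw [pow_succ, pow_two]
  rw [h1, h, sub_mul, smul_mul_assoc, h, one_mul]
  module

theorem four_eq {M : Matrix (Fin 2) (Fin 2) F} {t : F} (h : M * M = t • M - 1) :
    M ^ 4 = (t ^ 3 - 2 * t) • M + (1 - t * t) • (1 : Matrix (Fin 2) (Fin 2) F) := by
  rw [pow_succ, cube_eq h, sub_mul, smul_mul_assoc, smul_mul_assoc, h, one_mul]
  module

theorem five_eq {M : Matrix (Fin 2) (Fin 2) F} {t : F} (h : M * M = t • M - 1) :
    M ^ 5 = (t ^ 4 - 3 * t ^ 2 + 1) • M - (t ^ 3 - 2 * t) • (1 : Matrix (Fin 2) (Fin 2) F) := by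
  rw [pow_succ, four_eq h, add_mul, smul_mul_assoc, smul_mul_assoc, h, one_mul]
  module

/-- a matrix of determinant one whose square is not one is not a scalar -/
theorem nonscalar {M : Matrix (Fin 2) (Fin 2) F} (hdet : M.det = 1) (h : M * M ≠ 1) {a b : F}
    (hab : a • M = b • (1 : Matrix (Fin 2) (Fin 2) F)) : a = 0 ∧ b = 0 := by
  have ha : a = 0 := by
    by_contra ha
    apply h
    have h1 : M = (a⁻¹ * b) • (1 : Matrix (Fin 2) (Fin 2) F) := by
      rw [mul_smul, ← hab, smul_smul, inv_mul_cancel₀ ha, one_smul]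
    have h2 : (a⁻¹ * b) * (a⁻¹ * b) = 1 := by
      rw [h1, Matrix.det_fin_two] at hdet
      simpa using hdet
    rw [h1, smul_mul_smul_comm, h2, one_smul, mul_one]
  refine ⟨ha, ?_⟩
  rw [ha, zero_smul] at hab
  have h1 := congrFun (congrFun hab 0) 0
  simpa using h1.symm

section klein

variable [IsAlgClosed F] {Γ : Type*} [Group Γ] [Finite Γ]

theorem klein_SL2 (ρ : Γ →* Matrix.SpecialLinearGroup (Fin 2) F)
    (hfree : ∀ g : Γ, g ≠ 1 → ∀ v : Fin 2 → F, (ρ g).1 *ᵥ v = v → v = 0)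
    {x y : Γ} (hx : x ^ 3 = 1) (hy : y ^ 3 = 1) (hxy : x * y ≠ y * x) :
    (2 : F) ≠ 0 ∧ (∃ z : Γ, z ≠ 1 ∧ z ^ 2 = 1 ∧ (ρ z).1 = -1) ∧
      ∀ g : Γ, g ^ 4 = 1 ∨ g ^ 6 = 1 ∨ g ^ 8 = 1 ∨ g ^ 10 = 1 := by
  classical
  let act : DistribMulAction Γ (Fin 2 → F) :=
    { smul := fun g v => (ρ g).1 *ᵥ v
      one_smul := fun v => by
        show (ρ 1).1 *ᵥ v = v
        rw [map_one]; exact Matrix.one_mulVec v
      mul_smul := fun g h v => by
        show (ρ (g * h)).1 *ᵥ v = (ρ g).1 *ᵥ ((ρ h).1 *ᵥ v)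
        rw [map_mul, Matrix.mulVec_mulVec]; rfl
      smul_zero := fun g => Matrix.mulVec_zero _
      smul_add := fun g v w => Matrix.mulVec_add _ _ _ }
  have hsmul : ∀ (g : Γ) (v : Fin 2 → F), g • v = (ρ g).1 *ᵥ v := fun g v => rfl
  have hcomm : SMulCommClass Γ F (Fin 2 → F) :=
    ⟨fun g a v => by rw [hsmul, hsmul, Matrix.mulVec_smul]⟩
  have heig : ∀ g : Γ, g ^ 2 ≠ 1 → ∃ (v w : Fin 2 → F) (a b : F), v ≠ 0 ∧ w ≠ 0 ∧ a ≠ b ∧
      g • v = a • v ∧ g • w = b • w ∧ ∀ u : Fin 2 → F, ∃ c d : F, u = c • v + d • w := by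
    intro g hg
    have hdet : (ρ g).1.det = 1 := (ρ g).2
    obtain ⟨a, ha⟩ : ∃ a : F, a * a - (ρ g).1.trace * a + 1 = 0 := by
      obtain ⟨a, ha⟩ := IsAlgClosed.exists_root
        (Polynomial.C 1 * Polynomial.X ^ 2 + Polynomial.C (-(ρ g).1.trace) * Polynomial.X +
          Polynomial.C 1 : Polynomial F)
        (by rw [Polynomial.degree_quadratic one_ne_zero]; decide)
      refine ⟨a, ?_⟩
      rw [Polynomial.IsRoot.def] at ha
      simp only [Polynomial.eval_add, Polynomial.eval_mul, Polynomial.eval_C, Polynomial.eval_pow,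
        Polynomial.eval_X] at ha
      rw [← ha]; ring
    have ha0 : a ≠ 0 := by
      rintro rfl
      apply one_ne_zero (α := F)
      rw [← ha]; ring
    have hb : a⁻¹ * a⁻¹ - (ρ g).1.trace * a⁻¹ + 1 = 0 := by
      field_simp
      linear_combination ha
    obtain ⟨v, hv, hgv⟩ := exists_eigenvector _ hdet ha
    obtain ⟨w, hw, hgw⟩ := exists_eigenvector _ hdet hb
    have hab : a ≠ a⁻¹ := by
      intro h
      have haa : a * a = 1 := by
        nth_rewrite 2 [h]
        exact mul_inv_cancel₀ ha0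
      apply hg
      by_contra hcon
      apply hv
      apply hfree (g ^ 2) hcon
      rw [pow_two, map_mul]
      show ((ρ g).1 * (ρ g).1) *ᵥ v = v
      rw [← Matrix.mulVec_mulVec, hgv, Matrix.mulVec_smul, hgv, smul_smul, haa, one_smul]
    have hindep : LinearIndependent F ![v, w] := by
      rw [LinearIndependent.pair_iff]
      intro c d h
      have h1 : (ρ g).1 *ᵥ (c • v + d • w) = 0 := by rw [h, Matrix.mulVec_zero]
      rw [Matrix.mulVec_add, Matrix.mulVec_smul, Matrix.mulVec_smul, hgv, hgw] at h1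
      have h2 : (d * (a⁻¹ - a)) • w = 0 := by
        have h3 : c • a • v + d • a⁻¹ • w - a • (c • v + d • w) = 0 := by
          rw [h1, h, smul_zero, sub_zero]
        rw [← h3]
        module
      have hd : d = 0 := by
        rcases smul_eq_zero.1 h2 with h | h
        · rcases mul_eq_zero.1 h with h | h
          · exact h
          · exact absurd (sub_eq_zero.1 h).symm hab
        · exact absurd h hw
      rw [hd, zero_smul, add_zero] at h
      rcases smul_eq_zero.1 h with h | h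
      · exact ⟨h, hd⟩
      · exact absurd h hv
    refine ⟨v, w, a, a⁻¹, hv, hw, hab, hgv, hgw, fun u => ?_⟩
    have hspan := hindep.span_eq_top_of_card_eq_finrank (by simp)
    have hu : u ∈ Submodule.span F (Set.range ![v, w]) := by rw [hspan]; trivial
    rw [Matrix.range_cons, Matrix.range_cons, Matrix.range_empty, Set.union_empty,
      Set.singleton_union, Submodule.mem_span_pair] at hu
    obtain ⟨c, d, hcd⟩ := hu
    exact ⟨c, d, hcd.symm⟩
  obtain ⟨⟨z, hz1, hz2⟩, hord⟩ :=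
    ZassKleinProj.klein_projective (F := F) (U := Fin 2 → F) (Γ := Γ) hfree heig hx hy hxy
  have hzneg : (ρ z).1 = -1 := by
    have h1 : ∀ v : Fin 2 → F, (ρ z).1 *ᵥ v = -v := by
      intro v
      have h2 : (ρ z).1 *ᵥ ((ρ z).1 *ᵥ v + v) = (ρ z).1 *ᵥ v + v := by
        have h3 : (ρ z).1 * (ρ z).1 = 1 := by
          have := congrArg (fun g => (ρ g).1) hz2
          simp only [pow_two, map_mul, map_one] at this
          exact this
        rw [Matrix.mulVec_add, Matrix.mulVec_mulVec, h3, Matrix.one_mulVec, add_comm]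
      exact eq_neg_of_add_eq_zero_left (hfree z hz1 _ h2)
    apply Matrix.ext_of_mulVec_single
    intro i
    rw [h1, Matrix.neg_mulVec, Matrix.one_mulVec]
  refine ⟨fun h2 => ?_, ⟨z, hz1, hz2, hzneg⟩, hord⟩
  -- characteristic two is impossible
  have h3 : (ρ z).1 = 1 := by
    rw [hzneg]
    have : (-1 : F) = 1 := by linear_combination -h2
    ext i j
    rw [Matrix.neg_apply]
    by_cases hij : i = j
    · subst hij; rw [Matrix.one_apply_eq]; exact this
    · rw [Matrix.one_apply_ne hij, neg_zero]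
  have h4 := hfree z hz1 (fun _ => 1) (by rw [h3, Matrix.one_mulVec])
  exact one_ne_zero (congrFun h4 0)

omit [IsAlgClosed F] [Finite Γ] in
theorem map_pow_val (ρ : Γ →* Matrix.SpecialLinearGroup (Fin 2) F) (g : Γ) (n : ℕ) :
    (ρ (g ^ n)).1 = (ρ g).1 ^ n := by
  rw [map_pow]; exact Matrix.SpecialLinearGroup.coe_pow _ _

omit [IsAlgClosed F] [Finite Γ] in
theorem map_mul_val (ρ : Γ →* Matrix.SpecialLinearGroup (Fin 2) F) (g h : Γ) :
    (ρ (g * h)).1 = (ρ g).1 * (ρ h).1 := by
  rw [map_mul]; exact Matrix.SpecialLinearGroup.coe_mul _ _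

omit [IsAlgClosed F] [Finite Γ] in
/-- a fixed-point-free representation is faithful, strong form -/
theorem eq_one_of_sub_sq {ρ : Γ →* Matrix.SpecialLinearGroup (Fin 2) F}
    (hfree : ∀ g : Γ, g ≠ 1 → ∀ v : Fin 2 → F, (ρ g).1 *ᵥ v = v → v = 0) {g : Γ}
    (h : ((ρ g).1 - 1) * ((ρ g).1 - 1) = 0) : g = 1 := by
  by_contra hg
  have h1 : ∀ v : Fin 2 → F, (ρ g).1 *ᵥ v = v := by
    intro v
    have h2 : (ρ g).1 *ᵥ (((ρ g).1 - 1) *ᵥ v) = ((ρ g).1 - 1) *ᵥ v := by
      have h3 : ((ρ g).1 - 1) *ᵥ (((ρ g).1 - 1) *ᵥ v) = 0 := by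
        rw [Matrix.mulVec_mulVec, h, Matrix.zero_mulVec]
      rw [Matrix.sub_mulVec, Matrix.one_mulVec, sub_eq_zero] at h3
      exact h3
    have h4 := hfree g hg _ h2
    rwa [Matrix.sub_mulVec, Matrix.one_mulVec, sub_eq_zero] at h4
  exact one_ne_zero (congrFun (hfree g hg (fun _ => 1) (h1 _)) 0)

omit [IsAlgClosed F] [Finite Γ] in
theorem eq_one_of_val_eq_one {ρ : Γ →* Matrix.SpecialLinearGroup (Fin 2) F}
    (hfree : ∀ g : Γ, g ≠ 1 → ∀ v : Fin 2 → F, (ρ g).1 *ᵥ v = v → v = 0) {g : Γ}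
    (h : (ρ g).1 = 1) : g = 1 :=
  eq_one_of_sub_sq hfree (by rw [h, sub_self, zero_mul])

omit [IsAlgClosed F] [Finite Γ] in
/-- elements of order two act as `-1` -/
theorem val_eq_neg_one {ρ : Γ →* Matrix.SpecialLinearGroup (Fin 2) F}
    (hfree : ∀ g : Γ, g ≠ 1 → ∀ v : Fin 2 → F, (ρ g).1 *ᵥ v = v → v = 0) {g : Γ}
    (hg : g ^ 2 = 1) (hg1 : g ≠ 1) : (ρ g).1 = -1 := by
  have h1 : ∀ v : Fin 2 → F, (ρ g).1 *ᵥ v = -v := by
    intro v
    have h2 : (ρ g).1 *ᵥ ((ρ g).1 *ᵥ v + v) = (ρ g).1 *ᵥ v + v := by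
      have h3 : (ρ g).1 * (ρ g).1 = 1 := by
        rw [← map_mul_val, ← pow_two, hg, map_one]; rfl
      rw [Matrix.mulVec_add, Matrix.mulVec_mulVec, h3, Matrix.one_mulVec, add_comm]
    exact eq_neg_of_add_eq_zero_left (hfree g hg1 _ h2)
  apply Matrix.ext_of_mulVec_single
  intro i
  rw [h1, Matrix.neg_mulVec, Matrix.one_mulVec]

omit [IsAlgClosed F] [Finite Γ] in
theorem val_eq_or {ρ : Γ →* Matrix.SpecialLinearGroup (Fin 2) F}
    (hfree : ∀ g : Γ, g ≠ 1 → ∀ v : Fin 2 → F, (ρ g).1 *ᵥ v = v → v = 0) {g : Γ}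
    (hg : g ^ 2 = 1) : (ρ g).1 = 1 ∨ (ρ g).1 = -1 := by
  by_cases hg1 : g = 1
  · left; rw [hg1, map_one]; rfl
  · right; exact val_eq_neg_one hfree hg hg1

omit [IsAlgClosed F] [Finite Γ] in
theorem mul_self_ne_one {ρ : Γ →* Matrix.SpecialLinearGroup (Fin 2) F}
    (hfree : ∀ g : Γ, g ≠ 1 → ∀ v : Fin 2 → F, (ρ g).1 *ᵥ v = v → v = 0) {g : Γ}
    (hg2 : g ^ 2 ≠ 1) : (ρ g).1 * (ρ g).1 ≠ 1 := by
  intro h
  apply hg2
  apply eq_one_of_val_eq_one hfree
  rw [map_pow_val, pow_two, h]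

omit [IsAlgClosed F] [Finite Γ] in
/-- The possible traces of the elements. -/
theorem trace_cases {ρ : Γ →* Matrix.SpecialLinearGroup (Fin 2) F}
    (hfree : ∀ g : Γ, g ≠ 1 → ∀ v : Fin 2 → F, (ρ g).1 *ᵥ v = v → v = 0)
    {g : Γ} (hg2 : g ^ 2 ≠ 1) (hg : g ^ 4 = 1 ∨ g ^ 6 = 1 ∨ g ^ 8 = 1 ∨ g ^ 10 = 1) :
    (ρ g).1.trace = 0 ∨ (ρ g).1.trace = 1 ∨ (ρ g).1.trace = -1 ∨
      (ρ g).1.trace ^ 2 = 2 ∨ (ρ g).1.trace ^ 2 = (ρ g).1.trace + 1 ∨
      (ρ g).1.trace ^ 2 = 1 - (ρ g).1.trace := by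
  have hdet : (ρ g).1.det = 1 := (ρ g).2
  have hsq := sq_eq (ρ g).1 hdet
  have hne := mul_self_ne_one hfree hg2
  generalize hM : (ρ g).1 = M at hdet hsq hne ⊢
  generalize hT : M.trace = t at hsq ⊢
  rcases hg with hg | hg | hg | hg
  · left
    have h1 : (g ^ 2) ^ 2 = 1 := by rw [← pow_mul]; exact hg
    have h2 := val_eq_neg_one hfree h1 hg2
    rw [map_pow_val, hM, pow_two, hsq] at h2
    have h3 : t • M = (0 : F) • (1 : Matrix (Fin 2) (Fin 2) F) := by
      rw [zero_smul]
      have : t • M = (t • M - 1) + 1 := by abel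
      rw [this, h2]; abel
    exact (nonscalar hdet hne h3).1
  · have h1 : (g ^ 3) ^ 2 = 1 := by rw [← pow_mul]; exact hg
    rcases val_eq_or hfree h1 with h2 | h2
    · rw [map_pow_val, hM, cube_eq hsq] at h2
      have h3 : (t * t - 1) • M = (t + 1) • (1 : Matrix (Fin 2) (Fin 2) F) := by
        rw [sub_eq_iff_eq_add] at h2
        rw [h2]; module
      have h4 := (nonscalar hdet hne h3).2
      right; right; left
      linear_combination h4
    · rw [map_pow_val, hM, cube_eq hsq] at h2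
      have h3 : (t * t - 1) • M = (t - 1) • (1 : Matrix (Fin 2) (Fin 2) F) := by
        rw [sub_eq_iff_eq_add] at h2
        rw [h2]; module
      have h4 := (nonscalar hdet hne h3).2
      right; left
      linear_combination h4
  · have h1 : (g ^ 4) ^ 2 = 1 := by rw [← pow_mul]; exact hg
    rcases val_eq_or hfree h1 with h2 | h2
    · rw [map_pow_val, hM, four_eq hsq] at h2
      have h3 : (t ^ 3 - 2 * t) • M = (t * t) • (1 : Matrix (Fin 2) (Fin 2) F) := by
        rw [← eq_sub_iff_add_eq] at h2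
        rw [h2]; module
      have h4 := (nonscalar hdet hne h3).2
      left
      exact mul_self_eq_zero.1 h4
    · rw [map_pow_val, hM, four_eq hsq] at h2
      have h3 : (t ^ 3 - 2 * t) • M = (t * t - 2) • (1 : Matrix (Fin 2) (Fin 2) F) := by
        rw [← eq_sub_iff_add_eq] at h2
        rw [h2]; module
      have h4 := (nonscalar hdet hne h3).2
      right; right; right; left
      linear_combination h4
  · have h1 : (g ^ 5) ^ 2 = 1 := by rw [← pow_mul]; exact hg
    have h5 : t ^ 4 - 3 * t ^ 2 + 1 = 0 := by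
      rcases val_eq_or hfree h1 with h2 | h2
      · rw [map_pow_val, hM, five_eq hsq] at h2
        have h3 : (t ^ 4 - 3 * t ^ 2 + 1) • M =
            (t ^ 3 - 2 * t + 1) • (1 : Matrix (Fin 2) (Fin 2) F) := by
          rw [sub_eq_iff_eq_add] at h2
          rw [h2]; module
        exact (nonscalar hdet hne h3).1
      · rw [map_pow_val, hM, five_eq hsq] at h2
        have h3 : (t ^ 4 - 3 * t ^ 2 + 1) • M =
            (t ^ 3 - 2 * t - 1) • (1 : Matrix (Fin 2) (Fin 2) F) := by
          rw [sub_eq_iff_eq_add] at h2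
          rw [h2]; module
        exact (nonscalar hdet hne h3).1
    have h6 : (t ^ 2 - t - 1) * (t ^ 2 + t - 1) = 0 := by rw [← h5]; ring
    rcases mul_eq_zero.1 h6 with h | h
    · right; right; right; right; left
      linear_combination h
    · right; right; right; right; right
      linear_combination h

omit [IsAlgClosed F] [Finite Γ] in
theorem eq_one_of_trace_two {ρ : Γ →* Matrix.SpecialLinearGroup (Fin 2) F}
    (hfree : ∀ g : Γ, g ≠ 1 → ∀ v : Fin 2 → F, (ρ g).1 *ᵥ v = v → v = 0)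
    {g : Γ} (h : (ρ g).1.trace = 2) : g = 1 := by
  apply eq_one_of_sub_sq hfree
  have hsq := sq_eq (ρ g).1 (ρ g).2
  rw [h] at hsq
  rw [sub_mul, mul_sub, one_mul, mul_one, hsq]
  module

omit [IsAlgClosed F] [Finite Γ] in
/-- trace of the inverse -/
theorem inv_val (ρ : Γ →* Matrix.SpecialLinearGroup (Fin 2) F) (g : Γ) :
    (ρ g⁻¹).1 = (ρ g).1.trace • (1 : Matrix (Fin 2) (Fin 2) F) - (ρ g).1 := by
  have hsq := sq_eq (ρ g).1 (ρ g).2
  have h1 : (ρ g).1 * ((ρ g).1.trace • (1 : Matrix (Fin 2) (Fin 2) F) - (ρ g).1) = 1 := by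
    rw [mul_sub, hsq, mul_smul_comm, mul_one]
    abel
  have h2 : (ρ g⁻¹).1 * (ρ g).1 = 1 := by
    rw [← map_mul_val, inv_mul_cancel, map_one]; rfl
  calc (ρ g⁻¹).1 = (ρ g⁻¹).1 * ((ρ g).1 *
        ((ρ g).1.trace • (1 : Matrix (Fin 2) (Fin 2) F) - (ρ g).1)) := by rw [h1, mul_one]
    _ = _ := by rw [← mul_assoc, h2, one_mul]

/-- The trace of the product of two non-commuting elements of order three. -/
theorem trace_mul (ρ : Γ →* Matrix.SpecialLinearGroup (Fin 2) F)
    (hfree : ∀ g : Γ, g ≠ 1 → ∀ v : Fin 2 → F, (ρ g).1 *ᵥ v = v → v = 0)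
    {x y : Γ} (hx : x ^ 3 = 1) (hy : y ^ 3 = 1) (hxy : x * y ≠ y * x) :
    (x * y) ^ 2 ≠ 1 ∧ ((ρ (x * y)).1.trace = 0 ∨ (ρ (x * y)).1.trace = 1 ∨
      (ρ (x * y)).1.trace ^ 2 = (ρ (x * y)).1.trace + 1) := by
  obtain ⟨h2, ⟨z, hz1, hz2, hz⟩, hord⟩ := klein_SL2 ρ hfree hx hy hxy
  -- `z` is central
  have hzc : ∀ g : Γ, z * g = g * z := by
    intro g
    have h1 : (ρ ((g * z)⁻¹ * (z * g))).1 = 1 := by
      have h3 : (ρ (z * g)).1 = (ρ (g * z)).1 := by
        rw [map_mul_val, map_mul_val, hz, neg_mul, mul_neg, one_mul, mul_one]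
      rw [map_mul_val, h3, ← map_mul_val, inv_mul_cancel, map_one]; rfl
    exact (inv_mul_eq_one.1 (eq_one_of_val_eq_one hfree h1)).symm
  -- elements with square one are central
  have hcen : ∀ g : Γ, g ^ 2 = 1 → ∀ h : Γ, g * h = h * g := by
    intro g hg h
    by_cases hg1 : g = 1
    · rw [hg1, one_mul, mul_one]
    · have h3 := val_eq_neg_one hfree hg hg1
      have h4 : g = z := by
        have h5 : (ρ (z⁻¹ * g)).1 = 1 := by
          rw [map_mul_val, h3, ← hz, ← map_mul_val, inv_mul_cancel, map_one]; rfl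
        exact (inv_mul_eq_one.1 (eq_one_of_val_eq_one hfree h5)).symm
      rw [h4]; exact hzc h
  have hg2 : (x * y) ^ 2 ≠ 1 := by
    intro h
    have h3 := hcen _ h x
    apply hxy
    -- x y x = x x y
    have h4 : x * (y * x) = x * (x * y) := by rw [← mul_assoc]; exact h3
    exact (mul_left_cancel h4).symm
  have hg2' : (x * y⁻¹) ^ 2 ≠ 1 := by
    intro h
    have h3 := hcen _ h x
    apply hxy
    have h4 : x * (y⁻¹ * x) = x * (x * y⁻¹) := by rw [← mul_assoc]; exact h3
    have h5 : y⁻¹ * x = x * y⁻¹ := mul_left_cancel h4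
    calc x * y = y * (y⁻¹ * x) * y := by rw [mul_inv_cancel_left]
      _ = y * (x * y⁻¹) * y := by rw [h5]
      _ = y * x := by rw [mul_assoc, mul_assoc, inv_mul_cancel, mul_one]
  have hx1 : x ≠ 1 := by rintro rfl; exact hxy (by rw [one_mul, mul_one])
  have hy1 : y ≠ 1 := by rintro rfl; exact hxy (by rw [one_mul, mul_one])
  -- traces of elements of order three
  have htr3 : ∀ g : Γ, g ^ 3 = 1 → g ≠ 1 → (ρ g).1.trace = -1 := by
    intro g hg hg1
    have hgg : g ^ 2 ≠ 1 := by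
      intro h
      apply hg1
      have h3 : g ^ 3 = g ^ 2 * g := pow_succ g 2
      rw [hg, h, one_mul] at h3
      exact h3.symm
    have hdet : (ρ g).1.det = 1 := (ρ g).2
    have hsq := sq_eq (ρ g).1 hdet
    have hne := mul_self_ne_one hfree hgg
    have h2 : (ρ (g ^ 3)).1 = 1 := by rw [hg, map_one]; rfl
    rw [map_pow_val, cube_eq hsq] at h2
    have h3 : ((ρ g).1.trace * (ρ g).1.trace - 1) • (ρ g).1 =
        ((ρ g).1.trace + 1) • (1 : Matrix (Fin 2) (Fin 2) F) := by
      rw [sub_eq_iff_eq_add] at h2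
      rw [h2]; module
    have h4 := (nonscalar hdet hne h3).2
    linear_combination h4
  have h3 : (3 : F) ≠ 0 := by
    intro h3
    apply hx1
    apply eq_one_of_trace_two hfree
    rw [htr3 x hx hx1]
    linear_combination -h3
  have htx := htr3 x hx hx1
  have hty := htr3 y hy hy1
  have hsum : (ρ (x * y)).1.trace + (ρ (x * y⁻¹)).1.trace = 1 := by
    rw [map_mul_val, map_mul_val, inv_val, hty, mul_sub, ← Matrix.trace_add, mul_smul_comm,
      mul_one]
    have : (ρ x).1 * (ρ y).1 + ((-1 : F) • (ρ x).1 - (ρ x).1 * (ρ y).1) = (-1 : F) • (ρ x).1 := by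
      abel
    rw [this, Matrix.trace_smul, htx, smul_eq_mul]
    ring
  have hc1 := trace_cases hfree hg2 (hord _)
  have hc2 := trace_cases hfree hg2' (hord _)
  have hne2 : (ρ (x * y)).1.trace ≠ 2 := fun h => hg2 (by
    rw [eq_one_of_trace_two hfree h, one_pow])
  have hne2' : (ρ (x * y⁻¹)).1.trace ≠ 2 := fun h => hg2' (by
    rw [eq_one_of_trace_two hfree h, one_pow])
  -- the commutator
  have hcomm : (ρ (x * y * x⁻¹ * y⁻¹)).1.trace =
      (ρ (x * y)).1.trace ^ 2 - (ρ (x * y)).1.trace := by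
    have hM := sq_eq (ρ x).1 (ρ x).2
    have hN := sq_eq (ρ y).1 (ρ y).2
    have hMN := sq_eq (ρ (x * y)).1 (ρ (x * y)).2
    rw [htx] at hM
    rw [hty] at hN
    rw [map_mul_val ρ (x * y * x⁻¹), map_mul_val ρ (x * y), inv_val ρ x, inv_val ρ y, htx, hty]
    have h1 : (ρ (x * y)).1 * ((-1 : F) • (1 : Matrix (Fin 2) (Fin 2) F) - (ρ x).1) *
        ((-1 : F) • (1 : Matrix (Fin 2) (Fin 2) F) - (ρ y).1) =
        (ρ (x * y)).1 + (ρ x).1 * ((ρ y).1 * (ρ y).1) + (ρ (x * y)).1 * (ρ x).1 +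
          (ρ (x * y)).1 * (ρ (x * y)).1 := by
      have h5 : (ρ (x * y)).1 * (ρ (x * y)).1 = (ρ (x * y)).1 * (ρ x).1 * (ρ y).1 := by
        rw [map_mul_val ρ x y]
        simp only [mul_assoc]
      have h6 : (ρ x).1 * ((ρ y).1 * (ρ y).1) = (ρ (x * y)).1 * (ρ y).1 := by
        rw [map_mul_val ρ x y, mul_assoc]
      rw [h5, h6]
      simp only [neg_smul, one_smul]
      noncomm_ring
    rw [h1, Matrix.trace_add, Matrix.trace_add, Matrix.trace_add, hMN, hN]
    have h7 : ((ρ (x * y)).1 * (ρ x).1).trace = -(ρ (x * y)).1.trace + 1 := by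
      rw [Matrix.trace_mul_comm, map_mul_val ρ x y, ← mul_assoc, hM, sub_mul, smul_mul_assoc,
        one_mul, Matrix.trace_sub, Matrix.trace_smul, hty, smul_eq_mul]
      ring
    have h8 : ((ρ x).1 * ((-1 : F) • (ρ y).1 - 1)).trace = -(ρ (x * y)).1.trace + 1 := by
      rw [mul_sub, mul_smul_comm, mul_one, Matrix.trace_sub, Matrix.trace_smul, htx,
        map_mul_val ρ x y, smul_eq_mul]
      ring
    rw [h7, h8, Matrix.trace_sub, Matrix.trace_smul, smul_eq_mul, Matrix.trace_one,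
      Fintype.card_fin]
    push_cast
    ring
  have hcomm2 : (ρ (x * y * x⁻¹ * y⁻¹)).1.trace ≠ -2 := by
    intro h
    have h4 : z * (x * y * x⁻¹ * y⁻¹) = 1 := by
      apply eq_one_of_trace_two hfree
      rw [map_mul_val, hz, neg_mul, one_mul, Matrix.trace_neg, h, neg_neg]
    have h5 : x * y * x⁻¹ = z⁻¹ * y := by
      have h6 : x * y * x⁻¹ * y⁻¹ = z⁻¹ := eq_inv_of_mul_eq_one_right h4
      rw [← h6]; group
    have h6 : (x * y * x⁻¹) ^ 3 = 1 := by rw [conj_pow, hy, mul_one, mul_inv_cancel]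
    have hzi : z⁻¹ = z := by
      rw [inv_eq_iff_mul_eq_one, ← pow_two]; exact hz2
    rw [h5, hzi, (show Commute z y from hzc y).mul_pow, hy, mul_one, pow_succ, hz2, one_mul] at h6
    exact hz1 h6
  refine ⟨hg2, ?_⟩
  generalize (ρ (x * y)).1.trace = t at hsum hc1 hne2 hcomm ⊢
  generalize (ρ (x * y⁻¹)).1.trace = u at hsum hc2 hne2'
  rw [hcomm] at hcomm2
  have hu : u = 1 - t := by linear_combination hsum
  subst hu
  have h1 : (1 : F) ≠ 0 := one_ne_zero
  rcases hc1 with h | h | h | h | h | h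
  · exact Or.inl h
  · exact Or.inr (Or.inl h)
  · exact absurd (show (1 : F) - t = 2 by linear_combination -h) hne2'
  · exfalso
    -- `t ^ 2 = 2`
    rcases hc2 with h' | h' | h' | h' | h' | h'
    · have ht : t = 1 := by linear_combination -h'
      rw [ht] at h
      exact h1 (by linear_combination -h)
    · have ht : t = 0 := by linear_combination -h'
      rw [ht] at h
      exact h2 (by linear_combination -h)
    · exact h2 (by
        have ht : t = 2 := by linear_combination -h'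
        rw [ht] at h
        linear_combination h)
    · -- `p = 7`
      have ht : 2 * t = 1 := by linear_combination h - h'
      have h7 : (7 : F) = 0 := by
        linear_combination (2 * t + 1) * ht - 4 * h
      exact hcomm2 (by linear_combination h - 4 * ht + t * h7)
    · have ht : t = 1 := by linear_combination h - h'
      rw [ht] at h
      exact h1 (by linear_combination -h)
    · have ht : 3 * (t - 1) = 0 := by linear_combination h - h'
      rcases mul_eq_zero.1 ht with h'' | h''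
      · exact h3 h''
      · have ht1 : t = 1 := by linear_combination h''
        rw [ht1] at h
        exact h1 (by linear_combination -h)
  · exact Or.inr (Or.inr h)
  · exfalso
    -- `t ^ 2 = 1 - t`
    rcases hc2 with h' | h' | h' | h' | h' | h'
    · have ht : t = 1 := by linear_combination -h'
      rw [ht] at h
      exact h1 (by linear_combination h)
    · have ht : t = 0 := by linear_combination -h'
      rw [ht] at h
      exact h1 (by linear_combination -h)
    · exact hne2 (by linear_combination -h')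
    · have ht : 3 * t = 0 := by linear_combination h - h'
      rcases mul_eq_zero.1 ht with h'' | h''
      · exact h3 h''
      · rw [h''] at h
        exact h1 (by linear_combination -h)
    · have ht : 2 * t = 0 := by linear_combination h - h'
      rcases mul_eq_zero.1 ht with h'' | h''
      · exact h2 h''
      · rw [h''] at h
        exact h1 (by linear_combination -h)
    · have ht : 2 * (2 * t - 1) = 0 := by linear_combination h - h'
      rcases mul_eq_zero.1 ht with h'' | h''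
      · exact h2 h''
      · exact h1 (by linear_combination (2 * t + 3) * h'' - 4 * h)

end klein

end Cfsg.Agent.PermutationGroups.ZassKleinSL2
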