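import Mathlib
import Cfsg.Agent.PermutationGroups.ZassKleinSL2

/-!
Zassenhaus' theorem on perfect fixed-point-free groups, part (B): in a finite fixed-point-free
linear group the product of two elements of order 3 has order 1, 3, 4, 6 or 10.
-/

set_option autoImplicit false

namespace Cfsg.Agent.PermutationGroups.ZassKlein

open Matrix ZassKleinSL2

theorem order_of_trace {F : Type*} [Field F] {Γ : Type*} [Group Γ]
    {ρ : Γ →* Matrix.SpecialLinearGroup (Fin 2) F} (h2 : (2 : F) ≠ 0)
    (hfree : ∀ g : Γ, g ≠ 1 → ∀ v : Fin 2 → F, (ρ g).1 *ᵥ v = v → v = 0) {g : Γ}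
    (hg2 : g ^ 2 ≠ 1) (h : (ρ g).1.trace = 0 ∨ (ρ g).1.trace = 1 ∨
      (ρ g).1.trace ^ 2 = (ρ g).1.trace + 1) :
    orderOf g = 4 ∨ orderOf g = 6 ∨ orderOf g = 10 := by
  have hsq := sq_eq (ρ g).1 (ρ g).2
  have hne : ∀ n : ℕ, (ρ g).1 ^ n = -1 → g ^ n ≠ 1 := by
    intro n hn hg
    have h1 : (ρ (g ^ n)).1 = 1 := by rw [hg, map_one]; rfl
    rw [map_pow_val, hn] at h1
    have h3 := congrFun (congrFun h1 0) 0
    rw [Matrix.neg_apply, Matrix.one_apply_eq] at h3
    exact h2 (by linear_combination -h3)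
  have heq : ∀ n : ℕ, (ρ g).1 ^ n = -1 → g ^ (n * 2) = 1 := by
    intro n hn
    apply eq_one_of_val_eq_one hfree
    rw [map_pow_val, pow_mul, hn, neg_one_sq]
  rcases h with h | h | h
  · left
    have h3 : (ρ g).1 ^ 2 = -1 := by rw [pow_two, hsq, h, zero_smul, zero_sub]
    have h4 := heq 2 h3
    have : Fact (Nat.Prime 2) := ⟨Nat.prime_two⟩
    exact orderOf_eq_prime_pow (p := 2) (n := 1) (by rw [pow_one]; exact hg2) h4
  · right; left
    have h3 : (ρ g).1 ^ 3 = -1 := by rw [cube_eq hsq, h]; module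
    have h4 := heq 3 h3
    refine orderOf_eq_of_pow_and_pow_div_prime (by norm_num) h4 ?_
    intro p hp hdvd
    have hp6 : p = 2 ∨ p = 3 := by
      have : p ∣ 2 * 3 := hdvd
      rcases (Nat.Prime.dvd_mul hp).1 this with h | h
      · left; exact (Nat.prime_dvd_prime_iff_eq hp Nat.prime_two).1 h
      · right; exact (Nat.prime_dvd_prime_iff_eq hp Nat.prime_three).1 h
    rcases hp6 with rfl | rfl
    · exact hne 3 h3
    · exact hg2
  · right; right
    have h3 : (ρ g).1 ^ 5 = -1 := by
      rw [five_eq hsq]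
      have h5 : (ρ g).1.trace ^ 4 - 3 * (ρ g).1.trace ^ 2 + 1 = 0 := by
        linear_combination ((ρ g).1.trace ^ 2 + (ρ g).1.trace - 1) * h
      have h6 : (ρ g).1.trace ^ 3 - 2 * (ρ g).1.trace = 1 := by
        linear_combination ((ρ g).1.trace + 1) * h
      rw [h5, h6]; module
    have h4 := heq 5 h3
    refine orderOf_eq_of_pow_and_pow_div_prime (by norm_num) h4 ?_
    intro p hp hdvd
    have hp10 : p = 2 ∨ p = 5 := by
      have : p ∣ 2 * 5 := hdvd
      rcases (Nat.Prime.dvd_mul hp).1 this with h | h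
      · left; exact (Nat.prime_dvd_prime_iff_eq hp Nat.prime_two).1 h
      · right; exact (Nat.prime_dvd_prime_iff_eq hp Nat.prime_five).1 h
    rcases hp10 with rfl | rfl
    · exact hne 5 h3
    · exact hg2

/-- The final step over an algebraically closed field. -/
theorem order_mul_of_algClosed {F W : Type*} [Field F] [IsAlgClosed F] [AddCommGroup W]
    [Module F W] [FiniteDimensional F W] [Nontrivial W] {G : Type*} [Group G] [Finite G]
    (φ : G →* Module.End F W) (hfree : ∀ g : G, g ≠ 1 → ∀ w : W, φ g w = w → w = 0)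
    {x y : G} (hx : x ^ 3 = 1) (hy : y ^ 3 = 1) (hxy : x * y ≠ y * x) :
    orderOf (x * y) = 4 ∨ orderOf (x * y) = 6 ∨ orderOf (x * y) = 10 := by
  classical
  have hx1 : x ≠ 1 := by rintro rfl; exact hxy (by rw [one_mul, mul_one])
  have hy1 : y ≠ 1 := by rintro rfl; exact hxy (by rw [one_mul, mul_one])
  have hquad : ∀ g : G, g ^ 3 = 1 → g ≠ 1 → ∀ w : W, φ g (φ g w) = -(φ g w) - w := by
    intro g hg hg1 w
    have h1 : φ g (φ g (φ g w) + φ g w + w) = φ g (φ g w) + φ g w + w := by
      have h3 : φ g (φ g (φ g w)) = w := by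
        have := congrArg (fun h => φ h w) hg
        simp only [pow_succ, pow_zero, one_mul, map_mul, map_one, Module.End.mul_apply,
          Module.End.one_apply] at this
        exact this
      rw [map_add, map_add, h3]
      abel
    have h2 := hfree g hg1 _ h1
    have h3 : φ g (φ g w) + (φ g w + w) = 0 := by rw [← add_assoc]; exact h2
    rw [eq_neg_of_add_eq_zero_left h3]
    abel
  -- the operator `x y + (x y)⁻¹`
  let T : Module.End F W := φ x * φ y + φ y * φ x + φ x + φ y + 1
  have hT : ∀ w, T w = φ x (φ y w) + φ y (φ x w) + φ x w + φ y w + w := fun w => rfl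
  have hTx : ∀ w, T (φ x w) = φ x (T w) := by
    intro w
    rw [hT, hT, map_add, map_add, map_add, map_add, hquad x hx hx1 (φ y w), hquad x hx hx1 w,
      map_sub, map_neg]
    abel
  obtain ⟨τ, hτ⟩ := Module.End.exists_eigenvalue T
  obtain ⟨u, hu⟩ := hτ.exists_hasEigenvector
  have hTu : T u = τ • u := hu.apply_eq_smul
  have hu0 : u ≠ 0 := hu.2
  obtain ⟨ω, hω⟩ : ∃ ω : F, ω * ω + ω + 1 = 0 := by
    obtain ⟨a, ha⟩ := IsAlgClosed.exists_root
      (Polynomial.C 1 * Polynomial.X ^ 2 + Polynomial.C 1 * Polynomial.X +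
        Polynomial.C 1 : Polynomial F)
      (by rw [Polynomial.degree_quadratic one_ne_zero]; decide)
    refine ⟨a, ?_⟩
    rw [Polynomial.IsRoot.def] at ha
    simp only [Polynomial.eval_add, Polynomial.eval_mul, Polynomial.eval_C, Polynomial.eval_pow,
      Polynomial.eval_X] at ha
    rw [← ha]; ring
  obtain ⟨l, v, hl, hv0, hxv, hTv⟩ : ∃ (l : F) (v : W), l * l + l + 1 = 0 ∧ v ≠ 0 ∧
      φ x v = l • v ∧ T v = τ • v := by
    by_cases h : φ x u = ω • u
    · exact ⟨ω, u, hω, hu0, h, hTu⟩
    · refine ⟨-1 - ω, φ x u - ω • u, by linear_combination hω, sub_ne_zero.2 h, ?_, ?_⟩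
      · rw [map_sub, map_smul, hquad x hx hx1 u]
        have h1 : (ω * ω + ω + 1) • u = 0 := by rw [hω, zero_smul]
        have h2 : -(φ x u) - u - ω • φ x u =
            (-1 - ω) • (φ x u - ω • u) - (ω * ω + ω + 1) • u := by module
        rw [h2, h1, sub_zero]
      · rw [map_sub, map_smul, hTx, hTu, map_smul]
        module
  obtain ⟨w, hw⟩ : ∃ w, w = φ y v := ⟨_, rfl⟩
  have hyw : φ y w = -w - v := by rw [hw, hquad y hy hy1 v]
  have hxw : φ x w = (τ + (-1 - l)) • v + (-1 - l) • w := by
    have h1 := hT v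
    rw [hTv, hxv, map_smul, ← hw] at h1
    have h2 : φ x w = τ • v - l • w - l • v - w - v := by
      rw [h1]; abel
    rw [h2]; module
  have hindep : ∀ c d : F, c • v + d • w = 0 → c = 0 ∧ d = 0 := by
    intro c d h
    have hd : d = 0 := by
      by_contra hd
      have hwv : w = (-(d⁻¹ * c)) • v := by
        have h3 : d • w = -(c • v) := eq_neg_of_add_eq_zero_right h
        calc w = d⁻¹ • (d • w) := by rw [smul_smul, inv_mul_cancel₀ hd, one_smul]
          _ = _ := by rw [h3]; module
      apply hv0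
      have hne : (y * x)⁻¹ * (x * y) ≠ 1 := by
        intro h3
        exact hxy (inv_mul_eq_one.1 h3).symm
      apply hfree _ hne
      have h4 : φ (x * y) v = φ (y * x) v := by
        rw [map_mul, map_mul, Module.End.mul_apply, Module.End.mul_apply, hxv, map_smul, ← hw,
          hwv, map_smul, hxv, smul_comm]
      rw [map_mul, Module.End.mul_apply, h4, ← Module.End.mul_apply, ← map_mul, inv_mul_cancel,
        map_one, Module.End.one_apply]
    rw [hd, zero_smul, add_zero] at h
    rcases smul_eq_zero.1 h with h | h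
    · exact ⟨h, hd⟩
    · exact absurd h hv0
  let j : (Fin 2 → F) → W := fun u => u 0 • v + u 1 • w
  have hj : ∀ u, j u = u 0 • v + u 1 • w := fun u => rfl
  have hjinj : ∀ a b, j a = j b → a = b := by
    intro a b hab
    have h1 : (a 0 - b 0) • v + (a 1 - b 1) • w = 0 := by
      rw [hj, hj] at hab
      have : (a 0 - b 0) • v + (a 1 - b 1) • w = (a 0 • v + a 1 • w) - (b 0 • v + b 1 • w) := by
        module
      rw [this, hab, sub_self]
    obtain ⟨h2, h3⟩ := hindep _ _ h1
    ext i
    fin_cases i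
    · exact sub_eq_zero.1 h2
    · exact sub_eq_zero.1 h3
  let S : Subgroup (G × Matrix.SpecialLinearGroup (Fin 2) F) :=
    { carrier := {p | ∀ u, φ p.1 (j u) = j (p.2.1 *ᵥ u)}
      one_mem' := by
        intro u
        show φ 1 (j u) = j ((1 : Matrix (Fin 2) (Fin 2) F) *ᵥ u)
        rw [map_one, Matrix.one_mulVec, Module.End.one_apply]
      mul_mem' := by
        intro p q hp hq u
        show φ (p.1 * q.1) (j u) = j ((p.2.1 * q.2.1) *ᵥ u)
        rw [map_mul, Module.End.mul_apply, hq u, hp, Matrix.mulVec_mulVec]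
      inv_mem' := by
        intro p hp u
        show φ (p.1)⁻¹ (j u) = j ((p.2⁻¹).1 *ᵥ u)
        have h1 := hp ((p.2⁻¹).1 *ᵥ u)
        rw [Matrix.mulVec_mulVec] at h1
        have h2 : p.2.1 * (p.2⁻¹).1 = 1 := by
          have : p.2 * p.2⁻¹ = 1 := mul_inv_cancel _
          exact congrArg Subtype.val this
        rw [h2, Matrix.one_mulVec] at h1
        rw [← h1, ← Module.End.mul_apply, ← map_mul, inv_mul_cancel, map_one,
          Module.End.one_apply] }
  have hSmem : ∀ p : S, ∀ u, φ p.1.1 (j u) = j (p.1.2.1 *ᵥ u) := fun p => p.2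
  let π : S →* G := (MonoidHom.fst G (Matrix.SpecialLinearGroup (Fin 2) F)).comp S.subtype
  let ρ : S →* Matrix.SpecialLinearGroup (Fin 2) F :=
    (MonoidHom.snd G (Matrix.SpecialLinearGroup (Fin 2) F)).comp S.subtype
  have hπinj : Function.Injective π := by
    intro p q hpq
    have h1 : p.1.1 = q.1.1 := hpq
    have h2 : p.1.2 = q.1.2 := by
      apply Subtype.ext
      apply Matrix.ext_of_mulVec_single
      intro i
      apply hjinj
      rw [← hSmem p, ← hSmem q, h1]
    exact Subtype.ext (Prod.ext h1 h2)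
  have hSfin : Finite S := Finite.of_injective π hπinj
  have hSfree : ∀ g : S, g ≠ 1 → ∀ u : Fin 2 → F, (ρ g).1 *ᵥ u = u → u = 0 := by
    intro g hg u hgu
    have h1 : φ g.1.1 (j u) = j u := by
      rw [hSmem g u]
      exact congrArg j hgu
    have h2 : g.1.1 ≠ 1 := fun h => hg (hπinj (by rw [map_one]; exact h))
    have h3 := hfree _ h2 _ h1
    apply hjinj
    rw [h3, hj]
    simp
  have hll : l * (-1 - l) = 1 := by linear_combination -hl
  let X₀ : Matrix.SpecialLinearGroup (Fin 2) F :=
    ⟨!![l, τ + (-1 - l); 0, -1 - l], by rw [Matrix.det_fin_two_of, hll]; ring⟩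
  let Y₀ : Matrix.SpecialLinearGroup (Fin 2) F :=
    ⟨!![0, -1; 1, -1], by rw [Matrix.det_fin_two_of]; ring⟩
  have hxS : (x, X₀) ∈ S := by
    intro u
    show φ x (j u) = j (!![l, τ + (-1 - l); 0, -1 - l] *ᵥ u)
    rw [hj, hj, map_add, map_smul, map_smul, hxv, hxw]
    simp only [Matrix.mulVec, dotProduct, Fin.sum_univ_two, Matrix.of_apply, Matrix.cons_val_zero,
      Matrix.cons_val_one, Matrix.cons_val', Matrix.cons_val_fin_one]
    module
  have hyS : (y, Y₀) ∈ S := by
    intro u
    show φ y (j u) = j (!![0, -1; 1, -1] *ᵥ u)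
    rw [hj, hj, map_add, map_smul, map_smul, ← hw, hyw]
    simp only [Matrix.mulVec, dotProduct, Fin.sum_univ_two, Matrix.of_apply, Matrix.cons_val_zero,
      Matrix.cons_val_one, Matrix.cons_val', Matrix.cons_val_fin_one]
    module
  let xs : S := ⟨(x, X₀), hxS⟩
  let ys : S := ⟨(y, Y₀), hyS⟩
  have hπx : π xs = x := rfl
  have hπy : π ys = y := rfl
  have hxs : xs ^ 3 = 1 := hπinj (by rw [map_pow, map_one, hπx, hx])
  have hys : ys ^ 3 = 1 := hπinj (by rw [map_pow, map_one, hπy, hy])
  have hxys : xs * ys ≠ ys * xs := by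
    intro h
    apply hxy
    have := congrArg π h
    rwa [map_mul, map_mul, hπx, hπy] at this
  obtain ⟨h2, -, -⟩ := klein_SL2 ρ hSfree hxs hys hxys
  obtain ⟨h3, h4⟩ := trace_mul ρ hSfree hxs hys hxys
  have h5 := order_of_trace h2 hSfree h3 h4
  have h6 : orderOf (x * y) = orderOf (xs * ys) := by
    rw [← orderOf_injective π hπinj (xs * ys), map_mul, hπx, hπy]
  rw [h6]
  exact h5

/-- In a finite fixed-point-free linear group, the product of two elements of order 3 has order
1, 3, 4, 6 or 10. -/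
theorem order_mul_mem {k V : Type*} [Field k] [AddCommGroup V] [Module k V]
    [FiniteDimensional k V] [Nontrivial V] (G : Subgroup (Module.End k V)ˣ) [Finite G]
    (hfree : ∀ g ∈ G, g ≠ 1 → IsUnit ((g : Module.End k V) - 1))
    (x y : (Module.End k V)ˣ) (hx : x ∈ G) (hy : y ∈ G) (hx3 : orderOf x = 3)
    (hy3 : orderOf y = 3) :
    orderOf (x * y) = 1 ∨ orderOf (x * y) = 3 ∨ orderOf (x * y) = 4 ∨ orderOf (x * y) = 6 ∨
      orderOf (x * y) = 10 := by
  classical
  have hx' : x ^ 3 = 1 := by rw [← hx3]; exact pow_orderOf_eq_one x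
  have hy' : y ^ 3 = 1 := by rw [← hy3]; exact pow_orderOf_eq_one y
  by_cases hxy : x * y = y * x
  · have h1 : (x * y) ^ 3 = 1 := by
      rw [(show Commute x y from hxy).mul_pow, hx', hy', one_mul]
    rcases (Nat.dvd_prime Nat.prime_three).1 (orderOf_dvd_of_pow_eq_one h1) with h | h
    · exact Or.inl h
    · exact Or.inr (Or.inl h)
  · right; right
    let F := AlgebraicClosure k
    let W := TensorProduct k F V
    have hfin : FiniteDimensional F W := inferInstance
    have hnt : Nontrivial W := by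
      have h1 : 0 < Module.finrank F W := by
        rw [Module.finrank_baseChange]
        exact Module.finrank_pos
      exact Module.nontrivial_of_finrank_pos h1
    let ψ : Module.End k V →+* Module.End F W := (Module.End.baseChangeHom k F V).toRingHom
    let φ : G →* Module.End F W := (ψ : Module.End k V →* Module.End F W).comp
      ((Units.coeHom (Module.End k V)).comp G.subtype)
    have hφfree : ∀ g : G, g ≠ 1 → ∀ w : W, φ g w = w → w = 0 := by
      intro g hg w hgw
      have h1 : IsUnit (((g : (Module.End k V)ˣ) : Module.End k V) - 1) :=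
        hfree g.1 g.2 (fun h => hg (Subtype.ext h))
      have h2 : IsUnit (φ g - 1) := by
        have h3 := h1.map ψ
        rwa [map_sub, map_one] at h3
      obtain ⟨c, hc⟩ := h2.exists_left_inv
      have h4 : (φ g - 1) w = 0 := by
        rw [LinearMap.sub_apply, hgw, Module.End.one_apply, sub_self]
      calc w = (c * (φ g - 1)) w := by rw [hc, Module.End.one_apply]
        _ = 0 := by rw [Module.End.mul_apply, h4, map_zero]
    have h1 := order_mul_of_algClosed φ hφfree (x := ⟨x, hx⟩) (y := ⟨y, hy⟩)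
      (Subtype.ext hx') (Subtype.ext hy') (fun h => hxy (congrArg Subtype.val h))
    have h2 : orderOf (x * y) = orderOf ((⟨x, hx⟩ : G) * ⟨y, hy⟩) := by
      rw [← Subgroup.orderOf_coe]
      rfl
    rw [h2]
    exact h1

end Cfsg.Agent.PermutationGroups.ZassKlein
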