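import Mathlib
import Cfsg.Agent.S0016
import Cfsg.Agent.S0106
import Cfsg.Agent.S0589
import Cfsg.Agent.Lib.AbelianFrobenius
import Cfsg.Agent.Solvable.FixedPointFree
import Cfsg.Agent.Solvable.FpfPGroup

/-!
Reduction steps for the theorem of Zassenhaus on perfect groups of fixed-point-free automorphisms.

* `exists_sylow_invariant`: a finite group of fixed-point-free automorphisms of a finite group `K`
  leaves invariant some Sylow `p`-subgroup of `K`.
* `exists_rep`: it has a faithful fixed-point-free linear representation over a prime field.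
* `sylow_cyclic_or_quaternion`: its Sylow subgroups are cyclic or generalized quaternion.
* if it is perfect and nontrivial, its Sylow 2-subgroups are quaternion and `3` divides its order.
-/

set_option autoImplicit false
set_option linter.style.haveILetI false

namespace Cfsg.Agent.PermutationGroups.ZassReduction

open scoped Pointwise

universe u

/-- A finite group acting so that each nonidentity element has exactly one fixed point has
`|X| ≡ 1` modulo the order of the group. -/
theorem card_modEq_one {L X : Type*} [Group L] [MulAction L X] [Finite L] [Finite X]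
    (h : ∀ l : L, l ≠ 1 → ∃ x : X, l • x = x ∧ ∀ y : X, l • y = y → y = x) :
    Nat.card X ≡ 1 [MOD Nat.card L] := by
  classical
  have := Fintype.ofFinite L
  have := Fintype.ofFinite X
  have hfix : ∀ l : L, l ≠ 1 → Fintype.card (MulAction.fixedBy X l) = 1 := by
    intro l hl
    obtain ⟨x, hx, hux⟩ := h l hl
    rw [Fintype.card_eq_one_iff]
    exact ⟨⟨x, hx⟩, fun y => Subtype.ext (hux y y.2)⟩
  have hB := MulAction.sum_card_fixedBy_eq_card_orbits_mul_card_group L X
  set r := Fintype.card (Quotient (MulAction.orbitRel L X)) with hr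
  rw [← Finset.add_sum_erase Finset.univ _ (Finset.mem_univ (1 : L))] at hB
  have h1 : Fintype.card (MulAction.fixedBy X (1 : L)) = Fintype.card X := by
    apply Fintype.card_congr
    refine (Equiv.setCongr ?_).trans (Equiv.Set.univ X)
    ext x
    simp
  have h2 : ∑ x ∈ Finset.univ.erase (1 : L), Fintype.card (MulAction.fixedBy X x) =
      Fintype.card L - 1 := by
    rw [Finset.sum_congr rfl (fun l hl => hfix l (Finset.ne_of_mem_erase hl)),
      Finset.sum_const, smul_eq_mul, mul_one, Finset.card_erase_of_mem (Finset.mem_univ _),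
      Finset.card_univ]
  rw [h1, h2] at hB
  have hpos : 0 < Fintype.card L := Fintype.card_pos
  rw [Nat.card_eq_fintype_card, Nat.card_eq_fintype_card]
  have h3 : Fintype.card X + Fintype.card L = 1 + r * Fintype.card L := by omega
  have h4 : Fintype.card X + Fintype.card L ≡ 1 + r * Fintype.card L [MOD Fintype.card L] := by
    rw [h3]
  have h5 : Fintype.card X + Fintype.card L ≡ Fintype.card X [MOD Fintype.card L] := by
    simp [Nat.ModEq]
  have h6 : 1 + r * Fintype.card L ≡ 1 [MOD Fintype.card L] := by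
    simp [Nat.ModEq]
  exact (h5.symm.trans h4).trans h6

/-- A finite group of fixed-point-free automorphisms leaves invariant a Sylow `p`-subgroup. -/
theorem exists_sylow_invariant {K : Type*} [Group K] [Finite K] (G : Subgroup (MulAut K))
    (hfpf : ∀ φ ∈ G, φ ≠ 1 → ∀ k : K, φ k = k → k = 1) (p : ℕ) [Fact p.Prime] :
    ∃ P : Sylow p K, ∀ φ ∈ G, φ • P = P := by
  have hone : ∀ l : G, l ≠ 1 → ∃ x : Sylow p K, l • x = x ∧ ∀ y : Sylow p K, l • y = y → y = x := by
    intro l hl
    have hl1 : (l : MulAut K) ≠ 1 := by simpa using hl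
    obtain ⟨P, hP⟩ := Cfsg.Agent.Lib.AbelianFrobenius.exists_sylow_smul_eq (p := p) (l : MulAut K)
      (hfpf l l.2 hl1)
    refine ⟨P, hP, fun Q hQ => ?_⟩
    exact Cfsg.Agent.Lib.AbelianFrobenius.sylow_eq_of_smul_eq (l : MulAut K)
      (hfpf l l.2 hl1) hQ hP
  obtain ⟨P, hP⟩ := Cfsg.Agent.S0589.exists_fixed_point_of_fixedBy_subsingleton
    (L := G) (X := Sylow p K) (fun l hl x y hx hy => by
      obtain ⟨z, hz, hzu⟩ := hone l hl
      rw [hzu x hx, hzu y hy]) (card_modEq_one hone)
  exact ⟨P, fun φ hφ => hP ⟨φ, hφ⟩⟩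

/-- The elements of exponent `p` in the centre of a subgroup. -/
def omegaCenter {K : Type*} [Group K] (p : ℕ) (P : Subgroup K) : Subgroup K where
  carrier := {x | x ∈ P ∧ (∀ y ∈ P, x * y = y * x) ∧ x ^ p = 1}
  one_mem' := ⟨P.one_mem, fun y _ => by rw [one_mul, mul_one], one_pow p⟩
  mul_mem' := by
    rintro a b ⟨ha, hac, hap⟩ ⟨hb, hbc, hbp⟩
    refine ⟨P.mul_mem ha hb, fun y hy => ?_, ?_⟩
    · rw [mul_assoc, hbc y hy, ← mul_assoc, hac y hy, mul_assoc]
    · have : Commute a b := hac b hb
      rw [this.mul_pow, hap, hbp, one_mul]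
  inv_mem' := by
    rintro a ⟨ha, hac, hap⟩
    refine ⟨P.inv_mem ha, fun y hy => ?_, by rw [inv_pow, hap, inv_one]⟩
    have : Commute a y := hac y hy
    exact this.inv_left

theorem mem_omegaCenter {K : Type*} [Group K] {p : ℕ} {P : Subgroup K} {x : K} :
    x ∈ omegaCenter p P ↔ x ∈ P ∧ (∀ y ∈ P, x * y = y * x) ∧ x ^ p = 1 := Iff.rfl

theorem map_mem_omegaCenter {K : Type*} [Group K] {p : ℕ} {P : Subgroup K} (φ : MulAut K)
    (h : ∀ x, φ x ∈ P ↔ x ∈ P) {x : K} (hx : x ∈ omegaCenter p P) : φ x ∈ omegaCenter p P := by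
  obtain ⟨h1, h2, h3⟩ := mem_omegaCenter.1 hx
  refine mem_omegaCenter.2 ⟨(h x).2 h1, fun y hy => ?_, by rw [← map_pow, h3, map_one]⟩
  have h4 : φ (φ⁻¹ y) = y := by
    rw [← MulAut.mul_apply, mul_inv_cancel, MulAut.one_apply]
  have h5 : φ⁻¹ y ∈ P := by
    rw [← h, h4]; exact hy
  rw [← h4, ← map_mul, ← map_mul, h2 _ h5]

theorem omegaCenter_ne_bot {K : Type*} [Group K] [Finite K] {p : ℕ} [hp : Fact p.Prime]
    {P : Subgroup K} (hP : IsPGroup p P) (hP1 : P ≠ ⊥) : omegaCenter p P ≠ ⊥ := by
  haveI : Nontrivial P := (Subgroup.nontrivial_iff_ne_bot P).2 hP1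
  haveI := hP.center_nontrivial
  obtain ⟨n, hn, hn'⟩ := (IsPGroup.nontrivial_iff_card (hP.to_subgroup (Subgroup.center P))).1 this
  obtain ⟨z, hz⟩ := exists_prime_orderOf_dvd_card' (G := Subgroup.center P) p
    (by rw [hn']; exact dvd_pow_self p hn.ne')
  have hzp : z ^ p = 1 := by rw [← hz]; exact pow_orderOf_eq_one z
  have hz1 : z ≠ 1 := by
    rintro rfl
    rw [orderOf_one] at hz
    exact hp.out.one_lt.ne hz
  intro hbot
  have hmem : (((z : P) : K)) ∈ omegaCenter p P := by
    refine mem_omegaCenter.2 ⟨(z : P).2, fun y hy => ?_, ?_⟩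
    · exact (congrArg Subtype.val (Subgroup.mem_center_iff.1 z.2 ⟨y, hy⟩)).symm
    · have := congrArg (fun w : Subgroup.center P => ((w : P) : K)) hzp
      simpa using this
  rw [hbot, Subgroup.mem_bot] at hmem
  exact hz1 (Subtype.ext (Subtype.ext hmem))

/-- A fixed-point-free action on an elementary abelian `p`-group is a fixed-point-free linear
representation. -/
theorem exists_rep_of_comm {G : Type*} {V : Type u} [Group G] [AddCommGroup V] [Finite V]
    (p : ℕ) [Fact p.Prime] (hexp : ∀ v : V, p • v = 0) (φ : G →* AddMonoid.End V)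
    (h : ∀ g : G, g ≠ 1 → ∀ v : V, φ g v = v → v = 0) :
    ∃ (_ : Module (ZMod p) V) (ρ : G →* (Module.End (ZMod p) V)ˣ),
      (∀ g v, (ρ g : Module.End (ZMod p) V) v = φ g v) ∧
      ∀ g : G, g ≠ 1 → IsUnit ((ρ g : Module.End (ZMod p) V) - 1) := by
  obtain ⟨hM⟩ : Nonempty (Module (ZMod p) V) := ⟨AddCommGroup.zmodModule hexp⟩
  let f : G →* Module.End (ZMod p) V :=
    { toFun := fun g => AddMonoidHom.toZModLinearMap p (φ g : V →+ V)
      map_one' := LinearMap.ext fun v => by
        change φ 1 v = v
        rw [map_one]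
        rfl
      map_mul' := fun a b => LinearMap.ext fun v => by
        change φ (a * b) v = φ a (φ b v)
        rw [map_mul]
        rfl }
  refine ⟨hM, f.toHomUnits, fun g v => rfl, ?_⟩
  intro g hg
  have hinj : Function.Injective ((f g - 1 : Module.End (ZMod p) V)) := by
    rw [injective_iff_map_eq_zero]
    intro v hv
    have h1 : f g v = v := by
      rw [LinearMap.sub_apply, Module.End.one_apply, sub_eq_zero] at hv
      exact hv
    exact h g hg v h1
  rw [MonoidHom.coe_toHomUnits, Module.End.isUnit_iff]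
  exact Finite.injective_iff_bijective.1 hinj

/-- Restriction of a group of automorphisms to an invariant subgroup. -/
def restrictAut {K : Type*} [Group K] (G : Subgroup (MulAut K)) (W : Subgroup K)
    (hW : ∀ φ ∈ G, ∀ x ∈ W, φ x ∈ W) : G →* MulAut W where
  toFun g :=
    { toFun := fun w => ⟨(g : MulAut K) w, hW g g.2 w w.2⟩
      invFun := fun w => ⟨((g⁻¹ : G) : MulAut K) w, hW _ (g⁻¹).2 w w.2⟩
      left_inv := fun w => Subtype.ext (by
        change ((g⁻¹ : G) : MulAut K) ((g : MulAut K) w) = w
        rw [← MulAut.mul_apply, ← Subgroup.coe_mul, inv_mul_cancel]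
        rfl)
      right_inv := fun w => Subtype.ext (by
        change (g : MulAut K) (((g⁻¹ : G) : MulAut K) w) = w
        rw [← MulAut.mul_apply, ← Subgroup.coe_mul, mul_inv_cancel]
        rfl)
      map_mul' := fun a b => Subtype.ext (map_mul _ _ _) }
  map_one' := rfl
  map_mul' a b := rfl

theorem restrictAut_apply {K : Type*} [Group K] (G : Subgroup (MulAut K)) (W : Subgroup K)
    (hW : ∀ φ ∈ G, ∀ x ∈ W, φ x ∈ W) (g : G) (w : W) :
    ((restrictAut G W hW g w : W) : K) = (g : MulAut K) w := rfl

/-- A nontrivial group of fixed-point-free automorphisms of a finite group acts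
fixed-point-freely on a nontrivial elementary abelian `p`-subgroup. -/
theorem exists_elementary {K : Type u} [Group K] [Finite K] (G : Subgroup (MulAut K))
    (hfpf : ∀ φ ∈ G, φ ≠ 1 → ∀ k : K, φ k = k → k = 1) (hne : G ≠ ⊥) :
    ∃ (p : ℕ) (_ : Fact p.Prime) (W : Type u) (_ : CommGroup W) (_ : Finite W) (_ : Nontrivial W)
      (φ : G →* MulAut W), (∀ w : W, w ^ p = 1) ∧
      ∀ g : G, g ≠ 1 → ∀ w : W, φ g w = w → w = 1 := by
  have hK : Nat.card K ≠ 1 := by
    intro h
    apply hne
    rw [Subgroup.eq_bot_iff_forall]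
    intro φ _
    have : Subsingleton K := (Nat.card_eq_one_iff_unique.1 h).1
    ext k
    exact Subsingleton.elim _ _
  obtain ⟨p, hp, hpK⟩ := Nat.exists_prime_and_dvd hK
  haveI : Fact p.Prime := ⟨hp⟩
  obtain ⟨P, hP⟩ := exists_sylow_invariant G hfpf p
  have hPmem : ∀ φ ∈ G, ∀ x, φ x ∈ (P : Subgroup K) ↔ x ∈ (P : Subgroup K) := by
    intro φ hφ x
    have h1 : (φ • (P : Subgroup K) : Subgroup K) = P := by
      rw [← Sylow.pointwise_smul_def, hP φ hφ]
    constructor
    · intro h
      rw [← h1] at h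
      have := (Subgroup.smul_mem_pointwise_smul_iff (a := φ) (S := (P : Subgroup K)) (x := x)).1 h
      exact this
    · intro h
      have := Subgroup.smul_mem_pointwise_smul x φ (P : Subgroup K) h
      rw [h1] at this
      exact this
  let W : Subgroup K := omegaCenter p (P : Subgroup K)
  have hW : W ≠ ⊥ := omegaCenter_ne_bot P.2 (Sylow.ne_bot_of_dvd_card P hpK)
  have hWcomm : ∀ a b : W, a * b = b * a := fun a b =>
    Subtype.ext (((mem_omegaCenter.1 a.2).2.1) b (mem_omegaCenter.1 b.2).1)
  have hWmem : ∀ φ ∈ G, ∀ x ∈ W, φ x ∈ W := fun φ hφ x hx =>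
    map_mem_omegaCenter φ (hPmem φ hφ) hx
  refine ⟨p, inferInstance, W, { (inferInstance : Group W) with mul_comm := hWcomm },
    inferInstance, (Subgroup.nontrivial_iff_ne_bot W).2 hW, restrictAut G W hWmem,
    fun w => Subtype.ext (mem_omegaCenter.1 w.2).2.2, ?_⟩
  intro g hg w hw
  have hg1 : (g : MulAut K) ≠ 1 := by simpa using hg
  have h2 : (g : MulAut K) (w : K) = (w : K) := by
    rw [← restrictAut_apply G W hWmem, hw]
  exact Subtype.ext (hfpf g g.2 hg1 _ h2)

/-- A group of fixed-point-free automorphisms of a finite group has a fixed-point-free linear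
representation over a prime field. -/
theorem exists_rep {K : Type u} [Group K] [Finite K] (G : Subgroup (MulAut K))
    (hfpf : ∀ φ ∈ G, φ ≠ 1 → ∀ k : K, φ k = k → k = 1) (hne : G ≠ ⊥) :
    ∃ (p : ℕ) (_ : Fact p.Prime) (V : Type u) (_ : AddCommGroup V) (_ : Module (ZMod p) V)
      (_ : Finite V) (_ : Nontrivial V) (ρ : G →* (Module.End (ZMod p) V)ˣ),
      ∀ g : G, g ≠ 1 → IsUnit ((ρ g : Module.End (ZMod p) V) - 1) := by
  obtain ⟨p, hp, W, hW1, hW2, hW3, φ, hexp, h⟩ := exists_elementary G hfpf hne
  let ψ : G →* AddMonoid.End (Additive W) :=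
    { toFun := fun a => MonoidHom.toAdditive (φ a).toMonoidHom
      map_one' := by
        ext v
        rw [map_one]
        rfl
      map_mul' := fun a b => by
        ext v
        rw [map_mul]
        rfl }
  obtain ⟨hM, ρ, -, hρ⟩ := exists_rep_of_comm (V := Additive W) p (fun v => hexp v.toMul) ψ
    (fun g hg v hv => h g hg v.toMul hv)
  exact ⟨p, hp, Additive W, inferInstance, hM, inferInstance, inferInstance, ρ, hρ⟩

/-- Commuting elements of the same prime order generate the same subgroup in a group with a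
fixed-point-free action on a nontrivial abelian group. -/
theorem zpowers_eq {G V : Type*} [Group G] [Finite G] [CommGroup V] [Nontrivial V]
    (φ : G →* MulAut V) (h : ∀ g : G, g ≠ 1 → ∀ v : V, φ g v = v → v = 1) {q : ℕ} (hq : q.Prime)
    {x z : G} (hxz : x * z = z * x) (hx : orderOf x = q) (hz : orderOf z = q) :
    Subgroup.zpowers x = Subgroup.zpowers z := by
  set E := Subgroup.closure {x, z} with hE
  have hcomm : ∀ a ∈ E, ∀ b ∈ E, a * b = b * a := by
    have : IsMulCommutative E := by
      refine Subgroup.isMulCommutative_closure ?_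
      rintro a (rfl | rfl) b (rfl | rfl)
      · rfl
      · exact hxz
      · exact hxz.symm
      · rfl
    intro a ha b hb
    exact congrArg Subtype.val (isMulCommutative_iff.1 this ⟨a, ha⟩ ⟨b, hb⟩)
  have hexp : ∀ a ∈ E, a ^ q = 1 := by
    intro a ha
    induction ha using Subgroup.closure_induction with
    | mem y hy =>
      rcases hy with rfl | rfl
      · rw [← hx]; exact pow_orderOf_eq_one _
      · rw [← hz]; exact pow_orderOf_eq_one _
    | one => exact one_pow _
    | mul a b ha hb iha ihb =>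
      have : Commute a b := hcomm a ha b hb
      rw [this.mul_pow, iha, ihb, one_mul]
    | inv a ha iha => rw [inv_pow, iha, inv_one]
  have hcyc : IsCyclic E := by
    refine Cfsg.Agent.Solvable.FixedPointFree.isCyclic_of_comm' (V := V)
      (fun a b => Subtype.ext (hcomm a a.2 b b.2)) (φ.comp E.subtype) ?_
    intro a ha v hv
    exact h a (by simpa using ha) v hv
  have hcard : Nat.card E ≤ q := by
    obtain ⟨g, hg⟩ := hcyc.exists_generator
    rw [← orderOf_eq_card_of_forall_mem_zpowers hg]
    exact Nat.le_of_dvd hq.pos (orderOf_dvd_of_pow_eq_one (Subtype.ext (hexp g g.2)))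
  have h1 : ∀ y : G, y ∈ E → orderOf y = q → Subgroup.zpowers y = E := by
    intro y hy hyp
    refine Subgroup.eq_of_le_of_card_ge ?_ ?_
    · rwa [Subgroup.zpowers_le]
    · rw [Nat.card_zpowers, hyp]; exact hcard
  rw [h1 x (Subgroup.subset_closure (by simp)) hx, h1 z (Subgroup.subset_closure (by simp)) hz]

/-- Sylow subgroups of a group acting fixed-point-freely on a nontrivial abelian group are cyclic
or generalized quaternion. -/
theorem sylow_cyclic_or_quaternion {G V : Type*} [Group G] [Finite G] [CommGroup V] [Nontrivial V]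
    (φ : G →* MulAut V) (h : ∀ g : G, g ≠ 1 → ∀ v : V, φ g v = v → v = 1) (q : ℕ)
    [hq : Fact q.Prime] (S : Sylow q G) :
    IsCyclic S ∨ (q = 2 ∧ ∃ n : ℕ, 1 ≤ n ∧ Nonempty (S ≃* QuaternionGroup (2 ^ n))) := by
  rcases Cfsg.Agent.S0016.result q S.2 (fun H K hH hK =>
      Cfsg.Agent.Solvable.FpfPGroup.eq_of_card_eq hq.out S.2 (fun x z hxz hx hz => by
        have h1 : Subgroup.zpowers (x : G) = Subgroup.zpowers (z : G) :=
          zpowers_eq φ h hq.out (congrArg Subtype.val hxz)
            (by rw [Subgroup.orderOf_coe, hx]) (by rw [Subgroup.orderOf_coe, hz])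
        have h2 : (Subgroup.zpowers x).map (S : Subgroup G).subtype =
            (Subgroup.zpowers z).map (S : Subgroup G).subtype := by
          rw [MonoidHom.map_zpowers, MonoidHom.map_zpowers]
          exact h1
        exact Subgroup.map_injective (S : Subgroup G).subtype_injective h2) H K hH hK) with
    hc | ⟨h2, n, ⟨e⟩⟩
  · exact Or.inl hc
  · rcases Nat.eq_zero_or_pos n with rfl | hn
    · left
      haveI : IsCyclic (QuaternionGroup 1) := QuaternionGroup.quaternionGroup_one_isCyclic
      have e' : S ≃* QuaternionGroup 1 := e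
      exact isCyclic_of_surjective e'.symm e'.symm.surjective
    · exact Or.inr ⟨h2, n, hn, ⟨e⟩⟩

/-- A nontrivial finite perfect group is not solvable. -/
theorem not_isSolvable {G : Type*} [Group G] [Nontrivial G] (hperf : commutator G = ⊤) :
    ¬ Group.IsSolvable G := by
  intro hs
  have := Group.IsSolvable.commutator_lt_top_of_nontrivial G
  exact this.ne hperf

/-- In a nontrivial finite perfect group with Sylow subgroups cyclic or quaternion, the Sylow
2-subgroups are quaternion. -/
theorem exists_quaternion {G : Type*} [Group G] [Finite G] [Nontrivial G]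
    (hperf : commutator G = ⊤)
    (hS : ∀ (q : ℕ) [Fact q.Prime] (S : Sylow q G),
      IsCyclic S ∨ (q = 2 ∧ ∃ n : ℕ, 1 ≤ n ∧ Nonempty (S ≃* QuaternionGroup (2 ^ n))))
    (S : Sylow 2 G) : ∃ n : ℕ, 1 ≤ n ∧ Nonempty (S ≃* QuaternionGroup (2 ^ n)) := by
  rcases hS 2 S with hc | ⟨-, h⟩
  · exfalso
    have : IsZGroup G := by
      refine ⟨fun q hq T => ?_⟩
      haveI : Fact q.Prime := ⟨hq⟩
      rcases hS q T with h1 | ⟨rfl, h1⟩
      · exact h1
      · exact isCyclic_of_surjective (T.equiv S).symm (T.equiv S).symm.surjective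
    exact not_isSolvable hperf inferInstance
  · exact h

/-- `3` divides the order of a nontrivial finite perfect group with quaternion Sylow
2-subgroups. -/
theorem three_dvd_card {G : Type*} [Group G] [Finite G] [Nontrivial G]
    (hperf : commutator G = ⊤) (S : Sylow 2 G) {n : ℕ} (hn : 1 ≤ n)
    (hS : Nonempty (S ≃* QuaternionGroup (2 ^ n))) : 3 ∣ Nat.card G := by
  rcases Cfsg.Agent.S0106.result S n hn hS with ⟨P, N, hN, hNP⟩ | ⟨H, L, hL, ⟨e⟩⟩
  · exfalso
    -- `G / N` is a nontrivial 2-group and perfect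
    have hcard : Nat.card N * Nat.card P = Nat.card G := hNP.card_mul_card
    have hindex : N.index = Nat.card P := by
      have h1 := N.card_mul_index
      rw [← hcard] at h1
      exact Nat.eq_of_mul_eq_mul_left Nat.card_pos h1
    have hP : Nat.card P = Nat.card (QuaternionGroup (2 ^ n)) := by
      obtain ⟨e⟩ := hS
      rw [← Nat.card_congr e.toEquiv]
      exact Nat.card_congr (P.equiv S).toEquiv
    have hPn : Nat.card (QuaternionGroup (2 ^ n)) = 2 ^ (n + 2) := by
      haveI : NeZero (2 ^ n) := ⟨by positivity⟩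
      rw [Nat.card_eq_fintype_card, QuaternionGroup.card]
      ring
    have hq : IsPGroup 2 (G ⧸ N) := by
      apply IsPGroup.of_card (n := n + 2)
      rw [← Subgroup.index_eq_card, hindex, hP, hPn]
    haveI : Nontrivial (G ⧸ N) := by
      rw [← Finite.one_lt_card_iff_nontrivial, ← Subgroup.index_eq_card, hindex, hP, hPn]
      exact Nat.one_lt_pow (by omega) (by norm_num)
    have hperf' : commutator (G ⧸ N) = ⊤ := by
      have h1 := Subgroup.map_commutator (⊤ : Subgroup G) ⊤ (QuotientGroup.mk' N)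
      rw [Subgroup.map_top_of_surjective _ (QuotientGroup.mk'_surjective N)] at h1
      rw [commutator_def, ← h1, ← commutator_def, hperf,
        Subgroup.map_top_of_surjective _ (QuotientGroup.mk'_surjective N)]
    haveI := hq.isNilpotent
    exact not_isSolvable hperf' inferInstance
  · have h1 : Nat.card (H ⧸ L.subgroupOf H) ∣ Nat.card G :=
      (Subgroup.card_quotient_dvd_card _).trans (Subgroup.card_subgroup_dvd_card H)
    rw [Nat.card_congr e.toEquiv] at h1
    refine Dvd.dvd.trans ?_ h1
    let t : Matrix.SpecialLinearGroup (Fin 2) (ZMod 3) :=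
      ⟨!![1, 1; 0, 1], by simp [Matrix.det_fin_two]⟩
    have h3 : orderOf t = 3 := by
      haveI : Fact (Nat.Prime 3) := ⟨by norm_num⟩
      apply orderOf_eq_prime
      · decide +kernel
      · intro h
        have h4 := congrArg (fun M : Matrix.SpecialLinearGroup (Fin 2) (ZMod 3) => M.1 0 1) h
        exact absurd h4 (by decide)
    have h5 := orderOf_dvd_natCard t
    rwa [h3] at h5

/-- A finite group of linear maps, with `g - 1` invertible for `g ≠ 1`, on a nontrivial finite
`p`-group has order prime to `p`. -/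
theorem not_dvd_card_of_free {p : ℕ} [hp : Fact p.Prime] {V : Type*} [AddCommGroup V]
    [Module (ZMod p) V] [Finite V] [Nontrivial V] (H : Subgroup (Module.End (ZMod p) V)ˣ)
    [Finite H] (hfree : ∀ g ∈ H, g ≠ 1 → IsUnit ((g : Module.End (ZMod p) V) - 1)) :
    ¬ p ∣ Nat.card H := by
  intro hdvd
  obtain ⟨g, hg⟩ := exists_prime_orderOf_dvd_card' (G := H) p hdvd
  have hg1 : (g : (Module.End (ZMod p) V)ˣ) ≠ 1 := by
    intro h
    have : g = 1 := Subtype.ext h
    rw [this, orderOf_one] at hg
    exact hp.out.one_lt.ne hg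
  have hgp : ((g : (Module.End (ZMod p) V)ˣ) : Module.End (ZMod p) V) ^ p = 1 := by
    have h1 : g ^ p = 1 := orderOf_dvd_iff_pow_eq_one.1 (dvd_of_eq hg)
    have h2 := congrArg (fun x : H => ((x : (Module.End (ZMod p) V)ˣ) : Module.End (ZMod p) V)) h1
    simpa using h2
  have hunit := (hfree g g.2 hg1).pow p
  have hchar : CharP (Module.End (ZMod p) V) p :=
    charP_of_injective_algebraMap (algebraMap (ZMod p) (Module.End (ZMod p) V)).injective p
  have h0 : (((g : (Module.End (ZMod p) V)ˣ) : Module.End (ZMod p) V) - 1) ^ p = 0 := by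
    rw [sub_pow_char_of_commute p (Commute.one_right _), one_pow, hgp, sub_self]
  rw [h0] at hunit
  exact not_isUnit_zero hunit

/-- The full package: a nontrivial perfect group of fixed-point-free automorphisms. -/
theorem package {K : Type u} [Group K] [Finite K] (G : Subgroup (MulAut K))
    (hfpf : ∀ φ ∈ G, φ ≠ 1 → ∀ k : K, φ k = k → k = 1) (hperf : commutator G = ⊤)
    (hne : G ≠ ⊥) :
    ∃ (p : ℕ) (_ : Fact p.Prime) (V : Type u) (_ : AddCommGroup V) (_ : Module (ZMod p) V)
      (_ : Finite V) (_ : Nontrivial V) (H : Subgroup (Module.End (ZMod p) V)ˣ),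
      Nonempty (G ≃* H) ∧ Finite H ∧ Nontrivial H ∧ commutator H = ⊤ ∧
      (∀ g ∈ H, g ≠ 1 → IsUnit ((g : Module.End (ZMod p) V) - 1)) ∧
      (∀ n : ℕ, n.Prime → n ∣ Nat.card H → IsUnit (n : Module.End (ZMod p) V)) ∧
      (-1 : (Module.End (ZMod p) V)ˣ) ∈ H ∧
      (∀ (q : ℕ) [Fact q.Prime] (S : Sylow q H),
        IsCyclic S ∨ (q = 2 ∧ ∃ n : ℕ, 1 ≤ n ∧ Nonempty (S ≃* QuaternionGroup (2 ^ n)))) ∧
      (∀ S : Sylow 2 H, ∃ n : ℕ, 1 ≤ n ∧ Nonempty (S ≃* QuaternionGroup (2 ^ n))) ∧
      2 ∣ Nat.card H ∧ 3 ∣ Nat.card H := by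
  obtain ⟨p, hp, V, hV1, hV2, hV3, hV4, ρ, hρ⟩ := exists_rep G hfpf hne
  haveI : Nontrivial (Module.End (ZMod p) V) := by
    refine ⟨⟨0, 1, fun h => ?_⟩⟩
    obtain ⟨v, hv⟩ := exists_ne (0 : V)
    exact hv (LinearMap.congr_fun h v).symm
  have hinj : Function.Injective ρ := by
    rw [injective_iff_map_eq_one]
    intro g hg
    by_contra hne
    have h1 := hρ g hne
    rw [hg, Units.val_one, sub_self] at h1
    exact not_isUnit_zero h1
  let e : G ≃* ρ.range := MonoidHom.ofInjective hinj
  haveI : Finite ρ.range := Finite.of_equiv G e.toEquiv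
  haveI : Nontrivial G := (Subgroup.nontrivial_iff_ne_bot G).2 hne
  haveI : Nontrivial ρ.range := e.symm.toEquiv.nontrivial
  have hperf' : commutator ρ.range = ⊤ := by
    have h1 := Subgroup.map_commutator (⊤ : Subgroup G) ⊤ e.toMonoidHom
    have h2 : (⊤ : Subgroup G).map e.toMonoidHom = ⊤ :=
      Subgroup.map_top_of_surjective _ e.surjective
    rw [h2] at h1
    rw [commutator_def, ← h1, ← commutator_def, hperf, h2]
  have hfree : ∀ g ∈ ρ.range, g ≠ 1 → IsUnit ((g : Module.End (ZMod p) V) - 1) := by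
    rintro _ ⟨g, rfl⟩ hg
    exact hρ g (fun h => hg (by rw [h, map_one]))
  -- multiplicative version of the action
  let φ : ρ.range →* MulAut (Multiplicative V) :=
    { toFun := fun g =>
        { toFun := fun v => Multiplicative.ofAdd (((g : (Module.End (ZMod p) V)ˣ) :
            Module.End (ZMod p) V) v.toAdd)
          invFun := fun v => Multiplicative.ofAdd ((((g⁻¹ : ρ.range) : (Module.End (ZMod p) V)ˣ) :
            Module.End (ZMod p) V) v.toAdd)
          left_inv := fun v => by
            apply Multiplicative.toAdd.injective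
            change (((g⁻¹ : ρ.range) : (Module.End (ZMod p) V)ˣ) : Module.End (ZMod p) V)
              (((g : (Module.End (ZMod p) V)ˣ) : Module.End (ZMod p) V) v.toAdd) = v.toAdd
            rw [← Module.End.mul_apply, ← Units.val_mul, ← Subgroup.coe_mul, inv_mul_cancel]
            rfl
          right_inv := fun v => by
            apply Multiplicative.toAdd.injective
            change ((g : (Module.End (ZMod p) V)ˣ) : Module.End (ZMod p) V)
              ((((g⁻¹ : ρ.range) : (Module.End (ZMod p) V)ˣ) : Module.End (ZMod p) V) v.toAdd)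
                = v.toAdd
            rw [← Module.End.mul_apply, ← Units.val_mul, ← Subgroup.coe_mul, mul_inv_cancel]
            rfl
          map_mul' := fun v w => by
            apply Multiplicative.toAdd.injective
            change ((g : (Module.End (ZMod p) V)ˣ) : Module.End (ZMod p) V)
              (v.toAdd + w.toAdd) = _
            rw [map_add]
            rfl }
      map_one' := by
        ext v
        rfl
      map_mul' := fun a b => by
        ext v
        rfl }
  have hφ : ∀ g : ρ.range, g ≠ 1 → ∀ v : Multiplicative V, φ g v = v → v = 1 := by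
    intro g hg v hv
    have hg1 : (g : (Module.End (ZMod p) V)ˣ) ≠ 1 := by simpa using hg
    have h1 : ((g : (Module.End (ZMod p) V)ˣ) : Module.End (ZMod p) V) v.toAdd = v.toAdd := hv
    have h2 : (((g : (Module.End (ZMod p) V)ˣ) : Module.End (ZMod p) V) - 1) v.toAdd = 0 := by
      rw [LinearMap.sub_apply, h1, Module.End.one_apply, sub_self]
    have h3 := hfree g g.2 hg1
    rw [Module.End.isUnit_iff] at h3
    have h4 : v.toAdd = 0 := h3.1 (by rw [h2, map_zero])
    exact Multiplicative.toAdd.injective h4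
  have hS := fun (q : ℕ) [Fact q.Prime] (S : Sylow q ρ.range) =>
    sylow_cyclic_or_quaternion φ hφ q S
  have hS2 : ∀ S : Sylow 2 ρ.range, ∃ n : ℕ, 1 ≤ n ∧ Nonempty (S ≃* QuaternionGroup (2 ^ n)) :=
    fun S => exists_quaternion hperf' hS S
  obtain ⟨S⟩ : Nonempty (Sylow 2 ρ.range) := inferInstance
  obtain ⟨n, hn, hSn⟩ := hS2 S
  have h3 : 3 ∣ Nat.card ρ.range := three_dvd_card hperf' S hn hSn
  have h2 : 2 ∣ Nat.card ρ.range := by
    obtain ⟨e'⟩ := hSn
    have h1 : Nat.card S ∣ Nat.card ρ.range := Subgroup.card_subgroup_dvd_card _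
    refine Dvd.dvd.trans ?_ h1
    haveI : NeZero (2 ^ n) := ⟨by positivity⟩
    rw [Nat.card_congr e'.toEquiv, Nat.card_eq_fintype_card, QuaternionGroup.card]
    exact ⟨2 * 2 ^ n, by ring⟩
  have hnd := not_dvd_card_of_free ρ.range hfree
  refine ⟨p, hp, V, hV1, hV2, hV3, hV4, ρ.range, ⟨e⟩, inferInstance, inferInstance, hperf', hfree,
    ?_, ?_, hS, hS2, h2, h3⟩
  · intro m hm hmc
    have hmp : m ≠ p := by
      rintro rfl
      exact hnd hmc
    have h1 : ((m : ℕ) : ZMod p) ≠ 0 := by
      intro h0
      rw [ZMod.natCast_eq_zero_iff] at h0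
      exact hmp ((Nat.prime_dvd_prime_iff_eq hp.out hm).1 h0).symm
    have h4 := (IsUnit.mk0 _ h1).map (algebraMap (ZMod p) (Module.End (ZMod p) V))
    rwa [map_natCast] at h4
  · obtain ⟨z, hz⟩ := exists_prime_orderOf_dvd_card' (G := ρ.range) 2 h2
    have hz1 : (z : (Module.End (ZMod p) V)ˣ) ≠ 1 := by
      intro h
      have : z = 1 := Subtype.ext h
      rw [this, orderOf_one] at hz
      omega
    have hz2 : z ^ 2 = 1 := by rw [← hz]; exact pow_orderOf_eq_one z
    have hz3 : ((z : (Module.End (ZMod p) V)ˣ) : Module.End (ZMod p) V) ^ 2 = 1 := by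
      have h4 := congrArg (fun x : ρ.range => ((x : (Module.End (ZMod p) V)ˣ) :
        Module.End (ZMod p) V)) hz2
      simpa using h4
    have h5 : ((z : (Module.End (ZMod p) V)ˣ) : Module.End (ZMod p) V) + 1 = 0 := by
      have h6 := hfree z z.2 hz1
      have h7 : (((z : (Module.End (ZMod p) V)ˣ) : Module.End (ZMod p) V) - 1) *
          (((z : (Module.End (ZMod p) V)ˣ) : Module.End (ZMod p) V) + 1) = 0 := by
        have : (((z : (Module.End (ZMod p) V)ˣ) : Module.End (ZMod p) V) - 1) *
          (((z : (Module.End (ZMod p) V)ˣ) : Module.End (ZMod p) V) + 1) =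
          ((z : (Module.End (ZMod p) V)ˣ) : Module.End (ZMod p) V) ^ 2 - 1 := by noncomm_ring
        rw [this, hz3, sub_self]
      exact (h6.mul_right_eq_zero).1 h7
    have h8 : (z : (Module.End (ZMod p) V)ˣ) = -1 := by
      apply Units.ext
      rw [Units.val_neg, Units.val_one]
      exact eq_neg_of_add_eq_zero_left h5
    rw [← h8]
    exact z.2

end Cfsg.Agent.PermutationGroups.ZassReduction
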