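import Mathlib
import Cfsg.Agent.Lib.Mobius

/-!
# The field construction for Zassenhaus groups with two-point stabiliser of order `(q-1)/2`

A faithful doubly transitive group `G` in which non-identity elements fix at most two points, with an
abelian normal subgroup `F` of a point stabiliser regular on the remaining points, whose two-point
stabiliser has order `(q-1)/2` (degree `q+1`) and is inverted by an involution swapping the two points,
is isomorphic to `PSL(2,q)`.
-/

set_option autoImplicit false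

namespace Cfsg.Agent.PermutationGroups.ZassenhausField

open scoped IsMulCommutative

/-- An abelian set of endomorphisms acting irreducibly on a finite abelian group `V`: then `V` is a
field `K` additively and the endomorphisms are multiplications. -/
theorem exists_field {V H : Type*} [AddCommGroup V] [Finite V] [Nontrivial V]
    (φ : H → AddMonoid.End V) (hcomm : ∀ h h', φ h * φ h' = φ h' * φ h)
    (hirr : ∀ W : AddSubgroup V, (∀ h, ∀ w ∈ W, φ h w ∈ W) → W = ⊥ ∨ W = ⊤) :
    ∃ (K : Type) (_ : Field K) (_ : Fintype K) (ε : K ≃+ V) (m : H → K),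
      ∀ h x, ε (m h * x) = φ h (ε x) := by
  classical
  have hc : ∀ x ∈ Set.range φ, ∀ y ∈ Set.range φ, x * y = y * x := by
    rintro _ ⟨h, rfl⟩ _ ⟨h', rfl⟩
    exact hcomm h h'
  have hR := Subring.isMulCommutative_closure hc
  let R := Subring.closure (Set.range φ)
  let cR : CommRing R := inferInstance
  let gen : H → R := fun h => ⟨φ h, Subring.subset_closure ⟨h, rfl⟩⟩
  have hgen : ∀ h (v : V), gen h • v = φ h v := fun h v => rfl
  have hsimple : IsSimpleModule R V := by
    have hnt : Nontrivial (Submodule R V) := inferInstance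
    refine { eq_bot_or_eq_top := fun W => ?_ }
    rcases hirr W.toAddSubgroup (fun h w hw => W.smul_mem (gen h) hw) with h | h
    · left
      rw [eq_bot_iff]
      intro w hw
      have : w ∈ W.toAddSubgroup := hw
      rw [h] at this
      exact this
    · right
      rw [eq_top_iff]
      intro w _
      have : w ∈ W.toAddSubgroup := by rw [h]; trivial
      exact this
  obtain ⟨I, hI, ⟨e⟩⟩ := isSimpleModule_iff_quot_maximal.mp hsimple
  let fR : Field (R ⧸ I) := Ideal.Quotient.field I
  have hfin : Finite (R ⧸ I) := Finite.of_equiv V e.toEquiv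
  have hsm : Small.{0} (R ⧸ I) := Countable.toSmall _
  have hfin' : Finite (Shrink.{0} (R ⧸ I)) := Finite.of_equiv _ (equivShrink (R ⧸ I))
  let e1 : Shrink.{0} (R ⧸ I) ≃+* (R ⧸ I) := Shrink.ringEquiv _
  refine ⟨Shrink.{0} (R ⧸ I), inferInstance, Fintype.ofFinite _,
    e1.toAddEquiv.trans e.symm.toAddEquiv, fun h => e1.symm (Ideal.Quotient.mk I (gen h)), ?_⟩
  intro h x
  change e.symm (e1 (e1.symm (Ideal.Quotient.mk I (gen h)) * x)) = gen h • (e.symm (e1 x))
  rw [map_mul, RingEquiv.apply_symm_apply, ← map_smul]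
  rfl

/-- The arithmetic part: the swapping involution has the form `x ↦ -k²/x`. -/
theorem inversion_form {K : Type*} [Field K] [Finite K] (hchar : ringChar K ≠ 2) (σ : K → K)
    (h0 : ∀ x, x ≠ 0 → σ x ≠ 0) (hσ : ∀ x, x ≠ 0 → σ (σ x) = x)
    (hsq : ∀ y x, y ≠ 0 → x ≠ 0 → σ (y ^ 2 * x) = (y ^ 2)⁻¹ * σ x)
    (hrel : ∀ b, b ≠ 0 → ∃ k, k * σ (-σ (-b)) = - σ b ∧ IsSquare k ∧
      ∀ y, y ≠ 0 → y - σ (-b) ≠ 0 → σ (σ y + b) = σ b + k * σ (y - σ (-b)))
    (hfix : ¬ IsSquare (-1 : K) → ∀ x y : K, x ≠ 0 → y ≠ 0 → σ x = x → σ y = y → x = y) :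
    ∃ k : K, k ≠ 0 ∧ ∀ x, x ≠ 0 → σ x = -k ^ 2 * x⁻¹ := by
  classical
  have : Fintype K := Fintype.ofFinite K
  set c : K → K := fun x => x * σ x with hc
  have hc0 : ∀ x, x ≠ 0 → c x ≠ 0 := fun x hx => mul_ne_zero hx (h0 x hx)
  have hcσ : ∀ x, x ≠ 0 → c (σ x) = c x := by
    intro x hx
    simp only [hc]
    rw [hσ x hx, mul_comm]
  have hcsq : ∀ y x, y ≠ 0 → x ≠ 0 → c (y ^ 2 * x) = c x := by
    intro y x hy hx
    simp only [hc]
    rw [hsq y x hy hx]
    field_simp
  have hσc : ∀ x, x ≠ 0 → σ x = c x * x⁻¹ := by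
    intro x hx
    simp only [hc]
    field_simp
  -- c depends only on square class
  have hc1 : ∀ x, x ≠ 0 → IsSquare x → c x = c 1 := by
    rintro x hx ⟨r, rfl⟩
    have hr : r ≠ 0 := fun h => hx (by rw [h]; ring)
    have := hcsq r 1 hr one_ne_zero
    rw [mul_one] at this
    rw [← this]; congr 1; ring
  -- product of two nonsquares is a square
  have hns : ∀ x y : K, ¬ IsSquare x → ¬ IsSquare y → IsSquare (x * y) := by
    intro x y hx hy
    have hx0 : x ≠ 0 := fun h => hx (by rw [h]; exact ⟨0, by ring⟩)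
    have hy0 : y ≠ 0 := fun h => hy (by rw [h]; exact ⟨0, by ring⟩)
    have e1 := (quadraticChar_neg_one_iff_not_isSquare (F := K) (a := x)).mpr hx
    have e2 := (quadraticChar_neg_one_iff_not_isSquare (F := K) (a := y)).mpr hy
    rw [← quadraticChar_one_iff_isSquare (mul_ne_zero hx0 hy0), map_mul, e1, e2]
    norm_num
  obtain ⟨ν, hν⟩ := FiniteField.exists_nonsquare hchar
  have hν0 : ν ≠ 0 := fun h => hν (by rw [h]; exact ⟨0, by ring⟩)
  have hc2 : ∀ x, ¬ IsSquare x → c x = c ν := by
    intro x hx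
    have hx0 : x ≠ 0 := fun h => hx (by rw [h]; exact ⟨0, by ring⟩)
    obtain ⟨r, hr⟩ := hns x ν hx hν
    have hr0 : r ≠ 0 := by
      intro h
      rw [h] at hr
      exact mul_ne_zero hx0 hν0 (by rw [hr]; ring)
    have h1 := hcsq (r * ν⁻¹) ν (mul_ne_zero hr0 (inv_ne_zero hν0)) hν0
    rw [← h1]
    congr 1
    rw [mul_pow, pow_two r, ← hr]
    field_simp
  have hall : c ν = c 1 → ∀ x, x ≠ 0 → c x = c 1 := by
    intro h x hx
    by_cases hs : IsSquare x
    · exact hc1 x hx hs
    · rw [hc2 x hs, h]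
  -- it suffices: c ν = c 1 and - c 1 is a square
  suffices h : c ν = c 1 ∧ IsSquare (- c 1) by
    obtain ⟨h1, r, hr⟩ := h
    have hr' : c 1 = - r ^ 2 := by rw [pow_two, ← hr, neg_neg]
    refine ⟨r, ?_, ?_⟩
    · intro h
      apply hc0 1 one_ne_zero
      rw [hr', h]; ring
    · intro x hx
      rw [hσc x hx, hall h1 x hx, hr']
  by_cases hm1 : IsSquare (-1 : K)
  · -- case I
    have hneg : ∀ x, x ≠ 0 → σ (-x) = - σ x := by
      intro x hx
      obtain ⟨r, hr⟩ := hm1
      have hr0 : r ≠ 0 := by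
        intro h
        rw [h] at hr
        simp at hr
      have := hsq r x hr0 hx
      rw [pow_two, ← hr] at this
      rw [show -x = -1 * x by ring, this]
      rw [inv_neg, inv_one]; ring
    have hnegsq : ∀ x : K, IsSquare x → IsSquare (-x) := by
      intro x hx
      rw [show -x = -1 * x by ring]
      exact hm1.mul hx
    -- c b is a square for all b
    have hcsquare : ∀ b, b ≠ 0 → IsSquare (c b) := by
      intro b hb
      obtain ⟨k, hk, hksq, -⟩ := hrel b hb
      rw [hneg b hb, neg_neg, hσ b hb] at hk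
      have : c b = - (k * b ^ 2) := by
        simp only [hc]
        linear_combination b * hk
      rw [this]
      exact hnegsq _ (hksq.mul ⟨b, by ring⟩)
    refine ⟨?_, hnegsq _ (hcsquare 1 one_ne_zero)⟩
    -- find square y with c1 + y nonsquare
    obtain ⟨e, he⟩ := hcsquare 1 one_ne_zero
    have he0 : e ≠ 0 := by
      intro h
      apply hc0 1 one_ne_zero
      rw [he, h]; ring
    have hsum : ∃ y : K, y ≠ 0 ∧ IsSquare y ∧ ¬ IsSquare (c 1 + y) := by
      have hodd : Fintype.card K % 2 = 1 := FiniteField.odd_card_of_char_ne_two hchar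
      obtain ⟨a, b, hab⟩ := FiniteField.exists_root_sum_quadratic (R := K)
        (f := Polynomial.X ^ 2) (g := Polynomial.X ^ 2 - Polynomial.C ν)
        (by simp) (Polynomial.degree_X_pow_sub_C (by norm_num) _) hodd
      simp only [Polynomial.eval_pow, Polynomial.eval_X, Polynomial.eval_sub,
        Polynomial.eval_C] at hab
      have hab' : a ^ 2 + b ^ 2 = ν := by linear_combination hab
      have ha0 : a ≠ 0 := by
        rintro rfl
        exact hν ⟨b, by rw [← hab']; ring⟩
      have hb0 : b ≠ 0 := by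
        rintro rfl
        exact hν ⟨a, by rw [← hab']; ring⟩
      refine ⟨e ^ 2 * (b / a) ^ 2, ?_, ⟨e * (b / a), by ring⟩, ?_⟩
      · exact mul_ne_zero (pow_ne_zero _ he0) (pow_ne_zero _ (div_ne_zero hb0 ha0))
      · rintro ⟨r, hr⟩
        apply hν
        refine ⟨r * e⁻¹ * a, ?_⟩
        rw [← hab']
        have : (r * e⁻¹ * a) * (r * e⁻¹ * a) = (r * r) * (e⁻¹ ^ 2 * a ^ 2) := by ring
        rw [this, ← hr, he]
        field_simp
    obtain ⟨y, hy0, hysq, hyns⟩ := hsum
    have hne : c 1 + y ≠ 0 := fun h => hyns (by rw [h]; exact ⟨0, by ring⟩)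
    obtain ⟨k, hk, hksq, hk2⟩ := hrel 1 one_ne_zero
    rw [hneg 1 one_ne_zero, neg_neg, hσ 1 one_ne_zero] at hk
    have hσ1 : σ 1 = c 1 := by simp [hc]
    have hk' : k = - c 1 := by rw [← hσ1]; simpa using hk
    have h3 := hk2 y hy0 (by rw [hneg 1 one_ne_zero, hσ1, sub_neg_eq_add, add_comm]; exact hne)
    rw [hneg 1 one_ne_zero, hσ1, sub_neg_eq_add, add_comm y, hk', hσc (c 1 + y) hne,
      hc2 _ hyns] at h3
    -- left side
    have hσy : σ y = c 1 * y⁻¹ := by rw [hσc y hy0, hc1 y hy0 hysq]
    have h4 : σ y + 1 = (c 1 + y) * y⁻¹ := by rw [hσy]; field_simp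
    have hns4 : ¬ IsSquare (σ y + 1) := by
      intro h
      apply hyns
      have : c 1 + y = (σ y + 1) * y := by rw [h4]; field_simp
      rw [this]
      exact h.mul hysq
    have h40 : σ y + 1 ≠ 0 := fun h => hns4 (by rw [h]; exact ⟨0, by ring⟩)
    rw [hσc _ h40, hc2 _ hns4, h4] at h3
    field_simp at h3
    have h5 : (c ν - c 1) * (c 1 + y) = 0 := by linear_combination h3
    rcases mul_eq_zero.mp h5 with h6 | h6
    · exact sub_eq_zero.mp h6
    · exact absurd h6 hne
  · -- case II
    have hsqrt : ∀ x : K, x ≠ 0 → IsSquare x → ∃ e : K, e ≠ 0 ∧ IsSquare e ∧ e ^ 2 = x := by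
      rintro x hx ⟨r, rfl⟩
      have hr : r ≠ 0 := fun h => hx (by rw [h]; ring)
      by_cases h : IsSquare r
      · exact ⟨r, hr, h, by ring⟩
      · refine ⟨-r, neg_ne_zero.mpr hr, ?_, by ring⟩
        have := hns _ _ hm1 h
        rwa [neg_one_mul] at this
    have hsqrt' : ∀ x : K, x ≠ 0 → IsSquare x → ∃ e : K, e ≠ 0 ∧ ¬ IsSquare e ∧ e ^ 2 = x := by
      intro x hx hxs
      obtain ⟨e, he0, hes, he⟩ := hsqrt x hx hxs
      refine ⟨-e, neg_ne_zero.mpr he0, ?_, by rw [← he]; ring⟩
      intro h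
      apply hm1
      have : (-1 : K) = -e * e⁻¹ := by field_simp
      rw [this]
      exact h.mul (by obtain ⟨r, hr⟩ := hes; exact ⟨r⁻¹, by rw [hr]; exact mul_inv r r⟩)
    have hc1ns : ¬ IsSquare (c 1) := by
      intro h1
      have h2 : IsSquare (c ν) := by
        by_contra h2
        -- σ ν = c ν / ν is a square
        have h3 : IsSquare (σ ν) := by
          have : σ ν = (c ν * ν) * (ν⁻¹) ^ 2 := by rw [hσc ν hν0]; field_simp
          rw [this]
          exact (hns _ _ h2 hν).mul ⟨ν⁻¹, by ring⟩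
        have h4 := hc1 _ (h0 ν hν0) h3
        rw [hcσ ν hν0] at h4
        rw [h4] at h2
        exact h2 h1
      obtain ⟨e, he0, hes, he⟩ := hsqrt (c 1) (hc0 1 one_ne_zero) h1
      obtain ⟨f, hf0, hfs, hf⟩ := hsqrt' (c ν) (hc0 ν hν0) h2
      have he' : σ e = e := by
        rw [hσc e he0, hc1 e he0 hes, ← he]; field_simp
      have hf' : σ f = f := by
        rw [hσc f hf0, hc2 f hfs, ← hf]; field_simp
      have := hfix hm1 e f he0 hf0 he' hf'
      rw [this] at hes
      exact hfs hes
    refine ⟨?_, ?_⟩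
    · -- σ 1 = c 1 is a nonsquare
      have h1 : c (σ 1) = c 1 := hcσ 1 one_ne_zero
      have h2 : σ 1 = c 1 := by simp [hc]
      rw [h2, hc2 _ hc1ns] at h1
      exact h1
    · have := hns _ _ hm1 hc1ns
      rwa [neg_one_mul] at this

open OnePoint in
/-- Main theorem: recognition of `PSL(2,q)`. -/
theorem psl_of_half {G Ω : Type*} [Group G] [MulAction G Ω] [FaithfulSMul G Ω] [Finite Ω]
    (h2 : ∀ a b c d : Ω, a ≠ b → c ≠ d → ∃ g : G, g • a = c ∧ g • b = d)
    (h3 : ∀ g : G, ∀ a b c : Ω, a ≠ b → b ≠ c → a ≠ c → g • a = a → g • b = b → g • c = c → g = 1)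
    {a b : Ω} (hab : a ≠ b) (F : Subgroup G) (hFle : F ≤ MulAction.stabilizer G a)
    (hFn : (F.subgroupOf (MulAction.stabilizer G a)).Normal) (hFab : IsMulCommutative F)
    (hreg : ∀ y z : Ω, y ≠ a → z ≠ a → ∃! u : F, (u : G) • y = z)
    (hd : 2 * Nat.card ↥(MulAction.stabilizer G a ⊓ MulAction.stabilizer G b) + 2 = Nat.card Ω)
    (s : G) (hs : s * s = 1) (hsa : s • a = b)
    (hinv : ∀ h ∈ MulAction.stabilizer G a ⊓ MulAction.stabilizer G b, s * h * s⁻¹ = h⁻¹) :
    ∃ (K : Type) (_ : Field K) (_ : Fintype K), ringChar K ≠ 2 ∧ Fintype.card K + 1 = Nat.card Ω ∧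
      Nonempty (G ≃* Matrix.ProjectiveSpecialLinearGroup (Fin 2) K) := by
  classical
  set H : Subgroup G := MulAction.stabilizer G a ⊓ MulAction.stabilizer G b with hH
  have hHa : ∀ h ∈ H, h • a = a := fun h hh => hh.1
  have hHb : ∀ h ∈ H, h • b = b := fun h hh => hh.2
  have hFa : ∀ u ∈ F, u • a = a := fun u hu => hFle hu
  have hsb : s • b = a := by rw [← hsa, smul_smul, hs, one_smul]
  have hsinv : s⁻¹ = s := by rw [inv_eq_iff_mul_eq_one]; exact hs
  have hGfin : Finite G := Finite.of_injective (fun g : G => (MulAction.toPerm g : Equiv.Perm Ω))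
    MulAction.toPerm_injective
  -- conjugation
  have hconj : ∀ h ∈ H, ∀ u ∈ F, h * u * h⁻¹ ∈ F := by
    intro h hh u hu
    have := hFn.conj_mem ⟨u, hFle hu⟩ (by simpa [Subgroup.mem_subgroupOf] using hu)
      ⟨h, hh.1⟩
    simpa [Subgroup.mem_subgroupOf] using this
  let φ0 : H → (F →* F) := fun h => MonoidHom.mk' (fun u => ⟨h * u * (h : G)⁻¹, hconj h h.2 u u.2⟩)
    (by intro u v; apply Subtype.ext; simp)
  let φ : H → AddMonoid.End (Additive F) := fun h => MonoidHom.toAdditive (φ0 h)
  have hφ0 : ∀ h u, ((φ0 h u : F) : G) = h * u * (h : G)⁻¹ := fun h u => rfl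
  -- H is abelian
  have hHcomm : ∀ h ∈ H, ∀ h' ∈ H, h * h' = h' * h := by
    intro h hh h' hh'
    have e1 := hinv (h * h') (mul_mem hh hh')
    have e2 : s * (h * h') * s⁻¹ = (s * h * s⁻¹) * (s * h' * s⁻¹) := by group
    rw [e2, hinv h hh, hinv h' hh', ← mul_inv_rev] at e1
    exact (inv_injective e1).symm
  have hφmul : ∀ h h' : H, φ (h * h') = φ h * φ h' := by
    intro h h'
    refine AddMonoidHom.ext fun u => ?_
    apply Additive.toMul.injective
    apply Subtype.ext
    change (h * h' : G) * _ * (h * h' : G)⁻¹ = h * (h' * _ * (h' : G)⁻¹) * (h : G)⁻¹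
    rw [mul_inv_rev]; simp only [mul_assoc]
  have hφcomm : ∀ h h' : H, φ h * φ h' = φ h' * φ h := by
    intro h h'
    rw [← hφmul, ← hφmul]
    congr 1
    exact Subtype.ext (hHcomm h h.2 h' h'.2)
  -- bijection F -> Ω - a
  have hFinj : ∀ u v : F, (u : G) • b = (v : G) • b → u = v := by
    intro u v huv
    obtain ⟨w, -, hw⟩ := hreg b ((v : G) • b) hab.symm (by
      intro h
      apply hab
      have := congrArg (fun x => (v : G)⁻¹ • x) h
      simp only [inv_smul_smul] at this
      rw [this]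
      have h1 : (v : G)⁻¹ • a = a := hFa _ (inv_mem v.2)
      exact h1.symm)
    rw [hw u huv, hw v rfl]
  have hFsurj : ∀ y : Ω, y ≠ a → ∃ u : F, (u : G) • b = y := by
    intro y hy
    obtain ⟨w, hw, -⟩ := hreg b y hab.symm hy
    exact ⟨w, hw⟩
  have hFne : ∀ u : F, (u : G) • b ≠ a := by
    intro v h
    apply hab
    have := congrArg (fun x => (v : G)⁻¹ • x) h
    simp only [inv_smul_smul] at this
    rw [this]
    have h1 : (v : G)⁻¹ • a = a := hFa _ (inv_mem v.2)
    exact h1.symm
  have hcardF : Nat.card F + 1 = Nat.card Ω := by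
    have e : Option F ≃ Ω := Equiv.ofBijective
      (fun x => match x with
        | Option.none => a
        | Option.some u => (u : G) • b) (by
      constructor
      · rintro (_ | u) (_ | v) h
        · rfl
        · exact absurd h.symm (hFne v)
        · exact absurd h (hFne u)
        · exact congrArg Option.some (hFinj u v h)
      · intro y
        by_cases hy : y = a
        · exact ⟨none, hy.symm⟩
        · obtain ⟨u, hu⟩ := hFsurj y hy
          exact ⟨Option.some u, hu⟩)
    rw [← Nat.card_congr e, Finite.card_option]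
  have hcardF' : Nat.card F = 2 * Nat.card H + 1 := by omega
  have hHpos : 0 < Nat.card H := Nat.card_pos
  have hFnt : Nontrivial F := by
    rw [← Finite.one_lt_card_iff_nontrivial]; omega
  have hVnt : Nontrivial (Additive F) := hFnt
  -- fixed points
  have hfix1 : ∀ h ∈ H, ∀ u : F, u ≠ 1 → h * u * h⁻¹ = (u : G) → h = 1 := by
    intro h hh u hu he
    apply h3 h a b ((u : G) • b) hab _ _ (hHa h hh) (hHb h hh)
    · have : h * u = u * h := by
        have := congrArg (fun x => x * h) he
        simpa using this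
      rw [smul_smul, this, ← smul_smul, hHb h hh]
    · intro h1
      apply hu
      apply hFinj
      rw [← h1]; simp
    · exact (hFne u).symm
  -- irreducibility
  have hirr : ∀ W : AddSubgroup (Additive F), (∀ h, ∀ w ∈ W, φ h w ∈ W) → W = ⊥ ∨ W = ⊤ := by
    intro W hW
    by_cases hWb : W = ⊥
    · exact Or.inl hWb
    right
    obtain ⟨⟨w, hw⟩, hw0'⟩ := AddSubgroup.ne_bot_iff_exists_ne_zero.mp hWb
    have hw0 : w ≠ 0 := fun h => hw0' (Subtype.ext h)
    have hinj : Function.Injective (fun h : Option H => match h with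
        | Option.none => (0 : W)
        | Option.some h => (⟨φ h w, hW h w hw⟩ : W)) := by
      have key : ∀ h : H, φ h w ≠ 0 := by
        intro h hh
        apply hw0
        apply Additive.toMul.injective
        apply Subtype.ext
        have h1 : (h : G) * (Additive.toMul w : F) * (h : G)⁻¹ = 1 := by
          have := congrArg (fun x : Additive F => ((Additive.toMul x : F) : G)) hh
          exact this
        change ((Additive.toMul w : F) : G) = 1
        have h2 : ((Additive.toMul w : F) : G) = (h : G)⁻¹ * ((h : G) * (Additive.toMul w : F) *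
          (h : G)⁻¹) * h := by group
        rw [h2, h1]; group
      rintro (_ | h) (_ | h') he
      · rfl
      · exact absurd (congrArg Subtype.val he).symm (key h')
      · exact absurd (congrArg Subtype.val he) (key h)
      · have he' : φ h w = φ h' w := congrArg Subtype.val he
        have h1 : (h : G) * (Additive.toMul w : F) * (h : G)⁻¹ =
            h' * (Additive.toMul w : F) * (h' : G)⁻¹ :=
          congrArg (fun x : Additive F => ((Additive.toMul x : F) : G)) he'
        have h2 : (h' : G)⁻¹ * h = 1 := by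
          apply hfix1 _ (mul_mem (inv_mem h'.2) h.2) (Additive.toMul w)
          · intro h3
            apply hw0
            apply Additive.toMul.injective
            exact h3
          · calc (h' : G)⁻¹ * h * (Additive.toMul w : F) * ((h' : G)⁻¹ * h)⁻¹
                = (h' : G)⁻¹ * (h * (Additive.toMul w : F) * (h : G)⁻¹) * h' := by group
              _ = _ := by rw [h1]; group
        congr 1
        apply Subtype.ext
        rw [inv_mul_eq_one] at h2
        exact h2.symm
    have hWfin : Finite W := inferInstance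
    have hle := Nat.card_le_card_of_injective _ hinj
    rw [Finite.card_option] at hle
    have hdvd := AddSubgroup.card_addSubgroup_dvd_card W
    have hcV : Nat.card (Additive F) = 2 * Nat.card H + 1 := hcardF'
    rw [hcV] at hdvd
    obtain ⟨k, hk⟩ := hdvd
    apply AddSubgroup.eq_top_of_card_eq
    rw [hcV]
    have hk1 : k = 1 := by
      have hk0 : k ≠ 0 := by rintro rfl; omega
      have hk2 : k < 2 := by
        by_contra hk2
        push Not at hk2
        have : Nat.card W * 2 ≤ Nat.card W * k := Nat.mul_le_mul_left _ hk2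
        omega
      omega
    rw [hk, hk1, mul_one]
  obtain ⟨K, fK, ftK, ε, m, hm⟩ := exists_field φ hφcomm hirr
  -- coordinates
  let u : K → G := fun x => ((Additive.toMul (ε x) : F) : G)
  have huF : ∀ x, u x ∈ F := fun x => (Additive.toMul (ε x)).2
  have hu0 : u 0 = 1 := by simp [u]
  have huadd : ∀ x y, u (x + y) = u x * u y := fun x y => by simp [u, map_add]
  have huneg : ∀ x, u (-x) = (u x)⁻¹ := by
    intro x
    rw [eq_inv_iff_mul_eq_one, ← huadd, neg_add_cancel, hu0]
  let pt : K → Ω := fun x => u x • b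
  have hpt : ∀ x, u x • b = pt x := fun x => rfl
  have hpt0 : pt 0 = b := by simp [pt, hu0]
  have hptne : ∀ x, pt x ≠ a := fun x => hFne _
  have hptinj : Function.Injective pt := by
    intro x y hxy
    have := hFinj _ _ hxy
    exact ε.injective (Additive.toMul.injective this)
  have hptsurj : ∀ y : Ω, y ≠ a → ∃ x, pt x = y := by
    intro y hy
    obtain ⟨v, hv⟩ := hFsurj y hy
    refine ⟨ε.symm (Additive.ofMul v), ?_⟩
    simp only [pt, u, AddEquiv.apply_symm_apply, toMul_ofMul]
    exact hv
  have huact : ∀ x y, u x • pt y = pt (x + y) := by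
    intro x y
    simp only [pt]
    rw [huadd, mul_smul]
  have hact : ∀ (h : H) (x : K), (h : G) • pt x = pt (m h * x) := by
    intro h x
    simp only [pt, u]
    rw [hm]
    change (h : G) • ((Additive.toMul (ε x) : F) : G) • b =
      ((h : G) * ((Additive.toMul (ε x) : F) : G) * (h : G)⁻¹) • b
    rw [smul_smul, mul_smul _ ((h : G)⁻¹), hHb _ (inv_mem h.2)]
  have hcardK : Fintype.card K = 2 * Nat.card H + 1 := by
    rw [← Nat.card_eq_fintype_card, Nat.card_congr ε.toEquiv]
    exact hcardF'
  have hchar : ringChar K ≠ 2 := by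
    intro h
    rw [FiniteField.even_card_iff_char_two] at h
    omega
  have hcard2 : Fintype.card K / 2 = Nat.card H := by omega
  -- m is an injective hom
  have hm1 : m 1 = 1 := by
    have := hm 1 1
    have h1 : φ 1 = 1 := by
      refine AddMonoidHom.ext fun v => ?_
      apply Additive.toMul.injective
      apply Subtype.ext
      change (1 : G) * ((Additive.toMul v : F) : G) * (1 : G)⁻¹ = ((Additive.toMul v : F) : G)
      rw [one_mul, inv_one, mul_one]
    rw [h1, mul_one] at this
    exact ε.injective this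
  have hmmul : ∀ h h', m (h * h') = m h * m h' := by
    intro h h'
    have e1 := hm (h * h') 1
    rw [hφmul] at e1
    have e2 : (φ h * φ h') (ε 1) = φ h (φ h' (ε 1)) := rfl
    rw [e2, ← hm h', mul_one, mul_one, ← hm] at e1
    exact ε.injective e1
  let m' : H →* K := ⟨⟨m, hm1⟩, hmmul⟩
  have hminj : ∀ h : H, m h = 1 → h = 1 := by
    intro h hh
    apply Subtype.ext
    have h1 : (h : G) • pt 1 = pt 1 := by rw [hact, hh, one_mul]
    apply h3 (h : G) a b (pt 1) hab _ (hptne 1).symm (hHa h h.2) (hHb h h.2) h1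
    intro h2
    rw [← hpt0] at h2
    exact one_ne_zero (hptinj h2).symm
  have hmsq : ∀ h : H, IsSquare (m h) := by
    intro h
    have hne : m h ≠ 0 := by
      intro h0
      have := hmmul h h⁻¹
      rw [mul_inv_cancel, hm1, h0, zero_mul] at this
      exact one_ne_zero this
    rw [FiniteField.isSquare_iff hchar hne, hcard2]
    change m' h ^ _ = 1
    rw [← map_pow, pow_card_eq_one', map_one]
  let μ : H →* Kˣ := m'.toHomUnits
  have hμ : ∀ h, ((μ h : Kˣ) : K) = m h := fun h => rfl
  have hμinj : Function.Injective μ := by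
    rw [injective_iff_map_eq_one]
    intro h hh
    apply hminj
    rw [← hμ, hh]; rfl
  have hindex : μ.range.index = 2 := by
    have e1 := Subgroup.card_mul_index μ.range
    rw [Nat.card_congr (MonoidHom.ofInjective hμinj).symm.toEquiv, Nat.card_units,
      Nat.card_eq_fintype_card (α := K), hcardK] at e1
    have : Nat.card H * μ.range.index = Nat.card H * 2 := by rw [e1]; omega
    exact Nat.eq_of_mul_eq_mul_left hHpos this
  have hmsurj : ∀ y : K, y ≠ 0 → ∃ h : H, m h = y ^ 2 := by
    intro y hy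
    have := Subgroup.mul_self_mem_of_index_two hindex (Units.mk0 y hy)
    obtain ⟨h, hh⟩ := this
    refine ⟨h, ?_⟩
    rw [← hμ, hh]
    simp [pow_two]
  -- σ
  have hsne : ∀ x, x ≠ 0 → s • pt x ≠ a := by
    intro x hx h
    apply hx
    apply hptinj
    rw [hpt0]
    have := congrArg (fun z => s • z) h
    simp only [smul_smul, hs, one_smul] at this
    rw [this, hsa]
  have hσex : ∀ x, ∃ y, x ≠ 0 → s • pt x = pt y := by
    intro x
    by_cases hx : x = 0
    · exact ⟨0, fun h => absurd hx h⟩
    · obtain ⟨y, hy⟩ := hptsurj _ (hsne x hx)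
      exact ⟨y, fun _ => hy.symm⟩
  choose σ hσ using hσex
  have hσ0 : ∀ x, x ≠ 0 → σ x ≠ 0 := by
    intro x hx h
    have h1 := hσ x hx
    rw [h, hpt0, ← hsa] at h1
    exact hptne x ((smul_left_cancel_iff s).mp h1)
  have hσσ : ∀ x, x ≠ 0 → σ (σ x) = x := by
    intro x hx
    apply hptinj
    rw [← hσ _ (hσ0 x hx), ← hσ x hx, smul_smul, hs, one_smul]
  have hsh : ∀ h ∈ H, s * h = h⁻¹ * s := by
    intro h hh
    rw [← hinv h hh]; group
  have hσsq : ∀ y x, y ≠ 0 → x ≠ 0 → σ (y ^ 2 * x) = (y ^ 2)⁻¹ * σ x := by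
    intro y x hy hx
    obtain ⟨h, hh⟩ := hmsurj y hy
    apply hptinj
    rw [← hσ _ (mul_ne_zero (pow_ne_zero 2 hy) hx), ← hh, ← hact, smul_smul, hsh h h.2,
      mul_smul, hσ x hx]
    have h1 : ((h : G))⁻¹ = ((h⁻¹ : H) : G) := rfl
    rw [h1, hact]
    congr 1
    have h2 : m h⁻¹ = (m h)⁻¹ := by
      apply eq_inv_of_mul_eq_one_left
      rw [← hmmul, inv_mul_cancel, hm1]
    rw [h2]
  have huinv : ∀ x y, (u x)⁻¹ • pt y = pt (y - x) := by
    intro x y
    rw [← huneg, huact, sub_eq_add_neg, add_comm]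
  have hua : ∀ x, u x • a = a := fun x => hFa _ (huF x)
  have huinva : ∀ x, (u x)⁻¹ • a = a := fun x => hFa _ (inv_mem (huF x))
  have hrel : ∀ t, t ≠ 0 → ∃ k, k * σ (-σ (-t)) = - σ t ∧ IsSquare k ∧
      ∀ y, y ≠ 0 → y - σ (-t) ≠ 0 → σ (σ y + t) = σ t + k * σ (y - σ (-t)) := by
    intro t ht
    have hnt : -t ≠ 0 := neg_ne_zero.mpr ht
    set d : K := -σ (-t) with hdd
    have hd0 : d ≠ 0 := neg_ne_zero.mpr (hσ0 _ hnt)
    have hσd : σ (-d) = -t := by rw [hdd, neg_neg, hσσ _ hnt]
    set g : G := (u (σ t))⁻¹ * s * u t * s * (u d)⁻¹ * s with hg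
    have hgact : ∀ z : Ω, g • z = (u (σ t))⁻¹ • s • u t • s • (u d)⁻¹ • s • z := by
      intro z; rw [hg]; simp only [mul_smul]
    have hga : g • a = a := by
      rw [hgact, hsa, ← hpt0, huinv, zero_sub, hσ _ (neg_ne_zero.mpr hd0), hσd, huact,
        add_neg_cancel, hpt0, hsb, huinva]
    have hgb : g • b = b := by
      rw [hgact, hsb, huinva, hsa, ← hpt0, huact, add_zero, hσ t ht, huinv, sub_self]
    let gH : H := ⟨g, hga, hgb⟩
    have hgpt : ∀ x, g • pt x = pt (m gH * x) := fun x => hact gH x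
    refine ⟨m gH, ?_, hmsq gH, ?_⟩
    · have e1 := hgpt (σ d)
      rw [hgact, hσ _ (hσ0 d hd0), hσσ d hd0, huinv, sub_self, hpt0, hsb, hua, hsa, ← hpt0,
        huinv, zero_sub] at e1
      exact (hptinj e1).symm
    · intro y hy hyd
      have hyd' : y + d ≠ 0 := by rw [hdd, ← sub_eq_add_neg]; exact hyd
      have hne : σ y + t ≠ 0 := by
        intro h
        have h1 : σ y = -t := eq_neg_of_add_eq_zero_left h
        have h2 : y = σ (-t) := by rw [← h1, hσσ y hy]
        exact hyd (by rw [h2, sub_self])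
      have e1 := hgpt (σ (y + d))
      rw [hgact, hσ _ (hσ0 _ hyd'), hσσ _ hyd', huinv, add_sub_cancel_right, hσ y hy, huact,
        add_comm t, hσ _ hne, huinv] at e1
      have e2 := hptinj e1
      have e3 : y - σ (-t) = y + d := by rw [hdd, sub_eq_add_neg]
      rw [e3, ← e2]; ring
  have hfixσ : ¬ IsSquare (-1 : K) → ∀ x y : K, x ≠ 0 → y ≠ 0 → σ x = x → σ y = y → x = y := by
    intro hns x y hx hy hxx hyy
    by_contra hxy
    obtain ⟨g, hg1, hg2⟩ := h2 a b (pt x) (pt y) hab (fun h => hxy (hptinj h))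
    have hk1 : (g⁻¹ * s * g) • a = a := by
      rw [mul_smul, mul_smul, hg1, hσ x hx, hxx, ← hg1, inv_smul_smul]
    have hk2 : (g⁻¹ * s * g) • b = b := by
      rw [mul_smul, mul_smul, hg2, hσ y hy, hyy, ← hg2, inv_smul_smul]
    let k : H := ⟨g⁻¹ * s * g, hk1, hk2⟩
    have hkk : k * k = 1 := by
      apply Subtype.ext
      change (g⁻¹ * s * g) * (g⁻¹ * s * g) = 1
      calc (g⁻¹ * s * g) * (g⁻¹ * s * g) = g⁻¹ * (s * s) * g := by group
        _ = 1 := by rw [hs]; group
    have hmk : m k * m k = 1 := by rw [← hmmul, hkk, hm1]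
    rcases mul_self_eq_one_iff.mp hmk with h | h
    · have := congrArg Subtype.val (hminj k h)
      have h4 : g⁻¹ * s * g = 1 := this
      have h5 : s = 1 := by
        calc s = g * (g⁻¹ * s * g) * g⁻¹ := by group
          _ = 1 := by rw [h4]; group
      rw [h5, one_smul] at hsa
      exact hab hsa
    · apply hns
      rw [← h]
      exact hmsq k
  obtain ⟨k, hk0, hk⟩ := inversion_form hchar σ hσ0 hσσ hσsq hrel hfixσ
  -- the identification
  let f : OnePoint K → Ω := fun z => match z with
    | ∞ => a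
    | OnePoint.some x => pt x
  have hfbij : Function.Bijective f := by
    constructor
    · intro z w hzw
      cases z with
      | infty =>
        cases w with
        | infty => rfl
        | coe y => exact absurd hzw.symm (hptne y)
      | coe x =>
        cases w with
        | infty => exact absurd hzw (hptne x)
        | coe y => exact congrArg OnePoint.some (hptinj hzw)
    · intro y
      by_cases hy : y = a
      · exact ⟨∞, hy.symm⟩
      · obtain ⟨x, hx⟩ := hptsurj y hy
        exact ⟨(x : OnePoint K), hx⟩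
  let e : Ω ≃ OnePoint K := (Equiv.ofBijective f hfbij).symm
  have hes : e.symm ∞ = a := rfl
  have hesx : ∀ x : K, e.symm (x : OnePoint K) = pt x := fun x => rfl
  have hea : e a = ∞ := by rw [← hes, e.apply_symm_apply]
  have hex : ∀ x, e (pt x) = (x : OnePoint K) := fun x => by rw [← hesx, e.apply_symm_apply]
  have htrans : ∀ x : K, Lib.Mobius.ActsTrans e (u x) x := by
    intro x
    refine ⟨?_, fun y => ?_⟩
    · rw [hes, hua, hea]
    · rw [hesx, huact, hex, add_comm]
  have hdil : ∀ h : H, Lib.Mobius.ActsDil e (h : G) (m h) := by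
    intro h
    refine ⟨?_, fun y => ?_⟩
    · rw [hes, hHa h h.2, hea]
    · rw [hesx, hact, hex]
  have hinvs : Lib.Mobius.ActsInv e s (-k ^ 2) := by
    refine ⟨?_, ?_, fun y hy => ?_⟩
    · rw [hes, hsa, ← hpt0, hex]
    · rw [hesx, hpt0, hsb, hea]
    · rw [hesx, hσ y hy, hex, hk y hy]
  refine ⟨K, fK, ftK, hchar, ?_, ?_⟩
  · rw [hcardK, ← hd]
  · apply Lib.Mobius.nonempty_mulEquiv_psl_of_generators e
      (Set.range u ∪ (H : Set G) ∪ {s}) _ _ (fun x => ⟨u x, htrans x⟩) ⟨s, k, hk0, hinvs⟩
    · rw [eq_top_iff]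
      have key : ∀ g : G, g • a = a →
          g ∈ Subgroup.closure (Set.range u ∪ (H : Set G) ∪ {s}) := by
        intro g hga
        obtain ⟨x, hx⟩ := hptsurj (g • b) (by
          intro h
          apply hab
          rw [← hga] at h
          exact ((smul_left_cancel_iff g).mp h).symm)
        have h1 : (u x)⁻¹ * g ∈ H := by
          refine ⟨?_, ?_⟩
          · change ((u x)⁻¹ * g) • a = a
            rw [mul_smul, hga, huinva]
          · change ((u x)⁻¹ * g) • b = b
            rw [mul_smul, ← hx, huinv, sub_self, hpt0]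
        have h2 : g = u x * ((u x)⁻¹ * g) := by group
        rw [h2]
        exact mul_mem (Subgroup.subset_closure (Or.inl (Or.inl ⟨x, rfl⟩)))
          (Subgroup.subset_closure (Or.inl (Or.inr h1)))
      intro g _
      by_cases hga : g • a = a
      · exact key g hga
      · obtain ⟨x, hx⟩ := hptsurj (g • a) hga
        have h1 : ((u x * s)⁻¹ * g) • a = a := by
          rw [mul_smul, ← hx, mul_inv_rev, mul_smul, huinv, sub_self, hpt0, hsinv, hsb]
        have h2 : g = (u x * s) * ((u x * s)⁻¹ * g) := by group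
        rw [h2]
        exact mul_mem (mul_mem (Subgroup.subset_closure (Or.inl (Or.inl ⟨x, rfl⟩)))
          (Subgroup.subset_closure (Or.inr rfl))) (key _ h1)
    · rintro g ((⟨x, rfl⟩ | hg) | hg)
      · exact ⟨_, (htrans x).permHom_eq.symm⟩
      · obtain ⟨r, hr⟩ := hmsq ⟨g, hg⟩
        have hr0 : r ≠ 0 := by
          intro h
          have h1 := hmmul ⟨g, hg⟩ (⟨g, hg⟩)⁻¹
          rw [mul_inv_cancel, hm1, hr, h, zero_mul, zero_mul] at h1
          exact one_ne_zero h1
        have h1 := hdil ⟨g, hg⟩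
        rw [hr, ← pow_two] at h1
        exact ⟨_, (h1.permHom_eq hr0).symm⟩
      · rw [Set.mem_singleton_iff.mp hg]
        exact ⟨_, (hinvs.permHom_eq hk0).symm⟩

end Cfsg.Agent.PermutationGroups.ZassenhausField
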